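import Mathlib
import Cfsg.Prelude.Def_OddOrderLocal

/-! The API of `piCore`, `piCoreOf` and of the prime sets `{q}`, `primesNotDvd n`. -/

namespace Cfsg.Agent.OddOrder

open Cfsg

universe u
variable {G : Type u} [Group G]

/-- Every prime divisor of the order of `H` lies in `π`. -/
def IsPiGrp (π : Set ℕ) (H : Subgroup G) : Prop := ∀ p : ℕ, p.Prime → p ∣ Nat.card H → p ∈ π

theorem IsPiGrp.mono {π : Set ℕ} {H K : Subgroup G} (h : IsPiGrp π K) (hle : H ≤ K) : IsPiGrp π H :=
  fun p hp hd => h p hp (hd.trans (Subgroup.card_dvd_of_le hle))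

theorem IsPiGrp.map {G' : Type*} [Group G'] {π : Set ℕ} {H : Subgroup G} (h : IsPiGrp π H)
    (f : G →* G') : IsPiGrp π (H.map f) :=
  fun p hp hd => h p hp (hd.trans (Subgroup.card_map_dvd H f))

theorem isPiGrp_piCore (π : Set ℕ) (X : Type u) [Group X] [Finite X] : IsPiGrp π (piCore π X) := by
  suffices h : ∀ s : Set (Subgroup X), s ⊆ {N | N.Normal ∧ IsPiGrp π N} →
      (sSup s).Normal ∧ IsPiGrp π (sSup s) from (h _ (fun N hN => hN)).2
  intro s
  refine Set.Finite.induction_on (motive := fun s _ => s ⊆ {N : Subgroup X | N.Normal ∧ IsPiGrp π N} →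
    (sSup s).Normal ∧ IsPiGrp π (sSup s)) s (Set.toFinite s) ?_ ?_
  · intro _
    rw [sSup_empty]
    refine ⟨inferInstance, fun p hp hd => ?_⟩
    rw [Subgroup.card_bot, Nat.dvd_one] at hd
    exact absurd hd hp.ne_one
  · intro a s _ _ ih hsub
    obtain ⟨h1, h2⟩ := ih ((Set.subset_insert _ _).trans hsub)
    obtain ⟨h3, h4⟩ := hsub (Set.mem_insert _ _)
    rw [sSup_insert]
    have : a.Normal := h3
    refine ⟨inferInstance, fun p hp hd => ?_⟩
    have e : Nat.card ↥(a ⊔ sSup s) ∣ Nat.card a * Nat.card ↥(sSup s) := by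
      have h1 := Subgroup.relIndex_mul_relIndex ⊥ a (a ⊔ sSup s) bot_le le_sup_left
      rw [Subgroup.relIndex_bot_left, Subgroup.relIndex_bot_left, Subgroup.relIndex_sup_left] at h1
      rw [← h1]
      exact mul_dvd_mul_left _ (Subgroup.relIndex_dvd_card a (sSup s))
    rcases hp.dvd_mul.mp (hd.trans e) with h | h
    · exact h4 p hp h
    · exact h2 p hp h

theorem piCoreOf_le (π : Set ℕ) (X : Subgroup G) : piCoreOf π X ≤ X := Subgroup.map_subtype_le _

theorem isPiGrp_piCoreOf [Finite G] (π : Set ℕ) (X : Subgroup G) : IsPiGrp π (piCoreOf π X) :=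
  (isPiGrp_piCore π X).map _

theorem le_normalizer_piCoreOf (π : Set ℕ) (X : Subgroup G) :
    X ≤ Subgroup.normalizer (piCoreOf π X : Set G) := by
  rw [← Subgroup.normal_subgroupOf_iff_le_normalizer (piCoreOf_le π X)]
  have : (piCoreOf π X).subgroupOf X = piCore π X :=
    Subgroup.comap_map_eq_self_of_injective X.subtype_injective _
  rw [this]
  infer_instance

theorem le_piCoreOf {π : Set ℕ} {X Y : Subgroup G} (hY : Y ≤ X)
    (hn : X ≤ Subgroup.normalizer (Y : Set G)) (hπ : IsPiGrp π Y) : Y ≤ piCoreOf π X := by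
  intro y hy
  refine Subgroup.mem_map.mpr ⟨⟨y, hY hy⟩, ?_, rfl⟩
  have hm : (Y.subgroupOf X) ∈ {N : Subgroup X | N.Normal ∧ IsPiGrp π N} :=
    ⟨(Subgroup.normal_subgroupOf_iff_le_normalizer hY).mpr hn, fun p hp hd => hπ p hp (by
      rwa [← Nat.card_congr (Subgroup.subgroupOfEquivOfLe hY).toEquiv])⟩
  exact le_sSup (a := Y.subgroupOf X) hm (Subgroup.mem_subgroupOf.mpr hy)

theorem map_conj_piCoreOf_le [Finite G] (π : Set ℕ) {X : Subgroup G} {g : G}
    (hg : g ∈ Subgroup.normalizer (X : Set G)) :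
    (piCoreOf π X).map (MulAut.conj g).toMonoidHom ≤ piCoreOf π X := by
  have hX : X.map (MulAut.conj g).toMonoidHom = X := Subgroup.mem_normalizer_iff_map_conj_eq.mp hg
  refine le_piCoreOf ((Subgroup.map_mono (piCoreOf_le π X)).trans_eq hX) ?_ ((isPiGrp_piCoreOf π X).map _)
  conv_lhs => rw [← hX]
  exact (Subgroup.map_mono (le_normalizer_piCoreOf π X)).trans (Subgroup.le_normalizer_map _)

theorem normalizer_le_normalizer_piCoreOf [Finite G] (π : Set ℕ) (X : Subgroup G) :
    Subgroup.normalizer (X : Set G) ≤ Subgroup.normalizer (piCoreOf π X : Set G) := by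
  intro g hg
  rw [Subgroup.mem_normalizer_iff_map_conj_eq]
  refine Subgroup.eq_of_le_of_card_ge (map_conj_piCoreOf_le π hg) ?_
  rw [Subgroup.card_map_of_injective (MulAut.conj g).injective]

/-- A subgroup whose order has no prime divisor among those of `n` has order prime to `n`. -/
theorem coprime_of_primesNotDvd {n : ℕ} {H : Subgroup G}
    (h : IsPiGrp (primesNotDvd n) H) : (Nat.card H).Coprime n :=
  Nat.coprime_of_dvd fun p hp h1 h2 => (h p hp h1).2 h2

theorem isPiGrp_singleton_iff [Finite G] {q : ℕ} [Fact q.Prime] {H : Subgroup G} :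
    IsPiGrp {q} H ↔ IsPGroup q H := by
  constructor
  · intro h
    exact IsPGroup.of_card
      (Nat.eq_prime_pow_of_unique_prime_dvd (Nat.card_pos.ne') (fun {d} hd hdd => h d hd hdd))
  · intro h p hp hd
    obtain ⟨k, hk⟩ := h.exists_card_eq
    rw [hk] at hd
    exact (Nat.prime_dvd_prime_iff_eq hp Fact.out).mp (hp.dvd_of_dvd_pow hd)

end Cfsg.Agent.OddOrder
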