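import Cfsg.Agent.Lib.Subnormal.Nilpotent
import Cfsg.Agent.Lib.Coprime.Commutator
import Cfsg.Agent.Lib.Coprime.Sylow
import Cfsg.Agent.Lib.Coprime.Stabilize
import Cfsg.Agent.Lib.OddOrder.PiCore
import Cfsg.Agent.Lib.PCore.Basic

/-!
# The Fitting subgroup of a subgroup and its primary parts

* `pOf r H = O_r(H)`, `zOf r H = Z(O_r(H))` inside `G`, and their relation to `fittingOf H`;
* `mem_of_forall_primePart`: membership is decided by the primary parts;
* `mem_centralizer_of_nilpotent`: a coprime automorphism of a nilpotent `F` fixing `M` with `C_F(M) ≤ M`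
  is trivial;
* `commute_of_cross`: a `p`-element and a `q`-element centralizing the other parts of `F(H)` commute;
* `solvable_le_fittingOf`: solvable normal subgroups of `C_H(F(H))` lie in `F(H)`.
-/

set_option linter.style.haveILetI false
set_option linter.unusedSectionVars false

namespace Cfsg.Agent.OddOrder

open Cfsg
open Subgroup (centralizer normalizer zpowers)
open scoped commutatorElement

universe u
variable {G : Type u} [Group G] [Finite G] {p q r : ℕ}

/-- `O_r(H)` as a subgroup of `G`. -/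
def pOf (r : ℕ) (H : Subgroup G) : Subgroup G := (pCore r H).map H.subtype

/-- `Z(O_r(H))` as a subgroup of `G`. -/
def zOf (r : ℕ) (H : Subgroup G) : Subgroup G := pOf r H ⊓ centralizer (pOf r H : Set G)

theorem pOf_le (H : Subgroup G) : pOf r H ≤ H := Subgroup.map_subtype_le _

theorem isPGroup_pOf (H : Subgroup G) : IsPGroup r (pOf r H) := PCore.isPGroup_pCore.map _

theorem le_normalizer_map_of_normal {H : Subgroup G} (N : Subgroup H) [N.Normal] :
    H ≤ normalizer ((N.map H.subtype : Subgroup G) : Set G) := by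
  rw [← Subgroup.normal_subgroupOf_iff_le_normalizer (Subgroup.map_subtype_le _)]
  have e : (N.map H.subtype).subgroupOf H = N :=
    Subgroup.comap_map_eq_self_of_injective H.subtype_injective _
  rw [e]
  infer_instance

theorem le_normalizer_pOf (H : Subgroup G) : H ≤ normalizer (pOf r H : Set G) :=
  le_normalizer_map_of_normal _

theorem le_pOf {H N : Subgroup G} (hle : N ≤ H) (hn : H ≤ normalizer (N : Set G)) (hp : IsPGroup r N) :
    N ≤ pOf r H := by
  haveI : (N.subgroupOf H).Normal := (Subgroup.normal_subgroupOf_iff_le_normalizer hle).2 hn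
  exact (Subgroup.map_subgroupOf_eq_of_le hle).ge.trans
    (Subgroup.map_mono (PCore.le_pCore (hp.comap_of_injective H.subtype H.subtype_injective)))

theorem normalizer_le_normalizer_pOf (H : Subgroup G) :
    normalizer (H : Set G) ≤ normalizer (pOf r H : Set G) := by
  intro g hg
  have hH : H.map (MulAut.conj g).toMonoidHom = H := Subgroup.mem_normalizer_iff_map_conj_eq.mp hg
  rw [Subgroup.mem_normalizer_iff_map_conj_eq]
  refine Subgroup.eq_of_le_of_card_ge (le_pOf ((Subgroup.map_mono (pOf_le H)).trans_eq hH) ?_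
    ((isPGroup_pOf H).map _)) (Subgroup.card_map_of_injective (MulAut.conj g).injective).ge
  conv_lhs => rw [← hH]
  exact (Subgroup.map_mono (le_normalizer_pOf H)).trans (Subgroup.le_normalizer_map _)

theorem fittingOf_le (H : Subgroup G) : fittingOf H ≤ H := Subgroup.map_subtype_le _

theorem le_normalizer_fittingOf (H : Subgroup G) : H ≤ normalizer (fittingOf H : Set G) :=
  le_normalizer_map_of_normal _

theorem isNilpotent_fittingOf (H : Subgroup G) : Group.IsNilpotent (fittingOf H) :=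
  Group.nilpotent_of_surjective _ (H.subtype.subgroupMap_surjective (fittingSubgroup H))

theorem pOf_le_fittingOf (H : Subgroup G) (hr : r.Prime) : pOf r H ≤ fittingOf H :=
  Subgroup.map_mono (Components.pCore_le_fittingSubgroup hr)

theorem mem_pOf {H : Subgroup G} [Fact r.Prime] {x : G} {k : ℕ} (hx : x ∈ fittingOf H)
    (hk : x ^ r ^ k = 1) : x ∈ pOf r H := by
  obtain ⟨y, hy, rfl⟩ := hx
  exact ⟨y, Subnormal.mem_pCore_of_mem_fittingSubgroup hy (Subtype.ext hk : y ^ r ^ k = 1), rfl⟩

/-- Membership is decided by the primary parts of an element. -/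
theorem mem_of_forall_primePart {D : Subgroup G} {x : G}
    (h : ∀ r : ℕ, r.Prime → r ∣ orderOf x → ∀ u ∈ zpowers x, (∃ k, u ^ r ^ k = 1) → u ∈ D) : x ∈ D := by
  have htop : D.subgroupOf (zpowers x) = ⊤ := Components.eq_top_of_forall_sylow fun r hr hd => by
    refine ⟨default, fun u hu => h r hr (by rwa [Nat.card_zpowers] at hd) u u.2 ?_⟩
    obtain ⟨k, hk⟩ := (default : Sylow r (zpowers x)).2 ⟨u, hu⟩
    exact ⟨k, congrArg (fun w => ((w.1 : zpowers x) : G)) hk⟩
  exact Subgroup.subgroupOf_eq_top.1 htop (Subgroup.mem_zpowers x)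

/-- `r`-elements of `F(H)` lie in `O_r(H)`, so the `O_r(H)` generate `F(H)`. -/
theorem fittingOf_le_of_forall {H D : Subgroup G} (h : ∀ r : ℕ, r.Prime → pOf r H ≤ D) :
    fittingOf H ≤ D := fun x hx => mem_of_forall_primePart fun r hr _ u hu ⟨k, hk⟩ => by
  haveI := Fact.mk hr
  exact h r hr (mem_pOf (Subgroup.zpowers_le.2 hx hu) hk)

theorem pOf_eq_bot_iff {H : Subgroup G} [hr : Fact r.Prime] : pOf r H = ⊥ ↔ ¬ r ∣ Nat.card (fittingOf H) := by
  constructor
  · intro h hd
    obtain ⟨x, hx⟩ := exists_prime_orderOf_dvd_card' r hd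
    have hx' : (x : G) ∈ pOf r H := mem_pOf x.2 (k := 1) (by
      rw [pow_one, ← Subgroup.coe_pow, ← hx, pow_orderOf_eq_one, Subgroup.coe_one])
    rw [h, Subgroup.mem_bot] at hx'
    rw [show x = 1 from Subtype.ext hx', orderOf_one] at hx
    exact hr.out.ne_one hx.symm
  · intro hd
    refine PCore.eq_bot_of_isPGroup_of_coprime (isPGroup_pOf H) ?_
    refine (Nat.Coprime.coprime_dvd_left (Subgroup.card_dvd_of_le (pOf_le_fittingOf H hr.out)) ?_)
    exact (hr.out.coprime_iff_not_dvd.2 hd).symm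

theorem inf_centralizer_fittingOf_le (H : Subgroup G) [Group.IsSolvable H] :
    H ⊓ centralizer (fittingOf H : Set G) ≤ fittingOf H := fun x hx =>
  ⟨⟨x, hx.1⟩, Components.centralizer_fittingSubgroup_le (Subgroup.mem_centralizer_iff.2 fun y hy =>
    Subtype.ext (Subgroup.mem_centralizer_iff.1 hx.2 y ⟨y, hy, rfl⟩)), rfl⟩

/-- Subgroups normalizing each other and meeting trivially commute elementwise. -/
theorem le_centralizer_of_normalize {A B : Subgroup G} (h : A ⊓ B = ⊥)
    (hA : A ≤ normalizer (B : Set G)) (hB : B ≤ normalizer (A : Set G)) : A ≤ centralizer (B : Set G) := by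
  intro a ha
  refine Subgroup.mem_centralizer_iff.2 fun b hb => ?_
  have h1 : ⁅b, a⁆ ∈ A ⊓ B := by
    refine ⟨?_, ?_⟩
    · rw [commutatorElement_def]
      exact A.mul_mem ((Subgroup.mem_normalizer_iff.1 (hB hb) a).1 ha) (A.inv_mem ha)
    · rw [commutatorElement_def, mul_assoc b, mul_assoc]
      exact B.mul_mem hb ((Subgroup.mem_normalizer_iff.1 (hA ha) _).1 (B.inv_mem hb))
  rw [h, Subgroup.mem_bot] at h1
  exact commutatorElement_eq_one_iff_mul_comm.1 h1

theorem inf_eq_bot_of_pgroup [Fact p.Prime] [Fact q.Prime] (hne : p ≠ q) {A B : Subgroup G}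
    (hA : IsPGroup p A) (hB : IsPGroup q B) : A ⊓ B = ⊥ :=
  (IsPGroup.disjoint_of_ne p q hne A B hA hB).eq_bot

theorem pOf_le_centralizer_pOf [Fact p.Prime] [Fact q.Prime] (hne : p ≠ q) (H : Subgroup G) :
    pOf p H ≤ centralizer (pOf q H : Set G) :=
  le_centralizer_of_normalize (inf_eq_bot_of_pgroup hne (isPGroup_pOf H) (isPGroup_pOf H))
    ((pOf_le H).trans (le_normalizer_pOf H)) ((pOf_le H).trans (le_normalizer_pOf H))

theorem zOf_le (H : Subgroup G) : zOf r H ≤ H := inf_le_left.trans (pOf_le H)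

theorem isPGroup_zOf (H : Subgroup G) : IsPGroup r (zOf r H) := (isPGroup_pOf H).to_le inf_le_left

theorem le_normalizer_zOf (H : Subgroup G) : H ≤ normalizer (zOf r H : Set G) :=
  Coprime.le_normalizer_inf_of_le (le_normalizer_pOf H) (fun g hg => by
    have hg' := Subgroup.mem_normalizer_iff.1 (le_normalizer_pOf (r := r) H hg)
    refine Subgroup.mem_normalizer_iff.2 fun c => ?_
    simp only [Subgroup.mem_centralizer_iff]
    constructor
    · intro hc x hx
      have h2 : g⁻¹ * x * g ∈ pOf r H := (hg' _).2 (by simpa [mul_assoc] using hx)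
      calc x * (g * c * g⁻¹) = g * ((g⁻¹ * x * g) * c) * g⁻¹ := by group
        _ = g * (c * (g⁻¹ * x * g)) * g⁻¹ := by rw [hc _ h2]
        _ = g * c * g⁻¹ * x := by group
    · intro hc x hx
      have h := hc _ ((hg' x).1 hx)
      calc x * c = g⁻¹ * ((g * x * g⁻¹) * (g * c * g⁻¹)) * g := by group
        _ = g⁻¹ * ((g * c * g⁻¹) * (g * x * g⁻¹)) * g := by rw [h]
        _ = c * x := by group)

theorem zOf_le_center_fittingOf [hr : Fact r.Prime] (H : Subgroup G) :
    zOf r H ≤ fittingOf H ⊓ centralizer (fittingOf H : Set G) := by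
  refine le_inf (inf_le_left.trans (pOf_le_fittingOf H hr.out))
    (Subgroup.le_centralizer_iff.1 (fittingOf_le_of_forall fun s hs => ?_))
  haveI := Fact.mk hs
  rcases eq_or_ne s r with rfl | hne
  · exact Subgroup.le_centralizer_iff.1 inf_le_right
  · exact Subgroup.le_centralizer_iff.1 (inf_le_left.trans (pOf_le_centralizer_pOf (Ne.symm hne) H))

theorem zOf_ne_bot [hr : Fact r.Prime] {H : Subgroup G} (h : r ∣ Nat.card (fittingOf H)) :
    zOf r H ≠ ⊥ := by
  have h1 : pOf r H ≠ ⊥ := fun h' => pOf_eq_bot_iff.1 h' h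
  haveI := (Subgroup.nontrivial_iff_ne_bot _).2 h1
  haveI := (isPGroup_pOf (r := r) H).center_nontrivial
  obtain ⟨z, hz⟩ := exists_ne (1 : Subgroup.center (pOf r H))
  intro h'
  refine hz (Subtype.ext (Subtype.ext (Subgroup.mem_bot.1 (h' ▸ ?_))))
  exact ⟨(z : pOf r H).2, Subgroup.mem_centralizer_iff.2 fun y hy =>
    congrArg Subtype.val (Subgroup.mem_center_iff.1 z.2 ⟨y, hy⟩)⟩

/-- A coprime automorphism of a nilpotent group fixing `M ⊇ C(M)` pointwise is trivial. -/
theorem mem_centralizer_of_nilpotent {F M : Subgroup G} (hF : Group.IsNilpotent F) (hMF : M ≤ F)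
    (hC : F ⊓ centralizer (M : Set G) ≤ M) {g : G} (hgF : g ∈ normalizer (F : Set G))
    (hcop : (orderOf g).Coprime (Nat.card F)) (hgM : g ∈ centralizer (M : Set G)) :
    g ∈ centralizer (F : Set G) := by
  set C := F ⊓ centralizer ({g} : Set G) with hCdef
  suffices h : C = F from Subgroup.mem_centralizer_iff.2 fun x hx =>
    Subgroup.mem_centralizer_singleton_iff.1 (h.ge hx).2
  by_contra hne
  have hMC : M ≤ C := fun m hm => ⟨hMF hm, Subgroup.mem_centralizer_singleton_iff.2
    (Subgroup.mem_centralizer_iff.1 hgM m hm)⟩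
  haveI := hF
  have hlt : C.subgroupOf F < ⊤ := lt_top_iff_ne_top.2 fun h =>
    hne (le_antisymm inf_le_left (Subgroup.subgroupOf_eq_top.1 h))
  obtain ⟨n, hn, hnC⟩ := SetLike.exists_of_lt (Group.normalizerCondition_of_isNilpotent _ hlt)
  apply hnC
  have hgf : ∀ c ∈ C, g * c * g⁻¹ = c := fun c hc =>
    mul_inv_eq_iff_eq_mul.2 (Subgroup.mem_centralizer_singleton_iff.1 hc.2).symm
  set c := (n : G)⁻¹ * (g * n * g⁻¹) with hc
  have hcF : c ∈ F := mul_mem (inv_mem n.2) ((Subgroup.mem_normalizer_iff.1 hgF _).1 n.2)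
  have hcM : c ∈ centralizer (M : Set G) := by
    refine Subgroup.mem_centralizer_iff.2 fun m hm => ?_
    have h1 : (n : G) * m * (n : G)⁻¹ ∈ C :=
      (Subgroup.mem_normalizer_iff.1 hn ⟨m, hMF hm⟩).1 (hMC hm)
    have h2 := hgf m (hMC hm)
    have h3 : (g * n * g⁻¹) * m * (g * n * g⁻¹)⁻¹ = n * m * (n : G)⁻¹ :=
      calc (g * n * g⁻¹) * m * (g * n * g⁻¹)⁻¹
            = g * (n * (g⁻¹ * m * g) * (n : G)⁻¹) * g⁻¹ := by group
        _ = g * (n * m * (n : G)⁻¹) * g⁻¹ := by rw [show g⁻¹ * m * g = m by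
              calc g⁻¹ * m * g = g⁻¹ * (g * m * g⁻¹) * g := by rw [h2]
                _ = m := by group]
        _ = _ := hgf _ h1
    calc m * c = (n : G)⁻¹ * ((n : G) * m * (n : G)⁻¹) * (g * n * g⁻¹) := by rw [hc]; group
      _ = (n : G)⁻¹ * ((g * n * g⁻¹) * m * (g * n * g⁻¹)⁻¹) * (g * n * g⁻¹) := by rw [h3]
      _ = c * m := by rw [hc]; group
  have hgc : g * c * g⁻¹ = c := hgf c (hMC (hC ⟨hcF, hcM⟩))
  have hiter : ∀ k : ℕ, g ^ k * n * (g ^ k)⁻¹ = n * c ^ k := by
    intro k
    induction k with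
    | zero => simp
    | succ k ih =>
      calc g ^ (k + 1) * n * (g ^ (k + 1))⁻¹ = g * (g ^ k * n * (g ^ k)⁻¹) * g⁻¹ := by
            rw [pow_succ']; group
        _ = (g * n * g⁻¹) * (g * c ^ k * g⁻¹) := by rw [ih]; group
        _ = n * c * c ^ k := by rw [← conj_pow, hgc, hc]; group
        _ = n * c ^ (k + 1) := by rw [mul_assoc, ← pow_succ']
  have h1 := hiter (orderOf g)
  rw [pow_orderOf_eq_one, one_mul, inv_one, mul_one, left_eq_mul] at h1
  have hc1 : c = 1 := orderOf_eq_one_iff.1 (Nat.eq_one_of_dvd_coprimes hcop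
    (orderOf_dvd_of_pow_eq_one h1) (Subgroup.orderOf_dvd_natCard F hcF))
  rw [hc, inv_mul_eq_one] at hc1
  refine ⟨n.2, Subgroup.mem_centralizer_singleton_iff.2 ?_⟩
  exact eq_mul_inv_iff_mul_eq.1 hc1

/-- A `p`-element and a `q`-element each centralizing the other primary parts of `F(H)` commute. -/
theorem commute_of_cross [hp : Fact p.Prime] [hq : Fact q.Prime] (hne : p ≠ q) {H : Subgroup G}
    [Group.IsSolvable H] {x y : G} {a b : ℕ} (hx : x ∈ H) (hy : y ∈ H) (hxp : x ^ p ^ a = 1)
    (hyq : y ^ q ^ b = 1) (hxc : ∀ r : ℕ, r.Prime → r ≠ p → x ∈ centralizer (pOf r H : Set G))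
    (hyc : ∀ r : ℕ, r.Prime → r ≠ q → y ∈ centralizer (pOf r H : Set G)) : Commute x y := by
  set F := fittingOf H with hF
  set z := ⁅x, y⁆ with hz
  have hzH : z ∈ H := by
    rw [hz, commutatorElement_def]
    exact mul_mem (mul_mem (mul_mem hx hy) (inv_mem hx)) (inv_mem hy)
  have hconj : ∀ {g c : G} {r : ℕ}, g ∈ H → c ∈ centralizer (pOf r H : Set G) →
      g * c * g⁻¹ ∈ centralizer (pOf r H : Set G) := fun {g c r} hg hc => by
    refine Subgroup.mem_centralizer_iff.2 fun w hw => ?_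
    have h2 : g⁻¹ * w * g ∈ pOf r H := by
      simpa using (Subgroup.mem_normalizer_iff.1 (le_normalizer_pOf H (inv_mem hg)) w).1 hw
    calc w * (g * c * g⁻¹) = g * ((g⁻¹ * w * g) * c) * g⁻¹ := by group
      _ = g * (c * (g⁻¹ * w * g)) * g⁻¹ := by rw [Subgroup.mem_centralizer_iff.1 hc _ h2]
      _ = g * c * g⁻¹ * w := by group
  have hzF : z ∈ F ⊓ centralizer (F : Set G) := by
    have h1 : z ∈ centralizer (F : Set G) := by
      have h2 : F ≤ centralizer ({z} : Set G) := fittingOf_le_of_forall fun r hr w hw => by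
        refine Subgroup.mem_centralizer_singleton_iff.2 (Subgroup.mem_centralizer_iff.1 ?_ w hw)
        rw [hz, commutatorElement_def]
        by_cases hrp : r = p
        · subst hrp
          exact mul_mem (hconj hx (hyc r hr hne)) (inv_mem (hyc r hr hne))
        · rw [mul_assoc x, mul_assoc]
          exact mul_mem (hxc r hr hrp) (hconj hy (inv_mem (hxc r hr hrp)))
      exact Subgroup.mem_centralizer_iff.2 fun w hw =>
        Subgroup.mem_centralizer_singleton_iff.1 (h2 hw)
    exact ⟨inf_centralizer_fittingOf_le H ⟨hzH, h1⟩, h1⟩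
  obtain ⟨e, m, hm, hem⟩ := Nat.exists_eq_pow_mul_and_not_dvd (orderOf_pos z).ne' q hq.out.ne_one
  -- the q'-part of `z` is centralized by `y`
  have hwc : Commute y (z ^ q ^ e) := by
    have hmem : z ^ q ^ e ∈ centralizer ({y} : Set G) := mem_of_forall_primePart
      fun r hr hd u hu ⟨k, hk⟩ => by
        haveI := Fact.mk hr
        have hrq : r ≠ q := by
          rintro rfl
          refine hm (hd.trans (orderOf_dvd_of_pow_eq_one ?_))
          rw [← pow_mul, ← hem, pow_orderOf_eq_one]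
        have huF : u ∈ F := Subgroup.zpowers_le.2 (pow_mem hzF.1 _) hu
        exact Subgroup.mem_centralizer_singleton_iff.2
          (Subgroup.mem_centralizer_iff.1 (hyc r hr hrq) u (mem_pOf huF hk))
    exact (Subgroup.mem_centralizer_singleton_iff.1 hmem).symm
  set Z := F ⊓ centralizer (F : Set G) with hZ
  have hyZ : ∀ w ∈ Z, y * w * y⁻¹ ∈ Z := fun w hw => by
    refine ⟨(Subgroup.mem_normalizer_iff.1 (le_normalizer_fittingOf H hy) w).1 hw.1,
      Subgroup.mem_centralizer_iff.2 fun v hv => ?_⟩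
    have h2 : y⁻¹ * v * y ∈ F := by
      simpa using (Subgroup.mem_normalizer_iff.1 (le_normalizer_fittingOf H (inv_mem hy)) v).1 hv
    calc v * (y * w * y⁻¹) = y * ((y⁻¹ * v * y) * w) * y⁻¹ := by group
      _ = y * (w * (y⁻¹ * v * y)) * y⁻¹ := by rw [Subgroup.mem_centralizer_iff.1 hw.2 _ h2]
      _ = y * w * y⁻¹ * v := by group
  have hxy : x * y * x⁻¹ = z * y := by rw [hz, commutatorElement_def, inv_mul_cancel_right]
  have hind : ∀ n : ℕ, ∃ c ∈ Z, (z * y) ^ n = c * y ^ n ∧ c ^ q ^ e = (z ^ q ^ e) ^ n := by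
    intro n
    induction n with
    | zero => exact ⟨1, one_mem _, by simp, by simp⟩
    | succ n ih =>
      obtain ⟨c, hc, h1, h2⟩ := ih
      refine ⟨z * (y * c * y⁻¹), mul_mem hzF (hyZ c hc), ?_, ?_⟩
      · rw [pow_succ', h1, pow_succ']
        group
      · rw [(show Commute z (y * c * y⁻¹) from
          (Subgroup.mem_centralizer_iff.1 (hyZ c hc).2 z hzF.1)).mul_pow, conj_pow, h2,
          (hwc.pow_right n).eq, mul_inv_cancel_right, pow_succ']
  obtain ⟨c, -, h1, h2⟩ := hind (q ^ b)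
  rw [← hxy, conj_pow, hyq, mul_one, mul_one, mul_inv_cancel] at h1
  subst h1
  rw [one_pow, ← pow_mul, ← pow_add] at h2
  have hzq : z ∈ pOf q H := mem_pOf hzF.1 h2.symm
  have hxz : Commute x z := ((Subgroup.mem_centralizer_iff.1 (hxc q hq.out (Ne.symm hne))) z hzq).symm
  have h3 := Coprime.commute_of_translate hxy hxz
    (Nat.Coprime.coprime_dvd_left (orderOf_dvd_of_pow_eq_one hxp)
      (Nat.Coprime.coprime_dvd_right (orderOf_dvd_of_pow_eq_one h2.symm)
        (((Nat.coprime_primes hp.out hq.out).2 hne).pow a (e + b))))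
  exact h3

/-- Solvable normal subgroups of `C_H(F(H))` lie in `F(H)`. -/
theorem solvable_le_fittingOf {H S : Subgroup G} [Group.IsSolvable S]
    (hSX : S ≤ H ⊓ centralizer (fittingOf H : Set G))
    (hn : H ⊓ centralizer (fittingOf H : Set G) ≤ normalizer (S : Set G)) : S ≤ fittingOf H := by
  set X := H ⊓ centralizer (fittingOf H : Set G) with hX
  set X' := centralizer (fittingSubgroup H : Set H) with hX'
  haveI : X'.Normal := inferInstanceAs (centralizer _).Normal
  set S' := S.subgroupOf H with hS'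
  haveI : Group.IsSolvable S' := Coprime.isSolvable_subgroupOf (hSX.trans inf_le_left) ‹_›
  have hS'X : S' ≤ X' := fun s hs => Subgroup.mem_centralizer_iff.2 fun y hy =>
    Subtype.ext (Subgroup.mem_centralizer_iff.1 (hSX hs).2 y ⟨y, hy, rfl⟩)
  haveI hn' : (S'.subgroupOf X').Normal := by
    refine (Subgroup.normal_subgroupOf_iff_le_normalizer hS'X).2 fun t ht => ?_
    have htX : (t : G) ∈ X := ⟨t.2, Subgroup.mem_centralizer_iff.2 fun w ⟨y, hy, hyw⟩ =>
      hyw ▸ congrArg Subtype.val (Subgroup.mem_centralizer_iff.1 ht y hy)⟩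
    exact Subgroup.mem_normalizer_iff.2 fun w => Subgroup.mem_normalizer_iff.1 (hn htX) w
  set S'' := S'.subgroupOf X' with hS''
  haveI : Group.IsSolvable S'' := Coprime.isSolvable_subgroupOf hS'X ‹_›
  -- `F(S)` is central in `C_H(F)`
  have h1 : ((fittingSubgroup S'').map S''.subtype).map X'.subtype ≤ fittingSubgroup H :=
    (Subgroup.map_mono (Components.map_subtype_fittingSubgroup_le_of_isSubnormal hn'.isSubnormal)).trans
      (Components.map_subtype_fittingSubgroup_le_of_isSubnormal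
        (inferInstanceAs (centralizer _).Normal : X'.Normal).isSubnormal)
  have h2 : (fittingSubgroup S'') = ⊤ := top_unique fun s _ => Components.centralizer_fittingSubgroup_le
    (Subgroup.mem_centralizer_iff.2 fun f hf => Subtype.ext (Subtype.ext
      (Subgroup.mem_centralizer_iff.1 (s : X').2 ((f : X') : H) (h1 ⟨f, ⟨f, hf, rfl⟩, rfl⟩))))
  intro x hx
  refine ⟨⟨x, (hSX hx).1⟩, h1 ⟨⟨⟨x, (hSX hx).1⟩, hS'X hx⟩, ⟨⟨⟨⟨x, (hSX hx).1⟩, hS'X hx⟩, hx⟩, ?_, rfl⟩, rfl⟩, rfl⟩
  rw [h2]
  exact Subgroup.mem_top _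

end Cfsg.Agent.OddOrder
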