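import Cfsg.Agent.Lib.PCore.UpperSeries
import Mathlib

set_option autoImplicit false

/-! `p`-length one: a `p`-subgroup lies in `O_{p',p}`; `O_{p',p}` is covered by a Sylow subgroup. -/

namespace Cfsg.Agent.OddOrder

open Subgroup

variable {G : Type*} [Group G] [Finite G] {p : ℕ} [Fact p.Prime]

theorem index_pPrimePCore_coprime (hlen : PLengthLE p 1 G) : ((pPrimePCore p G).index).Coprime p := by
  have hrel := PCore.relIndex_upperPSeries_of_even (p := p) (G := G) (n := 2) even_two
  have h3 : (upperPSeries p G 3).1 = ⊤ := hlen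
  rw [h3, relIndex_top_right, PCore.upperPSeries_two] at hrel
  exact hrel

instance instNormalPPrimePCore : (pPrimePCore p G).Normal := by
  unfold pPrimePCore; exact Normal.comap (sSup_normal _ fun _ h => h.1) _

theorem le_pPrimePCore_of_pLength (hlen : PLengthLE p 1 G) {A : Subgroup G} (hA : IsPGroup p A) :
    A ≤ pPrimePCore p G := by
  intro a ha
  obtain ⟨j, hj⟩ := hA ⟨a, ha⟩
  have hj' : a ^ p ^ j = 1 := congrArg Subtype.val hj
  have h1 := pow_card_eq_one' (x := QuotientGroup.mk' (pPrimePCore p G) a)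
  rw [← index_eq_card] at h1
  have h2 : QuotientGroup.mk' (pPrimePCore p G) a ^ p ^ j = 1 := by rw [← map_pow, hj', map_one]
  have h4 := Nat.eq_one_of_dvd_coprimes ((index_pPrimePCore_coprime hlen).pow_right j)
    (orderOf_dvd_of_pow_eq_one h1) (orderOf_dvd_of_pow_eq_one h2)
  exact (QuotientGroup.eq_one_iff a).mp (orderOf_eq_one_iff.mp h4)

theorem pPrimePCore_le_sup_sylow (S : Sylow p G) :
    pPrimePCore p G ≤ pPrimeCore p G ⊔ (S : Subgroup G) := by
  haveI hn : (pPrimeCore p G).Normal := sSup_normal _ fun _ h => h.1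
  set f := QuotientGroup.mk' (pPrimeCore p G) with hf
  have h : pCore p (G ⧸ pPrimeCore p G) ≤ (S : Subgroup G).map f := by
    have := PCore.pCore_le_sylow (S.mapSurjective (f := f) (QuotientGroup.mk'_surjective _))
    rwa [Sylow.coe_mapSurjective] at this
  refine (comap_mono h : (pCore p (G ⧸ pPrimeCore p G)).comap f ≤ ((S : Subgroup G).map f).comap f).trans ?_
  rw [comap_map_eq, hf, QuotientGroup.ker_mk', sup_comm]

end Cfsg.Agent.OddOrder
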