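import Cfsg.Agent.Lib.OddOrder.Stability
import Cfsg.Agent.Lib.OddOrder.PLengthOne
import Cfsg.Agent.Lib.PGroup.Critical
import Cfsg.Agent.Lib.PGroup.Class2
import Cfsg.Agent.Lib.PGroup.Basic
import Cfsg.Agent.Lib.Coprime.OmegaOne
import Cfsg.Agent.S3771

/-!
# Solvable groups of odd order with Sylow p-subgroups of rank at most 2

* `sylow_le_pPrimePCore_of_rankTwo`: such a group has p-length at most 1;
* `sup_normalizer_sylow_of_rankTwo`: it is `O_{p'}(G) N_G(S)`.
-/

set_option linter.style.haveILetI false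
set_option linter.unusedSectionVars false

namespace Cfsg.Agent.OddOrder

open Cfsg
open Subgroup (centralizer normalizer zpowers)
open scoped commutatorElement

variable {G : Type*} [Group G] {p : ℕ}

theorem pRankLE_of_injective {H : Type*} [Group H] {f : H →* G} (hf : Function.Injective f) {k : ℕ}
    (h : PRankLE p k G) : PRankLE p k H := by
  intro A hAc hAp
  rw [← Subgroup.card_map_of_injective (K := A) hf]
  refine h _ ⟨⟨?_⟩⟩ ?_
  · rintro ⟨_, a, ha, rfl⟩ ⟨_, b, hb, rfl⟩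
    refine Subtype.ext ?_
    show f a * f b = f b * f a
    rw [← map_mul, ← map_mul, PGroup.mul_comm_of_isMulCommutative hAc ha hb]
  · rintro _ ⟨a, ha, rfl⟩
    rw [← map_pow, hAp a ha, map_one]

theorem pRankLE_of_le {H K : Subgroup G} (hle : H ≤ K) {k : ℕ} (h : PRankLE p k K) : PRankLE p k H :=
  pRankLE_of_injective (Subgroup.inclusion_injective hle) h

variable [Fact p.Prime]

/-- In a p-group a normal subgroup of order at most `p²` is killed by two commutations. -/
theorem commutator_commutator_eq_bot_of_card_le {T : Type*} [Group T] [Finite T] (hT : IsPGroup p T)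
    (V : Subgroup T) [V.Normal] (hV : Nat.card V ≤ p ^ 2) :
    ⁅⁅V, (⊤ : Subgroup T)⁆, (⊤ : Subgroup T)⁆ = ⊥ := by
  by_contra h2
  have h1 : ⁅V, (⊤ : Subgroup T)⁆ ≠ ⊥ := fun h => h2 (by rw [h, Subgroup.commutator_bot_left])
  have h0 : V ≠ ⊥ := fun h => h1 (by rw [h, Subgroup.commutator_bot_left])
  have e1 := PGroup.mul_card_le_card hT (PGroup.commutator_top_lt hT V h0)
  have e2 := PGroup.mul_card_le_card hT (PGroup.commutator_top_lt hT _ h1)
  have hp := (Fact.out : p.Prime)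
  have h3 : 1 < Nat.card ↥⁅⁅V, (⊤ : Subgroup T)⁆, (⊤ : Subgroup T)⁆ := Subgroup.one_lt_card_iff_ne_bot _ |>.2 h2
  have h4 : p ^ 2 * Nat.card ↥⁅⁅V, (⊤ : Subgroup T)⁆, (⊤ : Subgroup T)⁆ ≤ p ^ 2 := by
    calc p ^ 2 * _ = p * (p * Nat.card ↥⁅⁅V, (⊤ : Subgroup T)⁆, (⊤ : Subgroup T)⁆) := by ring
      _ ≤ p * Nat.card ↥⁅V, (⊤ : Subgroup T)⁆ := Nat.mul_le_mul_left _ e2
      _ ≤ p ^ 2 := e1.trans hV
  have := Nat.le_of_mul_le_mul_left (h4.trans (mul_one _).ge) (pow_pos hp.pos 2)
  omega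

variable [Finite G]

/-- If a normal p-subgroup `U` has rank at most 2, the kernel of the action of the p'-elements on `U` is seen
on a section of order at most `p²`. -/
theorem exists_rankTwo_section (hp : p ≠ 2) (U : Subgroup G) [U.Normal] (hUp : IsPGroup p U)
    (hr : PRankLE p 2 U) :
    ∃ (D : Subgroup G) (_ : D.Normal) (V : Subgroup (G ⧸ D)), V.Normal ∧ IsPGroup p V ∧
      Nat.card V ≤ p ^ 2 ∧ ∀ a : G, (orderOf a).Coprime p →
        QuotientGroup.mk' D a ∈ centralizer (V : Set (G ⧸ D)) →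
        a ∈ centralizer (U : Set G) := by
  have hpp : p.Prime := Fact.out
  obtain ⟨H₀, hH₀, -, hH₀Z, hH₀C⟩ := PGroup.exists_critical hUp
  haveI := hH₀
  set H := H₀.map U.subtype with hHdef
  haveI hHn : H.Normal := inferInstance
  have hHU : H ≤ U := Subgroup.map_subtype_le _
  -- commutators of `H` are central in `H`
  have hcl : ∀ x ∈ H, ∀ y ∈ H, ⁅x, y⁆ ∈ H ∧ ∀ z ∈ H, ⁅x, y⁆ * z = z * ⁅x, y⁆ := by
    rintro _ ⟨x, hx, rfl⟩ _ ⟨y, hy, rfl⟩
    have h := hH₀Z (Subgroup.commutator_mem_commutator hx (Subgroup.mem_top y))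
    rw [← map_commutatorElement]
    refine ⟨⟨_, h.1, rfl⟩, ?_⟩
    rintro _ ⟨z, hz, rfl⟩
    rw [← map_mul, ← map_mul, Subgroup.mem_centralizer_iff.mp h.2 z hz]
  have hclH : ∀ x y : H, ⁅x, y⁆ ∈ Subgroup.center H := fun x y =>
    Subgroup.mem_center_iff.mpr fun z => Subtype.ext ((hcl x x.2 y y.2).2 z z.2).symm
  let E : Subgroup G :=
    { carrier := {x | x ∈ H ∧ x ^ p = 1}
      one_mem' := ⟨one_mem _, one_pow _⟩
      mul_mem' := fun {a b} ha hb => ⟨mul_mem ha.1 hb.1, by
        have h1 : (⟨b, hb.1⟩ : H) ^ p = 1 := Subtype.ext hb.2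
        have h2 := PGroup.mul_pow_prime hpp hp (x := (⟨a, ha.1⟩ : H)) (y := ⟨b, hb.1⟩) (hclH _ _)
          (by rw [← PGroup.commutator_pow_left (hclH _ _), h1, commutatorElement_one_left])
        have h3 := congrArg Subtype.val h2
        simp only [SubmonoidClass.coe_pow, Subgroup.coe_mul] at h3
        rw [h3, ha.2, hb.2, one_mul]⟩
      inv_mem' := fun {a} ha => ⟨inv_mem ha.1, by rw [inv_pow, ha.2, inv_one]⟩ }
  have hEH : E ≤ H := fun x hx => hx.1
  haveI hEn : E.Normal := ⟨fun x hx c => ⟨hHn.conj_mem x hx.1 c, by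
    rw [conj_pow, hx.2, mul_one, mul_inv_cancel]⟩⟩
  have hEU : E ≤ U := hEH.trans hHU
  have hEp : IsPGroup p E := hUp.to_le hEU
  have hErk : PRankLE p 2 E := pRankLE_of_le hEU hr
  have hE3 : Nat.card E ≤ p ^ 3 := S3771.result hEp hErk fun x => Subtype.ext x.2.2
  set D := ⁅E, E⁆ with hDdef
  have hDE : D ≤ E := E.commutator_le_self
  set π := QuotientGroup.mk' D with hπ
  have hsurj : Function.Surjective π := QuotientGroup.mk'_surjective D
  have hmk : ∀ {x : G}, π x = 1 ↔ x ∈ D := fun {x} => QuotientGroup.eq_one_iff x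
  haveI hVn : (E.map π).Normal := hEn.map π hsurj
  -- `|E / E'| ≤ p²`
  have hV2 : Nat.card (E.map π) ≤ p ^ 2 := by
    by_cases hD : D = ⊥
    · refine (Nat.le_of_dvd Nat.card_pos (Subgroup.card_map_dvd E π)).trans ?_
      rw [← Subgroup.card_top (G := E)]
      refine hErk ⊤ ⟨⟨fun a b => ?_⟩⟩ fun x _ => Subtype.ext x.2.2
      refine Subtype.ext (Subtype.ext (commutatorElement_eq_one_iff_mul_comm.mp ?_))
      have h := Subgroup.commutator_mem_commutator a.1.2 b.1.2 (H₁ := E) (H₂ := E)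
      rwa [← hDdef, hD, Subgroup.mem_bot] at h
    · obtain ⟨k, hk⟩ := (hEp.to_le hDE).exists_card_eq
      have hk0 : k ≠ 0 := fun h => hD (Subgroup.card_eq_one.1 (by rw [hk, h, pow_zero]))
      have h1 : Nat.card D * Nat.card (E.map π) = Nat.card E := by
        rw [← Subgroup.relIndex_ker, QuotientGroup.ker_mk', ← Subgroup.relIndex_bot_left D,
          Subgroup.relIndex_mul_relIndex _ _ _ bot_le hDE, Subgroup.relIndex_bot_left]
      refine Nat.le_of_mul_le_mul_left ?_ hpp.pos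
      calc p * Nat.card (E.map π) ≤ Nat.card D * Nat.card (E.map π) :=
            Nat.mul_le_mul_right _ (hk ▸ Nat.le_self_pow hk0 p)
        _ ≤ p ^ 3 := h1.le.trans hE3
        _ = p * p ^ 2 := by ring
  have hVp : IsPGroup p (E.map π) := hEp.map π
  refine ⟨D, inferInstance, E.map π, hVn, hVp, hV2, fun a hac h1 => ?_⟩
  rw [← hπ] at h1
  have hmod : ∀ e ∈ E, a * e * a⁻¹ * e⁻¹ ∈ D := by
    intro e he
    have h2 := Subgroup.mem_centralizer_iff.1 h1 (π e) ⟨e, he, rfl⟩
    rw [← hmk]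
    simp only [map_mul, map_inv]
    rw [← h2]
    group
  have hDc : ∀ d ∈ D, ∀ z ∈ H, d * z = z * d := by
    intro d hd z hz
    have : D ≤ centralizer ({z} : Set G) := Subgroup.commutator_le.2 fun x hx y hy =>
      Subgroup.mem_centralizer_singleton_iff.2 ((hcl x (hEH hx) y (hEH hy)).2 z hz)
    exact Subgroup.mem_centralizer_singleton_iff.1 (this hd)
  have haD : ∀ d ∈ D, Commute a d := by
    have : D ≤ centralizer ({a} : Set G) := Subgroup.commutator_le.2 fun e he f hf => by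
      refine Subgroup.mem_centralizer_singleton_iff.2 ?_
      obtain ⟨d, hd, hde⟩ : ∃ d ∈ D, a * e * a⁻¹ = d * e := ⟨_, hmod e he, by group⟩
      obtain ⟨d', hd', hdf⟩ : ∃ d' ∈ D, a * f * a⁻¹ = d' * f := ⟨_, hmod f hf, by group⟩
      have hc : a * ⁅e, f⁆ * a⁻¹ = ⁅e, f⁆ := by
        calc a * ⁅e, f⁆ * a⁻¹ = ⁅a * e * a⁻¹, a * f * a⁻¹⁆ := by simp only [commutatorElement_def]; group
          _ = ⁅d * e, d' * f⁆ := by rw [hde, hdf]
          _ = d * (e * d') * f * e⁻¹ * (d⁻¹ * f⁻¹) * d'⁻¹ := by simp only [commutatorElement_def]; group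
          _ = d * (d' * e) * f * e⁻¹ * (f⁻¹ * d⁻¹) * d'⁻¹ := by
            rw [hDc d' hd' e (hEH he), hDc d⁻¹ (inv_mem hd) f⁻¹ (inv_mem (hEH hf))]
          _ = d * d' * (⁅e, f⁆ * d⁻¹) * d'⁻¹ := by simp only [commutatorElement_def]; group
          _ = d * d' * (d⁻¹ * ⁅e, f⁆) * d'⁻¹ := by rw [(hcl e (hEH he) f (hEH hf)).2 d⁻¹ (hEH (hDE (inv_mem hd)))]
          _ = (d * d' * d⁻¹) * (⁅e, f⁆ * d'⁻¹) := by group
          _ = d' * (d'⁻¹ * ⁅e, f⁆) := by
            rw [(hcl e (hEH he) f (hEH hf)).2 d'⁻¹ (hEH (hDE (inv_mem hd'))),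
              hDc d hd d' (hEH (hDE hd')), mul_inv_cancel_right]
          _ = ⁅e, f⁆ := by group
      exact (mul_inv_eq_iff_eq_mul.1 hc).symm
    exact fun d hd => (Subgroup.mem_centralizer_singleton_iff.1 (this hd)).symm
  have haE : ∀ e ∈ E, Commute a e := by
    intro e he
    have hz : orderOf (a * e * a⁻¹ * e⁻¹) ∣ p := orderOf_dvd_of_pow_eq_one (hDE (hmod e he)).2
    exact Coprime.commute_of_translate (z := a * e * a⁻¹ * e⁻¹) (by group) (haD _ (hmod e he))
      (hac.coprime_dvd_right hz)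
  have hcyc : (Nat.card (zpowers a)).Coprime p := by rwa [Nat.card_zpowers]
  have haN : ∀ N : Subgroup G, N.Normal → zpowers a ≤ normalizer (N : Set G) := fun N hN => by
    rw [Subgroup.normalizer_eq_top_iff.mpr hN]
    exact le_top
  have haH := Coprime.le_centralizer_of_fix_pow_eq_one hp H (zpowers a) (hUp.to_le hHU) (haN H hHn)
    hcyc (fun x hx hxp => Subgroup.zpowers_le.2
      (Subgroup.mem_centralizer_singleton_iff.2 (haE x ⟨hx, hxp⟩).eq))
  have hφ := PGroup.aut_eq_one_of_centralizer_le hUp H₀ hH₀C (MulAut.conjNormal a)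
    (hac.coprime_dvd_left (orderOf_map_dvd _ a)) (fun h hh => Subtype.ext (by
      rw [MulAut.conjNormal_apply, mul_inv_eq_iff_eq_mul]
      exact (Subgroup.mem_centralizer_iff.1 (haH (Subgroup.mem_zpowers a)) _ ⟨h, hh, rfl⟩).symm))
  have haU : a ∈ centralizer (U : Set G) := Subgroup.mem_centralizer_iff.2 fun u hu => by
    have := congrArg Subtype.val (DFunLike.congr_fun hφ ⟨u, hu⟩)
    rw [MulAut.conjNormal_apply, MulAut.one_apply, mul_inv_eq_iff_eq_mul] at this
    exact this.symm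
  exact haU

variable [Group.IsSolvable G]

/-- The reduced case `O_{p'}(G) = 1`. -/
theorem sylow_le_pCore_of_rankTwo (hodd : Odd (Nat.card G)) (hO : pPrimeCore p G = ⊥) (S : Sylow p G)
    (hr : PRankLE p 2 (S : Subgroup G)) : (S : Subgroup G) ≤ pCore p G := by
  have hpp : p.Prime := Fact.out
  by_cases hd : p ∣ Nat.card G
  swap
  · rw [PCore.eq_bot_of_isPGroup_of_coprime S.2 ((hpp.coprime_iff_not_dvd.mpr fun h =>
      hd (h.trans (S : Subgroup G).card_subgroup_dvd_card)).symm)]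
    exact bot_le
  have hp := ne_two_of_odd_of_dvd hodd hd
  obtain ⟨D, hDn, V, hVn, hVp, hV2, hcent⟩ :=
    exists_rankTwo_section hp (pCore p G) PCore.isPGroup_pCore (pRankLE_of_le (PCore.pCore_le_sylow S) hr)
  set π := QuotientGroup.mk' D
  -- everything in `S` acts quadratically on it
  have hquad : ∀ x ∈ (S : Subgroup G), ⁅⁅V, zpowers (π x)⁆, zpowers (π x)⁆ = ⊥ := by
    intro x hx
    set T := (S : Subgroup G).map π with hT
    have hVT : V ≤ T := (PCore.le_pCore hVp).trans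
      (PCore.pCore_le_sylow (S.mapSurjective (QuotientGroup.mk'_surjective D)))
    have h := commutator_commutator_eq_bot_of_card_le (S.2.map π) (V.subgroupOf T)
      (by rw [Coprime.card_subgroupOf hVT]; exact hV2)
    have h' := congrArg (Subgroup.map T.subtype) h
    rw [Subgroup.map_commutator, Subgroup.map_commutator, Subgroup.map_bot,
      Subgroup.map_subgroupOf_eq_of_le hVT, ← MonoidHom.range_eq_map,
      Subgroup.range_subtype] at h'
    have hxT : zpowers (π x) ≤ T := Subgroup.zpowers_le.2 ⟨x, hx, rfl⟩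
    exact le_bot_iff.1 (h' ▸ Subgroup.commutator_mono (Subgroup.commutator_mono le_rfl hxT) hxT)
  set C := centralizer (V : Set (G ⧸ D))
  set σ := (QuotientGroup.mk' C).comp π with hσ
  set K := (pCore p ((G ⧸ D) ⧸ C)).comap σ with hK
  have hSK : (S : Subgroup G) ≤ K := fun x hx =>
    isPStableOn_of_odd (odd_quotient hodd D) hp _ hVp (π x) (hquad x hx)
  refine hSK.trans (PCore.le_pCore ?_)
  refine PComplement.isPrimePow_orderOf_of_forall fun a ha hac => ?_
  -- a p'-element of `K` centralizes `E / E'`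
  have h1 : σ a = 1 := by
    obtain ⟨k, hk⟩ := PCore.isPGroup_pCore (p := p) ⟨σ a, ha⟩
    exact orderOf_eq_one_iff.1 (Nat.eq_one_of_dvd_coprimes (hac.pow_right k) (orderOf_map_dvd σ a)
      (orderOf_dvd_of_pow_eq_one (congrArg Subtype.val hk)))
  have haU := hcent a hac ((QuotientGroup.eq_one_iff (π a)).1 h1)
  obtain ⟨k, hk⟩ := (PCore.isPGroup_pCore (p := p) (G := G)) ⟨a, centralizer_pCore_le hO haU⟩
  exact orderOf_eq_one_iff.1 (Nat.eq_one_of_dvd_coprimes (hac.pow_right k) dvd_rfl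
    (orderOf_dvd_of_pow_eq_one (congrArg Subtype.val hk)))

/-- A solvable group of odd order and p-rank at most 2 has p-length at most 1. -/
theorem sylow_le_pPrimePCore_of_rankTwo (hodd : Odd (Nat.card G)) (S : Sylow p G)
    (hr : PRankLE p 2 (S : Subgroup G)) : (S : Subgroup G) ≤ pPrimePCore p G := by
  set π := QuotientGroup.mk' (pPrimeCore p G) with hπ
  have hsurj : Function.Surjective π := QuotientGroup.mk'_surjective _
  have hinj : Function.Injective (π.subgroupMap (S : Subgroup G)) := by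
    rw [← MonoidHom.ker_eq_bot_iff, Subgroup.eq_bot_iff_forall]
    intro x hx
    have h1 : (x : G) ∈ (S : Subgroup G) ⊓ pPrimeCore p G :=
      ⟨x.2, (QuotientGroup.eq_one_iff (x : G)).1 (congrArg Subtype.val hx)⟩
    rw [(PCore.disjoint_of_isPGroup_of_coprime S.2 PCore.coprime_card_pPrimeCore).eq_bot,
      Subgroup.mem_bot] at h1
    exact Subtype.ext h1
  let e := MulEquiv.ofBijective _ ⟨hinj, π.subgroupMap_surjective (S : Subgroup G)⟩
  have h := sylow_le_pCore_of_rankTwo (odd_quotient hodd _) PCore.pPrimeCore_quotient_self_eq_bot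
    (S.mapSurjective hsurj) (by
      rw [Sylow.coe_mapSurjective]
      exact pRankLE_of_injective (f := e.symm.toMonoidHom) e.symm.injective hr)
  rw [Sylow.coe_mapSurjective] at h
  exact (Subgroup.map_le_iff_le_comap.1 h)

/-- `G = O_{p'}(G) N_G(S)`. -/
theorem sup_normalizer_sylow_of_rankTwo (hodd : Odd (Nat.card G)) (S : Sylow p G)
    (hr : PRankLE p 2 (S : Subgroup G)) :
    pPrimeCore p G ⊔ normalizer ((S : Subgroup G) : Set G) = ⊤ := by
  have hle := sylow_le_pPrimePCore_of_rankTwo hodd S hr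
  have h := Sylow.normalizer_sup_eq_top' S hle
  rw [eq_top_iff, ← h]
  refine sup_le le_sup_right ((pPrimePCore_le_sup_sylow S).trans (sup_le_sup_left ?_ _))
  exact Subgroup.le_normalizer

end Cfsg.Agent.OddOrder
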