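import Mathlib
import Cfsg.Prelude.Def_OddOrderLocal

/-! Small elementary abelian subgroups: extraction from a rank hypothesis, orders of joins of two lines. -/

namespace Cfsg.Agent.OddOrder

open Cfsg

universe u
variable {G : Type u} [Group G] [Finite G]

theorem exists_elementary_of_not_rankLE {k : ℕ} {Z : Subgroup G} (h : ¬ RankLE k Z) :
    ∃ p : ℕ, p.Prime ∧ ∃ E : Subgroup G, E ≤ Z ∧ Nat.card E = p ^ (k + 1) ∧
      (∀ a ∈ E, a ^ p = 1) ∧ ∀ a ∈ E, ∀ b ∈ E, Commute a b := by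
  simp only [RankLE, PRankLE, not_forall, not_le] at h
  obtain ⟨p, hp, A, hA, hAp, hlt⟩ := h
  have := Fact.mk hp
  have hAG : IsPGroup p A := fun a => ⟨1, Subtype.ext (by simpa using hAp a a.2)⟩
  obtain ⟨m, hm⟩ := hAG.exists_card_eq
  rw [hm] at hlt
  have hkm : k + 1 ≤ m := (Nat.pow_lt_pow_iff_right hp.one_lt).mp hlt
  obtain ⟨E, hE⟩ := Sylow.exists_subgroup_card_pow_prime p (G := A) (n := k + 1) (hm ▸ pow_dvd_pow p hkm)
  refine ⟨p, hp, (E.map A.subtype).map Z.subtype, Subgroup.map_subtype_le _, ?_, ?_, ?_⟩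
  · rw [Subgroup.card_map_of_injective Z.subtype_injective,
      Subgroup.card_map_of_injective A.subtype_injective, hE]
  · rintro _ ⟨_, ⟨a, -, rfl⟩, rfl⟩
    exact congrArg Subtype.val (hAp a a.2)
  · rintro _ ⟨_, ⟨a, -, rfl⟩, rfl⟩ _ ⟨_, ⟨b, -, rfl⟩, rfl⟩
    exact congrArg (fun t : A => ((t : Z) : G)) (hA.1.comm a b)

theorem card_zpowers_sup {p : ℕ} [hp : Fact p.Prime] {a b : G} (hab : Commute a b) (ha : a ^ p = 1)
    (ha1 : a ≠ 1) (hb : b ^ p = 1) (hnot : b ∉ Subgroup.zpowers a) :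
    Nat.card ↥(Subgroup.zpowers a ⊔ Subgroup.zpowers b) = p ^ 2 := by
  have hb1 : b ≠ 1 := fun h => hnot (h ▸ Subgroup.one_mem _)
  have hca : Nat.card (Subgroup.zpowers a) = p := (Nat.card_zpowers a).trans (orderOf_eq_prime ha ha1)
  have hcb : Nat.card (Subgroup.zpowers b) = p := (Nat.card_zpowers b).trans (orderOf_eq_prime hb hb1)
  have hd : Subgroup.zpowers a ⊓ Subgroup.zpowers b = ⊥ := by
    have hdvd : Nat.card ↥(Subgroup.zpowers a ⊓ Subgroup.zpowers b) ∣ p :=
      hcb ▸ Subgroup.card_dvd_of_le inf_le_right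
    rcases (Nat.dvd_prime hp.out).mp hdvd with h | h
    · exact Subgroup.card_eq_one.mp h
    · exfalso
      have e := Subgroup.eq_of_le_of_card_ge (inf_le_right : Subgroup.zpowers a ⊓ Subgroup.zpowers b ≤ _)
        (by rw [h, hcb])
      exact hnot (inf_le_left (b := Subgroup.zpowers b) (e.symm ▸ Subgroup.mem_zpowers b))
  let f : Subgroup.zpowers a × Subgroup.zpowers b →* G :=
    (Subgroup.zpowers a).subtype.noncommCoprod (Subgroup.zpowers b).subtype
      (fun x y => by
        obtain ⟨i, hi⟩ := Subgroup.mem_zpowers_iff.mp x.2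
        obtain ⟨j, hj⟩ := Subgroup.mem_zpowers_iff.mp y.2
        show Commute (x : G) (y : G)
        rw [← hi, ← hj]
        exact hab.zpow_zpow i j)
  have hf : Function.Injective f :=
    (MonoidHom.noncommCoprod_injective ..).mpr ⟨Subgroup.subtype_injective _, Subgroup.subtype_injective _, by
      rw [Subgroup.range_subtype, Subgroup.range_subtype, disjoint_iff]
      exact hd⟩
  have hr : f.range = Subgroup.zpowers a ⊔ Subgroup.zpowers b :=
    (MonoidHom.noncommCoprod_range ..).trans (by rw [Subgroup.range_subtype, Subgroup.range_subtype])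
  rw [← hr, ← Nat.card_congr (MonoidHom.ofInjective hf).toEquiv, Nat.card_prod, hca, hcb, sq]

end Cfsg.Agent.OddOrder
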