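import Mathlib

/-! A `p × p` group acting on a nontrivial `q`-group (`q ≠ p`) has a nonidentity element with a fixed point. -/

namespace Cfsg.Agent.OddOrder

open Finset in
/-- Abelian version: some nonidentity `g ∈ ⟨e, f⟩` of the shape `e f ^ i` or `f ^ j` fixes some `v ≠ 1`. -/
theorem exists_fixed_of_two_commuting_aux {V : Type*} [CommGroup V] {p : ℕ} [hp : Fact p.Prime]
    (φ ψ : MulAut V) (hc : Commute φ ψ) (hφ : φ ^ p = 1) (hψ : ψ ^ p = 1) {v : V} (hv : v ^ p ≠ 1) :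
    (∃ i : ℕ, ∃ w : V, w ≠ 1 ∧ (φ * ψ ^ i) w = w) ∨
      ∃ j : ℕ, 0 < j ∧ j < p ∧ ∃ w : V, w ≠ 1 ∧ (ψ ^ j) w = w := by
  by_contra hno
  push Not at hno
  obtain ⟨h1, h2⟩ := hno
  have norm : ∀ (χ : MulAut V), χ ^ p = 1 → (∀ w : V, w ≠ 1 → χ w ≠ w) →
      ∀ w : V, ∏ i ∈ range p, (χ ^ i) w = 1 := by
    intro χ hχ hfree w
    by_contra hne
    refine hfree _ hne ?_
    have hs := prod_range_succ' (fun i => (χ ^ i) w) p
    rw [prod_range_succ, hχ, pow_zero] at hs
    rw [map_prod]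
    calc ∏ i ∈ range p, χ ((χ ^ i) w) = ∏ i ∈ range p, (χ ^ (i + 1)) w := by
          refine prod_congr rfl fun i _ => ?_
          rw [pow_succ', MulAut.mul_apply]
      _ = _ := (mul_right_cancel hs).symm
  apply hv
  have hA : ∏ i ∈ range p, ∏ j ∈ range p, ((φ * ψ ^ i) ^ j) v = 1 := by
    refine prod_eq_one fun i _ => norm _ ?_ (h1 i) v
    rw [(hc.pow_right i).mul_pow, hφ, one_mul, ← pow_mul, mul_comm, pow_mul, hψ, one_pow]
  rw [prod_comm, prod_eq_single 0] at hA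
  · simpa using hA
  · intro j hj hj0
    have hjp : j < p := mem_range.mp hj
    have hj' : 0 < j := Nat.pos_of_ne_zero hj0
    calc ∏ i ∈ range p, ((φ * ψ ^ i) ^ j) v = ∏ i ∈ range p, ((ψ ^ j) ^ i) ((φ ^ j) v) := by
          refine prod_congr rfl fun i _ => ?_
          rw [(hc.pow_right i).mul_pow, ((hc.pow_pow j i).pow_right j).eq, ← MulAut.mul_apply]
          congr 2
          rw [← pow_mul, ← pow_mul, mul_comm j]
      _ = 1 := norm _ (by rw [← pow_mul, mul_comm, pow_mul, hψ, one_pow]) (h2 j hj' hjp) _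
  · intro h
    exact absurd (mem_range.mpr hp.out.pos) h

variable {G : Type*} [Group G] [Finite G]

/-- A `p × p` group normalizing a nontrivial `q`-group `Q`, `q ≠ p`: some nonidentity element of it
centralizes a nonidentity element of `Q`. -/
theorem exists_fixed_of_two_commuting {p q : ℕ} [Fact p.Prime] [Fact q.Prime] (hpq : p ≠ q)
    {Q : Subgroup G} (hQ : IsPGroup q Q) (hQ1 : Q ≠ ⊥) {e f : G} (hef : Commute e f) (he : e ^ p = 1)
    (hf : f ^ p = 1) (hf1 : f ≠ 1) (hnot : e ∉ Subgroup.zpowers f)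
    (heQ : e ∈ Subgroup.normalizer (Q : Set G)) (hfQ : f ∈ Subgroup.normalizer (Q : Set G)) :
    ∃ g ∈ Subgroup.zpowers e ⊔ Subgroup.zpowers f, g ≠ 1 ∧ ∃ x ∈ Q, x ≠ 1 ∧ Commute g x := by
  classical
  set Z : Subgroup G := (Subgroup.center Q).map Q.subtype with hZ
  have hZQ : Z ≤ Q := Subgroup.map_subtype_le _
  have hnZ : Subgroup.normalizer (Q : Set G) ≤ Subgroup.normalizer (Z : Set G) := by
    have one : ∀ g ∈ Subgroup.normalizer (Q : Set G), ∀ z ∈ Z, g * z * g⁻¹ ∈ Z := by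
      rintro g hg _ ⟨z, hz, rfl⟩
      exact ⟨Subgroup.normalizerMonoidHom Q ⟨g, hg⟩ z,
        (Subgroup.characteristic_iff_map_le.mp (inferInstance : (Subgroup.center Q).Characteristic)
          (Subgroup.normalizerMonoidHom Q ⟨g, hg⟩)) (Subgroup.mem_map_of_mem _ hz), rfl⟩
    intro g hg
    refine Subgroup.mem_normalizer_iff.mpr fun w => ⟨one g hg w, fun h => ?_⟩
    simpa [mul_assoc] using one g⁻¹ (Subgroup.inv_mem _ hg) _ h
  have hcomm : IsMulCommutative Z := inferInstance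
  haveI : Nontrivial Q := (Subgroup.nontrivial_iff_ne_bot Q).mpr hQ1
  obtain ⟨⟨z, hz⟩, hz1⟩ := @exists_ne _ hQ.center_nontrivial 1
  let v : Z := ⟨z, Subgroup.mem_map_of_mem _ hz⟩
  have hv : v ≠ 1 := by
    intro h
    have h' : ((z : Q) : G) = 1 := congrArg Subtype.val h
    exact hz1 (Subtype.ext (Subtype.ext h'))
  have hvp : v ^ p ≠ 1 := by
    intro h
    apply hv
    obtain ⟨k, hk⟩ := (hQ.to_le hZQ).exists_card_eq
    have h1 : (orderOf v).Coprime p :=
      (((Nat.coprime_primes Fact.out Fact.out).mpr hpq.symm).pow_left k).coprime_dvd_left (hk ▸ orderOf_dvd_natCard v)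
    exact orderOf_eq_one_iff.mp (Nat.eq_one_of_dvd_coprimes h1 dvd_rfl (orderOf_dvd_of_pow_eq_one h))
  letI : CommGroup Z := { (inferInstance : Group Z) with mul_comm := hcomm.1.comm }
  let ρ := Subgroup.normalizerMonoidHom Z
  let e' : Subgroup.normalizer (Z : Set G) := ⟨e, hnZ heQ⟩
  let f' : Subgroup.normalizer (Z : Set G) := ⟨f, hnZ hfQ⟩
  have hρ : ∀ (g : Subgroup.normalizer (Z : Set G)) (w : Z), ρ g w = w → Commute (g : G) w := by
    intro g w h
    exact mul_inv_eq_iff_eq_mul.mp (congrArg Subtype.val h)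
  have hQof : ∀ w : Z, w ≠ 1 → (w : G) ∈ Q ∧ (w : G) ≠ 1 := fun w hw =>
    ⟨hZQ w.2, fun h => hw (Subtype.ext h)⟩
  rcases exists_fixed_of_two_commuting_aux (p := p) (ρ e') (ρ f')
      ((show Commute e' f' from Subtype.ext hef.eq).map ρ)
      (by rw [← map_pow, show e' ^ p = 1 from Subtype.ext he, map_one])
      (by rw [← map_pow, show f' ^ p = 1 from Subtype.ext hf, map_one]) hvp with
    ⟨i, w, hw, h⟩ | ⟨j, hj0, hjp, w, hw, h⟩
  · rw [← map_pow, ← map_mul] at h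
    refine ⟨e * f ^ i, Subgroup.mul_mem_sup (Subgroup.mem_zpowers e) (Subgroup.pow_mem _ (Subgroup.mem_zpowers f) i),
      fun h1 => hnot ?_, w, (hQof w hw).1, (hQof w hw).2, hρ _ w h⟩
    rw [eq_inv_of_mul_eq_one_left h1]
    exact Subgroup.inv_mem _ (Subgroup.pow_mem _ (Subgroup.mem_zpowers f) i)
  · rw [← map_pow] at h
    refine ⟨f ^ j, Subgroup.mem_sup_right (Subgroup.pow_mem _ (Subgroup.mem_zpowers f) j), fun h1 => ?_,
      w, (hQof w hw).1, (hQof w hw).2, hρ _ w h⟩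
    have := Nat.le_of_dvd hj0 (orderOf_eq_prime hf hf1 ▸ orderOf_dvd_of_pow_eq_one h1)
    exact absurd hjp (not_lt.mpr this)

end Cfsg.Agent.OddOrder
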