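import Mathlib
import Cfsg.Prelude.Def_OddOrderLocal
import Cfsg.Agent.Lib.Coprime.FixedForce
import Cfsg.Agent.Lib.Coprime.OmegaOne
import Cfsg.Agent.Lib.PCore.HallHigman
import Cfsg.Agent.Lib.PCore.UpperSeries
import Cfsg.Agent.Lib.OddOrder.PiCore

/-! `A`-invariant `p'`-subgroups of a `p`-constrained group lie in `O_{p'}` when `A` is full in its centralizer. -/

namespace Cfsg.Agent.OddOrder

open Cfsg
open Subgroup (normalizer centralizer)
open scoped commutatorElement

universe u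
variable {X : Type u} [Group X] [Finite X] {p : ℕ}

theorem coprime_card_map {Y : Type*} [Group Y] (f : X →* Y) {Q : Subgroup X}
    (h : (Nat.card Q).Coprime p) : (Nat.card (Q.map f)).Coprime p :=
  h.coprime_dvd_left (Subgroup.card_map_dvd Q f)

variable [hpF : Fact p.Prime]

/-- A subgroup `Q` normalized by `A` commutes with `A ∩ P`, `P` a normal `p`-subgroup. -/
theorem inf_le_centralizer_of_coprime {P A Q : Subgroup X} [P.Normal] (hP : IsPGroup p P)
    (hQ : (Nat.card Q).Coprime p) (hAQ : A ≤ normalizer (Q : Set X)) :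
    A ⊓ P ≤ centralizer (Q : Set X) := by
  intro a ha
  rw [Subgroup.mem_centralizer_iff]
  intro q hq
  have h1 : ⁅q, a⁆ ∈ P ⊓ Q := by
    refine ⟨?_, ?_⟩
    · rw [commutatorElement_def]
      exact P.mul_mem (Subgroup.Normal.conj_mem inferInstance a ha.2 q) (P.inv_mem ha.2)
    · rw [commutatorElement_def, mul_assoc q, mul_assoc]
      exact Q.mul_mem hq ((Subgroup.mem_normalizer_iff.mp (hAQ ha.1) _).mp (Q.inv_mem hq))
  rw [(PCore.disjoint_of_isPGroup_of_coprime hP hQ).eq_bot, Subgroup.mem_bot] at h1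
  exact commutatorElement_eq_one_iff_mul_comm.mp h1

/-- The reduced form: `O_{p'}(X) = 1`. -/
theorem eq_bot_of_invariant (hC : centralizer (pCore p X : Set X) ≤ pCore p X) {A Q : Subgroup X}
    (hA : IsPGroup p A) (hQ : (Nat.card Q).Coprime p) (hAQ : A ≤ normalizer (Q : Set X))
    (hcl : p = 2 → ∀ S : Sylow p X, ⁅⁅(S : Subgroup X), (S : Subgroup X)⁆, (S : Subgroup X)⁆ = ⊥)
    (hfix : pCore p X ⊓ centralizer (A : Set X) ≤ centralizer (Q : Set X)) : Q = ⊥ := by
  have hV : IsPGroup p (pCore p X) := PCore.isPGroup_pCore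
  have hN : ∀ K : Subgroup X, K ≤ normalizer ((pCore p X : Subgroup X) : Set X) := fun K => by
    rw [Subgroup.normalizer_eq_top_iff.mpr inferInstance]
    exact le_top
  have hcent : Q ≤ centralizer (pCore p X : Set X) := by
    by_cases hp : p = 2
    · obtain ⟨S, hS⟩ := (hA.to_sup_of_normal_right hV).exists_le_sylow
      refine Coprime.le_centralizer_of_fix_fixed_class_two _ A Q hV hQ (hN A) (hN Q) hAQ ?_ hfix
      rw [← Subgroup.commutator_eq_bot_iff_le_centralizer]
      refine le_bot_iff.mp (le_trans ?_ (hcl hp S).le)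
      exact Subgroup.commutator_mono (Subgroup.commutator_mono (le_sup_right.trans hS) (le_sup_left.trans hS)) hS
    · exact Coprime.le_centralizer_of_fix_fixed hp _ A Q hV hA hQ (hN A) (hN Q) hAQ hfix
  exact PCore.eq_bot_of_isPGroup_of_coprime (hV.to_le (hcent.trans hC)) hQ

/-- A `p`-element of `C(Ā)` in a quotient by a normal `p'`-subgroup lifts to a `p`-element of `C(A)`. -/
theorem exists_lift_pElement (N : Subgroup X) [N.Normal] (hN : (Nat.card N).Coprime p) {A : Subgroup X}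
    (hA : IsPGroup p A) {y : X ⧸ N} (hy : y ∈ centralizer ((A.map (QuotientGroup.mk' N) : Subgroup (X ⧸ N)) : Set (X ⧸ N)))
    {k : ℕ} (hyk : y ^ p ^ k = 1) :
    ∃ x ∈ centralizer (A : Set X), IsPGroup p (Subgroup.zpowers x) ∧ x ^ p ^ k = 1 ∧ QuotientGroup.mk' N x = y := by
  rw [← PCore.map_centralizer_mk' N hN hA] at hy
  obtain ⟨x, hx, rfl⟩ := hy
  obtain ⟨i, m, hm, hord⟩ := Nat.exists_eq_pow_mul_and_not_dvd (orderOf_pos x).ne' p hpF.out.ne_one
  have hcop : (p ^ k).Coprime m := ((Nat.Prime.coprime_iff_not_dvd hpF.out).mpr hm).pow_left k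
  obtain ⟨l, hl⟩ : ∃ l, m * l ≡ 1 [MOD p ^ k] := by
    rcases Nat.lt_or_ge 1 (p ^ k) with h | h
    · obtain ⟨l, -, hl⟩ := Nat.exists_mul_mod_eq_one_of_coprime hcop.symm h
      exact ⟨l, by rw [Nat.ModEq, hl, Nat.mod_eq_of_lt h]⟩
    · refine ⟨0, ?_⟩
      have : p ^ k = 1 := le_antisymm h (Nat.one_le_pow _ _ hpF.out.pos)
      rw [this]
      exact Nat.modEq_one
  have hpi : (x ^ (m * l)) ^ p ^ i = 1 := by
    rw [← pow_mul, show m * l * p ^ i = p ^ i * m * l by ring, pow_mul, ← hord, pow_orderOf_eq_one, one_pow]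
  have hPG : IsPGroup p (Subgroup.zpowers (x ^ (m * l))) := by
    obtain ⟨j, -, hj⟩ := (Nat.dvd_prime_pow hpF.out).mp (orderOf_dvd_of_pow_eq_one hpi)
    exact IsPGroup.of_card (by rw [Nat.card_zpowers, hj])
  have hmod : QuotientGroup.mk' N (x ^ (m * l)) = QuotientGroup.mk' N x := by
    rw [map_pow]
    conv_rhs => rw [← pow_one (QuotientGroup.mk' N x)]
    refine pow_eq_pow_iff_modEq.mpr ?_
    exact hl.of_dvd (orderOf_dvd_of_pow_eq_one hyk)
  refine ⟨x ^ (m * l), Subgroup.pow_mem _ hx _, hPG, ?_, hmod⟩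
  have hmem : (x ^ (m * l)) ^ p ^ k ∈ N := by
    rw [← QuotientGroup.eq_one_iff]
    show QuotientGroup.mk' N ((x ^ (m * l)) ^ p ^ k) = 1
    rw [map_pow, hmod, hyk]
  have hp' : IsPGroup p (Subgroup.zpowers ((x ^ (m * l)) ^ p ^ k)) :=
    hPG.to_le (Subgroup.zpowers_le.mpr (Subgroup.pow_mem _ (Subgroup.mem_zpowers _) _))
  have := (PCore.disjoint_of_isPGroup_of_coprime hp' hN).le_bot ⟨Subgroup.mem_zpowers _, hmem⟩
  exact this

omit hpF in
theorem mem_pPrimeCore_of_map {Q : Subgroup X} (h : Q.map (QuotientGroup.mk' (pPrimeCore p X)) = ⊥) :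
    Q ≤ pPrimeCore p X := fun x hx => by
  rw [← QuotientGroup.eq_one_iff, ← Subgroup.mem_bot]
  exact h ▸ Subgroup.mem_map_of_mem _ hx

theorem class_quotient {N : Subgroup X} [N.Normal]
    (hcl : p = 2 → ∀ S : Sylow p X, ⁅⁅(S : Subgroup X), (S : Subgroup X)⁆, (S : Subgroup X)⁆ = ⊥) :
    p = 2 → ∀ S : Sylow p (X ⧸ N), ⁅⁅(S : Subgroup (X ⧸ N)), (S : Subgroup (X ⧸ N))⁆, (S : Subgroup (X ⧸ N))⁆ = ⊥ := by
  intro hp S
  obtain ⟨T, rfl⟩ := Sylow.mapSurjective_surjective (QuotientGroup.mk'_surjective N) p S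
  rw [Sylow.coe_mapSurjective, ← Subgroup.map_commutator, ← Subgroup.map_commutator, hcl hp T, Subgroup.map_bot]

/-- `A` contains all `p`-elements of its centralizer. -/
theorem le_pPrimeCore_of_full (hX : IsPConstrained p X) {A Q : Subgroup X} (hA : IsPGroup p A)
    (hQ : (Nat.card Q).Coprime p) (hAQ : A ≤ normalizer (Q : Set X))
    (hcl : p = 2 → ∀ S : Sylow p X, ⁅⁅(S : Subgroup X), (S : Subgroup X)⁆, (S : Subgroup X)⁆ = ⊥)
    (hfull : ∀ x ∈ centralizer (A : Set X), IsPGroup p (Subgroup.zpowers x) → x ∈ A) :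
    Q ≤ pPrimeCore p X := by
  apply mem_pPrimeCore_of_map
  set f := QuotientGroup.mk' (pPrimeCore p X)
  have hAQ' : A.map f ≤ normalizer ((Q.map f : Subgroup _) : Set _) :=
    (Subgroup.map_mono hAQ).trans (Subgroup.le_normalizer_map _)
  refine eq_bot_of_invariant (PCore.isPConstrained_iff.mp hX) (hA.map f) (coprime_card_map f hQ) hAQ'
    (class_quotient hcl) ?_
  intro y hy
  obtain ⟨k, hk⟩ := PCore.isPGroup_pCore ⟨y, hy.1⟩
  obtain ⟨x, hx, hxp, -, rfl⟩ := exists_lift_pElement _ PCore.coprime_card_pPrimeCore hA hy.2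
    (y := y) (k := k) (congrArg Subtype.val hk)
  exact inf_le_centralizer_of_coprime PCore.isPGroup_pCore (coprime_card_map f hQ) hAQ'
    ⟨Subgroup.mem_map_of_mem f (hfull x hx hxp), hy.1⟩

/-- `p` odd: it is enough that `A` contains the elements of order `p` of its centralizer. -/
theorem le_pPrimeCore_of_omega (hp : p ≠ 2) (hX : IsPConstrained p X) {A Q : Subgroup X} (hA : IsPGroup p A)
    (hQ : (Nat.card Q).Coprime p) (hAQ : A ≤ normalizer (Q : Set X))
    (hfull : ∀ x ∈ centralizer (A : Set X), x ^ p = 1 → x ∈ A) :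
    Q ≤ pPrimeCore p X := by
  apply mem_pPrimeCore_of_map
  set f := QuotientGroup.mk' (pPrimeCore p X)
  have hAQ' : A.map f ≤ normalizer ((Q.map f : Subgroup _) : Set _) :=
    (Subgroup.map_mono hAQ).trans (Subgroup.le_normalizer_map _)
  have hQ' : (Nat.card (Q.map f)).Coprime p := coprime_card_map f hQ
  have hV : IsPGroup p (pCore p (X ⧸ pPrimeCore p X)) := PCore.isPGroup_pCore
  have hN : ∀ K : Subgroup (X ⧸ pPrimeCore p X),
      K ≤ normalizer ((pCore p (X ⧸ pPrimeCore p X) : Subgroup _) : Set _) := fun K => by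
    rw [Subgroup.normalizer_eq_top_iff.mpr inferInstance]
    exact le_top
  refine PCore.eq_bot_of_isPGroup_of_coprime (hV.to_le
    ((Coprime.le_centralizer_of_fix_omega hp _ _ _ hV (hA.map f) hQ' (hN _) (hN _) hAQ' ?_).trans
      (PCore.isPConstrained_iff.mp hX))) hQ'
  intro y hy hyp
  obtain ⟨x, hx, -, hxp, rfl⟩ := exists_lift_pElement _ PCore.coprime_card_pPrimeCore hA hy.2
    (y := y) (k := 1) (by rwa [pow_one])
  rw [pow_one] at hxp
  exact inf_le_centralizer_of_coprime PCore.isPGroup_pCore hQ' hAQ'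
    ⟨Subgroup.mem_map_of_mem f (hfull x hx hxp), hy.1⟩

/-- Balance: in a `p`-constrained group a `p'`-subgroup centralized by the `p`-subgroup `B` and normalized
by `C(B)` lies in `O_{p'}`. -/
theorem le_pPrimeCore_of_centralized (hX : IsPConstrained p X) {B Q : Subgroup X} (hB : IsPGroup p B)
    (hQ : (Nat.card Q).Coprime p) (hQB : Q ≤ centralizer (B : Set X))
    (hn : centralizer (B : Set X) ≤ normalizer (Q : Set X)) : Q ≤ pPrimeCore p X := by
  apply mem_pPrimeCore_of_map
  set f := QuotientGroup.mk' (pPrimeCore p X)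
  have hQ' : (Nat.card (Q.map f)).Coprime p := coprime_card_map f hQ
  have hV : IsPGroup p (pCore p (X ⧸ pPrimeCore p X)) := PCore.isPGroup_pCore
  have hN : ∀ K : Subgroup (X ⧸ pPrimeCore p X),
      K ≤ normalizer ((pCore p (X ⧸ pPrimeCore p X) : Subgroup _) : Set _) := fun K => by
    rw [Subgroup.normalizer_eq_top_iff.mpr inferInstance]
    exact le_top
  refine PCore.eq_bot_of_isPGroup_of_coprime (hV.to_le
    ((Coprime.le_centralizer_of_pq (hB.map f) hQ' hV ?_ (hN _) (hN _) ?_).trans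
      (PCore.isPConstrained_iff.mp hX))) hQ'
  · rw [Subgroup.le_centralizer_iff]
    rintro _ ⟨x, hx, rfl⟩
    rw [Subgroup.mem_centralizer_iff]
    rintro _ ⟨b, hb, rfl⟩
    rw [← map_mul, ← map_mul, Subgroup.mem_centralizer_iff.mp (hQB hx) b hb]
  · intro y hy
    have hyc := hy.2
    rw [← PCore.map_centralizer_mk' _ PCore.coprime_card_pPrimeCore hB] at hyc
    have hyn : y ∈ normalizer ((Q.map f : Subgroup _) : Set _) :=
      ((Subgroup.map_mono hn).trans (Subgroup.le_normalizer_map _)) hyc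
    exact inf_le_centralizer_of_coprime (A := Subgroup.zpowers y) hV hQ'
      (Subgroup.zpowers_le.mpr hyn) ⟨Subgroup.mem_zpowers y, hy.1⟩

/-- `p`-length one: it is enough that `A` contains the elements of order `p` of its centralizer. -/
theorem le_pPrimeCore_of_pLength (hp : p ≠ 2) (hX : IsPConstrained p X) (hlen : PLengthLE p 1 X)
    {A Q : Subgroup X} (hA : IsPGroup p A)
    (hQ : (Nat.card Q).Coprime p) (hAQ : A ≤ normalizer (Q : Set X))
    (hfull : ∀ x ∈ centralizer (A : Set X), x ^ p = 1 → x ∈ A) :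
    Q ≤ pPrimeCore p X := by
  apply mem_pPrimeCore_of_map
  set f := QuotientGroup.mk' (pPrimeCore p X)
  have hAQ' : A.map f ≤ normalizer ((Q.map f : Subgroup _) : Set _) :=
    (Subgroup.map_mono hAQ).trans (Subgroup.le_normalizer_map _)
  have hQ' : (Nat.card (Q.map f)).Coprime p := coprime_card_map f hQ
  set P := pCore p (X ⧸ pPrimeCore p X)
  have hAP : A.map f ≤ P := by
    have h3 : (upperPSeries p X 3).1 = ⊤ := hlen
    have h2 : A ≤ pPrimePCore p X := by
      rw [← PCore.upperPSeries_two]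
      have hrel := PCore.relIndex_upperPSeries_of_even (p := p) (G := X) (n := 2) even_two
      rw [h3, Subgroup.relIndex_top_right] at hrel
      haveI : (upperPSeries p X 2).1.Normal := (upperPSeries p X 2).2
      intro a ha
      obtain ⟨j, hj⟩ := hA ⟨a, ha⟩
      have hj' : a ^ p ^ j = 1 := congrArg Subtype.val hj
      have h1 := pow_card_eq_one' (x := QuotientGroup.mk' (upperPSeries p X 2).1 a)
      rw [← Subgroup.index_eq_card] at h1
      have h2 : QuotientGroup.mk' (upperPSeries p X 2).1 a ^ p ^ j = 1 := by rw [← map_pow, hj', map_one]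
      have h3 := Nat.eq_one_of_dvd_coprimes (hrel.pow_right j) (orderOf_dvd_of_pow_eq_one h1)
        (orderOf_dvd_of_pow_eq_one h2)
      exact (QuotientGroup.eq_one_iff a).mp (orderOf_eq_one_iff.mp h3)
    exact (Subgroup.map_mono h2).trans_eq PCore.map_pPrimePCore
  have hQA : A.map f ≤ centralizer ((Q.map f : Subgroup _) : Set _) := fun a ha =>
    inf_le_centralizer_of_coprime PCore.isPGroup_pCore hQ' hAQ' ⟨ha, hAP ha⟩
  refine eq_bot_of_invariant (PCore.isPConstrained_iff.mp hX) (hA.map f) hQ' hAQ' (fun h => absurd h hp) ?_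
  rw [Subgroup.le_centralizer_iff]
  refine Coprime.le_centralizer_of_fix_pow_eq_one hp _ _ (PCore.isPGroup_pCore.to_le inf_le_left) ?_ hQ' ?_
  · intro q hq
    refine Subgroup.inf_normalizer_le_normalizer_inf ⟨?_, Subgroup.le_normalizer (Subgroup.le_centralizer_iff.mp hQA hq)⟩
    rw [Subgroup.normalizer_eq_top_iff.mpr inferInstance]
    exact Subgroup.mem_top q
  · intro y hy hyp q hq
    obtain ⟨x, hx, -, hxp, rfl⟩ := exists_lift_pElement _ PCore.coprime_card_pPrimeCore hA hy.2
      (y := y) (k := 1) (by rwa [pow_one])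
    rw [pow_one] at hxp
    exact Subgroup.mem_centralizer_singleton_iff.mpr
      (Subgroup.mem_centralizer_iff.mp (hQA (Subgroup.mem_map_of_mem f (hfull x hx hxp))) q hq)

end Cfsg.Agent.OddOrder
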