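import Mathlib
import Cfsg.Prelude.Def_OddOrderLocal
import Cfsg.Agent.Lib.OddOrder.Signalizer
import Cfsg.Agent.Lib.OddOrder.FixedPoint
import Cfsg.Agent.Lib.OddOrder.Elementary
import Cfsg.Agent.Lib.Coprime.Sylow
import Cfsg.Agent.Lib.Coprime.Generation

/-! The transitivity theorem for `p`-constrained `p`-locals. -/

namespace Cfsg.Agent.OddOrder

open Cfsg
open Subgroup (normalizer centralizer)
open scoped Pointwise commutatorElement

universe u
variable {G : Type u} [Group G] [Finite G] {p : ℕ} [hpF : Fact p.Prime]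

theorem coprime_of_isPiGrp_primesNotDvd {H : Subgroup G} (h : IsPiGrp (primesNotDvd p) H) :
    (Nat.card H).Coprime p := coprime_of_primesNotDvd h

theorem isPiGrp_primesNotDvd {H : Subgroup G} (h : (Nat.card H).Coprime p) : IsPiGrp (primesNotDvd p) H :=
  fun r hr hd => ⟨hr, fun hrp => hr.ne_one (Nat.eq_one_of_dvd_coprimes h hd hrp)⟩

/-- `A`-invariant `p'`-subgroups of a `p`-constrained subgroup `X` lie in `O_{p'}(X)`. -/
theorem le_piCoreOf_of_full {X A Y : Subgroup G} (hX : IsPConstrained p X) (hA : IsPGroup p A) (hAX : A ≤ X)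
    (hYX : Y ≤ X) (hY : (Nat.card Y).Coprime p) (hAY : A ≤ normalizer (Y : Set G))
    (hcl : p = 2 → ∀ S : Sylow p G, ⁅⁅(S : Subgroup G), (S : Subgroup G)⁆, (S : Subgroup G)⁆ = ⊥)
    (hfull : ∀ x ∈ centralizer (A : Set G), IsPGroup p (Subgroup.zpowers x) → x ∈ A) :
    Y ≤ piCoreOf (primesNotDvd p) X := by
  have h : Y.subgroupOf X ≤ pPrimeCore p X := by
    refine le_pPrimeCore_of_full hX (A := A.subgroupOf X) (hA.comap_of_injective X.subtype X.subtype_injective)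
      ?_ ?_ ?_ ?_
    · rwa [Nat.card_congr (Subgroup.subgroupOfEquivOfLe hYX).toEquiv]
    · intro a ha
      exact Subgroup.mem_normalizer_iff.mpr fun w => Subgroup.mem_normalizer_iff.mp (hAY ha) w
    · intro hp S
      obtain ⟨T, hT⟩ := (S.isPGroup'.map X.subtype).exists_le_sylow
      apply Subgroup.map_injective X.subtype_injective
      rw [Subgroup.map_bot, Subgroup.map_commutator, Subgroup.map_commutator, eq_bot_iff]
      exact (Subgroup.commutator_mono (Subgroup.commutator_mono hT hT) hT).trans (hcl hp T).le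
    · intro x hx hxp
      refine hfull x (Subgroup.mem_centralizer_iff.mpr fun a ha => ?_) ?_
      · exact congrArg Subtype.val
          (Subgroup.mem_centralizer_iff.mp hx ⟨a, hAX ha⟩ (show (⟨a, hAX ha⟩ : X) ∈ A.subgroupOf X from ha))
      · exact MonoidHom.map_zpowers X.subtype x ▸ hxp.map X.subtype
  refine (Subgroup.map_subgroupOf_eq_of_le hYX).ge.trans ((Subgroup.map_mono h).trans
    (le_piCoreOf (Subgroup.map_subtype_le _) ?_ (isPiGrp_primesNotDvd ?_)))
  · rw [← Subgroup.normal_subgroupOf_iff_le_normalizer (Subgroup.map_subtype_le _)]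
    have e : ((pPrimeCore p X).map X.subtype).subgroupOf X = pPrimeCore p X :=
      Subgroup.comap_map_eq_self_of_injective X.subtype_injective _
    rw [e]
    exact PCore.pPrimeCore_normal
  · rw [Subgroup.card_map_of_injective X.subtype_injective]
    exact PCore.coprime_card_pPrimeCore

theorem mem_maxInv_iff {q : ℕ} [Fact q.Prime] {E Y : Subgroup G} :
    Y ∈ invSubgroups ⊤ E {q} ↔ IsPGroup q Y ∧ E ≤ normalizer (Y : Set G) :=
  ⟨fun h => ⟨isPiGrp_singleton_iff.mp h.2.1, h.2.2⟩,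
    fun h => ⟨le_top, isPiGrp_singleton_iff.mpr h.1, h.2⟩⟩

theorem exists_maxInvSubgroup_ge {q : ℕ} [Fact q.Prime] {E Y : Subgroup G} (hY : IsPGroup q Y)
    (hYE : E ≤ normalizer (Y : Set G)) : ∃ Q ∈ maxInvSubgroups ⊤ E {q}, Y ≤ Q := by
  obtain ⟨Q, hQY, hQ⟩ := Set.Finite.exists_le_maximal (Set.toFinite (invSubgroups ⊤ E {q}))
    (mem_maxInv_iff.mpr ⟨hY, hYE⟩)
  exact ⟨Q, ⟨hQ.1, fun R hR hQR => le_antisymm (hQ.2 hR hQR) hQR⟩, hQY⟩

theorem smul_mem_maxInvSubgroups {q : ℕ} {E Q : Subgroup G} {g : G} (hg : g ∈ normalizer (E : Set G))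
    (hQ : Q ∈ maxInvSubgroups ⊤ E {q}) : MulAut.conj g • Q ∈ maxInvSubgroups ⊤ E {q} := by
  have mem : ∀ {h : G} {Y : Subgroup G}, h ∈ normalizer (E : Set G) → Y ∈ invSubgroups ⊤ E {q} →
      MulAut.conj h • Y ∈ invSubgroups ⊤ E {q} := by
    intro h Y hh hY
    refine ⟨le_top, fun r hr hd => hY.2.1 r hr ?_, ?_⟩
    · rwa [Coprime.card_conj_smul] at hd
    · conv_lhs => rw [← Coprime.conj_smul_eq_self_of_mem hh]
      exact (Subgroup.map_mono hY.2.2).trans (Subgroup.le_normalizer_map _)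
  refine ⟨mem hg hQ.1, fun R hR hle => ?_⟩
  have h := hQ.2 _ (mem (Subgroup.inv_mem _ hg) hR) (by
    have := Subgroup.pointwise_smul_le_pointwise_smul_iff (a := MulAut.conj g⁻¹).mpr hle
    rwa [Coprime.conj_smul_smul, inv_mul_cancel, map_one, one_smul] at this)
  rw [← h, Coprime.conj_smul_smul, mul_inv_cancel, map_one, one_smul]

/-- In a noncyclic `⟨e, f⟩` some nonidentity element centralizes something of `R` outside `D < R`. -/
theorem exists_centralizer_not_le {q : ℕ} [Fact q.Prime] (hqp : q ≠ p) {R D : Subgroup G} (hR : IsPGroup q R)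
    (hDR : D < R) {e f : G} (hef : Commute e f) (hep : e ^ p = 1) (hfp : f ^ p = 1) (hf1 : f ≠ 1)
    (hnot : e ∉ Subgroup.zpowers f) (heR : e ∈ normalizer (R : Set G)) (hfR : f ∈ normalizer (R : Set G)) :
    ∃ g ∈ Subgroup.zpowers e ⊔ Subgroup.zpowers f, g ≠ 1 ∧ ¬ R ⊓ centralizer ({g} : Set G) ≤ D := by
  set B := Subgroup.zpowers e ⊔ Subgroup.zpowers f with hB
  by_contra hno
  push Not at hno
  have hcard : Nat.card B = p ^ 2 := by
    rw [hB, sup_comm]
    exact card_zpowers_sup hef.symm hfp hf1 hep hnot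
  have hcomm : ∀ a ∈ B, ∀ b ∈ B, Commute a b := by
    have hle : B ≤ centralizer (B : Set G) := by
      have h1 : ∀ x ∈ ({e, f} : Set G), ∀ y ∈ ({e, f} : Set G), Commute x y := by
        intro x hx y hy
        rcases hx with rfl | rfl <;> rcases hy with rfl | rfl
        exacts [Commute.refl _, hef, hef.symm, Commute.refl _]
      have h2 : B = Subgroup.closure ({e, f} : Set G) := by
        rw [hB, Subgroup.zpowers_eq_closure, Subgroup.zpowers_eq_closure, ← Subgroup.closure_union]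
        rfl
      rw [h2, Subgroup.centralizer_closure, Subgroup.closure_le]
      exact fun x hx => Subgroup.mem_centralizer_iff.mpr fun y hy => (h1 y hy x hx).eq
    exact fun a ha b hb => Subgroup.mem_centralizer_iff.mp (hle hb) a ha
  haveI : IsMulCommutative B := ⟨⟨fun a b => Subtype.ext (hcomm a a.2 b b.2).eq⟩⟩
  have hnc : ¬ IsCyclic B := by
    intro hc
    obtain ⟨g, hg⟩ := hc.exists_generator
    have hgp : (g : G) ^ p = 1 := by
      obtain ⟨a, ha, b, hb, hab⟩ := (Coprime.mem_sup_iff_of_le_normalizer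
        (H := Subgroup.zpowers e) (N := Subgroup.zpowers f) (Subgroup.zpowers_le.mpr
          (Subgroup.centralizer_le_normalizer _ (Subgroup.mem_centralizer_iff.mpr fun y hy => by
            obtain ⟨i, rfl⟩ := hy
            exact (hef.symm.zpow_left i).eq)))).mp g.2
      rw [← hab, (hcomm a (le_sup_left (b := Subgroup.zpowers f) ha) b (le_sup_right (a := Subgroup.zpowers e) hb)).mul_pow]
      obtain ⟨i, rfl⟩ := ha
      obtain ⟨j, rfl⟩ := hb
      simp [← zpow_natCast, ← zpow_mul, mul_comm _ (p : ℤ)]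
      simp [zpow_mul, hep, hfp]
    have h1 : orderOf g = Nat.card B := orderOf_eq_card_of_forall_mem_zpowers hg
    have h2 : orderOf g ∣ p := orderOf_dvd_of_pow_eq_one (Subtype.ext (by simpa using hgp))
    rw [h1, hcard] at h2
    exact absurd (Nat.le_of_dvd hpF.out.pos h2) (not_le.mpr (lt_self_pow₀ hpF.out.one_lt (by norm_num)))
  have hBR : B ≤ normalizer (R : Set G) := sup_le (Subgroup.zpowers_le.mpr heR) (Subgroup.zpowers_le.mpr hfR)
  obtain ⟨n, hn⟩ := hR.exists_card_eq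
  have hcop : (Nat.card B).Coprime (Nat.card R) := by
    rw [hcard, hn]
    exact Nat.coprime_pow_primes _ _ hpF.out Fact.out hqp.symm
  exact hDR.ne (Coprime.eq_of_forall_centralizer_le hnc hBR hcop hDR.le fun a ha ha1 => hno a ha ha1)

/-- In an elementary `E₀` of order `p ^ 3` some order-`p ^ 2` subgroup has centralizer not inside `D`. -/
theorem exists_plane_not_le {q : ℕ} [Fact q.Prime] (hqp : q ≠ p) {E₀ R D : Subgroup G}
    (hEc : Nat.card E₀ = p ^ (2 + 1)) (hEp : ∀ a ∈ E₀, a ^ p = 1) (hEcomm : ∀ a ∈ E₀, ∀ b ∈ E₀, Commute a b)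
    (hR : IsPGroup q R) (hDR : D < R) (hER : E₀ ≤ normalizer (R : Set G)) :
    ∃ B ≤ E₀, Nat.card B = p ^ 2 ∧ ¬ R ⊓ centralizer (B : Set G) ≤ D := by
  have hbig : ∀ S : Subgroup G, Nat.card S < p ^ (2 + 1) → ∃ a ∈ E₀, a ∉ S := by
    intro S hS
    by_contra h
    push Not at h
    exact absurd ((Subgroup.card_le_of_le (show E₀ ≤ S from h))) (by rw [hEc]; omega)
  have hp3 : ∀ a : G, a ∈ E₀ → Nat.card (Subgroup.zpowers a) < p ^ (2 + 1) := by
    intro a ha
    rw [Nat.card_zpowers]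
    calc orderOf a ≤ p := Nat.le_of_dvd hpF.out.pos (orderOf_dvd_of_pow_eq_one (hEp a ha))
      _ < p ^ (2 + 1) := lt_self_pow₀ hpF.out.one_lt (by norm_num)
  obtain ⟨f₀, hf₀, hf₀1⟩ := hbig ⊥ (by rw [Subgroup.card_bot]; exact Nat.one_lt_pow (by norm_num) hpF.out.one_lt)
  rw [Subgroup.mem_bot] at hf₀1
  obtain ⟨e₀, he₀, hne₀⟩ := hbig _ (hp3 f₀ hf₀)
  obtain ⟨b, hb, hb1, hbD⟩ := exists_centralizer_not_le hqp hR hDR (hEcomm e₀ he₀ f₀ hf₀) (hEp e₀ he₀) (hEp f₀ hf₀)
    hf₀1 hne₀ (hER he₀) (hER hf₀)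
  have hbE : b ∈ E₀ := sup_le (Subgroup.zpowers_le.mpr he₀) (Subgroup.zpowers_le.mpr hf₀) hb
  obtain ⟨f, hf, hfb⟩ := hbig _ (hp3 b hbE)
  have hf1 : f ≠ 1 := fun h => hfb (h ▸ Subgroup.one_mem _)
  have hcard := card_zpowers_sup (p := p) (hEcomm b hbE f hf) (hEp b hbE) hb1 (hEp f hf) hfb
  obtain ⟨e, he, heb⟩ := hbig _ (hcard.trans_lt (Nat.pow_lt_pow_right hpF.out.one_lt (by norm_num)))
  set R' : Subgroup G := R ⊓ centralizer ({b} : Set G) with hR'
  have hlt : R' ⊓ D < R' := lt_of_le_of_ne inf_le_left fun h => hbD (inf_eq_left.mp h)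
  have hnorm : ∀ a ∈ E₀, a ∈ normalizer (R' : Set G) := fun a ha =>
    Subgroup.inf_normalizer_le_normalizer_inf ⟨hER ha, Subgroup.le_normalizer
      (Subgroup.mem_centralizer_singleton_iff.mpr (hEcomm a ha b hbE).eq)⟩
  have hef : e ∉ Subgroup.zpowers f := fun h => heb (Subgroup.mem_sup_right h)
  obtain ⟨d, hd, hd1, hdD⟩ := exists_centralizer_not_le hqp (hR.to_le inf_le_left) hlt
    (hEcomm e he f hf) (hEp e he) (hEp f hf) hf1 hef (hnorm e he) (hnorm f hf)
  have hdE : d ∈ E₀ := sup_le (Subgroup.zpowers_le.mpr he) (Subgroup.zpowers_le.mpr hf) hd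
  have hdb : d ∉ Subgroup.zpowers b := by
    intro h
    have hzd : Subgroup.zpowers d = Subgroup.zpowers b := Subgroup.eq_of_le_of_card_ge (Subgroup.zpowers_le.mpr h)
      (by rw [Nat.card_zpowers, Nat.card_zpowers, orderOf_eq_prime (hEp d hdE) hd1, orderOf_eq_prime (hEp b hbE) hb1])
    have hle : Subgroup.zpowers b ⊔ Subgroup.zpowers f ≤ Subgroup.zpowers f ⊔ Subgroup.zpowers e :=
      sup_le (hzd ▸ Subgroup.zpowers_le.mpr (sup_comm (Subgroup.zpowers e) _ ▸ hd)) le_sup_left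
    have heq := Subgroup.eq_of_le_of_card_ge hle (by
      rw [hcard, card_zpowers_sup (p := p) (hEcomm f hf e he) (hEp f hf) hf1 (hEp e he) hef])
    exact heb (heq.symm ▸ Subgroup.mem_sup_right (Subgroup.mem_zpowers e))
  refine ⟨_, sup_le (Subgroup.zpowers_le.mpr hbE) (Subgroup.zpowers_le.mpr hdE),
    card_zpowers_sup (p := p) (hEcomm b hbE d hdE) (hEp b hbE) hb1 (hEp d hdE) hdb, fun hle => hdD ?_⟩
  intro x hx
  refine ⟨hx.1, hle ⟨hx.1.1, ?_⟩⟩
  have : Subgroup.zpowers b ⊔ Subgroup.zpowers d ≤ centralizer ({x} : Set G) :=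
    sup_le (Subgroup.zpowers_le.mpr (Subgroup.mem_centralizer_singleton_iff.mpr
        (Subgroup.mem_centralizer_singleton_iff.mp hx.1.2).symm))
      (Subgroup.zpowers_le.mpr (Subgroup.mem_centralizer_singleton_iff.mpr
        (Subgroup.mem_centralizer_singleton_iff.mp hx.2).symm))
  exact Subgroup.mem_centralizer_iff.mpr fun g hg => Subgroup.mem_centralizer_singleton_iff.mp (this hg)

/-- **Transitivity theorem**: with `p`-constrained `p`-locals, two maximal `E`-invariant `q`-subgroups are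
conjugate by an element of `O_{p'}(C(E))`. -/
theorem transitivity
    (hloc : ∀ T : Subgroup G, IsPGroup p T → T ≠ ⊥ → IsPConstrained p (normalizer (T : Set G) : Subgroup G))
    (hcl : p = 2 → ∀ S : Sylow p G, ⁅⁅(S : Subgroup G), (S : Subgroup G)⁆, (S : Subgroup G)⁆ = ⊥)
    {E : Subgroup G} (hEp : IsPGroup p E) [hEc : IsMulCommutative E] {E₀ : Subgroup G} (hE₀ : E₀ ≤ E)
    (hE₀c : Nat.card E₀ = p ^ (2 + 1)) (hE₀p : ∀ a ∈ E₀, a ^ p = 1)
    (hfull : ∀ x ∈ centralizer (E : Set G), IsPGroup p (Subgroup.zpowers x) → x ∈ E)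
    {q : ℕ} [hqF : Fact q.Prime] (hqp : q ≠ p) {Q₁ Q₂ : Subgroup G}
    (h₁ : Q₁ ∈ maxInvSubgroups ⊤ E {q}) (h₂ : Q₂ ∈ maxInvSubgroups ⊤ E {q}) :
    ∃ k ∈ piCoreOf (primesNotDvd p) (centralizer (E : Set G)), Q₂ = MulAut.conj k • Q₁ := by
  induction hn : Nat.card G - Nat.card ↥(Q₁ ⊓ Q₂) using Nat.strong_induction_on generalizing Q₁ Q₂ with
  | _ n ih =>
  subst hn
  set D := Q₁ ⊓ Q₂ with hD
  rcases eq_or_lt_of_le (inf_le_left : D ≤ Q₁) with h | h1
  · rw [h₁.2 Q₂ h₂.1 (h ▸ inf_le_right)]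
    exact ⟨1, Subgroup.one_mem _, by rw [map_one, one_smul]⟩
  rcases eq_or_lt_of_le (inf_le_right : D ≤ Q₂) with h | h2
  · rw [h₂.2 Q₁ h₁.1 (h ▸ inf_le_left)]
    exact ⟨1, Subgroup.one_mem _, by rw [map_one, one_smul]⟩
  have hEcomm : ∀ a ∈ E, ∀ b ∈ E, Commute a b := fun a ha b hb =>
    congrArg Subtype.val (hEc.1.comm (⟨a, ha⟩ : E) ⟨b, hb⟩)
  have hQ₁ := mem_maxInv_iff.mp h₁.1
  have hQ₂ := mem_maxInv_iff.mp h₂.1
  set H := normalizer (D : Set G) with hH
  have hED : E ≤ normalizer (D : Set G) := Coprime.le_normalizer_inf_of_le hQ₁.2 hQ₂.2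
  have hEH : E ≤ normalizer ((H : Subgroup G) : Set G) := hED.trans Subgroup.le_normalizer
  have grow : ∀ {Q : Subgroup G}, IsPGroup q Q → D < Q → D < Q ⊓ H := by
    intro Q hQ hlt
    refine lt_of_le_of_ne (le_inf hlt.le Subgroup.le_normalizer) fun heq => ?_
    have hlt' : D.subgroupOf Q < ⊤ := by
      rw [lt_top_iff_ne_top]
      exact fun he => hlt.not_ge (Subgroup.subgroupOf_eq_top.mp he)
    haveI := hQ.isNilpotent
    obtain ⟨x, hx, hxD⟩ := SetLike.exists_of_lt (Group.normalizerCondition_of_isNilpotent _ hlt')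
    apply hxD
    rw [Subgroup.mem_subgroupOf, heq]
    refine ⟨x.2, Subgroup.mem_normalizer_iff.mpr fun d => ?_⟩
    have hx' := Subgroup.mem_normalizer_iff.mp hx
    constructor
    · intro hd
      exact (hx' ⟨d, hlt.le hd⟩).mp hd
    · intro hd
      have hdQ : d ∈ Q := by
        have := Q.mul_mem (Q.mul_mem (Q.inv_mem x.2) (hlt.le hd)) x.2
        simpa [mul_assoc] using this
      exact (hx' ⟨d, hdQ⟩).mpr hd
  have g1 := grow hQ₁.1 h1
  have g2 := grow hQ₂.1 h2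
  have hE₀' : ∀ a ∈ E₀, ∀ b ∈ E₀, Commute a b := fun a ha b hb => hEcomm a (hE₀ ha) b (hE₀ hb)
  obtain ⟨B₁, hB₁E, hB₁, hB₁D⟩ := exists_plane_not_le hqp hE₀c hE₀p hE₀' (hQ₁.1.to_le inf_le_left) g1
    (hE₀.trans (Coprime.le_normalizer_inf_of_le hQ₁.2 hEH))
  obtain ⟨B₂, hB₂E, hB₂, hB₂D⟩ := exists_plane_not_le hqp hE₀c hE₀p hE₀' (hQ₂.1.to_le inf_le_left) g2
    (hE₀.trans (Coprime.le_normalizer_inf_of_le hQ₂.2 hEH))
  have hne : B₁ ⊓ B₂ ≠ ⊥ := by
    intro h
    have hB : B₁ ≤ normalizer (B₂ : Set G) :=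
      (fun a ha => Subgroup.centralizer_le_normalizer _
        (Subgroup.mem_centralizer_iff.mpr fun b hb => (hE₀' a (hB₁E ha) b (hB₂E hb)).eq.symm))
    have e := Coprime.card_sup_of_le_normalizer hB h
    have h' := Subgroup.card_le_of_le (sup_le hB₁E hB₂E)
    rw [e, hB₁, hB₂, hE₀c, ← pow_add] at h'
    exact absurd h' (not_le.mpr (Nat.pow_lt_pow_right hpF.out.one_lt (by norm_num)))
  obtain ⟨b, hb, hb1⟩ := (B₁ ⊓ B₂).bot_or_exists_ne_one.resolve_left hne
  have hbE : b ∈ E := hE₀ (hB₁E hb.1)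
  set T := Subgroup.zpowers b with hT
  set X := normalizer (T : Set G) with hX
  have hcbX : centralizer ({b} : Set G) ≤ X := by
    rw [hX, hT, Subgroup.zpowers_eq_closure]
    exact (le_of_eq (Subgroup.centralizer_closure _).symm).trans (Subgroup.centralizer_le_normalizer _)
  have hEb : E ≤ centralizer ({b} : Set G) := fun a ha =>
    Subgroup.mem_centralizer_singleton_iff.mpr (hEcomm a ha b hbE).eq
  have hEX : E ≤ X := hEb.trans hcbX
  have hXc : IsPConstrained p X :=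
    hloc T (hEp.to_le (Subgroup.zpowers_le.mpr hbE)) (by rwa [hT, Ne, Subgroup.zpowers_eq_bot])
  set W := piCoreOf (primesNotDvd p) X ⊓ H with hW
  have hEW : E ≤ normalizer (W : Set G) :=
    Coprime.le_normalizer_inf_of_le (hEX.trans (le_normalizer_piCoreOf _ _)) hEH
  have hWcop : (Nat.card W).Coprime p :=
    coprime_of_isPiGrp_primesNotDvd ((isPiGrp_piCoreOf _ X).mono inf_le_left)
  have hcop : (Nat.card E).Coprime (Nat.card W) := by
    obtain ⟨k, hk⟩ := hEp.exists_card_eq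
    rw [hk]
    exact hWcop.symm.pow_left k
  have hs : Group.IsSolvable E ∨ Group.IsSolvable W := Or.inl (haveI := hEp.isNilpotent; inferInstance)
  have part : ∀ {Q B : Subgroup G}, IsPGroup q Q → E ≤ normalizer (Q : Set G) → b ∈ B →
      ¬ (Q ⊓ H) ⊓ centralizer (B : Set G) ≤ D →
      ∃ U : Subgroup G, U ≤ Q ∧ U ≤ W ∧ IsPGroup q U ∧ E ≤ normalizer (U : Set G) ∧ ¬ U ≤ D := by
    intro Q B hQ hQE hbB hnot
    refine ⟨(Q ⊓ H) ⊓ centralizer ({b} : Set G), inf_le_left.trans inf_le_left, ?_, ?_, ?_, ?_⟩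
    · refine le_inf (le_piCoreOf_of_full hXc hEp hEX (inf_le_right.trans hcbX) ?_ ?_ hcl hfull)
        (inf_le_left.trans inf_le_right)
      · obtain ⟨k, hk⟩ := (hQ.to_le ((inf_le_left : (Q ⊓ H) ⊓ centralizer ({b} : Set G) ≤ _).trans inf_le_left)).exists_card_eq
        rw [hk]
        exact ((Nat.coprime_primes hqF.out hpF.out).mpr hqp).pow_left k
      · exact Coprime.le_normalizer_inf_of_le (Coprime.le_normalizer_inf_of_le hQE hEH) (hEb.trans Subgroup.le_normalizer)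
    · exact hQ.to_le (inf_le_left.trans inf_le_left)
    · exact Coprime.le_normalizer_inf_of_le (Coprime.le_normalizer_inf_of_le hQE hEH) (hEb.trans Subgroup.le_normalizer)
    · exact fun h => hnot ((le_inf inf_le_left (inf_le_right.trans
        (Subgroup.centralizer_le (Set.singleton_subset_iff.mpr hbB)))).trans h)
  obtain ⟨U₁, hU₁Q, hU₁W, hU₁, hU₁E, hU₁D⟩ := part hQ₁.1 hQ₁.2 hb.1 hB₁D
  obtain ⟨U₂, hU₂Q, hU₂W, hU₂, hU₂E, hU₂D⟩ := part hQ₂.1 hQ₂.2 hb.2 hB₂D
  obtain ⟨S₁, hS₁, hS₁E⟩ := Coprime.exists_invariant_sylow_ge hEW hcop hs hU₁W hU₁ hU₁E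
  obtain ⟨S₂, hS₂, hS₂E⟩ := Coprime.exists_invariant_sylow_ge hEW hcop hs hU₂W hU₂ hU₂E
  obtain ⟨c, hcE, hc⟩ := Coprime.exists_centralizer_smul_sylow hEW hcop hs S₁ S₂ hS₁E hS₂E
  have hck : (c : G) ∈ piCoreOf (primesNotDvd p) (centralizer (E : Set G)) := by
    refine le_piCoreOf (Y := piCoreOf (primesNotDvd p) X ⊓ centralizer (E : Set G)) inf_le_right ?_
      ((isPiGrp_piCoreOf _ X).mono inf_le_left) ⟨c.2.1, hcE⟩
    intro g hg
    exact Subgroup.inf_normalizer_le_normalizer_inf ⟨le_normalizer_piCoreOf _ _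
      (hcbX (Subgroup.centralizer_le (Set.singleton_subset_iff.mpr hbE) hg)), Subgroup.le_normalizer hg⟩
  set S₁' := (S₁ : Subgroup W).map W.subtype with hS₁'
  have hSH : S₁' ≤ H := (Subgroup.map_subtype_le _).trans inf_le_right
  obtain ⟨Q, hQ, hQS⟩ := exists_maxInvSubgroup_ge (E := E) (Y := S₁' ⊔ D)
    ((S₁.isPGroup'.map W.subtype).to_sup_of_normal_right' (hQ₁.1.to_le inf_le_left) hSH)
    (fun a ha => by
      rw [Subgroup.mem_normalizer_iff_map_conj_eq, Subgroup.map_sup,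
        Subgroup.mem_normalizer_iff_map_conj_eq.mp (hS₁E ha),
        Subgroup.mem_normalizer_iff_map_conj_eq.mp (hED ha)])
  set Q' := MulAut.conj (c : G) • Q with hQ'def
  have hQ' : Q' ∈ maxInvSubgroups ⊤ E {q} :=
    smul_mem_maxInvSubgroups (Subgroup.centralizer_le_normalizer _ hcE) hQ
  have hS₂Q : (S₂ : Subgroup W).map W.subtype ≤ Q' := by
    rw [← hc, Sylow.coe_subgroup_smul, Coprime.map_conj_smul, Subgroup.coe_subtype]
    exact Subgroup.pointwise_smul_le_pointwise_smul_iff.mpr (le_sup_left.trans hQS)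
  have hDQ' : D ≤ Q' := by
    rw [← Coprime.conj_smul_eq_self_of_mem (show (c : G) ∈ H from c.2.2)]
    exact Subgroup.pointwise_smul_le_pointwise_smul_iff.mpr (le_sup_right.trans hQS)
  have step : ∀ {R R' : Subgroup G}, R ∈ maxInvSubgroups ⊤ E {q} → R' ∈ maxInvSubgroups ⊤ E {q} →
      D < R ⊓ R' → ∃ k ∈ piCoreOf (primesNotDvd p) (centralizer (E : Set G)), R' = MulAut.conj k • R := by
    intro R R' hR hR' hlt
    refine ih _ ?_ hR hR' rfl
    have hc : Nat.card D < Nat.card ↥(R ⊓ R') :=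
      lt_of_le_of_ne (Subgroup.card_le_of_le hlt.le) fun he =>
        hlt.ne (Subgroup.eq_of_le_of_card_ge hlt.le he.ge)
    have hG' : Nat.card ↥(R ⊓ R') ≤ Nat.card G := Subgroup.card_le_card_group _
    omega
  obtain ⟨k, hk, hk'⟩ := step h₁ hQ (lt_of_le_of_ne (le_inf inf_le_left (le_sup_right.trans hQS))
    (fun h => hU₁D ((le_inf hU₁Q (hS₁.trans (le_sup_left.trans hQS))).trans h.ge)))
  obtain ⟨l, hl, hl'⟩ := step hQ' h₂ (lt_of_le_of_ne (le_inf hDQ' inf_le_right)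
    (fun h => hU₂D ((le_inf (hS₂.trans hS₂Q) hU₂Q).trans h.ge)))
  exact ⟨l * c * k, Subgroup.mul_mem _ (Subgroup.mul_mem _ hl hck) hk, by
    rw [hl', hQ'def, hk', Coprime.conj_smul_smul, Coprime.conj_smul_smul]⟩

end Cfsg.Agent.OddOrder
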