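import Cfsg.Agent.Lib.OddOrder.Transitivity
import Cfsg.Agent.Lib.OddOrder.TransitivityGeneral
import Cfsg.Agent.Lib.OddOrder.RankTwo
import Cfsg.Agent.Lib.PCore.PSolvable
import Cfsg.Agent.Lib.Replacement.Constrained
import Cfsg.Agent.Lib.PGroup.Thompson

/-!
# Maximal subgroups of a minimal simple group of odd order: tools

* `exists_coatom_ge`, `normalizer_ne_top_of_pgroup`, `normalizer_eq_of_normal`;
* `core p H = O_{p'}(H)` inside `G`, `le_core_of_sylow_invariant`;
* `zjOf_ne_bot`, `normalizer_le_normalizer_zj`, `le_of_zj`, `le_of_rankTwo`.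
-/

set_option linter.style.haveILetI false
set_option linter.unusedSectionVars false

namespace Cfsg.Agent.OddOrder

open Cfsg
open Subgroup (centralizer normalizer)
open scoped Pointwise

universe u
variable {G : Type u} [Group G] [Finite G] {p : ℕ}

theorem exists_coatom_ge {X : Subgroup G} (hX : X ≠ ⊤) : ∃ L : Subgroup G, IsCoatom L ∧ X ≤ L :=
  (eq_top_or_exists_le_coatom X).resolve_left hX

theorem eq_of_coatom_le {L M : Subgroup G} (hL : IsCoatom L) (hM : IsCoatom M) (h : L ≤ M) : L = M :=
  (hL.le_iff.1 h).resolve_left hM.1 |>.symm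

/-- A proper subgroup all of whose maximal overgroups equal `M` lies in `M`. -/
theorem le_of_forall_coatom {X M : Subgroup G} (hX : X ≠ ⊤)
    (h : ∀ L : Subgroup G, IsCoatom L → X ≤ L → L = M) : X ≤ M := by
  obtain ⟨L, hL, hXL⟩ := exists_coatom_ge hX
  exact h L hL hXL ▸ hXL

theorem ne_top_of_isPGroup (hG : IsMinSimpleOddOrder G) [Fact p.Prime] {P : Subgroup G}
    (hP : IsPGroup p P) : P ≠ ⊤ := by
  rintro rfl
  haveI := hG.2.1
  haveI : Nontrivial G := IsSimpleGroup.toNontrivial
  haveI := ((PCore.isPGroup_top_iff).1 hP).center_nontrivial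
  rcases hG.2.1.eq_bot_or_eq_top_of_normal (Subgroup.center G) inferInstance with h | h
  · exact (Subgroup.nontrivial_iff_ne_bot _).1 inferInstance h
  · exact hG.2.2.1 ⟨⟨fun a c => Subgroup.mem_center_iff.1 (h.symm ▸ Subgroup.mem_top c) a⟩⟩

theorem normalizer_ne_top_of_pgroup (hG : IsMinSimpleOddOrder G) [Fact p.Prime] {P : Subgroup G}
    (hP : IsPGroup p P) (h1 : P ≠ ⊥) : normalizer (P : Set G) ≠ ⊤ :=
  normalizer_ne_top_of_minSimple hG h1 (ne_top_of_isPGroup hG hP)

theorem isSolvable_of_coatom (hG : IsMinSimpleOddOrder G) {M : Subgroup G} (hM : IsCoatom M) :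
    Group.IsSolvable M := hG.2.2.2 M hM.1

/-- A nontrivial proper normal subgroup of `M` has normalizer `M`. -/
theorem normalizer_eq_of_normal (hG : IsMinSimpleOddOrder G) {M X : Subgroup G} (hM : IsCoatom M)
    (hXM : X ≤ M) (hn : M ≤ normalizer (X : Set G)) (h1 : X ≠ ⊥) : normalizer (X : Set G) = M :=
  (hM.le_iff.1 hn).resolve_left
    (normalizer_ne_top_of_minSimple hG h1 fun h => hM.1 (top_unique (h ▸ hXM)))

/-- `O_{p'}(H)` as a subgroup of `G`. -/
def core (p : ℕ) (H : Subgroup G) : Subgroup G := (pPrimeCore p H).map H.subtype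

theorem core_le (H : Subgroup G) : core p H ≤ H := Subgroup.map_subtype_le _

theorem coprime_card_core (H : Subgroup G) : (Nat.card (core p H)).Coprime p := by
  rw [core, Subgroup.card_map_of_injective H.subtype_injective]
  exact PCore.coprime_card_pPrimeCore

theorem le_normalizer_core (H : Subgroup G) : H ≤ normalizer (core p H : Set G) := by
  rw [← Subgroup.normal_subgroupOf_iff_le_normalizer (core_le H)]
  have e : (core p H).subgroupOf H = pPrimeCore p H :=
    Subgroup.comap_map_eq_self_of_injective H.subtype_injective _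
  rw [e]
  exact PCore.pPrimeCore_normal

variable [hpF : Fact p.Prime]

theorem ne_two_of_minSimple (hG : IsMinSimpleOddOrder G) {H : Subgroup G} (hH : IsPGroup p H) (h1 : H ≠ ⊥) :
    p ≠ 2 := by
  obtain ⟨k, hk⟩ := hH.exists_card_eq
  have hk0 : k ≠ 0 := fun h => h1 (Subgroup.card_eq_one.1 (by rw [hk, h, pow_zero]))
  exact ne_two_of_odd_of_dvd hG.1 (((dvd_pow_self p hk0).trans hk.symm.dvd).trans H.card_subgroup_dvd_card)

/-- A `p'`-subgroup of `M` normalised by a Sylow `p`-subgroup of `M` lies in `O_{p'}(M)`. -/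
theorem le_core_of_sylow_invariant {M : Subgroup G} [Group.IsSolvable M] (hp : p ≠ 2) (S : Sylow p M)
    {Y : Subgroup G} (hYM : Y ≤ M) (hY : (Nat.card Y).Coprime p)
    (hn : (S : Subgroup M).map M.subtype ≤ normalizer (Y : Set G)) : Y ≤ core p M := by
  have h : Y.subgroupOf M ≤ pPrimeCore p M := by
    refine le_pPrimeCore_of_full (PCore.isPConstrained_of_isPSolvable PCore.isPSolvable_of_isSolvable)
      S.2 ?_ ?_ (fun h => absurd h hp) ?_
    · rwa [Coprime.card_subgroupOf hYM]
    · intro a ha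
      exact Subgroup.mem_normalizer_iff.mpr fun w =>
        Subgroup.mem_normalizer_iff.mp (hn (Subgroup.mem_map_of_mem M.subtype ha)) w
    · intro x hx hxp
      have hxn : Subgroup.zpowers x ≤ normalizer ((S : Subgroup M) : Set M) :=
        Subgroup.zpowers_le.2 (Subgroup.centralizer_le_normalizer _ hx)
      have h := S.3 (hxp.to_sup_of_normal_right' S.2 hxn) le_sup_right
      exact h.le (Subgroup.mem_sup_left (Subgroup.mem_zpowers x))
  exact (Subgroup.map_subgroupOf_eq_of_le hYM).ge.trans (Subgroup.map_mono h)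

theorem zj_le (P : Subgroup G) : centerThompsonOf p P ≤ P :=
  inf_le_left.trans (PGroup.thompsonSubgroupOf_le P)

theorem zjOf_ne_bot {P : Subgroup G} (hP : IsPGroup p P) (h1 : P ≠ ⊥) : centerThompsonOf p P ≠ ⊥ := by
  obtain ⟨k, hk⟩ := hP.exists_card_eq
  have hk0 : k ≠ 0 := fun h => h1 (Subgroup.card_eq_one.1 (by rw [hk, h, pow_zero]))
  have hJ := PGroup.thompsonSubgroupOf_ne_bot (p := p) (P := P) (hk ▸ dvd_pow_self p hk0)
  set J := thompsonSubgroupOf p P
  haveI := (Subgroup.nontrivial_iff_ne_bot J).2 hJ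
  haveI := (hP.to_le (PGroup.thompsonSubgroupOf_le P) : IsPGroup p J).center_nontrivial
  obtain ⟨z, hz⟩ := exists_ne (1 : Subgroup.center J)
  intro h
  refine hz (Subtype.ext (Subtype.ext (Subgroup.mem_bot.1 (h ▸ ?_))))
  exact ⟨(z : J).2, Subgroup.mem_centralizer_iff.2 fun y hy =>
    congrArg Subtype.val (Subgroup.mem_center_iff.1 z.2 ⟨y, hy⟩)⟩

theorem normalizer_le_normalizer_zj (P : Subgroup G) :
    normalizer (P : Set G) ≤ normalizer (centerThompsonOf p P : Set G) := by
  intro g hg
  rw [Subgroup.mem_normalizer_iff_map_conj_eq] at hg ⊢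
  have h := Replacement.centerThompsonOf_map_injOn (p := p) (MulAut.conj g).toMonoidHom (P := P)
    fun x _ hx => (MulAut.conj g).injective (hx.trans (map_one _).symm)
  rw [show P.map (MulAut.conj g).toMonoidHom = P from hg] at h
  exact h.symm

/-- The ZJ theorem inside a proper subgroup. -/
theorem le_of_zj (hG : IsMinSimpleOddOrder G) {H M R : Subgroup G} (hH : H ≠ ⊤) (S : Sylow p H)
    (hR : (S : Subgroup H).map H.subtype = R) (hcore : core p H ≤ M)
    (hN : H ⊓ normalizer (centerThompsonOf p R : Set G) ≤ M) : H ≤ M := by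
  haveI : Group.IsSolvable H := hG.2.2.2 H hH
  have h := zj_sup_normal (odd_subgroup hG.1 H) S
  have h2 : pPrimeCore p H ⊔ normalizer (centerThompsonOf p (S : Subgroup H) : Set H) = ⊤ := by
    refine Replacement.sup_normalizer_of_normal_map S (zj_le _) ?_
    have := h.map _ (QuotientGroup.mk'_surjective (pPrimeCore p H))
    rwa [Subgroup.map_sup, QuotientGroup.map_mk'_self, sup_bot_eq] at this
  have h3 := congrArg (Subgroup.map H.subtype) h2
  rw [Subgroup.map_sup, ← MonoidHom.range_eq_map, Subgroup.range_subtype] at h3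
  rw [← h3]
  refine sup_le hcore (le_trans (le_inf (Subgroup.map_subtype_le _) ?_) hN)
  have e := Replacement.centerThompsonOf_map_injOn (p := p) H.subtype (P := (S : Subgroup H))
    fun x _ hx => Subtype.ext hx
  rw [← hR, e]
  exact Subgroup.le_normalizer_map _

/-- A proper subgroup with a Sylow subgroup of rank at most 2. -/
theorem le_of_rankTwo (hG : IsMinSimpleOddOrder G) {H M R : Subgroup G} (hH : H ≠ ⊤) (S : Sylow p H)
    (hR : (S : Subgroup H).map H.subtype = R) (hr : PRankLE p 2 R) (hcore : core p H ≤ M)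
    (hN : H ⊓ normalizer (R : Set G) ≤ M) : H ≤ M := by
  haveI : Group.IsSolvable H := hG.2.2.2 H hH
  have hrS : PRankLE p 2 (S : Subgroup H) := by
    subst hR
    exact pRankLE_of_injective (f := ((S : Subgroup H).equivMapOfInjective _ H.subtype_injective).toMonoidHom)
      (MulEquiv.injective _) hr
  have h3 := congrArg (Subgroup.map H.subtype) (sup_normalizer_sylow_of_rankTwo (odd_subgroup hG.1 H) S hrS)
  rw [Subgroup.map_sup, ← MonoidHom.range_eq_map, Subgroup.range_subtype] at h3
  rw [← h3]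
  refine sup_le hcore (le_trans (le_inf (Subgroup.map_subtype_le _) ?_) hN)
  rw [← hR]
  exact Subgroup.le_normalizer_map _

/-- A Sylow subgroup of `M` whose normalizer lies in `M` is a Sylow subgroup of `G`. -/
theorem exists_sylow_eq {M : Subgroup G} (S : Sylow p M)
    (h : normalizer (((S : Subgroup M).map M.subtype : Subgroup G) : Set G) ≤ M) :
    ∃ P : Sylow p G, (P : Subgroup G) = (S : Subgroup M).map M.subtype := by
  set P₀ := (S : Subgroup M).map M.subtype
  obtain ⟨P, hP⟩ := (S.2.map M.subtype : IsPGroup p P₀).exists_le_sylow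
  refine ⟨P, ?_⟩
  by_contra hne
  have h1 := lt_inf_normalizer P.2.isNilpotent (lt_of_le_of_ne hP (Ne.symm hne))
  refine h1.not_ge ?_
  have hle : (P : Subgroup G) ⊓ normalizer (P₀ : Set G) ≤ M := inf_le_right.trans h
  have h2 := S.3 ((P.2.to_le inf_le_left).comap_of_injective M.subtype M.subtype_injective)
    (fun x hx => show (x : G) ∈ _ from h1.le ⟨x, hx, rfl⟩)
  refine le_trans ?_ (le_refl P₀)
  exact (Subgroup.map_subgroupOf_eq_of_le hle).ge.trans (Subgroup.map_mono h2.le)

/-- Coprime `p`-subgroup form of membership in `И(B; p')`. -/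
theorem mem_invSubgroups_primesNotDvd {B Y : Subgroup G} (hY : (Nat.card Y).Coprime p)
    (hn : B ≤ normalizer (Y : Set G)) : Y ∈ invSubgroups ⊤ B (primesNotDvd p) :=
  ⟨le_top, isPiGrp_primesNotDvd hY, hn⟩

end Cfsg.Agent.OddOrder
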