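import Cfsg.Agent.Lib.OddOrder.NonTIFittingType

/-!
# Bender–Glauberman 15.7, assembled

`nonTI_fitting_structure`: from `BG15Input`, the conclusion of S1440 with `M' ≤ F(M)` in place of
`M' = F(M)`, and equality when `κ(M)` is nonempty.
-/

set_option autoImplicit false
set_option linter.style.haveILetI false
set_option linter.unusedSectionVars false

namespace Cfsg.Agent.OddOrder

open Cfsg
open Subgroup (centralizer normalizer zpowers)
open scoped Pointwise commutatorElement

universe u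
variable {G : Type u} [Group G] [Finite G]

namespace NonTI

variable {M : Subgroup G} {g : G} (h : NonTI M g)
include h

theorem pOf_fittingHall_eq {p : ℕ} [Fact p.Prime] (hp : p ∈ sigma M) :
    pOf p (fittingHallOf M) = pOf p M := by
  rw [h.fittingHall_eq]
  exact le_antisymm (h.le_pOf_of_sigma hp ((pOf_le _).trans (sigmaCore_le M)) (isPGroup_pOf _))
    (le_pOf (h.pOf_le_sigmaCore hp) ((sigmaCore_le M).trans (le_normalizer_pOf M)) (isPGroup_pOf M))

theorem isMulCommutative_pCore_iff {p : ℕ} [Fact p.Prime] (hp : p ∈ sigma M) :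
    IsMulCommutative (pCore p ↥(fittingHallOf M)) ↔ IsMulCommutative (pOf p M) := by
  rw [← h.pOf_fittingHall_eq hp]
  constructor
  · intro hc
    refine PGroup.isMulCommutative_of_forall ?_
    rintro _ ⟨a, ha, rfl⟩ _ ⟨b, hb, rfl⟩
    rw [← map_mul, ← map_mul, PGroup.mul_comm_of_isMulCommutative hc ha hb]
  · intro hc
    exact PGroup.isMulCommutative_of_forall fun a ha b hb => Subtype.ext
      (PGroup.mul_comm_of_isMulCommutative hc ⟨a, ha, rfl⟩ ⟨b, hb, rfl⟩)

theorem card_pCore_fittingHall {p : ℕ} [Fact p.Prime] (hp : p ∈ sigma M) :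
    Nat.card (pCore p ↥(fittingHallOf M)) = Nat.card (pOf p M) := by
  rw [← h.pOf_fittingHall_eq hp, pOf, Subgroup.card_map_of_injective (fittingHallOf M).subtype_injective]

theorem isCyclic_pPrimeCore {p : ℕ} [Fact p.Prime]
    (hcyc : ∀ q : ℕ, q.Prime → q ≠ p → IsCyclic (pOf q M)) :
    IsCyclic (pPrimeCore p ↥(fittingHallOf M)) := by
  set D := pPrimeCore p ↥(fittingHallOf M) with hD
  haveI : Group.IsNilpotent ↥(fittingHallOf M) := by rw [h.fittingHall_eq]; exact h.nilpotent
  haveI : Group.IsNilpotent D := inferInstance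
  haveI : IsZGroup D := ⟨fun q hq S => by
    haveI := Fact.mk hq
    rcases eq_or_ne q p with rfl | hne
    · obtain ⟨k, hk⟩ := S.2.exists_card_eq
      rcases k with _ | k
      · haveI : Subsingleton (S : Subgroup D) := (Nat.card_eq_one_iff_unique.1 (hk.trans (pow_zero q))).1
        exact isCyclic_of_subsingleton
      · exact absurd ((dvd_pow_self q k.succ_ne_zero).trans (hk ▸ Subgroup.card_subgroup_dvd_card _))
          ((Nat.Prime.coprime_iff_not_dvd hq).1 (PCore.coprime_card_pPrimeCore (p := q)).symm)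
    · haveI := hcyc q hq hne
      set S' := ((S : Subgroup D).map D.subtype).map (fittingHallOf M).subtype with hS'
      by_cases hd : q ∣ Nat.card (sigmaCore M)
      · have hle : S' ≤ pOf q M := h.le_pOf_of_sigma (h.mem_sigma hq hd)
          ((Subgroup.map_subtype_le _).trans (fittingHallOf_le M)) ((S.2.map _).map _)
        let f : (S : Subgroup D) →* pOf q M :=
          { toFun := fun a => ⟨((a : D) : ↥(fittingHallOf M)), hle ⟨_, ⟨_, a.2, rfl⟩, rfl⟩⟩
            map_one' := rfl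
            map_mul' := fun _ _ => rfl }
        exact isCyclic_of_injective f fun a b hab =>
          Subtype.ext (Subtype.ext (Subtype.ext (congrArg (fun w : pOf q M => (w : G)) hab)))
      · obtain ⟨k, hk⟩ := S.2.exists_card_eq
        rcases k with _ | k
        · haveI : Subsingleton (S : Subgroup D) := (Nat.card_eq_one_iff_unique.1 (hk.trans (pow_zero q))).1
          exact isCyclic_of_subsingleton
        · refine absurd ?_ hd
          rw [← h.fittingHall_eq]
          exact ((dvd_pow_self q k.succ_ne_zero).trans (hk ▸ Subgroup.card_subgroup_dvd_card _)).trans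
            (Subgroup.card_subgroup_dvd_card D)⟩
  infer_instance

end NonTI

/-- BG 15.7, with `M' ≤ F(M)` and equality when `κ(M)` is nonempty. -/
theorem nonTI_fitting_structure (hG : IsMinSimpleOddOrder G) (hI : BG15Input G) {M : Subgroup G}
    (hM : IsCoatom M) {K U : Subgroup G} (hKU : IsSigmaDecomposition M K U) {g : G} (hg : g ∉ M)
    (hX : fittingOf M ⊓ (fittingOf M).map (MulAut.conj g).toMonoidHom ≠ ⊥) :
    (fittingOf M ⊓ (fittingOf M).map (MulAut.conj g).toMonoidHom ≤ fittingHallOf M ∧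
        IsCyclic ↥(fittingOf M ⊓ (fittingOf M).map (MulAut.conj g).toMonoidHom)) ∧
      (⁅M, M⁆ ≤ fittingOf M ∧ ((kappa M).Nonempty → ⁅M, M⁆ = fittingOf M) ∧
        fittingOf M = sigmaCore M ⊔ piCoreOf {q | q.Prime ∧ q ∉ sigma M} (fittingOf M)) ∧
      ((K = ⊥ ∧ IsMulCommutative (fittingHallOf M) ∧ RankLE 2 (fittingHallOf M) ∧ ¬ RankLE 1 (fittingHallOf M)) ∨
       (∃ p : ℕ, p.Prime ∧ Nat.card ↥(fittingOf M ⊓ (fittingOf M).map (MulAut.conj g).toMonoidHom) = p ∧
          p ∈ sigma M ∧ p ∉ beta M ∧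
          ¬ IsMulCommutative (pCore p ↥(fittingHallOf M)) ∧ IsCyclic (pPrimeCore p ↥(fittingHallOf M)) ∧
          ∀ q : ℕ, q.Prime → q ∣ Nat.card (fittingHallOf M) → Monoid.exponent (↥M ⧸ fittingHall ↥M) ∣ q - 1) ∨
       (∃ p : ℕ, p.Prime ∧ Nat.card ↥(fittingOf M ⊓ (fittingOf M).map (MulAut.conj g).toMonoidHom) = p ∧
          p ∈ sigma M ∧ p ∉ beta M ∧
          IsCyclic (pPrimeCore p ↥(fittingHallOf M)) ∧ Nat.card (pCore p ↥(fittingHallOf M)) = p ^ 3 ∧
          ¬ IsMulCommutative (pCore p ↥(fittingHallOf M)) ∧ K ≠ ⊥ ∧ U = ⊥ ∧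
          (fittingHallOf M).relIndex M ∣ p + 1)) := by
  have h : NonTI M g := ⟨hG, hI, hM, hg, hX⟩
  refine ⟨⟨h.fittingHall_eq ▸ h.le_sigmaCore, h.cyclic⟩,
    ⟨h.commutator_le_fittingOf, h.commutator_eq_fittingOf, h.fitting_eq⟩, ?_⟩
  rcases h.cases hKU with ⟨hK, hc, hr2, hr1⟩ | ⟨p, hp, hcard, hps, hpb, hna, hcyc, hrest⟩
  · rw [h.fittingHall_eq]
    exact Or.inl ⟨hK, hc, hr2, hr1⟩
  haveI := Fact.mk hp
  have hna' := fun hh => hna ((h.isMulCommutative_pCore_iff hps).1 hh)
  have hc' := h.isCyclic_pPrimeCore hcyc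
  rcases hrest with h2 | ⟨h3, hK, hU, hidx⟩
  · exact Or.inr (Or.inl ⟨p, hp, hcard, hps, hpb, hna', hc', fun q hq hd => h2 q hq (h.fittingHall_eq ▸ hd)⟩)
  · exact Or.inr (Or.inr ⟨p, hp, hcard, hps, hpb, hc', (h.card_pCore_fittingHall hps).trans h3, hna', hK, hU,
      h.fittingHall_eq.symm ▸ hidx⟩)

end Cfsg.Agent.OddOrder
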