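import Cfsg.Agent.Lib.OddOrder.InvariantSylow
import Cfsg.Agent.Lib.PComplement.FixedPointFree
import Cfsg.Agent.Lib.Coprime.Generation

/-!
# Exceptional maximal subgroups (Bender–Glauberman §11)

`M` contains `N_G(A₀)` for a line `A₀` of an elementary abelian `A ≤ M` of order `p²`, `p ∉ σ(M)`.
-/

set_option autoImplicit false
set_option linter.unusedSectionVars false

namespace Cfsg.Agent.OddOrder

open Cfsg
open Subgroup (centralizer normalizer zpowers)
open scoped Pointwise commutatorElement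

universe u
variable {G : Type u} [Group G] [Finite G] {p : ℕ} [Fact p.Prime]

theorem sigmaCore_le (M : Subgroup G) : sigmaCore M ≤ M := piCoreOf_le _ M

theorem le_normalizer_sigmaCore (M : Subgroup G) : M ≤ normalizer (sigmaCore M : Set G) :=
  le_normalizer_piCoreOf _ M

/-- A `σ(M)`-subgroup of `M` lies in `M_σ`. -/
theorem le_sigmaCore_of_isPiGrp (hG : IsMinSimpleOddOrder G) {M U : Subgroup G} (hM : IsCoatom M)
    (hUM : U ≤ M) (hU : IsPiGrp (sigma M) U) : U ≤ sigmaCore M := fun x hx =>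
  mem_of_forall_primePart fun r hr hd u hu ⟨k, hk⟩ => by
    haveI := Fact.mk hr
    have hs : r ∈ sigma M := hU r hr (hd.trans (Subgroup.orderOf_dvd_natCard U hx))
    have huM : u ∈ M := hUM (Subgroup.zpowers_le.2 hx hu)
    obtain ⟨i, -, hi⟩ := (Nat.dvd_prime_pow hr).1 (orderOf_dvd_of_pow_eq_one hk)
    obtain ⟨S, hS⟩ := exists_sylow_map_ge (p := r) (X := zpowers u)
      (IsPGroup.of_card (n := i) (by rw [Nat.card_zpowers, hi])) (Subgroup.zpowers_le.2 huM)
    exact sylow_le_sigmaCore hG hM hs S (hS (Subgroup.mem_zpowers u))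

theorem not_dvd_sigmaCore {M : Subgroup G} (h : p ∉ sigma M) : ¬ p ∣ Nat.card (sigmaCore M) :=
  fun hd => h (isPiGrp_piCoreOf (sigma M) M p Fact.out hd)

/-- The setting for the TI property: `A ≤ M` elementary of order `p²`, `C(A) ≤ M`, `p ∉ σ(M)`. -/
structure TISetting (p : ℕ) (M A : Subgroup G) : Prop where
  minSimple : IsMinSimpleOddOrder G
  coatom : IsCoatom M
  le : A ≤ M
  elem : IsElementaryAbelian p A
  card : Nat.card A = p ^ 2
  centralizer_le : centralizer (A : Set G) ≤ M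
  sigma : p ∉ Cfsg.sigma M

namespace TISetting

variable {M A : Subgroup G} (h : TISetting p M A)
include h

theorem rank : PRankLE p 2 M := by
  by_contra hr
  exact h.sigma (alpha_subset_sigma h.minSimple h.coatom ⟨Fact.out, hr⟩)

theorem hmax : ∀ x ∈ centralizer (A : Set G), x ^ p = 1 → x ∈ A := fun _ hx hxp =>
  mem_of_pow_eq_one_of_rank h.elem h.card h.rank h.le (h.centralizer_le hx) hx hxp

theorem dvd_card : p ∣ Nat.card M :=
  (square_dvd_card h.elem h.card).trans (Subgroup.card_dvd_of_le h.le)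

theorem ne_two : p ≠ 2 := ne_two_of_odd_of_dvd (odd_subgroup h.minSimple.1 M) h.dvd_card

/-- BG 11.1: the TI property. -/
theorem ti {g : G} (hg : g ∉ M) (hAg : A ≤ MulAut.conj g • M) {L : Subgroup G} (hL : L ≠ ⊤)
    (hAL : A ≤ L) {q : ℕ} [Fact q.Prime] (hq : q ∈ Cfsg.sigma M) (Q₁ Q₂ : Sylow q G)
    (h₁ : (Q₁ : Subgroup G) ≤ M) (h₂ : (Q₂ : Subgroup G) ≤ MulAut.conj g • M)
    (n₁ : A ≤ normalizer ((Q₁ : Subgroup G) : Set G)) (n₂ : A ≤ normalizer ((Q₂ : Subgroup G) : Set G))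
    (m₁ : L ⊓ (Q₁ : Subgroup G) ≠ ⊥) (m₂ : L ⊓ (Q₂ : Subgroup G) ≠ ⊥) : False := by
  have hqp : q ≠ p := fun e => h.sigma (e ▸ hq)
  obtain ⟨k, hk, hk'⟩ := exists_centralizer_conj h.minSimple h.elem h.card h.hmax hqp Q₁ Q₂ n₁ n₂ hL hAL m₁ m₂
  have hle : MulAut.conj g⁻¹ • (Q₂ : Subgroup G) ≤ M := conj_smul_le h₂
  obtain ⟨m, hm, hm'⟩ := exists_conj_sylow Q₁ (g⁻¹ • Q₂) h₁ (by rwa [Sylow.coe_subgroup_smul])
  rw [Sylow.coe_subgroup_smul, hk', Coprime.conj_smul_smul] at hm'
  have h3 := congrArg (fun K : Subgroup G => MulAut.conj m⁻¹ • K) hm'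
  simp only [Coprime.conj_smul_smul, inv_mul_cancel, map_one, one_smul] at h3
  have h4 := normalizer_sylow_le hq Q₁ h₁ (Coprime.mem_normalizer_of_conj_smul_eq h3)
  refine hg ?_
  have h5 : g⁻¹ = m * (m⁻¹ * (g⁻¹ * k)) * k⁻¹ := by group
  exact inv_mem_iff.1 (h5 ▸ mul_mem (mul_mem hm h4) (inv_mem (h.centralizer_le hk)))

theorem coprime_sigmaCore {X : Subgroup G} (hX : IsPGroup p X) :
    (Nat.card X).Coprime (Nat.card (sigmaCore M)) :=
  coprime_of_isPGroup hX (not_dvd_sigmaCore h.sigma)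

/-- BG 11.2: `M_σ` meets its conjugates over `A` trivially. -/
theorem sigmaCore_inf_conj {g : G} (hg : g ∉ M) (hAg : A ≤ MulAut.conj g • M) :
    sigmaCore M ⊓ MulAut.conj g • sigmaCore M = ⊥ := by
  set K := sigmaCore M with hK
  have hA1 : A ≤ normalizer (K : Set G) := h.le.trans (le_normalizer_sigmaCore M)
  have hA2 : A ≤ normalizer ((MulAut.conj g • K : Subgroup G) : Set G) :=
    hAg.trans (le_normalizer_conj_smul (le_normalizer_sigmaCore M) g)
  by_contra hne
  set X := K ⊓ MulAut.conj g • K with hX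
  obtain ⟨q, hq, hd⟩ := Nat.exists_prime_and_dvd (n := Nat.card X) (fun e => hne (Subgroup.card_eq_one.1 e))
  haveI := Fact.mk hq
  have hqs : q ∈ Cfsg.sigma M :=
    isPiGrp_piCoreOf (Cfsg.sigma M) M q hq (hd.trans (Subgroup.card_dvd_of_le inf_le_left))
  have hAp := PGroup.isPGroup_of_elementaryAbelian h.elem
  have hcop := h.coprime_sigmaCore hAp
  have hsolv : Group.IsSolvable K :=
    Coprime.isSolvable_of_le (sigmaCore_le M) (isSolvable_of_coatom h.minSimple h.coatom)
  obtain ⟨W, hW⟩ := Coprime.exists_invariant_sylow (Coprime.le_normalizer_inf_of_le hA1 hA2)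
    (hcop.coprime_dvd_right (Subgroup.card_dvd_of_le inf_le_left))
    (Or.inr (Coprime.isSolvable_of_le inf_le_left hsolv)) q
  have hWX : (W : Subgroup X).map X.subtype ≤ X := Subgroup.map_subtype_le _
  have hW1 : (W : Subgroup X).map X.subtype ≠ ⊥ := fun e =>
    W.ne_bot_of_dvd_card hd ((Subgroup.map_eq_bot_iff_of_injective _ X.subtype_injective).1 e)
  obtain ⟨Q₁, hWQ₁, hQ₁, hn₁⟩ := exists_sylow_sigmaCore_ge h.minSimple h.coatom hqs hA1 hcop
    (hWX.trans inf_le_left) (W.2.map _) hW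
  obtain ⟨Q₂, hWQ₂, hQ₂, hn₂⟩ := exists_sylow_invariant_ge (q := q) (K := MulAut.conj g • K)
    (Coprime.isSolvable_map _ _ hsolv) hA2 (by rwa [Coprime.card_conj_smul]) (by
      show ¬ q ∣ (K.map (MulAut.conj g).toMonoidHom).index
      rw [Subgroup.index_map_of_bijective (MulAut.conj g).bijective]
      exact (sigmaCore_isPiHall h.minSimple h.coatom).2 q hq hqs)
    (hWX.trans inf_le_right) (W.2.map _) hW
  have hWM : (W : Subgroup X).map X.subtype ≤ M := (hWX.trans inf_le_left).trans (sigmaCore_le M)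
  exact h.ti hg hAg h.coatom.1 h.le hqs Q₁ Q₂ (hQ₁.trans (sigmaCore_le M))
    (hQ₂.trans (Subgroup.pointwise_smul_le_pointwise_smul_iff.2 (sigmaCore_le M))) hn₁ hn₂
    (fun e => hW1 (le_bot_iff.1 (e ▸ le_inf hWM hWQ₁))) (fun e => hW1 (le_bot_iff.1 (e ▸ le_inf hWM hWQ₂)))

/-- If `x` is central in the `p`-subgroup `P ⊇ A` and a conjugation normalizing `P` fixes the line of
`x`, then `x` is fixed-point-free on `M_σ`. -/
theorem sigmaCore_inf_centralizer_eq_bot {P : Subgroup G} {g x : G} (hPM : P ≤ M)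
    (hP : IsPGroup p P) (hAP : A ≤ P) (hg : g ∉ M) (hgP : g ∈ normalizer (P : Set G))
    (hx1 : x ≠ 1) (hxP : P ≤ centralizer ({x} : Set G))
    (hgx : centralizer ({g * x * g⁻¹} : Set G) ≤ centralizer ({x} : Set G)) :
    sigmaCore M ⊓ centralizer ({x} : Set G) = ⊥ := by
  set K := sigmaCore M ⊓ centralizer ({x} : Set G) with hK
  by_contra hne
  obtain ⟨q, hq, hd⟩ := Nat.exists_prime_and_dvd (n := Nat.card K) (fun e => hne (Subgroup.card_eq_one.1 e))
  haveI := Fact.mk hq
  have hqs : q ∈ Cfsg.sigma M :=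
    isPiGrp_piCoreOf (Cfsg.sigma M) M q hq (hd.trans (Subgroup.card_dvd_of_le inf_le_left))
  have hP1 : P ≤ normalizer (sigmaCore M : Set G) := hPM.trans (le_normalizer_sigmaCore M)
  have hcop := h.coprime_sigmaCore hP
  have hsolv : Group.IsSolvable (sigmaCore M) :=
    Coprime.isSolvable_of_le (sigmaCore_le M) (isSolvable_of_coatom h.minSimple h.coatom)
  obtain ⟨W, hW⟩ := Coprime.exists_invariant_sylow (A := P) (K := K)
    (Coprime.le_normalizer_inf_of_le hP1 (hxP.trans Subgroup.le_normalizer))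
    (hcop.coprime_dvd_right (Subgroup.card_dvd_of_le inf_le_left))
    (Or.inr (Coprime.isSolvable_of_le inf_le_left hsolv)) q
  set W' := (W : Subgroup K).map K.subtype with hW'
  have hWK : W' ≤ K := Subgroup.map_subtype_le _
  have hW1 : W' ≠ ⊥ := fun e =>
    W.ne_bot_of_dvd_card hd ((Subgroup.map_eq_bot_iff_of_injective _ K.subtype_injective).1 e)
  obtain ⟨Q₁, hWQ₁, hQ₁, hn₁⟩ := exists_sylow_sigmaCore_ge h.minSimple h.coatom hqs hP1 hcop
    (hWK.trans inf_le_left) (W.2.map _) hW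
  have hgP' : MulAut.conj g • P = P := Coprime.conj_smul_eq_self_of_mem hgP
  have hWx : W' ≤ centralizer ({x} : Set G) := hWK.trans inf_le_right
  have hgW : MulAut.conj g • W' ≤ centralizer ({x} : Set G) := by
    refine le_trans ?_ hgx
    rw [← conj_smul_centralizer]
    exact Subgroup.pointwise_smul_le_pointwise_smul_iff.2 hWx
  refine h.ti hg (hAP.trans (hgP'.ge.trans (Subgroup.pointwise_smul_le_pointwise_smul_iff.2 hPM)))
    (centralizer_singleton_ne_top_of_minSimple h.minSimple hx1) (hAP.trans hxP) hqs Q₁ (g • Q₁)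
    (hQ₁.trans (sigmaCore_le M)) ?_ (hAP.trans hn₁) ?_ ?_ ?_
  · rw [Sylow.coe_subgroup_smul]
    exact Subgroup.pointwise_smul_le_pointwise_smul_iff.2 (hQ₁.trans (sigmaCore_le M))
  · rw [Sylow.coe_subgroup_smul]
    exact (hAP.trans hgP'.ge).trans (le_normalizer_conj_smul hn₁ g)
  · exact fun e => hW1 (le_bot_iff.1 (e ▸ le_inf hWx hWQ₁))
  · intro e
    have h2 : MulAut.conj g • W' = ⊥ := le_bot_iff.1 (e ▸ le_inf hgW (by
      rw [Sylow.coe_subgroup_smul]; exact Subgroup.pointwise_smul_le_pointwise_smul_iff.2 hWQ₁))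
    exact hW1 (Subgroup.card_eq_one.1 (by rw [← Coprime.card_conj_smul g W', h2, Subgroup.card_bot]))

end TISetting

/-- An exceptional maximal subgroup. -/
structure Exc (p : ℕ) (M A A₀ : Subgroup G) : Prop where
  minSimple : IsMinSimpleOddOrder G
  coatom : IsCoatom M
  le : A ≤ M
  elem : IsElementaryAbelian p A
  card : Nat.card A = p ^ 2
  line_le : A₀ ≤ A
  card_line : Nat.card A₀ = p
  normalizer_le : normalizer (A₀ : Set G) ≤ M
  sigma : p ∉ Cfsg.sigma M

/-- Two commuting independent elements generate `A`. -/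
theorem square_eq_sup {A : Subgroup G} (hA : IsElementaryAbelian p A) (hc : Nat.card A = p ^ 2)
    {z b : G} (hz : z ∈ A) (hz1 : z ≠ 1) (hb : b ∈ A) (hbz : b ∉ zpowers z) :
    zpowers z ⊔ zpowers b = A :=
  Subgroup.eq_of_le_of_card_ge (sup_le (Subgroup.zpowers_le.2 hz) (Subgroup.zpowers_le.2 hb))
    (by rw [hc, card_zpowers_sup (PGroup.mul_comm_of_elementaryAbelian hA hz hb) (hA.2 z hz) hz1 (hA.2 b hb) hbz])

theorem commute_of_mem_zpowers {n z c : G} (h : Commute n z) (hc : c ∈ zpowers z) : Commute n c := by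
  obtain ⟨i, rfl⟩ := hc
  exact h.zpow_right i

theorem commute_of_sup {n z b : G} (hz : Commute n z) (hb : Commute n b) {a : G}
    (ha : a ∈ zpowers z ⊔ zpowers b) : Commute n a := by
  have : zpowers z ⊔ zpowers b ≤ centralizer ({n} : Set G) :=
    sup_le (Subgroup.zpowers_le.2 (Subgroup.mem_centralizer_singleton_iff.2 hz.symm.eq))
      (Subgroup.zpowers_le.2 (Subgroup.mem_centralizer_singleton_iff.2 hb.symm.eq))
  exact (Subgroup.mem_centralizer_singleton_iff.1 (this ha)).symm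

/-- A `p`-element acting on `A` and fixing `z` moves `A` by multiples of `z`. -/
theorem mul_conj_inv_mem_zpowers {A : Subgroup G} (hA : IsElementaryAbelian p A)
    (hc : Nat.card A = p ^ 2) {n z a : G} (hn : IsPGroup p (zpowers n))
    (hnA : n ∈ normalizer (A : Set G)) (hz : z ∈ A) (hz1 : z ≠ 1) (hnz : Commute n z)
    (ha : a ∈ A) : n * a * n⁻¹ * a⁻¹ ∈ zpowers z := by
  have hzn : zpowers n ≤ normalizer (A : Set G) := Subgroup.zpowers_le.2 hnA
  have hmem : n * a * n⁻¹ * a⁻¹ ∈ ⁅A, zpowers n⁆ := by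
    rw [Subgroup.commutator_comm, ← commutatorElement_def]
    exact Subgroup.commutator_mem_commutator (Subgroup.mem_zpowers n) ha
  by_contra hne
  set c := n * a * n⁻¹ * a⁻¹ with hc'
  set U := ⁅A, zpowers n⁆ with hU
  have hlt : U < A := Coprime.commutator_lt_of_isPGroup hn (PGroup.isPGroup_of_elementaryAbelian hA) hzn
    (square_ne_bot hA hc)
  have hU1 : U ≠ ⊥ := fun e => by
    rw [e, Subgroup.mem_bot] at hmem
    exact hne (hmem ▸ Subgroup.one_mem _)
  obtain ⟨k, hk⟩ := (PGroup.isPGroup_of_elementaryAbelian (PGroup.isElementaryAbelian_mono hA hlt.le)).exists_card_eq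
  have hUp : Nat.card U = p := by
    have h2 : p ^ k < p ^ 2 := by
      rw [← hk, ← hc]
      exact lt_of_le_of_ne (Subgroup.card_le_of_le hlt.le) fun e => hlt.ne (Subgroup.eq_of_le_of_card_ge hlt.le e.ge)
    have h3 := (Nat.pow_lt_pow_iff_right (Fact.out : p.Prime).one_lt).1 h2
    interval_cases k
    · rw [pow_zero] at hk; exact absurd (Subgroup.card_eq_one.1 hk) hU1
    · rw [hk, pow_one]
  have hnU : zpowers n ≤ normalizer (U : Set G) := by
    rw [hU, Subgroup.commutator_comm]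
    exact Subgroup.normalizer_commutator_ge_left _ _
  have hlt2 : ⁅U, zpowers n⁆ < U := Coprime.commutator_lt_of_isPGroup hn
    (PGroup.isPGroup_of_elementaryAbelian (PGroup.isElementaryAbelian_mono hA hlt.le)) hnU hU1
  have hbot : ⁅U, zpowers n⁆ = ⊥ := by
    rcases (Nat.dvd_prime (Fact.out : p.Prime)).1 (hUp ▸ Subgroup.card_dvd_of_le hlt2.le) with e | e
    · exact Subgroup.card_eq_one.1 e
    · exact absurd (Subgroup.eq_of_le_of_card_ge hlt2.le (by rw [e, hUp])) hlt2.ne
  have hnc : Commute n c := by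
    have h1 : ⁅n, c⁆ ∈ ⁅zpowers n, U⁆ := Subgroup.commutator_mem_commutator (Subgroup.mem_zpowers n) hmem
    rw [Subgroup.commutator_comm, hbot, Subgroup.mem_bot] at h1
    exact commutatorElement_eq_one_iff_mul_comm.1 h1
  have hna : Commute n a := commute_of_sup hnz hnc
    ((square_eq_sup hA hc hz hz1 (hlt.le hmem) hne).ge ha)
  refine hne ?_
  rw [hc', hna.eq]
  simp

namespace Exc

variable {M A A₀ : Subgroup G} (h : Exc p M A A₀)
include h

theorem centralizer_line_le : centralizer (A₀ : Set G) ≤ M :=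
  (Subgroup.centralizer_le_normalizer _).trans h.normalizer_le

theorem centralizer_le : centralizer (A : Set G) ≤ M :=
  (Subgroup.centralizer_le h.line_le).trans h.centralizer_line_le

theorem setting : TISetting p M A :=
  ⟨h.minSimple, h.coatom, h.le, h.elem, h.card, h.centralizer_le, h.sigma⟩

theorem exists_gen : ∃ x : G, x ∈ A₀ ∧ x ≠ 1 ∧ zpowers x = A₀ := by
  obtain ⟨x, hx, hx1⟩ := (Subgroup.bot_or_exists_ne_one A₀).resolve_left fun e => by
    have := h.card_line
    rw [e, Subgroup.card_bot] at this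
    exact (Fact.out : p.Prime).ne_one this.symm
  refine ⟨x, hx, hx1, Subgroup.eq_of_le_of_card_ge (Subgroup.zpowers_le.2 hx) ?_⟩
  rw [h.card_line, Nat.card_zpowers, orderOf_eq_prime (h.elem.2 x (h.line_le hx)) hx1]

/-- A conjugate of `A₀` that is fixed-point-free on `M_σ`. -/
theorem fpf_conj {P : Subgroup G} (hPM : P ≤ M) (hAP : A ≤ P) {g x : G} (hg : g ∉ M)
    (hgP : g ∈ normalizer (P : Set G)) (hx : zpowers x = A₀) :
    sigmaCore M ⊓ centralizer ({g * x * g⁻¹} : Set G) = ⊥ := by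
  have hAg : A ≤ MulAut.conj g • M := hAP.trans ((Coprime.conj_smul_eq_self_of_mem hgP).ge.trans
    (Subgroup.pointwise_smul_le_pointwise_smul_iff.2 hPM))
  rw [eq_bot_iff, ← h.setting.sigmaCore_inf_conj hg hAg]
  refine le_inf inf_le_left (le_conj_smul ?_)
  set X := sigmaCore M ⊓ centralizer ({g * x * g⁻¹} : Set G)
  have hXM : MulAut.conj g⁻¹ • X ≤ M := by
    refine le_trans (Subgroup.pointwise_smul_le_pointwise_smul_iff.2 inf_le_right) ?_
    rw [conj_smul_centralizer, show g⁻¹ * (g * x * g⁻¹) * g⁻¹⁻¹ = x by group,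
      ← Subgroup.centralizer_closure, ← Subgroup.zpowers_eq_closure, hx]
    exact h.centralizer_line_le
  refine le_sigmaCore_of_isPiGrp h.minSimple h.coatom hXM fun r hr hd => ?_
  rw [Coprime.card_conj_smul] at hd
  exact isPiGrp_piCoreOf (Cfsg.sigma M) M r hr (hd.trans (Subgroup.card_dvd_of_le inf_le_left))

theorem exists_sylow : ∃ S : Sylow p M, A ≤ (S : Subgroup M).map M.subtype :=
  exists_sylow_map_ge (PGroup.isPGroup_of_elementaryAbelian h.elem) h.le

theorem exists_mem_normalizer (S : Sylow p M) : ∃ g : G,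
    g ∈ normalizer (((S : Subgroup M).map M.subtype : Subgroup G) : Set G) ∧ g ∉ M :=
  SetLike.not_le_iff_exists.1 fun hle => h.sigma ⟨Fact.out, h.setting.dvd_card, S, hle⟩

/-- BG 11.3: `M_σ` is nilpotent. -/
theorem isNilpotent_sigmaCore : Group.IsNilpotent (sigmaCore M) := by
  obtain ⟨S, hAS⟩ := h.exists_sylow
  obtain ⟨g, hgP, hg⟩ := h.exists_mem_normalizer S
  obtain ⟨x, hx0, hx1, hx⟩ := h.exists_gen
  set P := (S : Subgroup M).map M.subtype
  have hPM : P ≤ M := Subgroup.map_subtype_le _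
  have hfix := h.fpf_conj hPM hAS hg hgP hx
  set y := g * x * g⁻¹ with hy
  have hyM : y ∈ M := hPM ((Subgroup.mem_normalizer_iff.1 hgP x).1 (hAS (h.line_le hx0)))
  let y' : normalizer (sigmaCore M : Set G) := ⟨y, le_normalizer_sigmaCore M hyM⟩
  refine PComplement.isNilpotent_of_fpf (p := p) (sigmaCore M)
    ((sigmaCore M).normalizerMonoidHom y') ?_ ?_
  · rw [← map_pow]
    have : y' ^ p = 1 := Subtype.ext (by
      show y ^ p = 1
      rw [hy, conj_pow, h.elem.2 x (h.line_le hx0), mul_one, mul_inv_cancel])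
    rw [this, map_one]
  · intro c hc
    have hc' : y * c * y⁻¹ = (c : G) := congrArg Subtype.val hc
    have h2 : (c : G) ∈ sigmaCore M ⊓ centralizer ({y} : Set G) :=
      ⟨c.2, Subgroup.mem_centralizer_singleton_iff.2 (mul_inv_eq_iff_eq_mul.1 hc').symm⟩
    rw [hfix, Subgroup.mem_bot] at h2
    exact Subtype.ext h2

/-- BG 11.4: `A` is central in every Sylow `p`-subgroup of `M` containing it. -/
theorem le_centralizer_of_sylow (S : Sylow p M) (hAS : A ≤ (S : Subgroup M).map M.subtype) :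
    (S : Subgroup M).map M.subtype ≤ centralizer (A : Set G) := by
  set P := (S : Subgroup M).map M.subtype with hP
  have hPM : P ≤ M := Subgroup.map_subtype_le _
  have hPp : IsPGroup p P := S.2.map _
  have hmax := h.setting.hmax
  by_contra hnc
  set C := P ⊓ centralizer (A : Set G) with hC
  have hAc : A ≤ centralizer (A : Set G) := fun a ha => Subgroup.mem_centralizer_iff.2 fun b hb =>
    PGroup.mul_comm_of_elementaryAbelian h.elem hb ha
  obtain ⟨n, ⟨hnP, hnN⟩, hnC⟩ := SetLike.exists_of_lt (lt_inf_normalizer hPp.isNilpotent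
    (lt_of_le_of_ne inf_le_left fun e => hnc (inf_eq_left.1 e) : C < P))
  have hCA : ∀ y ∈ C, y ^ p = 1 → y ∈ A := fun y hy hyp => hmax y hy.2 hyp
  have hnA : n ∈ normalizer (A : Set G) := by
    refine Subgroup.mem_normalizer_iff.2 fun a => ⟨fun ha => ?_, fun ha => ?_⟩
    · exact hCA _ ((Subgroup.mem_normalizer_iff.1 hnN a).1 ⟨hAS ha, hAc ha⟩)
        (by rw [conj_pow, h.elem.2 a ha, mul_one, mul_inv_cancel])
    · refine hCA a ((Subgroup.mem_normalizer_iff.1 hnN a).2 ⟨hAS ha, hAc ha⟩) ?_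
      have h2 := h.elem.2 _ ha
      rwa [conj_pow, mul_inv_eq_one, mul_eq_left] at h2
  have hnp : IsPGroup p (zpowers n) := hPp.to_le (Subgroup.zpowers_le.2 hnP)
  -- a central element of order `p`
  obtain ⟨z, hzA, hz1, hzP⟩ : ∃ z ∈ A, z ≠ 1 ∧ P ≤ centralizer ({z} : Set G) := by
    haveI : Nontrivial P := (Subgroup.nontrivial_iff_ne_bot P).2 fun e =>
      square_ne_bot h.elem h.card (le_bot_iff.1 (e ▸ hAS))
    obtain ⟨k, hk⟩ := (hPp.to_subgroup (Subgroup.center P)).exists_card_eq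
    have hd : p ∣ Nat.card (Subgroup.center P) := by
      have := hPp.center_nontrivial
      rw [hk]
      exact dvd_pow_self p fun e => absurd (hk.trans (by rw [e, pow_zero])) Finite.one_lt_card.ne'
    obtain ⟨⟨z, hz⟩, hzo⟩ := exists_prime_orderOf_dvd_card' p hd
    have hzc : P ≤ centralizer ({(z : G)} : Set G) := fun y hy => Subgroup.mem_centralizer_singleton_iff.2
      (congrArg Subtype.val (Subgroup.mem_center_iff.1 hz ⟨y, hy⟩))
    rw [Subgroup.orderOf_mk, ← Subgroup.orderOf_coe] at hzo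
    refine ⟨z, hmax z (Subgroup.mem_centralizer_iff.2 fun a ha =>
      Subgroup.mem_centralizer_singleton_iff.1 (hzc (hAS ha))) (hzo ▸ pow_orderOf_eq_one (z : G)),
      fun e => ?_, hzc⟩
    rw [e, orderOf_one] at hzo
    exact (Fact.out : p.Prime).ne_one hzo.symm
  have hzcomm : ∀ y ∈ P, Commute y z := fun y hy => Subgroup.mem_centralizer_singleton_iff.1 (hzP hy)
  have hfix : ∀ a ∈ A, Commute n a → a ∈ zpowers z := by
    intro a ha hna
    by_contra hne
    refine hnC ⟨hnP, Subgroup.mem_centralizer_iff.2 fun b hb => ?_⟩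
    exact (commute_of_sup (hzcomm n hnP) hna ((square_eq_sup h.elem h.card hzA hz1 ha hne).ge hb)).symm.eq
  obtain ⟨g, hgP, hgM⟩ := h.exists_mem_normalizer S
  have hgP' : ∀ {y : G}, y ∈ P → g * y * g⁻¹ ∈ P := fun {y} hy => (Subgroup.mem_normalizer_iff.1 hgP y).1 hy
  have hzord : orderOf z = p := orderOf_eq_prime (h.elem.2 z hzA) hz1
  have hgz : g * z * g⁻¹ ∈ zpowers z := by
    have hc : ∀ y ∈ P, Commute y (g * z * g⁻¹) := by
      intro y hy
      have h1 := hzcomm _ ((Subgroup.mem_normalizer_iff''.1 hgP y).1 hy)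
      calc y * (g * z * g⁻¹) = g * (g⁻¹ * y * g * z) * g⁻¹ := by group
        _ = g * (z * (g⁻¹ * y * g)) * g⁻¹ := by rw [h1.eq]
        _ = g * z * g⁻¹ * y := by group
    refine hfix _ (hmax _ (Subgroup.mem_centralizer_iff.2 fun a ha => (hc a (hAS ha)).eq)
      (by rw [conj_pow, h.elem.2 z hzA, mul_one, mul_inv_cancel])) (hc n hnP)
  have hgz1 : g * z * g⁻¹ ≠ 1 := fun e => hz1 (by simpa using e)
  have hzz : z ∈ zpowers (g * z * g⁻¹) := by
    have e : zpowers (g * z * g⁻¹) = zpowers z :=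
      Subgroup.eq_of_le_of_card_ge (Subgroup.zpowers_le.2 hgz) (by
        rw [Nat.card_zpowers, Nat.card_zpowers, hzord,
          orderOf_eq_prime (by rw [conj_pow, h.elem.2 z hzA, mul_one, mul_inv_cancel]) hgz1])
    exact e ▸ Subgroup.mem_zpowers z
  have hsub : centralizer ({g * z * g⁻¹} : Set G) ≤ centralizer ({z} : Set G) := fun y hy =>
    Subgroup.mem_centralizer_singleton_iff.2
      (commute_of_mem_zpowers (Subgroup.mem_centralizer_singleton_iff.1 hy) hzz).eq
  have hzfpf := h.setting.sigmaCore_inf_centralizer_eq_bot hPM hPp hAS hgM hgP hz1 hzP hsub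
  obtain ⟨x, hx0, hx1, hx⟩ := h.exists_gen
  have hxz : x ∉ zpowers z := by
    intro e
    refine hgM (h.normalizer_le (Coprime.mem_normalizer_of_conj_smul_eq ?_))
    have hxz' : zpowers x = zpowers z := Subgroup.eq_of_le_of_card_ge (Subgroup.zpowers_le.2 e)
      (by rw [Nat.card_zpowers, Nat.card_zpowers, hzord, orderOf_eq_prime (h.elem.2 x (h.line_le hx0)) hx1])
    rw [← hx, hxz']
    refine Subgroup.eq_of_le_of_card_ge (fun y hy => ?_) (Coprime.card_conj_smul _ _).ge
    rw [Coprime.mem_conj_smul_iff] at hy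
    obtain ⟨i, hi⟩ := hy
    have : y = (g * z * g⁻¹) ^ i := by rw [conj_zpow, show z ^ i = g⁻¹ * y * g from hi]; group
    exact this ▸ Subgroup.zpow_mem _ hgz i
  -- every element of `g A g⁻¹` is fixed-point-free on `M_σ`
  have hKn : ∀ m ∈ M, ∀ y ∈ sigmaCore M, m * y * m⁻¹ ∈ sigmaCore M := fun m hm y hy =>
    (Subgroup.mem_normalizer_iff.1 (le_normalizer_sigmaCore M hm) y).1 hy
  have hxA := h.line_le hx0
  have hxfpf := h.fpf_conj hPM hAS hgM hgP hx
  have key : ∀ a ∈ A, a ≠ 1 → sigmaCore M ⊓ centralizer ({g * a * g⁻¹} : Set G) = ⊥ := by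
    intro a ha ha1
    by_cases haz : a ∈ zpowers z
    · rw [eq_bot_iff, ← hzfpf]
      refine inf_le_inf_left _ fun y hy => Subgroup.mem_centralizer_singleton_iff.2 ?_
      have h2 : g * a * g⁻¹ ∈ zpowers z := by
        obtain ⟨i, rfl⟩ := haz
        show g * z ^ i * g⁻¹ ∈ zpowers z
        rw [← conj_zpow]
        exact Subgroup.zpow_mem _ hgz i
      have h3 : zpowers (g * a * g⁻¹) = zpowers z := Subgroup.eq_of_le_of_card_ge (Subgroup.zpowers_le.2 h2) (by
        rw [Nat.card_zpowers, Nat.card_zpowers, hzord,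
          orderOf_eq_prime (by rw [conj_pow, h.elem.2 a ha, mul_one, mul_inv_cancel])
            (fun e => ha1 (by simpa using e))])
      exact (commute_of_mem_zpowers (Subgroup.mem_centralizer_singleton_iff.1 hy)
        (h3 ▸ Subgroup.mem_zpowers z)).eq
    · obtain ⟨c, hc, b, hb, hcb⟩ := (Coprime.mem_sup_iff_of_le_normalizer (H := zpowers z) (N := zpowers x) (x := a)
        (Subgroup.zpowers_le.2 (Subgroup.centralizer_le_normalizer _ (Subgroup.mem_centralizer_iff.2 fun w hw => by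
          obtain ⟨i, rfl⟩ := hw
          exact PGroup.mul_comm_of_elementaryAbelian h.elem (Subgroup.zpow_mem _ hxA i) hzA)))).1
        ((square_eq_sup h.elem h.card hzA hz1 hxA hxz).ge ha)
      -- move `b ∈ ⟨x⟩` to `a`
      have hbA : b ∈ A := (Subgroup.zpowers_le.2 hxA) hb
      have hb1 : b ≠ 1 := fun e => haz (by rw [← hcb, e, mul_one]; exact hc)
      have hbz : b ∉ zpowers z := fun e => haz (hcb ▸ Subgroup.mul_mem _ hc e)
      set v := n * b * n⁻¹ * b⁻¹ with hv
      have hvz : v ∈ zpowers z :=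
        mul_conj_inv_mem_zpowers h.elem h.card hnp hnA hzA hz1 (hzcomm n hnP) hbA
      have hv1 : v ≠ 1 := fun e => hbz (hfix b hbA (mul_inv_eq_iff_eq_mul.1 (mul_inv_eq_one.1 (hv ▸ e))))
      obtain ⟨i, hi⟩ : c ∈ zpowers v := by
        have e : zpowers v = zpowers z := Subgroup.eq_of_le_of_card_ge (Subgroup.zpowers_le.2 hvz) (by
          rw [Nat.card_zpowers, Nat.card_zpowers, hzord,
            orderOf_eq_prime (h.elem.2 v (Subgroup.zpowers_le.2 hzA hvz)) hv1])
        exact e ▸ hc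
      have hnv : Commute n v := commute_of_mem_zpowers (hzcomm n hnP) hvz
      obtain ⟨j, hj⟩ : ∃ j : ℕ, c = v ^ j := by
        obtain ⟨j, hj⟩ := (isOfFinOrder_of_finite v).mem_powers_iff_mem_zpowers.2 ⟨i, hi⟩
        exact ⟨j, hj.symm⟩
      have hconj : ∀ j : ℕ, n ^ j * b * (n ^ j)⁻¹ = v ^ j * b := by
        intro j
        induction j with
        | zero => simp
        | succ j ih =>
          calc n ^ (j + 1) * b * (n ^ (j + 1))⁻¹ = n * (n ^ j * b * (n ^ j)⁻¹) * n⁻¹ := by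
                rw [pow_succ']; group
            _ = (n * v ^ j * n⁻¹) * (n * b * n⁻¹) := by rw [ih]; group
            _ = v ^ j * (v * b) := by
                rw [(hnv.pow_right j).eq, mul_inv_cancel_right, show v * b = n * b * n⁻¹ by rw [hv]; group]
            _ = v ^ (j + 1) * b := by rw [pow_succ]; exact (mul_assoc _ _ _).symm
      have ha' : a = n ^ j * b * (n ^ j)⁻¹ := by rw [hconj, ← hj, hcb]
      set m := g * n ^ j * g⁻¹ with hm
      have hmM : m ∈ M := hPM (hgP' (P.pow_mem hnP j))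
      refine eq_bot_iff.2 fun y hy => ?_
      have hw : m⁻¹ * y * m ∈ sigmaCore M := by
        have := hKn m⁻¹ (inv_mem hmM) y hy.1
        rwa [inv_inv] at this
      have hyc : Commute y (g * a * g⁻¹) := Subgroup.mem_centralizer_singleton_iff.1 hy.2
      have h2 : Commute (m⁻¹ * y * m) (g * b * g⁻¹) := by
        have e : g * b * g⁻¹ = m⁻¹ * (g * a * g⁻¹) * m := by rw [hm, ha']; group
        rw [e]
        calc m⁻¹ * y * m * (m⁻¹ * (g * a * g⁻¹) * m) = m⁻¹ * (y * (g * a * g⁻¹)) * m := by group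
          _ = _ := by rw [hyc.eq]; group
      have hgen : g * x * g⁻¹ ∈ zpowers (g * b * g⁻¹) := by
        have e : zpowers b = zpowers x := Subgroup.eq_of_le_of_card_ge (Subgroup.zpowers_le.2 hb) (by
          rw [Nat.card_zpowers, Nat.card_zpowers, orderOf_eq_prime (h.elem.2 b hbA) hb1,
            orderOf_eq_prime (h.elem.2 x hxA) hx1])
        obtain ⟨i, hi⟩ := (e ▸ Subgroup.mem_zpowers x : x ∈ zpowers b)
        exact ⟨i, by show (g * b * g⁻¹) ^ i = _; rw [conj_zpow, show b ^ i = x from hi]⟩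
      have h3 : m⁻¹ * y * m ∈ sigmaCore M ⊓ centralizer ({g * x * g⁻¹} : Set G) :=
        ⟨hw, Subgroup.mem_centralizer_singleton_iff.2 (commute_of_mem_zpowers h2 hgen).eq⟩
      rw [hxfpf, Subgroup.mem_bot] at h3
      rw [Subgroup.mem_bot]
      calc y = m * (m⁻¹ * y * m) * m⁻¹ := by group
        _ = 1 := by rw [h3]; group
  -- generation
  have hA' : IsElementaryAbelian p (A.map (MulAut.conj g).toMonoidHom) :=
    PGroup.isElementaryAbelian_map h.elem _
  haveI := hA'.1
  refine sigmaCore_ne_bot h.minSimple h.coatom (Coprime.eq_of_forall_centralizer_le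
    (A := A.map (MulAut.conj g).toMonoidHom) (square_not_cyclic hA' ?_) ?_ ?_ bot_le ?_).symm
  · rw [Subgroup.card_map_of_injective (MulAut.conj g).injective, h.card]
  · rintro _ ⟨a, ha, rfl⟩
    exact le_normalizer_sigmaCore M (hPM (hgP' (hAS ha)))
  · exact h.setting.coprime_sigmaCore (PGroup.isPGroup_of_elementaryAbelian hA')
  · rintro _ ⟨a, ha, rfl⟩ hne
    exact (key a ha fun e => hne (by rw [e, map_one])).le

/-- The elements of order dividing `p` of a Sylow `p`-subgroup containing `A` are those of `A`. -/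
theorem mem_of_sylow (S : Sylow p M) (hAS : A ≤ (S : Subgroup M).map M.subtype) {x : G}
    (hx : x ∈ (S : Subgroup M).map M.subtype) (hxp : x ^ p = 1) : x ∈ A :=
  h.setting.hmax x (h.le_centralizer_of_sylow S hAS hx) hxp

/-- `A` contains a second line, fixed-point-free on `M_σ`. -/
theorem exists_fpf : ∃ b ∈ A, b ∉ A₀ ∧ orderOf b = p ∧
    sigmaCore M ⊓ centralizer ({b} : Set G) = ⊥ := by
  obtain ⟨S, hAS⟩ := h.exists_sylow
  obtain ⟨g, hgP, hg⟩ := h.exists_mem_normalizer S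
  obtain ⟨x, hx0, hx1, hx⟩ := h.exists_gen
  have hbp : (g * x * g⁻¹) ^ p = 1 := by
    rw [conj_pow, h.elem.2 x (h.line_le hx0), mul_one, mul_inv_cancel]
  refine ⟨g * x * g⁻¹, h.mem_of_sylow S hAS ((Subgroup.mem_normalizer_iff.1 hgP x).1 (hAS (h.line_le hx0))) hbp,
    fun hb => hg (h.normalizer_le (Coprime.mem_normalizer_of_conj_smul_eq ?_)),
    orderOf_eq_prime hbp (fun e => hx1 (by simpa using e)), h.fpf_conj (Subgroup.map_subtype_le _) hAS hg hgP hx⟩
  rw [← hx] at hb ⊢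
  refine Subgroup.eq_of_le_of_card_ge (fun y hy => ?_) (Coprime.card_conj_smul _ _).ge
  rw [Coprime.mem_conj_smul_iff] at hy
  obtain ⟨i, hi⟩ := hy
  have : y = (g * x * g⁻¹) ^ i := by rw [conj_zpow, show x ^ i = g⁻¹ * y * g from hi]; group
  exact this ▸ Subgroup.zpow_mem _ hb i

/-- The fixed-point-free lines are not all in one given line. -/
theorem exists_fpf_not_mem {y : G} (hy : y ∈ A) (hy1 : y ≠ 1) : ∃ b ∈ A, b ∉ zpowers y ∧ orderOf b = p ∧
    sigmaCore M ⊓ centralizer ({b} : Set G) = ⊥ := by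
  obtain ⟨S, hAS⟩ := h.exists_sylow
  obtain ⟨g, hgP, hg⟩ := h.exists_mem_normalizer S
  obtain ⟨x, hx0, hx1, hx⟩ := h.exists_gen
  have hxA := h.line_le hx0
  have key : ∀ g' : G, g' ∈ normalizer (((S : Subgroup M).map M.subtype : Subgroup G) : Set G) → g' ∉ M →
      g' * x * g'⁻¹ ∈ A ∧ orderOf (g' * x * g'⁻¹) = p ∧
        sigmaCore M ⊓ centralizer ({g' * x * g'⁻¹} : Set G) = ⊥ := fun g' hg' hgM' => by
    have hbp : (g' * x * g'⁻¹) ^ p = 1 := by rw [conj_pow, h.elem.2 x hxA, mul_one, mul_inv_cancel]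
    exact ⟨h.mem_of_sylow S hAS ((Subgroup.mem_normalizer_iff.1 hg' x).1 (hAS hxA)) hbp,
      orderOf_eq_prime hbp (fun e => hx1 (by simpa using e)),
      h.fpf_conj (Subgroup.map_subtype_le _) hAS hgM' hg' hx⟩
  obtain ⟨h1, h2, h3⟩ := key g hgP hg
  obtain ⟨h1', h2', h3'⟩ := key g⁻¹ (inv_mem hgP) fun hm => hg (inv_mem_iff.1 hm)
  by_cases e1 : g * x * g⁻¹ ∈ zpowers y
  swap
  · exact ⟨_, h1, e1, h2, h3⟩
  refine ⟨_, h1', fun e2 => hg ?_, h2', h3'⟩
  -- `g²` fixes the line `A₀`, and `g` has odd order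
  have hyo : Nat.card (zpowers y) = p := by rw [Nat.card_zpowers, orderOf_eq_prime (h.elem.2 y hy) hy1]
  have hgen : ∀ {b : G}, orderOf b = p → b ∈ zpowers y → zpowers b = zpowers y := fun {b} hb hby =>
    Subgroup.eq_of_le_of_card_ge (Subgroup.zpowers_le.2 hby) (by rw [hyo, Nat.card_zpowers, hb])
  have heq : g⁻¹ * x * g⁻¹⁻¹ ∈ zpowers (g * x * g⁻¹) := (hgen h2 e1).ge e2
  obtain ⟨i, hi⟩ := heq
  have hi' : (g * x * g⁻¹) ^ i = g⁻¹ * x * g⁻¹⁻¹ := hi
  have hsq : g * g ∈ M := by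
    refine h.normalizer_le (inv_mem_iff.1 (Coprime.mem_normalizer_of_conj_smul_eq ?_))
    rw [← hx]
    refine Subgroup.eq_of_le_of_card_ge ?_ (Coprime.card_conj_smul _ _).ge
    intro z hz
    rw [Coprime.mem_conj_smul_iff] at hz
    obtain ⟨j, hj⟩ := hz
    refine ⟨i * j, ?_⟩
    show x ^ (i * j) = z
    have hj' : x ^ j = (g * g)⁻¹⁻¹ * z * (g * g)⁻¹ := hj
    calc x ^ (i * j) = (g⁻¹ * (g * x * g⁻¹) ^ i * g) ^ j := by
          rw [conj_zpow, zpow_mul]
          congr 1
          group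
      _ = (g⁻¹ * (g⁻¹ * x * g⁻¹⁻¹) * g) ^ j := by rw [hi']
      _ = ((g * g)⁻¹ * x * (g * g)⁻¹⁻¹) ^ j := by congr 1; simp [mul_assoc]
      _ = (g * g)⁻¹ * x ^ j * (g * g)⁻¹⁻¹ := conj_zpow
      _ = z := by rw [hj']; group
  obtain ⟨k, hk⟩ := exists_pow_eq_self_of_coprime (n := 2) (x := g) (by
    rw [Nat.coprime_two_left]
    exact h.minSimple.1.of_dvd_nat (orderOf_dvd_natCard g))
  rw [← hk, pow_two]
  exact M.pow_mem hsq k

theorem sigmaCore_inf_centralizer : sigmaCore M ⊓ centralizer (A : Set G) = ⊥ := by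
  obtain ⟨b, hb, -, -, hfix⟩ := h.exists_fpf
  rw [eq_bot_iff, ← hfix]
  exact inf_le_inf_left _ (Subgroup.centralizer_le (Set.singleton_subset_iff.2 hb))

end Exc

end Cfsg.Agent.OddOrder
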