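import Cfsg.Agent.Lib.OddOrder.ExponentLayer
import Cfsg.Agent.Lib.OddOrder.RankTwo
import Cfsg.Agent.Lib.Coprime.Sylow

/-!
# Two invariant subgroups of prime order in a group with cyclic Sylow subgroups

`T` solvable of odd order, normalised by `A` coprimely, with an `A`-invariant cyclic Sylow `q`-subgroup
containing `⟨u⟩` and an `A`-invariant cyclic Sylow `s`-subgroup containing `⟨v⟩`.  Then up to conjugation by
`C_T(A)` one of `u`, `v` normalises the subgroup generated by the other (`exists_conj_mem_normalizer`).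
-/

set_option linter.style.haveILetI false
set_option linter.unusedSectionVars false

namespace Cfsg.Agent.OddOrder

open Cfsg
open Subgroup (centralizer normalizer zpowers)
open scoped commutatorElement Pointwise

universe u
variable {G : Type u} [Group G] [Finite G] {q : ℕ} [Fact q.Prime]

theorem le_core_of_normalized {H N : Subgroup G} (hle : N ≤ H) (hn : H ≤ normalizer (N : Set G))
    (hc : (Nat.card N).Coprime q) : N ≤ core q H := by
  haveI : (N.subgroupOf H).Normal := (Subgroup.normal_subgroupOf_iff_le_normalizer hle).2 hn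
  exact (Subgroup.map_subgroupOf_eq_of_le hle).ge.trans
    (Subgroup.map_mono (PCore.le_pPrimeCore (by rwa [Coprime.card_subgroupOf hle])))

theorem normalizer_le_normalizer_core' (H : Subgroup G) :
    normalizer (H : Set G) ≤ normalizer (core q H : Set G) := by
  intro g hg
  have hH : H.map (MulAut.conj g).toMonoidHom = H := Subgroup.mem_normalizer_iff_map_conj_eq.mp hg
  rw [Subgroup.mem_normalizer_iff_map_conj_eq]
  have hc := Subgroup.card_map_of_injective (K := core q H)
    (f := (MulAut.conj g).toMonoidHom) (MulEquiv.injective _)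
  refine Subgroup.eq_of_le_of_card_ge
    (le_core_of_normalized ((Subgroup.map_mono (core_le H)).trans_eq hH) ?_ ?_) hc.ge
  · conv_lhs => rw [← hH]
    exact (Subgroup.map_mono (le_normalizer_core H)).trans (Subgroup.le_normalizer_map _)
  · exact hc ▸ coprime_card_core H

theorem card_le_of_isCyclic {S E : Subgroup G} (hS : IsCyclic S) (hE : IsElementaryAbelian q E)
    (hES : E ≤ S) : Nat.card E ≤ q := by
  haveI := hS
  haveI : IsCyclic E :=
    isCyclic_of_injective (Subgroup.inclusion hES) (Subgroup.inclusion_injective hES)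
  obtain ⟨g, hg⟩ := IsCyclic.exists_ofOrder_eq_natCard (α := E)
  rw [← hg]
  exact Nat.le_of_dvd (Fact.out : q.Prime).pos (orderOf_dvd_of_pow_eq_one (Subtype.ext (hE.2 g g.2)))

theorem pRankLE_of_isCyclic {S : Subgroup G} (hS : IsCyclic S) : PRankLE q 2 S := fun E hE hEq => by
  rw [← Subgroup.card_map_of_injective S.subtype_injective]
  refine (card_le_of_isCyclic hS (PGroup.isElementaryAbelian_map ⟨hE, hEq⟩ _)
    (Subgroup.map_subtype_le E)).trans ?_
  exact Nat.le_self_pow (by norm_num) q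

theorem zpowers_eq_of_isCyclic {S : Subgroup G} (hS : IsCyclic S) {x y : G} (hx : x ∈ S) (hy : y ∈ S)
    (hxq : x ^ q = 1) (hyq : y ^ q = 1) (hx1 : x ≠ 1) (hy1 : y ≠ 1) : zpowers y = zpowers x := by
  haveI := hS
  have hcomm : Commute x y :=
    congrArg Subtype.val (IsCyclic.commGroup.mul_comm (⟨x, hx⟩ : S) ⟨y, hy⟩)
  have hel := isElementaryAbelian_sup (isElementaryAbelian_zpowers hxq) (isElementaryAbelian_zpowers hyq)
    (Subgroup.zpowers_le.2 (Subgroup.mem_centralizer_iff.2 fun a ha => by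
      obtain ⟨i, rfl⟩ := ha
      exact (hcomm.zpow_left i).eq))
  have h := card_le_of_isCyclic hS hel (sup_le (Subgroup.zpowers_le.2 hx) (Subgroup.zpowers_le.2 hy))
  rw [Subgroup.eq_of_le_of_card_ge (le_sup_left : zpowers x ≤ zpowers x ⊔ zpowers y)
    (h.trans (card_zpowers_eq hxq hx1).ge)]
  exact Subgroup.eq_of_le_of_card_ge le_sup_right (h.trans (card_zpowers_eq hyq hy1).ge)

variable {s : ℕ} [Fact s.Prime] {A T : Subgroup G}

/-- If `s ∤ |O_{q'}(T)|` then an `A`-invariant Sylow `s`-subgroup of `N_T(⟨u⟩)` is one of `T`, so some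
`C_T(A)`-conjugate of `v` normalises `⟨u⟩`. -/
theorem exists_conj_mem_normalizer_of_not_dvd [Group.IsSolvable T] (hodd : Odd (Nat.card T))
    (hAT : A ≤ normalizer (T : Set G)) (hcop : (Nat.card A).Coprime (Nat.card T)) {u : G} (hu1 : u ≠ 1)
    (huq : u ^ q = 1) (hAu : A ≤ normalizer (zpowers u : Set G)) (Sq : Sylow q T)
    (huS : u ∈ (Sq : Subgroup T).map T.subtype) (hSq : IsCyclic ((Sq : Subgroup T).map T.subtype))
    (hs : ¬ s ∣ Nat.card (core q T)) (Ss : Sylow s T)
    (hAS : A ≤ normalizer (((Ss : Subgroup T).map T.subtype : Subgroup G) : Set G)) {v : G}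
    (hv : v ∈ (Ss : Subgroup T).map T.subtype) :
    ∃ c ∈ T ⊓ centralizer (A : Set G), c * v * c⁻¹ ∈ normalizer (zpowers u : Set G) := by
  have hsp : s.Prime := Fact.out
  set Y := T ⊓ normalizer (zpowers u : Set G) with hY
  set O := core q T with hO
  have hTY : T = Y ⊔ O := by
    refine le_antisymm ?_ (sup_le inf_le_left (core_le T))
    have hr : PRankLE q 2 (Sq : Subgroup T) := pRankLE_of_injective
      (f := ((Sq : Subgroup T).equivMapOfInjective _ T.subtype_injective).toMonoidHom)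
      (MulEquiv.injective _) (pRankLE_of_isCyclic hSq)
    have h := congrArg (Subgroup.map T.subtype) (sup_normalizer_sylow_of_rankTwo hodd Sq hr)
    rw [Subgroup.map_sup, ← MonoidHom.range_eq_map, Subgroup.range_subtype] at h
    refine h.ge.trans (sup_le (le_sup_of_le_right (le_of_eq hO.symm)) (le_sup_of_le_left ?_))
    intro x hx
    refine ⟨Subgroup.map_subtype_le _ hx, ?_⟩
    have hxN := Subgroup.le_normalizer_map T.subtype hx
    show x ∈ normalizer (zpowers u : Set G)
    rw [Subgroup.mem_normalizer_iff_map_conj_eq, MonoidHom.map_zpowers]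
    have hxu : x * u * x⁻¹ ∈ (Sq : Subgroup T).map T.subtype := (Subgroup.mem_normalizer_iff.1 hxN u).1 huS
    show zpowers (x * u * x⁻¹) = zpowers u
    exact zpowers_eq_of_isCyclic hSq huS hxu huq (by rw [conj_pow, huq, mul_one, mul_inv_cancel]) hu1
      (fun e => hu1 (by
        calc u = x⁻¹ * (x * u * x⁻¹) * x := by group
          _ = 1 := by rw [e]; group))
  have hYn : Y ≤ normalizer (O : Set G) := inf_le_left.trans (le_normalizer_core T)
  have hdvd : Nat.card T ∣ Nat.card O * Nat.card Y := by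
    have h1 := Subgroup.relIndex_mul_relIndex ⊥ O (Y ⊔ O) bot_le le_sup_right
    rw [Subgroup.relIndex_bot_left, Subgroup.relIndex_bot_left,
      Coprime.relIndex_sup_right_of_le_normalizer hYn, ← hTY] at h1
    rw [← h1]
    exact Nat.mul_dvd_mul_left _ (O.relIndex_dvd_card Y)
  have hAY : A ≤ normalizer (Y : Set G) := Coprime.le_normalizer_inf_normalizer hAT hAu
  have hcopY := hcop.coprime_dvd_right (Subgroup.card_dvd_of_le (inf_le_left : Y ≤ T))
  obtain ⟨R, hR⟩ := Coprime.exists_invariant_sylow hAY hcopY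
    (Or.inr (Coprime.isSolvable_of_le inf_le_left ‹_›)) s
  set X := (R : Subgroup Y).map Y.subtype with hX
  have hXY : X ≤ Y := Subgroup.map_subtype_le _
  obtain ⟨Q, hQX, hQA⟩ := Coprime.exists_invariant_sylow_ge hAT hcop (Or.inr ‹_›)
    (hXY.trans inf_le_left) (R.2.map _) hR
  have hXQ : X = (Q : Subgroup T).map T.subtype := by
    refine Subgroup.eq_of_le_of_card_ge hQX (Nat.le_of_dvd Nat.card_pos ?_)
    obtain ⟨j, hj⟩ := Q.2.exists_card_eq
    rw [Subgroup.card_map_of_injective T.subtype_injective, hX,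
      Subgroup.card_map_of_injective Y.subtype_injective, hj]
    refine R.pow_dvd_card_of_pow_dvd_card ?_
    refine (Nat.Coprime.pow_left j (hsp.coprime_iff_not_dvd.2 hs)).dvd_of_dvd_mul_left ?_
    exact (hj ▸ (Q : Subgroup T).card_subgroup_dvd_card).trans hdvd
  obtain ⟨c, hcA, hc⟩ := Coprime.exists_centralizer_smul_sylow hAT hcop (Or.inr ‹_›) Ss Q hAS hQA
  refine ⟨c, ⟨c.2, hcA⟩, (hXY (hXQ.ge ?_)).2⟩
  obtain ⟨w, hw, rfl⟩ := hv
  refine ⟨c * w * c⁻¹, ?_, by simp⟩
  rw [← hc]
  exact ⟨w, hw, rfl⟩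

/-- The main configuration: one of `u`, `v` normalises a `C_T(A)`-conjugate of the group generated by the
other. -/
theorem exists_conj_mem_normalizer [Group.IsSolvable T] (hodd : Odd (Nat.card T)) (hne : q ≠ s)
    (hAT : A ≤ normalizer (T : Set G)) (hcop : (Nat.card A).Coprime (Nat.card T)) {u v : G}
    (huT : u ∈ T) (hu1 : u ≠ 1) (huq : u ^ q = 1) (hAu : A ≤ normalizer (zpowers u : Set G))
    (hvT : v ∈ T) (hv1 : v ≠ 1) (hvs : v ^ s = 1) (hAv : A ≤ normalizer (zpowers v : Set G))
    (hSq : ∀ S : Sylow q T, u ∈ (S : Subgroup T).map T.subtype →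
      A ≤ normalizer (((S : Subgroup T).map T.subtype : Subgroup G) : Set G) →
      IsCyclic ((S : Subgroup T).map T.subtype))
    (hSs : ∀ S : Sylow s T, v ∈ (S : Subgroup T).map T.subtype →
      A ≤ normalizer (((S : Subgroup T).map T.subtype : Subgroup G) : Set G) →
      IsCyclic ((S : Subgroup T).map T.subtype)) :
    ∃ c ∈ T ⊓ centralizer (A : Set G), c * v * c⁻¹ ∈ normalizer (zpowers u : Set G) ∨
      c * u * c⁻¹ ∈ normalizer (zpowers v : Set G) := by
  have hqp : q.Prime := Fact.out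
  have hsp : s.Prime := Fact.out
  have hup := isElementaryAbelian_zpowers huq
  have hvp := isElementaryAbelian_zpowers hvs
  obtain ⟨Sq, huS, hAq⟩ := Coprime.exists_invariant_sylow_ge hAT hcop (Or.inr ‹_›)
    (Subgroup.zpowers_le.2 huT) (PGroup.isPGroup_of_elementaryAbelian hup) hAu
  obtain ⟨Ss, hvS, hAs⟩ := Coprime.exists_invariant_sylow_ge hAT hcop (Or.inr ‹_›)
    (Subgroup.zpowers_le.2 hvT) (PGroup.isPGroup_of_elementaryAbelian hvp) hAv
  have huS' := huS (Subgroup.mem_zpowers u)
  have hvS' := hvS (Subgroup.mem_zpowers v)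
  by_cases hs : s ∣ Nat.card (core q T)
  swap
  · obtain ⟨c, hc, h⟩ := exists_conj_mem_normalizer_of_not_dvd hodd hAT hcop hu1 huq hAu Sq huS'
      (hSq Sq huS' hAq) hs Ss hAs hvS'
    exact ⟨c, hc, Or.inl h⟩
  by_cases hq : q ∣ Nat.card (core s T)
  swap
  · obtain ⟨c, hc, h⟩ := exists_conj_mem_normalizer_of_not_dvd hodd hAT hcop hv1 hvs hAv Ss hvS'
      (hSs Ss hvS' hAs) hq Sq hAq huS'
    exact ⟨c, hc, Or.inr h⟩
  have hmem : ∀ {r : ℕ} [Fact r.Prime] (S : Sylow r T) (w : G), w ∈ (S : Subgroup T).map T.subtype →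
      IsCyclic ((S : Subgroup T).map T.subtype) → w ^ r = 1 → w ≠ 1 → ∀ {O : Subgroup G}, O ≤ T →
      T ≤ normalizer (O : Set G) → r ∣ Nat.card O → w ∈ O := by
    intro r _ S w hw hcyc hwr hw1 O hOT hTO hd
    obtain ⟨x, hx⟩ := exists_prime_orderOf_dvd_card' r hd
    obtain ⟨R, hR⟩ := (PGroup.isPGroup_of_elementaryAbelian (p := r) (isElementaryAbelian_zpowers
      (show (⟨x, hOT x.2⟩ : T) ^ r = 1 from Subtype.ext (by
        rw [Subgroup.coe_pow, Subgroup.coe_one, ← hx, ← Subgroup.orderOf_coe, pow_orderOf_eq_one])))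
      ).exists_le_sylow
    obtain ⟨t, ht⟩ := MulAction.exists_smul_eq T R S
    set y := (t : G) * x * (t : G)⁻¹ with hy
    have hyS : y ∈ (S : Subgroup T).map T.subtype := by
      rw [← ht]
      exact ⟨t * ⟨x, hOT x.2⟩ * t⁻¹, ⟨⟨x, hOT x.2⟩, hR (Subgroup.mem_zpowers _), rfl⟩, rfl⟩
    have hyO : y ∈ O := (Subgroup.mem_normalizer_iff.1 (hTO t.2) x).1 x.2
    have hyo : orderOf y = r := by
      rw [hy, show (t : G) * x * (t : G)⁻¹ = MulAut.conj (t : G) x from rfl, MulEquiv.orderOf_eq,
        Subgroup.orderOf_coe, hx]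
    have he := zpowers_eq_of_isCyclic hcyc hw hyS hwr (hyo ▸ pow_orderOf_eq_one y) hw1
      (fun e => (Fact.out : r.Prime).ne_one (hyo.symm.trans (e ▸ orderOf_one)))
    exact Subgroup.zpowers_le.2 hyO (he.ge (Subgroup.mem_zpowers w))
  have huO : u ∈ core s T :=
    hmem Sq u huS' (hSq Sq huS' hAq) huq hu1 (core_le T) (le_normalizer_core T) hq
  have hvO : v ∈ core q T :=
    hmem Ss v hvS' (hSs Ss hvS' hAs) hvs hv1 (core_le T) (le_normalizer_core T) hs
  set E := core s T ⊓ core q T with hE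
  have hAE : A ≤ normalizer (E : Set G) := Coprime.le_normalizer_inf_of_le
    (hAT.trans (normalizer_le_normalizer_core' T)) (hAT.trans (normalizer_le_normalizer_core' T))
  have hTE : T ≤ normalizer (E : Set G) :=
    Coprime.le_normalizer_inf_of_le (le_normalizer_core T) (le_normalizer_core T)
  have hcomm : ⁅u, v⁆ ∈ E := by
    rw [commutatorElement_def]
    refine ⟨?_, mul_mem ((Subgroup.mem_normalizer_iff.1 (le_normalizer_core T huT) v).1 hvO) (Subgroup.inv_mem _ hvO)⟩
    rw [mul_assoc u, mul_assoc]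
    exact mul_mem huO ((Subgroup.mem_normalizer_iff.1 (le_normalizer_core T hvT) _).1 (Subgroup.inv_mem _ huO))
  have hEs : (Nat.card E).Coprime s :=
    (coprime_card_core T).coprime_dvd_left (Subgroup.card_dvd_of_le inf_le_left)
  have hEq : (Nat.card E).Coprime q :=
    (coprime_card_core T).coprime_dvd_left (Subgroup.card_dvd_of_le inf_le_right)
  set X := A ⊔ zpowers u with hX
  set Y := zpowers v ⊔ E with hY
  have hvE : zpowers v ≤ normalizer (E : Set G) := (Subgroup.zpowers_le.2 hvT).trans hTE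
  have hXY : X ≤ normalizer (Y : Set G) := by
    refine sup_le (fun a ha => ?_) (Subgroup.zpowers_le.2 ?_)
    · rw [Subgroup.mem_normalizer_iff_map_conj_eq, Subgroup.map_sup,
        Subgroup.mem_normalizer_iff_map_conj_eq.1 (hAv ha), Subgroup.mem_normalizer_iff_map_conj_eq.1 (hAE ha)]
    · rw [Subgroup.mem_normalizer_iff_map_conj_eq]
      refine Subgroup.eq_of_le_of_card_ge ?_ (Subgroup.card_map_of_injective (MulAut.conj u).injective).ge
      rw [Subgroup.map_sup, MonoidHom.map_zpowers, Subgroup.mem_normalizer_iff_map_conj_eq.1 (hTE huT)]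
      refine sup_le (Subgroup.zpowers_le.2 ?_) le_sup_right
      show u * v * u⁻¹ ∈ Y
      rw [show u * v * u⁻¹ = ⁅u, v⁆ * v by simp only [commutatorElement_def]; group]
      exact mul_mem (Subgroup.mem_sup_right hcomm) (Subgroup.mem_sup_left (Subgroup.mem_zpowers v))
  have hYT : Y ≤ T := sup_le (Subgroup.zpowers_le.2 hvT) (inf_le_left.trans (core_le T))
  have hYcard : Nat.card Y = s * Nat.card E := by
    rw [hY, Coprime.card_sup_of_le_normalizer hvE (Coprime.disjoint_of_coprime_card
      (by rw [card_zpowers_eq hvs hv1]; exact hEs.symm)), card_zpowers_eq hvs hv1]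
  have hXcard : Nat.card X = Nat.card A * q := by
    rw [hX, Coprime.card_sup_of_le_normalizer hAu (Coprime.disjoint_of_coprime_card
      (hcop.coprime_dvd_right (Subgroup.card_dvd_of_le (Subgroup.zpowers_le.2 huT)))),
      card_zpowers_eq huq hu1]
  have hcopXY : (Nat.card X).Coprime (Nat.card Y) := by
    rw [hXcard]
    refine Nat.Coprime.mul_left (hcop.coprime_dvd_right (Subgroup.card_dvd_of_le hYT)) ?_
    rw [hYcard]
    exact Nat.Coprime.mul_right ((Nat.coprime_primes hqp hsp).2 hne) hEq.symm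
  have hsol : Group.IsSolvable Y := Coprime.isSolvable_of_le hYT ‹_›
  obtain ⟨P, hPv, hPA⟩ := Coprime.exists_invariant_sylow_ge (A := A) (le_sup_left.trans hXY)
    (hcopXY.coprime_dvd_left (Subgroup.card_dvd_of_le le_sup_left)) (Or.inr hsol)
    (le_sup_left : zpowers v ≤ Y) (PGroup.isPGroup_of_elementaryAbelian hvp) hAv
  have hPeq : zpowers v = (P : Subgroup Y).map Y.subtype := by
    refine Subgroup.eq_of_le_of_card_ge hPv (Nat.le_of_dvd Nat.card_pos ?_)
    obtain ⟨j, hj⟩ := P.2.exists_card_eq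
    rw [Subgroup.card_map_of_injective Y.subtype_injective, hj, card_zpowers_eq hvs hv1]
    refine (Nat.Coprime.pow_left j hEs.symm).dvd_of_dvd_mul_right ?_
    rw [← hYcard, ← hj]
    exact (P : Subgroup Y).card_subgroup_dvd_card
  obtain ⟨P', hP'⟩ := Coprime.exists_invariant_sylow hXY hcopXY (Or.inr hsol) s
  obtain ⟨c, hcA, hc⟩ := Coprime.exists_centralizer_smul_sylow (A := A) (le_sup_left.trans hXY)
    (hcopXY.coprime_dvd_left (Subgroup.card_dvd_of_le le_sup_left)) (Or.inr hsol) P P' hPA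
    (le_sup_left.trans hP')
  refine ⟨(c : G)⁻¹, ⟨Subgroup.inv_mem _ (hYT c.2), Subgroup.inv_mem _ hcA⟩, Or.inr ?_⟩
  have hcu : u ∈ normalizer ((MulAut.conj (c : G) • zpowers v : Subgroup G) : Set G) := by
    have h := hP' (Subgroup.mem_sup_right (Subgroup.mem_zpowers u))
    rw [← hc, Sylow.coe_subgroup_smul, Coprime.map_conj_smul, ← hPeq] at h
    exact h
  rw [Subgroup.mem_normalizer_iff_map_conj_eq]
  have h1 : MulAut.conj u • MulAut.conj (c : G) • zpowers v = MulAut.conj (c : G) • zpowers v :=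
    Coprime.conj_smul_eq_self_of_mem hcu
  have h2 := congrArg (fun K : Subgroup G => MulAut.conj (c : G)⁻¹ • K) h1
  simp only [Coprime.conj_smul_smul, inv_mul_cancel, map_one, one_smul] at h2
  rw [inv_inv]
  refine Eq.trans ?_ h2
  rw [← mul_assoc]
  rfl

end Cfsg.Agent.OddOrder
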