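import Cfsg.Agent.Lib.OddOrder.RankTwo
import Cfsg.Agent.Lib.Components.Fitting
import Cfsg.Agent.Lib.Subnormal.Nilpotent
import Cfsg.Agent.Lib.OddOrder.FittingLocal
import Mathlib.LinearAlgebra.Matrix.Charpoly.Coeff
import Mathlib.LinearAlgebra.Matrix.ToLin
import Mathlib.Algebra.Module.ZMod

/-!
# Odd solvable groups all of whose `O_r` have rank at most 2

* `commute_of_odd_matrix`: odd solvable groups of 2 × 2 matrices of order prime to the characteristic are
  abelian;
* `commutator_le_centralizer_pCore`: elements of `G'` of order prime to `r` centralise a rank-two `O_r(G)`;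
* `commutator_le_fittingSubgroup`: `G' ≤ F(G)`.
-/

set_option linter.style.haveILetI false
set_option linter.unusedSectionVars false

namespace Cfsg.Agent.OddOrder

open Cfsg
open Subgroup (centralizer normalizer zpowers)
open scoped commutatorElement

section Matrix

variable {F : Type*} [Field F]

theorem eq_add_smul_of_commute {g h : Matrix (Fin 2) (Fin 2) F} (hg : ∀ c : F, g ≠ c • 1)
    (hc : g * h = h * g) : ∃ a b : F, h = a • 1 + b • g := by
  have h00 := congrFun (congrFun hc 0) 0
  have h01 := congrFun (congrFun hc 0) 1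
  have h10 := congrFun (congrFun hc 1) 0
  simp only [Matrix.mul_apply, Fin.sum_univ_two] at h00 h01 h10
  by_cases hb : g 0 1 = 0
  · by_cases hc' : g 1 0 = 0
    · have hd : g 0 0 - g 1 1 ≠ 0 := by
        intro hd
        refine hg (g 0 0) ?_
        ext i j
        fin_cases i <;> fin_cases j <;> simp [hb, hc', sub_eq_zero.1 hd]
      refine ⟨h 0 0 - (h 0 0 - h 1 1) / (g 0 0 - g 1 1) * g 0 0,
        (h 0 0 - h 1 1) / (g 0 0 - g 1 1), ?_⟩
      have e01 : h 0 1 = 0 := by
        apply (mul_left_inj' hd).1
        linear_combination h01 - (h 1 1 - h 0 0) * hb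
      have e10 : h 1 0 = 0 := by
        apply (mul_left_inj' hd).1
        linear_combination -h10 + (h 0 0 - h 1 1) * hc'
      ext i j
      fin_cases i <;> fin_cases j <;> simp [hb, hc', e01, e10]
      field_simp
      ring
    · refine ⟨h 0 0 - h 1 0 / g 1 0 * g 0 0, h 1 0 / g 1 0, ?_⟩
      have e01 : h 0 1 = h 1 0 / g 1 0 * g 0 1 := by
        field_simp
        linear_combination -h00
      ext i j
      fin_cases i <;> fin_cases j <;> simp [e01]
      · field_simp
      · field_simp
        linear_combination -h10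
  · refine ⟨h 0 0 - h 0 1 / g 0 1 * g 0 0, h 0 1 / g 0 1, ?_⟩
    ext i j
    fin_cases i <;> fin_cases j <;> simp
    · field_simp
    · field_simp
      linear_combination h00
    · field_simp
      linear_combination h01

/-- Finite solvable groups of odd order of `2 × 2` matrices, of order prime to the characteristic, are
abelian. -/
theorem commute_of_odd_matrix {Γ : Type*} [Group Γ] [Finite Γ] [Group.IsSolvable Γ]
    (hodd : Odd (Nat.card Γ)) (h2 : (2 : F) ≠ 0) (ρ : Γ →* Matrix (Fin 2) (Fin 2) F)
    (hρ : Function.Injective ρ) (hord : ∀ γ : Γ, ((orderOf γ : ℕ) : F) ≠ 0) (x y : Γ) :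
    x * y = y * x := by
  by_contra hxy
  have hΓ' : derivedSeries Γ 1 ≠ ⊥ := fun h => hxy <| commutatorElement_eq_one_iff_mul_comm.1 <| by
    rw [← Subgroup.mem_bot, ← h, derivedSeries_one, commutator_def]
    exact Subgroup.commutator_mem_commutator trivial trivial
  -- the last nontrivial term of the derived series
  obtain ⟨n, hn, hn1⟩ : ∃ n, derivedSeries Γ (n + 1) ≠ ⊥ ∧ derivedSeries Γ (n + 2) = ⊥ := by
    have hex := Group.IsSolvable.solvable (G := Γ)
    classical
    have hm := Nat.find_spec hex
    have h2le : 2 ≤ Nat.find hex := by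
      by_contra hlt
      exact hΓ' (le_bot_iff.1 (hm ▸ derivedSeries_antitone Γ (by omega : Nat.find hex ≤ 1)))
    exact ⟨Nat.find hex - 2, Nat.find_min hex (by omega), by
      rw [Nat.sub_add_cancel h2le]; exact hm⟩
  obtain ⟨g, hg, hg1⟩ := (Subgroup.ne_bot_iff_exists_ne_one.1 hn)
    |> fun ⟨a, ha⟩ => (⟨a.1, a.2, fun e => ha (Subtype.ext e)⟩ : ∃ g ∈ derivedSeries Γ (n + 1), g ≠ 1)
  have hcomm : ∀ a ∈ derivedSeries Γ (n + 1), ∀ b ∈ derivedSeries Γ (n + 1), a * b = b * a :=
    fun a ha b hb => commutatorElement_eq_one_iff_mul_comm.1 (Subgroup.mem_bot.1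
      (hn1 ▸ Subgroup.commutator_mem_commutator ha hb))
  have hdet : ∀ a ∈ derivedSeries Γ (n + 1), (ρ a).det = 1 := fun a ha => by
    have h1 : a ∈ commutator Γ := derivedSeries_one Γ ▸ derivedSeries_antitone Γ (by omega : 1 ≤ n + 1) ha
    have h3 := Abelianization.commutator_subset_ker (MonoidHom.toHomUnits (Matrix.detMonoidHom.comp ρ)) h1
    exact congrArg Units.val (MonoidHom.mem_ker.1 h3)
  have hodd' : ∀ a : Γ, Odd (orderOf a) := fun a => hodd.of_dvd_nat (orderOf_dvd_natCard a)
  have hinv : ∀ a : Γ, a = a⁻¹ → a = 1 := fun a ha => orderOf_eq_one_iff.1 <| by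
    rcases (Nat.dvd_prime Nat.prime_two).1 (orderOf_dvd_of_pow_eq_one
      (show a ^ 2 = 1 by rw [pow_two]; nth_rw 2 [ha]; rw [mul_inv_cancel])) with h | h
    · exact h
    · exact absurd (h ▸ hodd' a) (by decide)
  have hns : ∀ c : F, ρ g ≠ c • 1 := by
    intro c hc
    refine hg1 (hinv g (eq_inv_of_mul_eq_one_left (hρ ?_)))
    have := hdet g hg
    rw [hc, Matrix.det_smul, Matrix.det_one, Fintype.card_fin, mul_one, pow_two] at this
    rw [map_mul, map_one, hc, smul_mul_smul_comm, this, one_smul, one_mul]
  set t := ρ g 0 0 + ρ g 1 1 with ht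
  have hd1 : ρ g 0 0 * ρ g 1 1 - ρ g 0 1 * ρ g 1 0 = 1 := by
    rw [← Matrix.det_fin_two]; exact hdet g hg
  have hch : ρ g * ρ g = t • ρ g - 1 := by
    ext i j
    fin_cases i <;> fin_cases j <;> simp [Matrix.mul_apply, Fin.sum_univ_two, ht] <;>
      first | ring1 | linear_combination -hd1 | linear_combination hd1
  have ht4 : t * t ≠ 4 := by
    intro h4
    obtain ⟨s, hs, hst⟩ : ∃ s : F, s * s = 1 ∧ t = 2 * s := ⟨t / 2, by
      field_simp; linear_combination h4, by field_simp⟩
    -- `ρ g = s + N` with `N² = 0`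
    set N := ρ g - s • (1 : Matrix (Fin 2) (Fin 2) F) with hN
    have hN2 : N * N = 0 := by
      rw [hN, sub_mul, mul_sub, mul_sub, hch, hst]
      simp only [mul_smul_comm, smul_mul_assoc, one_mul, mul_one, smul_smul, hs, one_smul]
      module
    have hpow : ∀ k : ℕ, s • (ρ g) ^ k = s ^ (k + 1) • (1 : Matrix (Fin 2) (Fin 2) F) +
        ((k : F) * s ^ k) • N := by
      intro k
      induction k with
      | zero => simp
      | succ k ih =>
        have e : ρ g = s • 1 + N := by rw [hN]; abel
        rw [pow_succ, ← smul_mul_assoc, ih]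
        conv_lhs => rw [e]
        rw [add_mul, mul_add, mul_add, smul_mul_smul_comm, one_mul, smul_one_mul, smul_mul_assoc,
          mul_smul_comm, mul_one, smul_smul, smul_mul_assoc, hN2, smul_zero, add_zero, Nat.cast_succ]
        module
    have h := hpow (orderOf g)
    rw [← map_pow, pow_orderOf_eq_one, map_one] at h
    set k := orderOf g
    have hsk : s ^ (k + 1) = 1 := by
      obtain ⟨m, hm⟩ := hodd' g
      rw [show k + 1 = 2 * (m + 1) by omega, pow_mul, pow_two, hs, one_pow]
    have hk0 : (k : F) * s ^ k ≠ 0 :=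
      mul_ne_zero (hord g) (pow_ne_zero _ (fun e => by rw [e, zero_mul] at hs; exact one_ne_zero hs.symm))
    refine hns ((s - 1) / ((k : F) * s ^ k) + s) ?_
    rw [hsk, ← sub_eq_iff_eq_add', ← sub_smul] at h
    have hN' : N = ((s - 1) / ((k : F) * s ^ k)) • 1 := by
      rw [div_eq_inv_mul, ← smul_smul, h, smul_smul, inv_mul_cancel₀ hk0, one_smul]
    rw [add_smul, ← hN', hN, sub_add_cancel]
  -- `g` is central
  have hcent : ∀ k : Γ, k * g = g * k := by
    intro k
    have hk : k * g * k⁻¹ ∈ derivedSeries Γ (n + 1) := (derivedSeries_normal (G := Γ) (n + 1)).conj_mem g hg k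
    obtain ⟨a, b, hab⟩ := eq_add_smul_of_commute hns (g := ρ g) (h := ρ (k * g * k⁻¹))
      (by rw [← map_mul, ← map_mul, hcomm g hg _ hk])
    have htr : (ρ (k * g * k⁻¹)).trace = t := by
      rw [map_mul, Matrix.trace_mul_comm, ← map_mul, inv_mul_cancel_left, Matrix.trace_fin_two, ht]
    have hdt := hdet _ hk
    rw [hab] at htr hdt
    simp only [Matrix.trace_fin_two, Matrix.det_fin_two, Matrix.add_apply, Matrix.smul_apply,
      Matrix.one_apply_eq, smul_eq_mul, Matrix.one_apply_ne (show (0 : Fin 2) ≠ 1 by decide),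
      Matrix.one_apply_ne (show (1 : Fin 2) ≠ 0 by decide), mul_zero, mul_one, zero_add] at htr hdt
    have hb : (b - 1) * (b + 1) = 0 := by
      apply (mul_left_inj' (sub_ne_zero.2 ht4)).1
      linear_combination (4 : F) * -hdt + (2 * a + b * t + t) * htr + (4 * b ^ 2) * hd1
        + 0 * ht
    rcases mul_eq_zero.1 hb with h | h
    · have hb1 : b = 1 := sub_eq_zero.1 h
      subst hb1
      have ha : a = 0 := (mul_right_inj' h2).1 (by linear_combination htr + 0 * ht)
      rw [ha, zero_smul, one_smul, zero_add] at hab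
      exact mul_inv_eq_iff_eq_mul.1 (hρ hab)
    · have hb1 : b = -1 := eq_neg_of_add_eq_zero_left h
      subst hb1
      have ha : a = t := (mul_right_inj' h2).1 (by linear_combination htr + 0 * ht)
      have h' : k * g * k⁻¹ = g⁻¹ := by
        refine eq_inv_of_mul_eq_one_left (hρ ?_)
        rw [map_mul, map_one, hab, ha, add_mul, smul_one_mul, smul_mul_assoc, hch]
        module
      -- `k²` centralizes `g`
      have hk2 : Commute (k ^ 2) g := by
        have e : k ^ 2 * g * (k ^ 2)⁻¹ = g := by
          rw [pow_two, show k * k * g * (k * k)⁻¹ = k * (k * g * k⁻¹) * k⁻¹ by group, h',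
            show k * g⁻¹ * k⁻¹ = (k * g * k⁻¹)⁻¹ by group, h', inv_inv]
        exact mul_inv_eq_iff_eq_mul.1 e
      obtain ⟨m, hm⟩ := hodd' k
      have hk1 : k = (k ^ 2) ^ (m + 1) := by
        rw [← pow_mul, show 2 * (m + 1) = orderOf k + 1 by omega, pow_succ, pow_orderOf_eq_one, one_mul]
      rw [hk1]
      exact (hk2.pow_left (m + 1)).eq
  obtain ⟨a, b, hx⟩ := eq_add_smul_of_commute hns (g := ρ g) (h := ρ x)
    (by rw [← map_mul, ← map_mul, hcent])
  refine hxy (hρ ?_)
  obtain ⟨c, d, hy⟩ := eq_add_smul_of_commute hns (g := ρ g) (h := ρ y)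
    (by rw [← map_mul, ← map_mul, hcent])
  rw [map_mul, map_mul, hx, hy]
  simp only [add_mul, mul_add, smul_mul_smul_comm, one_mul, mul_one]
  module

end Matrix

variable {G : Type*} [Group G] [Finite G]

omit [Finite G] in
/-- The derived group centralises cyclic normal subgroups. -/
theorem commutator_le_centralizer_of_isCyclic (W : Subgroup G) [W.Normal] [IsCyclic W] :
    commutator G ≤ centralizer (W : Set G) := by
  rw [commutator_def, Subgroup.commutator_le]
  intro a _ b _
  refine Subgroup.mem_centralizer_iff.2 fun w hw => ?_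
  have h : MulAut.conjNormal (H := W) ⁅a, b⁆ = 1 := by
    rw [map_commutatorElement, commutatorElement_eq_one_iff_mul_comm]
    apply (IsCyclic.mulAutMulEquiv W).injective
    rw [map_mul, map_mul, mul_comm]
  have := congrArg Subtype.val (DFunLike.congr_fun h ⟨w, hw⟩)
  rw [MulAut.conjNormal_apply, MulAut.one_apply, mul_inv_eq_iff_eq_mul] at this
  exact this.symm

variable {p : ℕ} [Fact p.Prime] [Group.IsSolvable G]

/-- Elements of `G'` of order prime to `p` centralise normal p-subgroups of order at most `p²`. -/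
theorem mem_centralizer_of_card_le (hodd : Odd (Nat.card G)) (hp2 : p ≠ 2) (V : Subgroup G) [hVn : V.Normal]
    (hV : IsPGroup p V) (hV2 : Nat.card V ≤ p ^ 2) {x : G} (hx : x ∈ commutator G)
    (hxp : (orderOf x).Coprime p) : x ∈ centralizer (V : Set G) := by
  have hpp : p.Prime := Fact.out
  by_cases hc : IsCyclic V
  · exact commutator_le_centralizer_of_isCyclic V hx
  obtain ⟨k, hk⟩ := hV.exists_card_eq
  have hk2 : k = 2 := by
    have : k ≤ 2 := (Nat.pow_le_pow_iff_right hpp.one_lt).1 (hk ▸ hV2)
    interval_cases k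
    · haveI := (Nat.card_eq_one_iff_unique.1 (hk.trans (pow_zero p))).1; exact absurd isCyclic_of_subsingleton hc
    · exact absurd (isCyclic_of_prime_card (hk.trans (pow_one p))) hc
    · rfl
  subst hk2
  have hexp : ∀ v : V, v ^ p = 1 := fun v => by
    obtain ⟨j, hj, hj'⟩ := (Nat.dvd_prime_pow hpp).1 (hk ▸ orderOf_dvd_natCard v)
    interval_cases j
    · rw [pow_zero, orderOf_eq_one_iff] at hj'
      rw [hj', one_pow]
    · rw [← orderOf_dvd_iff_pow_eq_one, hj', pow_one]
    · exact absurd (isCyclic_of_orderOf_eq_card v (hj'.trans hk.symm)) hc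
  set C := centralizer (V : Set G) with hC
  obtain ⟨T⟩ : Nonempty (Sylow p G) := inferInstance
  have hker : ∀ g : G, MulAut.conjNormal (H := V) g = 1 ↔ g ∈ C := fun g => by
    rw [hC, Subgroup.mem_centralizer_iff, MulEquiv.ext_iff]
    refine ⟨fun h v hv => ?_, fun h v => Subtype.ext ?_⟩
    · have := congrArg Subtype.val (h ⟨v, hv⟩)
      rw [MulAut.conjNormal_apply, MulAut.one_apply, mul_inv_eq_iff_eq_mul] at this
      exact this.symm
    · rw [MulAut.conjNormal_apply, MulAut.one_apply, mul_inv_eq_iff_eq_mul]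
      exact (h v v.2).symm
  by_cases hT : (T : Subgroup G) ≤ C
  · -- the action is linear of order prime to `p`
    let _ : CommGroup V :=
      { (inferInstance : Group V) with mul_comm := (IsPGroup.commGroupOfCardEqPrimeSq hk).mul_comm }
    haveI : Module (ZMod p) (Additive V) := AddCommGroup.zmodModule fun v =>
      congrArg Additive.ofMul (hexp (Additive.toMul v))
    haveI : Module.Finite (ZMod p) (Additive V) := Module.Finite.of_finite
    have hfr : Module.finrank (ZMod p) (Additive V) = 2 := by
      have h : Nat.card (Additive V) = Nat.card (ZMod p) ^ Module.finrank (ZMod p) (Additive V) :=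
        Module.natCard_eq_pow_finrank (K := ZMod p)
      rw [Nat.card_zmod, Nat.card_congr Additive.toMul, hk] at h
      exact Nat.pow_right_injective hpp.two_le h.symm
    let B := Module.finBasisOfFinrankEq (ZMod p) (Additive V) hfr
    set Γ := (MulAut.conjNormal (H := V)).range with hΓ
    let ρ₀ : Γ →* Module.End (ZMod p) (Additive V) :=
      { toFun := fun f => AddMonoidHom.toZModLinearMap p
          ({ toFun := fun v => Additive.ofMul ((f : MulAut V) (Additive.toMul v))
             map_zero' := congrArg Additive.ofMul (map_one (f : MulAut V))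
             map_add' := fun v w => congrArg Additive.ofMul
              (map_mul (f : MulAut V) (Additive.toMul v) (Additive.toMul w)) } :
            Additive V →+ Additive V)
        map_one' := LinearMap.ext fun _ => rfl
        map_mul' := fun f g => LinearMap.ext fun v => by
          rw [Module.End.mul_apply, AddMonoidHom.coe_toZModLinearMap, AddMonoidHom.coe_toZModLinearMap,
            AddMonoidHom.coe_toZModLinearMap]
          rfl }
    let ρ : Γ →* Matrix (Fin 2) (Fin 2) (ZMod p) :=
      (LinearMap.toMatrixAlgEquiv B).toMulEquiv.toMonoidHom.comp ρ₀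
    have hρ : Function.Injective ρ := fun a b h => Subtype.ext <| MulEquiv.ext fun v => by
      have h' := (LinearMap.toMatrixAlgEquiv B).injective h
      exact congrArg Additive.toMul (LinearMap.congr_fun h' (Additive.ofMul v))
    have hcard : ¬ p ∣ Nat.card Γ := fun h => T.not_dvd_index <| h.trans <| by
      rw [hΓ, ← Subgroup.index_ker]
      exact Subgroup.index_dvd_of_le fun t ht => (hker t).2 (hT ht)
    haveI : Group.IsSolvable Γ := Group.isSolvable_of_surjective
      (MonoidHom.rangeRestrict_surjective (MulAut.conjNormal (H := V) (G := G)))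
    have hcomm := commute_of_odd_matrix (F := ZMod p)
      (hodd.of_dvd_nat (by rw [hΓ, ← Subgroup.index_ker]; exact Subgroup.index_dvd_card _))
      (fun h => hp2 ((Nat.prime_dvd_prime_iff_eq hpp Nat.prime_two).1
        ((ZMod.natCast_eq_zero_iff _ _).1 (show ((2 : ℕ) : ZMod p) = 0 by exact_mod_cast h))))
      ρ hρ (fun γ h => hcard (((ZMod.natCast_eq_zero_iff _ _).1 h).trans (orderOf_dvd_natCard γ)))
    refine (hker x).1 ?_
    rw [commutator_def] at hx
    have hle : ⁅(⊤ : Subgroup G), (⊤ : Subgroup G)⁆ ≤ (MulAut.conjNormal (H := V)).ker :=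
      Subgroup.commutator_le.2 fun a _ b _ => by
        rw [MonoidHom.mem_ker, map_commutatorElement, commutatorElement_eq_one_iff_mul_comm]
        exact congrArg Subtype.val (hcomm ⟨_, a, rfl⟩ ⟨_, b, rfl⟩)
    exact hle hx
  · -- an invariant line
    haveI : C.Normal := Subgroup.normal_centralizer
    set K := (pCore p (G ⧸ C)).comap (QuotientGroup.mk' C) with hK
    haveI : K.Normal := inferInstance
    have hVT : V ≤ (T : Subgroup G) := (PCore.le_pCore hV).trans (PCore.pCore_le_sylow T)
    have hTK : (T : Subgroup G) ≤ K := fun t ht => by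
      refine isPStableOn_of_odd hodd hp2 V hV t (le_bot_iff.1 ?_)
      have h := commutator_commutator_eq_bot_of_card_le T.2 (V.subgroupOf T)
        (by rw [Coprime.card_subgroupOf hVT]; exact hV2)
      have h' := congrArg (Subgroup.map (T : Subgroup G).subtype) h
      rw [Subgroup.map_commutator, Subgroup.map_commutator, Subgroup.map_bot,
        Subgroup.map_subgroupOf_eq_of_le hVT, ← MonoidHom.range_eq_map, Subgroup.range_subtype] at h'
      have htT : zpowers t ≤ (T : Subgroup G) := Subgroup.zpowers_le.2 ht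
      exact h' ▸ Subgroup.commutator_mono (Subgroup.commutator_mono le_rfl htT) htT
    set W := V ⊓ centralizer (K : Set G) with hW
    haveI : (centralizer (K : Set G)).Normal := Subgroup.normal_centralizer
    haveI hWn : W.Normal := inferInstanceAs (V ⊓ centralizer (K : Set G)).Normal
    have hV1 : V.subgroupOf T ≠ ⊥ := fun h => by
      have h1 := Coprime.card_subgroupOf hVT
      rw [h, Subgroup.card_bot, hk] at h1
      exact absurd h1.symm (Nat.one_lt_pow (by norm_num) hpp.one_lt).ne'
    obtain ⟨⟨z, hzV, hzc⟩, hz1⟩ := Subgroup.ne_bot_iff_exists_ne_one.1 (PGroup.inf_center_ne_bot T.2 _ hV1)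
    have hW1 : W ≠ ⊥ := by
      intro h
      refine hz1 (Subtype.ext (Subtype.ext (Subgroup.mem_bot.1 (h ▸ ?_ : (z : G) ∈ (⊥ : Subgroup G)))))
      refine ⟨hzV, Subgroup.mem_centralizer_iff.2 fun k hkK => ?_⟩
      obtain ⟨t, ht, hte⟩ := PCore.pCore_le_sylow (T.mapSurjective (QuotientGroup.mk'_surjective C)) hkK
      have hcC : t⁻¹ * k ∈ C := QuotientGroup.eq.1 hte
      have h1 : t * (z : G) = (z : G) * t := congrArg Subtype.val (Subgroup.mem_center_iff.1 hzc ⟨t, ht⟩)
      have h2 : (z : G) * (t⁻¹ * k) = (t⁻¹ * k) * z := Subgroup.mem_centralizer_iff.1 hcC _ hzV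
      calc k * (z : G) = t * ((t⁻¹ * k) * z) := by group
        _ = t * z * (t⁻¹ * k) := by rw [← h2, mul_assoc]
        _ = z * k := by rw [h1]; group
    have hWV : W ≠ V := fun h => hT fun t ht => Subgroup.mem_centralizer_iff.2 fun v hv =>
      (Subgroup.mem_centralizer_iff.1 (h.ge hv).2 t (hTK ht)).symm
    have hWp : Nat.card W = p := by
      obtain ⟨j, hj⟩ := (hV.to_le (inf_le_left : W ≤ V)).exists_card_eq
      have hlt : Nat.card W < p ^ 2 := by
        by_contra hge
        exact hWV (Subgroup.eq_of_le_of_card_ge inf_le_left (hk.le.trans (not_lt.1 hge)))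
      rw [hj, Nat.pow_lt_pow_iff_right hpp.one_lt] at hlt
      interval_cases j
      · exact absurd (Subgroup.card_eq_one.1 hj) hW1
      · rw [hj, pow_one]
    haveI : IsCyclic W := isCyclic_of_prime_card hWp
    have hxW := commutator_le_centralizer_of_isCyclic W hx
    set π := QuotientGroup.mk' W
    haveI : (V.map π).Normal := hVn.map π (QuotientGroup.mk'_surjective W)
    haveI : IsCyclic (V.map π) := by
      refine isCyclic_of_prime_card (p := p) ?_
      have h := Subgroup.relIndex_mul_relIndex ⊥ W V bot_le inf_le_left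
      rw [Subgroup.relIndex_bot_left, Subgroup.relIndex_bot_left, hWp, hk] at h
      rw [← Subgroup.relIndex_ker, QuotientGroup.ker_mk']
      exact Nat.eq_of_mul_eq_mul_left hpp.pos (h.trans (pow_two p))
    have hxV : π x ∈ centralizer ((V.map π : Subgroup (G ⧸ W)) : Set (G ⧸ W)) := by
      refine commutator_le_centralizer_of_isCyclic _ ?_
      have := Subgroup.mem_map_of_mem π hx
      rw [commutator_def, Subgroup.map_commutator] at this
      exact Subgroup.commutator_mono le_top le_top this
    refine Subgroup.mem_centralizer_iff.2 fun v hv => ?_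
    have hz : x * v * x⁻¹ * v⁻¹ ∈ W := by
      rw [← QuotientGroup.eq_one_iff (N := W)]
      show π (x * v * x⁻¹ * v⁻¹) = 1
      rw [map_mul, map_mul, map_mul, map_inv, map_inv,
        ← Subgroup.mem_centralizer_iff.1 hxV (π v) ⟨v, hv, rfl⟩]
      group
    have hord : orderOf (x * v * x⁻¹ * v⁻¹) ∣ p := hWp ▸ Subgroup.orderOf_dvd_natCard W hz
    exact (Coprime.commute_of_translate (z := x * v * x⁻¹ * v⁻¹) (by group)
      (Subgroup.mem_centralizer_iff.1 hxW _ hz).symm (hxp.coprime_dvd_right hord)).eq.symm

/-- Elements of `G'` of order prime to `p` centralise normal p-subgroups of rank at most 2. -/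
theorem commutator_mem_centralizer_of_rankTwo (hodd : Odd (Nat.card G)) (U : Subgroup G) [U.Normal]
    (hUp : IsPGroup p U) (hr : PRankLE p 2 U) {x : G} (hx : x ∈ commutator G)
    (hxp : (orderOf x).Coprime p) : x ∈ centralizer (U : Set G) := by
  by_cases hd : p ∣ Nat.card G
  · have hp := ne_two_of_odd_of_dvd hodd hd
    obtain ⟨D, hDn, V, hVn, hVp, hV2, hcent⟩ := exists_rankTwo_section hp U hUp hr
    refine hcent x hxp (mem_centralizer_of_card_le (odd_quotient hodd D) hp V hVp hV2 ?_
      (hxp.coprime_dvd_left (orderOf_map_dvd _ x)))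
    have := Subgroup.mem_map_of_mem (QuotientGroup.mk' D) hx
    rw [commutator_def, Subgroup.map_commutator] at this
    exact Subgroup.commutator_mono le_top le_top this
  · have : U = ⊥ := PCore.eq_bot_of_isPGroup_of_coprime hUp
      (((Fact.out : p.Prime).coprime_iff_not_dvd.2 hd).symm.coprime_dvd_left
        (Subgroup.card_subgroup_dvd_card _))
    rw [this]
    refine Subgroup.mem_centralizer_iff.2 fun y hy => ?_
    rw [Subgroup.mem_bot.1 hy, one_mul, mul_one]

/-- Elements of `G'` of order prime to `p` centralise a rank-two `O_p(G)`. -/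
theorem commutator_mem_centralizer_pCore (hodd : Odd (Nat.card G)) (hr : PRankLE p 2 (pCore p G))
    {x : G} (hx : x ∈ commutator G) (hxp : (orderOf x).Coprime p) :
    x ∈ centralizer (pCore p G : Set G) :=
  commutator_mem_centralizer_of_rankTwo hodd _ PCore.isPGroup_pCore hr hx hxp

omit [Fact p.Prime] in
/-- If the elements of `G'` of order prime to `r` centralise `O_r(G)` for every `r`, then `G' ≤ F(G)`. -/
theorem commutator_le_fittingSubgroup_of_centralizes
    (hc : ∀ r : ℕ, r.Prime → ∀ x ∈ commutator G, (orderOf x).Coprime r →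
      x ∈ centralizer (pCore r G : Set G)) : commutator G ≤ fittingSubgroup G := by
  intro x hx
  refine mem_of_forall_primePart fun s hs _ u hu ⟨k, hk⟩ => ?_
  haveI := Fact.mk hs
  haveI hn : ∀ r, (centralizer (pCore r G : Set G)).Normal := fun r => by
    haveI := Components.pCore_normal' (G := G) r
    exact Subgroup.normal_centralizer
  let K : Subgroup G := commutator G ⊓ ⨅ r, ⨅ (_ : r.Prime ∧ r ≠ s), centralizer (pCore r G : Set G)
  have hmemK : ∀ {y : G}, y ∈ K ↔ y ∈ commutator G ∧
      ∀ r : ℕ, r.Prime → r ≠ s → y ∈ centralizer (pCore r G : Set G) := fun {y} => by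
    simp [K, Subgroup.mem_iInf]
  haveI hKn : K.Normal := ⟨fun y hy g => hmemK.2 ⟨Subgroup.Normal.conj_mem inferInstance y (hmemK.1 hy).1 g,
    fun r h1 h2 => (hn r).conj_mem y ((hmemK.1 hy).2 r h1 h2) g⟩⟩
  -- elements of `K` of order prime to `s` are central in `K`
  have hcentral : ∀ y ∈ K, (orderOf y).Coprime s → ∀ z ∈ K, z * y = y * z := by
    intro y hy hys z hz
    have hall : ∀ r : ℕ, r.Prime → y ∈ centralizer (pCore r G : Set G) := fun r hr' => by
      rcases eq_or_ne r s with rfl | hne
      · exact hc r hs y (hmemK.1 hy).1 hys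
      · exact (hmemK.1 hy).2 r hr' hne
    have hyF : y ∈ fittingSubgroup G := by
      refine Components.centralizer_fittingSubgroup_le (Subgroup.mem_centralizer_iff.2 fun f hf => ?_)
      have : f ∈ centralizer ({y} : Set G) := mem_of_forall_primePart fun r hr' _ w hw ⟨j, hj⟩ => by
        haveI := Fact.mk hr'
        exact Subgroup.mem_centralizer_singleton_iff.2 (Subgroup.mem_centralizer_iff.1 (hall r hr') w
          (Subnormal.mem_pCore_of_mem_fittingSubgroup (Subgroup.zpowers_le.2 hf hw) hj))
      exact Subgroup.mem_centralizer_singleton_iff.1 this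
    have : y ∈ centralizer ({z} : Set G) := mem_of_forall_primePart fun r hr' hd w hw ⟨j, hj⟩ => by
      haveI := Fact.mk hr'
      have hne : r ≠ s := by
        rintro rfl
        exact hr'.ne_one (Nat.eq_one_of_dvd_coprimes hys hd dvd_rfl)
      exact Subgroup.mem_centralizer_singleton_iff.2 (Subgroup.mem_centralizer_iff.1
        ((hmemK.1 hz).2 r hr' hne) w
        (Subnormal.mem_pCore_of_mem_fittingSubgroup (Subgroup.zpowers_le.2 hyF hw) hj))
    exact (Subgroup.mem_centralizer_singleton_iff.1 this).symm
  haveI : Group.IsNilpotent K := by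
    haveI : Group.IsNilpotent (K ⧸ Subgroup.center K) := IsPGroup.isNilpotent (p := s) ?_
    · exact Subgroup.isNilpotent_of_ker_le_center (QuotientGroup.mk' (Subgroup.center K))
        (by rw [QuotientGroup.ker_mk'])
    intro q
    obtain ⟨y, rfl⟩ := QuotientGroup.mk'_surjective (Subgroup.center K) q
    obtain ⟨e, m, hm, hem⟩ := Nat.exists_eq_pow_mul_and_not_dvd (orderOf_pos (y : G)).ne' s hs.ne_one
    refine ⟨e, ?_⟩
    rw [← map_pow]
    refine (QuotientGroup.eq_one_iff _).2 (Subgroup.mem_center_iff.2 fun z => Subtype.ext ?_)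
    refine hcentral _ (y ^ s ^ e).2 ?_ z z.2
    refine Nat.Coprime.coprime_dvd_left (orderOf_dvd_of_pow_eq_one ?_)
      (Nat.Coprime.symm (hs.coprime_iff_not_dvd.2 hm))
    rw [Subgroup.coe_pow, ← pow_mul, ← hem, pow_orderOf_eq_one]
  refine Components.le_fittingSubgroup hKn (hmemK.2 ⟨Subgroup.zpowers_le.2 hx hu, fun r hr' hne => ?_⟩)
  haveI := Fact.mk hr'
  refine hc r hr' u (Subgroup.zpowers_le.2 hx hu) ?_
  exact (((Nat.coprime_primes hs hr').2 (Ne.symm hne)).pow_left k).coprime_dvd_left
    (orderOf_dvd_of_pow_eq_one hk)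

omit [Fact p.Prime] in
/-- Solvable groups of odd order all of whose `O_r` have rank at most 2 have `G' ≤ F(G)`. -/
theorem commutator_le_fittingSubgroup (hodd : Odd (Nat.card G))
    (hr : ∀ r : ℕ, r.Prime → PRankLE r 2 (pCore r G)) : commutator G ≤ fittingSubgroup G :=
  commutator_le_fittingSubgroup_of_centralizes fun r hr' x hx hxr => by
    haveI := Fact.mk hr'
    exact commutator_mem_centralizer_pCore hodd (hr r hr') hx hxr

end Cfsg.Agent.OddOrder
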