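import Cfsg.Agent.Lib.FittingHeight.Weights

/-!
# Weights moved by an element of prime order with at most a line of fixed vectors

`x ^ r = 1`, `x` normalises `L`, the fixed space of `ρ x` has dimension at most one. Then the weights
of `L` moved by `x` form at most one `x`-orbit with one-dimensional weight spaces; an abelian group
`P` of odd order on which `x` acts fixed-point-freely fixes all weights.
-/

set_option autoImplicit false

namespace Cfsg.Agent.OddOrder.FixedLineWeights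

open Subgroup FittingHeight Finset

variable {Γ : Type*} [Group Γ] {k : Type*} [Field k] {E : Type*} [AddCommGroup E] [Module k E]
  (ρ : Γ →* Module.End k E) {x : Γ} {r : ℕ} {L : Subgroup Γ}

theorem mem_of_pow_mem (hr : r.Prime) (hx : x ^ r = 1) {i : ℕ} (hi0 : i ≠ 0) (hir : i < r)
    {S : Subgroup Γ} (h : x ^ i ∈ S) : x ∈ S := by
  have hc : i.Coprime r :=
    ((hr.coprime_iff_not_dvd).2 fun hd => hi0 (Nat.eq_zero_of_dvd_of_lt hd hir)).symm
  obtain ⟨m, hm⟩ := exists_pow_eq_self_of_coprime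
    (hc.coprime_dvd_right (orderOf_dvd_of_pow_eq_one hx))
  exact hm ▸ pow_mem h m

theorem eq_zero_of_twist_eq (hr : r.Prime) (hx : x ^ r = 1) (hxL : x ∈ normalizer (L : Set Γ))
    {χ : L →* k} (hχ : x ∉ wStab k L χ) {i : ℕ} (hir : i < r)
    (h : twist k L (x ^ i) (pow_mem hxL i) χ = χ) : i = 0 := by
  by_contra hi0
  exact hχ (mem_of_pow_mem hr hx hi0 hir ⟨pow_mem hxL i, h⟩)

theorem apply_ne_zero (g : Γ) {v : E} (hv : v ≠ 0) : ρ g v ≠ 0 := fun h => hv (by
  rw [← apply_one ρ v, ← inv_mul_cancel g, apply_mul, h, map_zero])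

theorem sum_fixed (hr : r.Prime) (hx : x ^ r = 1) (v : E) :
    ρ x (∑ i ∈ range r, ρ (x ^ i) v) = ∑ i ∈ range r, ρ (x ^ i) v := by
  obtain ⟨n, rfl⟩ : ∃ n, r = n + 1 := ⟨r - 1, by have := hr.pos; omega⟩
  rw [map_sum]
  conv_lhs => arg 2; ext i; rw [← apply_mul, ← pow_succ']
  rw [sum_range_succ (fun i => ρ (x ^ (i + 1)) v), sum_range_succ' (fun i => ρ (x ^ i) v), hx,
    pow_zero]

/-- A linear relation between the orbit sums of two weight vectors holds between the vectors. -/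
theorem eq_smul_filter_sum (hr : r.Prime) (hx : x ^ r = 1) (hxL : x ∈ normalizer (L : Set Γ))
    [DecidableEq (L →* k)] {χ ψ : L →* k} {v w : E} (hv : v ∈ weightSpace ρ L χ)
    (hw : w ∈ weightSpace ρ L ψ) (hψ : x ∉ wStab k L ψ) {c : k}
    (h : ∑ i ∈ range r, ρ (x ^ i) w = c • ∑ i ∈ range r, ρ (x ^ i) v) :
    w = c • ∑ i ∈ (range r).filter (fun i => twist k L (x ^ i) (pow_mem hxL i) χ = ψ),
      ρ (x ^ i) v := by
  classical
  let t : (L →* k) → ℕ → (L →* k) := fun φ i => twist k L (x ^ i) (pow_mem hxL i) φ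
  let T : Finset (L →* k) := insert ψ ((range r).image (t ψ) ∪ (range r).image (t χ))
  let f : (L →* k) → E := fun ξ => (∑ i ∈ (range r).filter (fun i => t ψ i = ξ), ρ (x ^ i) w) -
    c • ∑ i ∈ (range r).filter (fun i => t χ i = ξ), ρ (x ^ i) v
  have hf : ∀ ξ ∈ T, f ξ ∈ weightSpace ρ L ξ := fun ξ _ => by
    refine Submodule.sub_mem _ (Submodule.sum_mem _ fun i hi => ?_)
      (Submodule.smul_mem _ _ (Submodule.sum_mem _ fun i hi => ?_))
    · rw [← (mem_filter.1 hi).2]; exact mapsTo_weightSpace ρ _ hw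
    · rw [← (mem_filter.1 hi).2]; exact mapsTo_weightSpace ρ _ hv
  have hsum : ∑ ξ ∈ T, f ξ = 0 := by
    simp only [f, sum_sub_distrib, ← smul_sum]
    rw [sum_fiberwise_of_maps_to (fun i hi => ?_), sum_fiberwise_of_maps_to (fun i hi => ?_),
      h, sub_self]
    · exact mem_insert_of_mem (mem_union_right _ (mem_image_of_mem _ hi))
    · exact mem_insert_of_mem (mem_union_left _ (mem_image_of_mem _ hi))
  have h0 := eq_zero_of_sum_eq_zero ρ T f hf hsum ψ (mem_insert_self _ _)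
  have h1 : (range r).filter (fun i => t ψ i = ψ) = {0} := by
    ext i
    simp only [mem_filter, Finset.mem_range, Finset.mem_singleton]
    refine ⟨fun hi => eq_zero_of_twist_eq hr hx hxL hψ hi.1 hi.2, fun hi => ⟨hi ▸ hr.pos, ?_⟩⟩
    subst hi
    exact (twist_congr _ (one_mem _) (pow_zero x) ψ).trans (twist_one ψ)
  simp only [f, h1, sum_singleton, pow_zero, apply_one, sub_eq_zero] at h0
  exact h0

variable [FiniteDimensional k E]

/-- Orbit sums of vectors are proportional. -/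
theorem exists_sum_eq_smul (hr : r.Prime) (hx : x ^ r = 1)
    (hrank : Module.finrank k (LinearMap.ker (ρ x - 1)) ≤ 1) {v w : E}
    (hv : ∑ i ∈ range r, ρ (x ^ i) v ≠ 0) :
    ∃ c : k, ∑ i ∈ range r, ρ (x ^ i) w = c • ∑ i ∈ range r, ρ (x ^ i) v := by
  have hm : ∀ u : E, ∑ i ∈ range r, ρ (x ^ i) u ∈ LinearMap.ker (ρ x - 1) := fun u => by
    rw [LinearMap.mem_ker, LinearMap.sub_apply, Module.End.one_apply, sum_fixed ρ hr hx, sub_self]
  obtain ⟨⟨u, hu⟩, hu'⟩ := finrank_le_one_iff.1 hrank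
  obtain ⟨a, ha⟩ := hu' ⟨_, hm v⟩
  obtain ⟨b, hb⟩ := hu' ⟨_, hm w⟩
  have ha' : a • u = ∑ i ∈ range r, ρ (x ^ i) v := congrArg Subtype.val ha
  have hb' : b • u = ∑ i ∈ range r, ρ (x ^ i) w := congrArg Subtype.val hb
  have ha0 : a ≠ 0 := fun e => hv (by rw [← ha', e, zero_smul])
  exact ⟨b / a, by rw [← ha', ← hb', smul_smul, div_mul_cancel₀ _ ha0]⟩

omit [FiniteDimensional k E] in
/-- The orbit sum of a moved weight vector is non-zero. -/
theorem sum_ne_zero (hr : r.Prime) (hx : x ^ r = 1) (hxL : x ∈ normalizer (L : Set Γ))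
    {ψ : L →* k} {w : E} (hw : w ∈ weightSpace ρ L ψ) (hw0 : w ≠ 0) (hψ : x ∉ wStab k L ψ) :
    ∑ i ∈ range r, ρ (x ^ i) w ≠ 0 := fun h => hw0 (by
  classical
  rw [eq_smul_filter_sum ρ hr hx hxL hw hw hψ (c := 0) (by rw [h, zero_smul]), zero_smul])

/-- The moved weights form one orbit of `x`. -/
theorem exists_twist_eq (hr : r.Prime) (hx : x ^ r = 1) (hxL : x ∈ normalizer (L : Set Γ))
    (hrank : Module.finrank k (LinearMap.ker (ρ x - 1)) ≤ 1)
    {χ ψ : L →* k} {v w : E} (hv : v ∈ weightSpace ρ L χ) (hv0 : v ≠ 0) (hχ : x ∉ wStab k L χ)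
    (hw : w ∈ weightSpace ρ L ψ) (hw0 : w ≠ 0) (hψ : x ∉ wStab k L ψ) :
    ∃ i < r, twist k L (x ^ i) (pow_mem hxL i) χ = ψ := by
  classical
  obtain ⟨c, hc⟩ := exists_sum_eq_smul ρ hr hx hrank (w := w) (sum_ne_zero ρ hr hx hxL hv hv0 hχ)
  by_contra hne
  push Not at hne
  refine hw0 ?_
  rw [eq_smul_filter_sum ρ hr hx hxL hv hw hψ hc,
    filter_eq_empty_iff.2 fun i hi => hne i (Finset.mem_range.1 hi), sum_empty, smul_zero]

/-- Weight spaces of moved weights are lines. -/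
theorem exists_eq_smul (hr : r.Prime) (hx : x ^ r = 1) (hxL : x ∈ normalizer (L : Set Γ))
    (hrank : Module.finrank k (LinearMap.ker (ρ x - 1)) ≤ 1)
    {χ : L →* k} {v w : E} (hv : v ∈ weightSpace ρ L χ) (hv0 : v ≠ 0) (hχ : x ∉ wStab k L χ)
    (hw : w ∈ weightSpace ρ L χ) : ∃ c : k, w = c • v := by
  classical
  obtain ⟨c, hc⟩ := exists_sum_eq_smul ρ hr hx hrank (w := w) (sum_ne_zero ρ hr hx hxL hv hv0 hχ)
  refine ⟨c, ?_⟩
  have h := eq_smul_filter_sum ρ hr hx hxL hv hw hχ hc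
  have h1 : (range r).filter (fun i => twist k L (x ^ i) (pow_mem hxL i) χ = χ) = {0} := by
    ext i
    simp only [mem_filter, Finset.mem_range, Finset.mem_singleton]
    refine ⟨fun hi => eq_zero_of_twist_eq hr hx hxL hχ hi.1 hi.2, fun hi => ⟨hi ▸ hr.pos, ?_⟩⟩
    subst hi
    exact (twist_congr _ (one_mem _) (pow_zero x) χ).trans (twist_one χ)
  rwa [h1, sum_singleton, pow_zero, apply_one] at h

/-- A subgroup consisting of commutators of elements that centralise `L` has all its weights fixed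
by `x`. -/
theorem mem_wStab_of_commutator (hr : r.Prime) (hx : x ^ r = 1)
    (hxL : x ∈ normalizer (L : Set Γ)) (hrank : Module.finrank k (LinearMap.ker (ρ x - 1)) ≤ 1)
    {Q : Subgroup Γ} (hQ : Q ≤ centralizer (L : Set Γ)) (hL : L ≤ ⁅Q, Q⁆)
    {χ : L →* k} {v : E} (hv : v ∈ weightSpace ρ L χ) (hv0 : v ≠ 0) : x ∈ wStab k L χ := by
  by_contra hχ
  have hscal : ∀ g ∈ Q, ∃ c : k, c ≠ 0 ∧ ρ g v = c • v := fun g hg => by
    obtain ⟨c, hc⟩ := exists_eq_smul ρ hr hx hxL hrank hv hv0 hχ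
      (mapsTo_weightSpace_of_commute ρ (hQ hg) hv)
    exact ⟨c, fun h => apply_ne_zero ρ g hv0 (by rw [hc, h, zero_smul]), hc⟩
  have hle : ⁅Q, Q⁆ ≤ fixerOf ρ (k ∙ v) := by
    refine commutator_le.2 fun g hg h hh u hu => ?_
    obtain ⟨a, rfl⟩ := Submodule.mem_span_singleton.1 hu
    rw [map_smul]
    congr 1
    obtain ⟨c, hc0, hc⟩ := hscal g hg
    obtain ⟨d, hd0, hd⟩ := hscal h hh
    have hg' : ρ g⁻¹ v = c⁻¹ • v := by
      rw [eq_inv_smul_iff₀ hc0, ← map_smul, ← hc, ← apply_mul, inv_mul_cancel, apply_one]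
    have hh' : ρ h⁻¹ v = d⁻¹ • v := by
      rw [eq_inv_smul_iff₀ hd0, ← map_smul, ← hd, ← apply_mul, inv_mul_cancel, apply_one]
    rw [commutatorElement_def, apply_mul, hh', map_smul, apply_mul, hg', map_smul, apply_mul, hd,
      map_smul, hc, smul_smul, smul_smul, smul_smul]
    rw [show d⁻¹ * c⁻¹ * d * c = 1 by field_simp, one_smul]
  have h1 : χ = 1 := MonoidHom.ext fun l =>
    weight_eq_one_of_fixed ρ hv hv0 (hle (hL l.2) v (Submodule.mem_span_singleton_self v))
  exact hχ ⟨hxL, by rw [h1]; exact twist_one_char hxL⟩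

/-- `b ↦ z b z⁻¹ b⁻¹` is onto on an abelian group where `z` is fixed-point-free. -/
theorem exists_conj_mul_inv {P : Subgroup Γ} [Finite P] (hPc : ∀ a ∈ P, ∀ b ∈ P, a * b = b * a) {z : Γ}
    (hz : z ∈ normalizer (P : Set Γ)) (hfix : ∀ a ∈ P, a * z = z * a → a = 1) {s : Γ}
    (hs : s ∈ P) : ∃ b ∈ P, z * b * z⁻¹ * b⁻¹ = s := by
  let θ : P → P := fun b => ⟨z * b * z⁻¹ * (b : Γ)⁻¹,
    mul_mem ((mem_normalizer_iff.1 hz b).1 b.2) (inv_mem b.2)⟩
  have hθ : Function.Injective θ := fun a b h => by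
    have h' : z * a * z⁻¹ * (a : Γ)⁻¹ = z * b * z⁻¹ * (b : Γ)⁻¹ := congrArg Subtype.val h
    have hab : (a : Γ)⁻¹ * b ∈ P := mul_mem (inv_mem a.2) b.2
    have hc : (z * a * z⁻¹)⁻¹ * (z * b * z⁻¹) = (a : Γ)⁻¹ * b := by
      have e1 : z * b * z⁻¹ = z * a * z⁻¹ * (a : Γ)⁻¹ * b := by rw [h']; group
      rw [e1]; group
    have : ((a : Γ)⁻¹ * b) * z = z * ((a : Γ)⁻¹ * b) := by
      conv_lhs => rw [← hc]
      group
    exact Subtype.ext (inv_mul_eq_one.1 (hfix _ hab this))
  obtain ⟨b, hb⟩ := Finite.injective_iff_surjective.1 hθ ⟨s, hs⟩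
  exact ⟨b, b.2, congrArg Subtype.val hb⟩

/-- An abelian group of odd order on which `x` is fixed-point-free fixes every weight. -/
theorem mem_wStab_of_fpf (hr : r.Prime) (hr2 : r ≠ 2) (hx : x ^ r = 1)
    (hxL : x ∈ normalizer (L : Set Γ)) (hrank : Module.finrank k (LinearMap.ker (ρ x - 1)) ≤ 1)
    {P : Subgroup Γ} [Finite P] (hPc : ∀ a ∈ P, ∀ b ∈ P, a * b = b * a) (hPodd : Odd (Nat.card P))
    (hPL : P ≤ normalizer (L : Set Γ)) (hxP : x ∈ normalizer (P : Set Γ))
    (hfix : ∀ a ∈ P, a * x = x * a → a = 1) {χ : L →* k} {v : E}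
    (hv : v ∈ weightSpace ρ L χ) (hv0 : v ≠ 0) {a : Γ} (ha : a ∈ P) : a ∈ wStab k L χ := by
  classical
  -- weights fixed by `x`
  have hfixed : ∀ (φ : L →* k) (u : E), u ∈ weightSpace ρ L φ → u ≠ 0 → x ∈ wStab k L φ →
      ∀ b ∈ P, b ∈ wStab k L φ := by
    intro φ u hu hu0 hxφ b hb
    set S := P ⊓ wStab k L φ with hS
    have hxS : x ∈ normalizer (S : Set Γ) :=
      mem_normalizer_iff.2 fun n => by
        simp only [SetLike.mem_coe, hS, Subgroup.mem_inf]
        rw [mul_mem_cancel_right (inv_mem hxφ), mul_mem_cancel_left hxφ, mem_normalizer_iff.1 hxP n]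
    by_contra hb'
    -- translates of `φ` moved by `x` or equal to `φ`
    have hstab : ∀ c (hc : c ∈ P), x ∈ wStab k L (twist k L c (hPL hc) φ) → c ∈ S := by
      intro c hc h
      obtain ⟨_, h⟩ := h
      rw [twist_twist hxL (hPL hc)] at h
      have h1 : c⁻¹ * x * c ∈ wStab k L φ := by
        refine ⟨mul_mem (mul_mem (inv_mem (hPL hc)) hxL) (hPL hc), ?_⟩
        have h2 := congrArg (twist k L c⁻¹ (inv_mem (hPL hc))) h
        rw [twist_twist, twist_twist, twist_congr _ (one_mem _) (inv_mul_cancel c), twist_one] at h2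
        rwa [twist_congr _ (mul_mem (inv_mem (hPL hc)) (mul_mem hxL (hPL hc))) (mul_assoc _ _ _)]
      have h3 : x * c * x⁻¹ * c⁻¹ ∈ S := by
        have hxc : x * c * x⁻¹ ∈ P := (mem_normalizer_iff.1 hxP c).1 hc
        rw [hPc _ hxc _ (inv_mem hc), show c⁻¹ * (x * c * x⁻¹) = c⁻¹ * x * c * x⁻¹ by group]
        exact Subgroup.mem_inf.2 ⟨by simpa [mul_assoc] using mul_mem (inv_mem hc) hxc,
          mul_mem h1 (inv_mem hxφ)⟩
      haveI : Finite S := Finite.of_injective (inclusion (inf_le_left : S ≤ P)) (inclusion_injective _)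
      obtain ⟨d, hd, hde⟩ := exists_conj_mul_inv (P := S) (fun a ha b hb => hPc a ha.1 b hb.1) hxS
        (fun a ha => hfix a ha.1) h3
      have hfix' : d⁻¹ * c = 1 := by
        refine hfix _ (mul_mem (inv_mem hd.1) hc) ?_
        have e : x * (d⁻¹ * c) * x⁻¹ = d⁻¹ * c := by
          have e1 : x * c * x⁻¹ = x * d * x⁻¹ * d⁻¹ * c := by rw [hde]; group
          calc x * (d⁻¹ * c) * x⁻¹ = (x * d * x⁻¹)⁻¹ * (x * c * x⁻¹) := by group
            _ = d⁻¹ * c := by rw [e1]; group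
        conv_lhs => rw [← e]
        group
      rw [← inv_mul_eq_one.1 hfix']; exact hd
    letI act : MulAction P (L →* k) :=
      { smul := fun c ξ => twist k L c (hPL c.2) ξ
        one_smul := fun ξ => twist_one ξ
        mul_smul := fun c d ξ => (twist_twist (hPL c.2) (hPL d.2) ξ).symm }
    have hor : Nat.card (MulAction.orbit P φ) ∣ Nat.card P := by
      rw [Nat.card_congr (MulAction.orbitEquivQuotientStabilizer P φ)]
      exact Subgroup.card_quotient_dvd_card _
    set ξ := twist k L b (hPL hb) φ with hξ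
    have hξx : x ∉ wStab k L ξ := fun h => hb' (hstab b hb h).2
    have hξw := mapsTo_weightSpace ρ (hPL hb) hu
    let T := (range r).image (fun i => twist k L (x ^ i) (pow_mem hxL i) ξ)
    have hTcard : T.card = r := by
      rw [card_image_of_injOn, card_range]
      intro i hi j hj hij
      simp only [coe_range, Set.mem_Iio] at hi hj
      wlog hle : i ≤ j generalizing i j
      · exact (this hij.symm hj hi (le_of_not_ge hle)).symm
      have h2 := congrArg (twist k L (x ^ i)⁻¹ (inv_mem (pow_mem hxL i))) hij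
      simp only [twist_twist] at h2
      rw [twist_congr _ (one_mem _) (inv_mul_cancel _), twist_one,
        twist_congr _ (pow_mem hxL (j - i)) (show (x ^ i)⁻¹ * x ^ j = x ^ (j - i) by
          rw [inv_mul_eq_iff_eq_mul, ← pow_add, Nat.add_sub_cancel' hle])] at h2
      have := eq_zero_of_twist_eq hr hx hxL hξx (lt_of_le_of_lt (Nat.sub_le j i) hj) h2.symm
      omega
    have hφT : φ ∉ T := fun h => by
      obtain ⟨i, -, hi⟩ := mem_image.1 h
      refine hξx ?_
      have h1 : ξ = φ := by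
        have h2 := congrArg (twist k L (x ^ i)⁻¹ (inv_mem (pow_mem hxL i))) hi
        rw [twist_twist, twist_congr _ (one_mem _) (inv_mul_cancel _), twist_one] at h2
        rw [h2]
        obtain ⟨_, h3⟩ := (wStab k L φ).inv_mem (pow_mem hxφ i)
        exact h3
      rw [h1]; exact hxφ
    have horb : (MulAction.orbit P φ) = ↑(insert φ T) := by
      ext η
      simp only [coe_insert, Set.mem_insert_iff, Finset.mem_coe]
      constructor
      · rintro ⟨c, rfl⟩
        change twist k L c (hPL c.2) φ = φ ∨ twist k L c (hPL c.2) φ ∈ T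
        by_cases hcx : x ∈ wStab k L (twist k L c (hPL c.2) φ)
        · exact Or.inl ((mem_wStab_iff _).1 (hstab c c.2 hcx).2)
        · right
          obtain ⟨i, hi, hie⟩ := exists_twist_eq ρ hr hx hxL hrank hξw (apply_ne_zero ρ b hu0) hξx
            (mapsTo_weightSpace ρ (hPL c.2) hu) (apply_ne_zero ρ (c : Γ) hu0) hcx
          exact mem_image.2 ⟨i, Finset.mem_range.2 hi, hie⟩
      · rintro (rfl | hη)
        · exact MulAction.mem_orbit_self _
        · obtain ⟨i, -, rfl⟩ := mem_image.1 hη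
          have hc : x ^ i * b * (x ^ i)⁻¹ ∈ P :=
            (mem_normalizer_iff.1 (pow_mem hxP i) b).1 hb
          refine ⟨⟨_, hc⟩, ?_⟩
          show twist k L (x ^ i * b * (x ^ i)⁻¹) (hPL hc) φ = twist k L (x ^ i) _ ξ
          obtain ⟨_, hxi⟩ := (wStab k L φ).inv_mem (pow_mem hxφ i)
          rw [hξ, twist_twist]
          conv_rhs => rw [← hxi, twist_twist]
    rw [Nat.card_congr (Equiv.setCongr horb), Nat.card_coe_set_eq, Set.ncard_coe_finset,
      card_insert_of_notMem hφT, hTcard] at hor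
    have h1 : Odd ((r + 1) : ℕ) := hPodd.of_dvd_nat hor
    exact Nat.not_even_iff_odd.2 h1 (by
      have := hr.odd_of_ne_two hr2
      exact this.add_one)
  by_cases hχ : x ∈ wStab k L χ
  · exact hfixed χ v hv hv0 hχ a ha
  by_contra hcontra
  -- a moved weight whose translate lies in its `x`-orbit
  have hmove : ∀ c ∈ P, c ∉ wStab k L χ → False := by
    intro c hc hcχ
    set ξ := twist k L c (hPL hc) χ with hξ
    have hξw := mapsTo_weightSpace ρ (hPL hc) hv
    by_cases hξx : x ∈ wStab k L ξ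
    · obtain ⟨_, h⟩ := hfixed ξ _ hξw (apply_ne_zero ρ c hv0) hξx c⁻¹ (inv_mem hc)
      rw [hξ, twist_twist, twist_congr _ (one_mem _) (inv_mul_cancel c), twist_one] at h
      exact hcχ ⟨hPL hc, h.symm⟩
    obtain ⟨i, hir, hie⟩ := exists_twist_eq ρ hr hx hxL hrank hv hv0 hχ hξw
      (apply_ne_zero ρ c hv0) hξx
    by_cases hi0 : i = 0
    · subst hi0
      refine hcχ ⟨hPL hc, ?_⟩
      rw [← hie]
      exact (twist_congr _ (one_mem _) (pow_zero x) χ).trans (twist_one χ)
    set z := (x ^ i)⁻¹ with hz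
    have hzL : z ∈ normalizer (L : Set Γ) := inv_mem (pow_mem hxL i)
    have hzP : z ∈ normalizer (P : Set Γ) := inv_mem (pow_mem hxP i)
    have hst : z * c ∈ wStab k L χ := by
      refine ⟨mul_mem hzL (hPL hc), ?_⟩
      rw [← twist_twist hzL (hPL hc), ← hie, twist_twist,
        twist_congr _ (one_mem _) (inv_mul_cancel _), twist_one]
    obtain ⟨b, hb, hbc⟩ := exists_conj_mul_inv hPc hzP (fun d hd h => hfix d hd
      ((mem_centralizer_singleton_iff.1
        (mem_of_pow_mem hr hx hi0 hir (S := centralizer {d}) (by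
          rw [mem_centralizer_singleton_iff]
          calc x ^ i * d = x ^ i * (d * z) * x ^ i := by rw [hz]; group
            _ = x ^ i * (z * d) * x ^ i := by rw [h]
            _ = d * x ^ i := by rw [hz]; group))).symm)) ((mem_normalizer_iff.1 hzP c).1 hc)
    -- `z c = b⁻¹`-conjugate of `z`
    have hkey : z * c = b⁻¹ * z * b := by
      have hzb : z * b * z⁻¹ ∈ P := (mem_normalizer_iff.1 hzP b).1 hb
      calc z * c = (z * c * z⁻¹) * z := by group
        _ = (z * b * z⁻¹ * b⁻¹) * z := by rw [hbc]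
        _ = (b⁻¹ * (z * b * z⁻¹)) * z := by rw [hPc _ hzb _ (inv_mem hb)]
        _ = b⁻¹ * z * b := by group
    set η := twist k L b (hPL hb) χ with hη
    have hzη : z ∈ wStab k L η := by
      refine ⟨hzL, ?_⟩
      obtain ⟨_, h⟩ := hst
      rw [twist_congr _ (mul_mem (mul_mem (inv_mem (hPL hb)) hzL) (hPL hb)) hkey,
        ← twist_twist (mul_mem (inv_mem (hPL hb)) hzL) (hPL hb), ← hη,
        ← twist_twist (inv_mem (hPL hb)) hzL] at h
      have h2 := congrArg (twist k L b (hPL hb)) h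
      rwa [← hη, twist_twist, twist_congr _ (one_mem _) (mul_inv_cancel b), twist_one] at h2
    have hxη : x ∈ wStab k L η := mem_of_pow_mem hr hx hi0 hir (inv_mem_iff.1 hzη)
    obtain ⟨_, h⟩ := hfixed η _ (mapsTo_weightSpace ρ (hPL hb) hv) (apply_ne_zero ρ b hv0) hxη
      b⁻¹ (inv_mem hb)
    rw [hη, twist_twist, twist_congr _ (one_mem _) (inv_mul_cancel b), twist_one] at h
    exact hχ (by rw [h]; exact hxη)
  exact hmove a ha hcontra

end Cfsg.Agent.OddOrder.FixedLineWeights
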