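import Cfsg.Agent.S3769
import Cfsg.Agent.Lib.OddOrder.FixedLineWeights
import Cfsg.Agent.Lib.OddOrder.CyclicSylows
import Cfsg.Agent.Lib.OddOrder.DerivedNilpotent
import Cfsg.Agent.Lib.HallHigman.Bridge
import Cfsg.Agent.Lib.Coprime.Commutator
import Cfsg.Agent.Lib.Coprime.Generation
import Cfsg.Agent.Lib.Coprime.Quotient
import Cfsg.Agent.Lib.Coprime.ThreeSubgroup
import Cfsg.Agent.Lib.PGroup.Frattini

/-!
# The minimal configuration in the `p`-length one theorem for `[H, R]`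

`U P` with a `q`-group `Q`: the configuration reached in the proof of Theorem 3.6 of Bender–Glauberman
is contradictory.
-/

set_option autoImplicit false

namespace Cfsg.Agent.OddOrder.PLengthEndgame

open Subgroup FittingHeight
open scoped commutatorElement

variable {G : Type*} [Group G] [Finite G] [Group.IsSolvable G]

theorem card_sup_eq {A B : Subgroup G} (hBA : B ≤ normalizer (A : Set G))
    (hcop : (Nat.card A).Coprime (Nat.card B)) : Nat.card ↥(A ⊔ B) = Nat.card A * Nat.card B := by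
  rw [sup_comm, Coprime.card_sup_of_le_normalizer hBA (Coprime.disjoint_of_coprime_card hcop.symm),
    mul_comm]

/-- `S3769` for a group `K` normalised by an element `x` of prime order. -/
theorem commutator_le_centralizer (hodd : Odd (Nat.card G)) (V K : Subgroup G) {ℓ : ℕ} [Fact ℓ.Prime]
    (hV : IsElementaryAbelian ℓ V) (x : G) (hxr : (orderOf x).Prime)
    (hKV : K ≤ normalizer (V : Set G)) (hxV : x ∈ normalizer (V : Set G))
    (hxK : x ∈ normalizer (K : Set G)) (hxl : orderOf x ≠ ℓ)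
    (hxcop : (orderOf x).Coprime (Nat.card K)) (hlK : ¬ ℓ ∣ Nat.card K)
    (hfix : V ⊓ centralizer ({x} : Set G) = ⊥) :
    ⁅zpowers x, K⁆ ≤ centralizer (V : Set G) := by
  have hxK' : zpowers x ≤ normalizer (K : Set G) := zpowers_le.2 hxK
  have hcop : (Nat.card K).Coprime (Nat.card (zpowers x)) := by
    rw [Nat.card_zpowers]; exact hxcop.symm
  have hcard := card_sup_eq hxK' hcop
  have hrel : K.relIndex (K ⊔ zpowers x) = orderOf x := by
    have h1 := card_mul_index (K.subgroupOf (K ⊔ zpowers x))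
    rw [Coprime.card_subgroupOf le_sup_left, hcard, Nat.card_zpowers] at h1
    exact Nat.eq_of_mul_eq_mul_left Nat.card_pos h1
  refine Cfsg.Agent.S3769.result (K ⊔ zpowers x) (Coprime.isSolvable_of_le le_top inferInstance)
    (hodd.of_dvd_nat (card_subgroup_dvd_card _)) V Fact.out hV ?_ (sup_le hKV (zpowers_le.2 hxV))
    K (zpowers x) le_sup_left (sup_le le_normalizer hxK') (hrel.symm ▸ hxcop.symm) le_sup_right
    (by rw [Nat.card_zpowers]; exact hxr) (Coprime.disjoint_of_coprime_card hcop) rfl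
    ?_
  · rw [hcard, Nat.card_zpowers, (Fact.out : ℓ.Prime).dvd_mul]
    rintro (h | h)
    · exact hlK h
    · exact hxl ((Nat.prime_dvd_prime_iff_eq Fact.out hxr).1 h).symm
  · rw [eq_bot_iff, ← hfix]
    exact inf_le_inf_left _ (centralizer_le (Set.singleton_subset_iff.2 (mem_zpowers x)))

/-- `x` fixed-point-free on an abelian `P`, and `P` centralises the fixed points of `x` on `Q = [Q, P]`:
then `Q = 1`. -/
theorem eq_bot_of_fixed_le (hodd : Odd (Nat.card G)) (Q P : Subgroup G) [Q.Normal] {q : ℕ}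
    [Fact q.Prime] (hQ : IsPGroup q Q) (x : G) (hxr : (orderOf x).Prime) (hxq : orderOf x ≠ q)
    (hPq : ¬ q ∣ Nat.card P) (hxP : x ∈ normalizer (P : Set G))
    (hxcop : (orderOf x).Coprime (Nat.card P))
    (hPc : ∀ a ∈ P, ∀ b ∈ P, a * b = b * a) (hfpf : ∀ a ∈ P, a * x = x * a → a = 1)
    (hfix : ∀ c ∈ Q, c * x = x * c → ∀ a ∈ P, a * c = c * a) (hQP : ⁅Q, P⁆ = Q) : Q = ⊥ := by
  classical
  set Φ : Subgroup G := (frattini Q).map Q.subtype with hΦ
  haveI : Φ.Normal := ConjAct.normal_of_characteristic_of_normal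
  let f := QuotientGroup.mk' Φ
  set W := Q.map f with hW
  haveI : Group.IsSolvable (G ⧸ Φ) :=
    Group.isSolvable_of_surjective (QuotientGroup.mk'_surjective Φ)
  have hWq : IsPGroup q W := hQ.map f
  have hfr : frattini W = ⊥ := by
    rw [← PGroup.map_frattini hQ (f.subgroupMap Q) (f.subgroupMap_surjective Q),
      Subgroup.map_eq_bot_iff]
    intro a ha
    rw [MonoidHom.mem_ker]
    refine Subtype.ext ?_
    exact (QuotientGroup.eq_one_iff (a : G)).2 ⟨a, ha, rfl⟩
  obtain ⟨hWc, hWe⟩ := (PGroup.frattini_eq_bot_iff hWq).1 hfr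
  have hWel : IsElementaryAbelian q W :=
    ⟨hWc, fun a ha => by simpa using congrArg Subtype.val (hWe ⟨a, ha⟩)⟩
  haveI := hWel.1
  have hcopPQ : (Nat.card (P.map f)).Coprime (Nat.card W) := by
    obtain ⟨e, he⟩ := hWq.exists_card_eq
    rw [he]
    exact (((Fact.out : q.Prime).coprime_iff_not_dvd.2 fun h => hPq (h.trans (card_map_dvd _ _))).symm).pow_right e
  have hcopxQ : (Nat.card (zpowers x)).Coprime (Nat.card Q) := by
    obtain ⟨e, he⟩ := hQ.exists_card_eq
    rw [he, Nat.card_zpowers]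
    exact ((Nat.coprime_primes hxr Fact.out).2 hxq).pow_right e
  have hPW : P.map f ≤ normalizer (W : Set (G ⧸ Φ)) := by
    haveI : W.Normal := Subgroup.Normal.map inferInstance f (QuotientGroup.mk'_surjective Φ)
    rw [normalizer_eq_top]; exact le_top
  have hCWP : W ⊓ centralizer ((P.map f : Subgroup _) : Set (G ⧸ Φ)) = ⊥ := by
    have h1 := Coprime.inf_centralizer_inf_commutator_eq_bot hPW hcopPQ
    rwa [hW, ← map_commutator, hQP, ← hW, inf_right_comm, inf_idem] at h1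
  have hCWx : W ⊓ centralizer ({f x} : Set (G ⧸ Φ)) = ⊥ := by
    rw [eq_bot_iff, ← hCWP]
    intro w hw
    refine ⟨hw.1, ?_⟩
    have h2 : w ∈ W ⊓ centralizer (((zpowers x).map f : Subgroup _) : Set (G ⧸ Φ)) := ⟨hw.1, by
      rw [MonoidHom.map_zpowers]
      exact mem_centralizer_iff.2 fun y hy => by
        obtain ⟨n, rfl⟩ := hy
        exact ((Commute.zpow_left (mem_centralizer_singleton_iff.1 hw.2).symm n)).eq⟩
    rw [hW, ← Coprime.map_mk'_inf_centralizer Φ (by rw [normalizer_eq_top]; exact le_top) hcopxQ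
      (Or.inr inferInstance)] at h2
    obtain ⟨c, hc, rfl⟩ := h2
    refine mem_centralizer_iff.2 ?_
    rintro _ ⟨a, ha, rfl⟩
    rw [← map_mul, ← map_mul,
      hfix c hc.1 (mem_centralizer_iff.1 hc.2 x (mem_zpowers x)).symm a ha]
  have hfxr : orderOf (f x) = orderOf x := by
    refine (((Nat.dvd_prime hxr).1 (orderOf_map_dvd f x)).resolve_left fun h => ?_)
    have h1 : x ∈ Φ := (QuotientGroup.eq_one_iff x).1 (orderOf_eq_one_iff.1 h)
    have h2 : x ∈ Q := map_subtype_le _ h1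
    have h3 : orderOf x ∣ Nat.card Q := orderOf_dvd_natCard (⟨x, h2⟩ : Q) |> fun d => by
      rwa [Subgroup.orderOf_mk] at d
    exact hxr.ne_one (Nat.eq_one_of_dvd_coprimes (Nat.card_zpowers x ▸ hcopxQ) dvd_rfl h3)
  have hkey := commutator_le_centralizer (Odd.of_dvd_nat hodd (card_quotient_dvd_card Φ)) W (P.map f)
    hWel (f x) (hfxr ▸ hxr) hPW (by
      haveI : W.Normal := Subgroup.Normal.map inferInstance f (QuotientGroup.mk'_surjective Φ)
      rw [normalizer_eq_top]; exact mem_top _)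
    (le_normalizer_map f (mem_map_of_mem f hxP)) (hfxr ▸ hxq)
    (hfxr ▸ hxcop.coprime_dvd_right (card_map_dvd _ _))
    (fun h => hPq (h.trans (card_map_dvd _ _))) hCWx
  have hPC : P.map f ≤ centralizer (W : Set (G ⧸ Φ)) := by
    rintro _ ⟨a, ha, rfl⟩
    obtain ⟨b, hb, rfl⟩ := FixedLineWeights.exists_conj_mul_inv hPc hxP hfpf ha
    refine hkey ?_
    rw [show x * b * x⁻¹ * b⁻¹ = ⁅x, b⁆ from (commutatorElement_def x b).symm, map_commutatorElement]
    exact commutator_mem_commutator (mem_zpowers _) (mem_map_of_mem f hb)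
  have hW1 : W = ⊥ := by
    rw [eq_bot_iff, ← hCWP]
    exact le_inf le_rfl (le_centralizer_iff.1 hPC)
  rw [hW, Subgroup.map_eq_bot_iff, QuotientGroup.ker_mk'] at hW1
  have htop : frattini Q = ⊤ := top_unique fun a _ => by
    obtain ⟨b, hb, hba⟩ := hW1 a.2
    rwa [← Subtype.ext hba]
  have h2 : (⊥ : Subgroup Q) = ⊤ := frattini_nongenerating (by rw [htop, bot_sup_eq])
  rw [eq_bot_iff]
  intro a ha
  have h3 : (⟨a, ha⟩ : Q) ∈ (⊥ : Subgroup Q) := by rw [h2]; exact mem_top _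
  exact mem_bot.2 (congrArg Subtype.val (mem_bot.1 h3))

/-- The configuration. -/
theorem endgame (hodd : Odd (Nat.card G)) {p q : ℕ} [Fact p.Prime] [Fact q.Prime]
    (U P Q R R₀ : Subgroup G) [U.Normal] (hU : IsElementaryAbelian p U) (hP : IsPGroup p P)
    (hQ : IsPGroup q Q) (hqp : q ≠ p) (hP1 : P ≠ ⊥) (hQfaith : Q ⊓ centralizer (U : Set G) = ⊥)
    (hPfaith : P ⊓ centralizer (Q : Set G) = ⊥) (hUP : U ⊓ P = ⊥)
    (hPQ : P ≤ normalizer (Q : Set G)) (hRQ : R ≤ normalizer (Q : Set G))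
    (hRP : R ≤ normalizer (P : Set G)) (hR₀ : R₀ ≤ R) (hR₀p : (Nat.card R₀).Prime)
    (hrp : Nat.card R₀ ≠ p) (hrq : Nat.card R₀ ≠ q) (hPR : ⁅P, R⁆ = P)
    (hS : ∀ S, S < P → R ≤ normalizer (S : Set G) → R ≤ centralizer (S : Set G))
    (hT : ∀ T, T < Q → P ≤ normalizer (T : Set G) → R ≤ normalizer (T : Set G) →
      P ≤ centralizer (T : Set G))
    (hZ : ∀ (ℓ : ℕ), ℓ.Prime → ∀ S : Subgroup G, S ≤ U ⊔ Q ⊔ P →
      S ≤ centralizer (R₀ : Set G) → IsPGroup ℓ S → IsCyclic S) : False := by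
  classical
  have hp : p.Prime := Fact.out
  have hq : q.Prime := Fact.out
  obtain ⟨x, hx0, hx1⟩ := (bot_or_exists_ne_one R₀).resolve_left fun h => by
    rw [h, Subgroup.card_bot] at hR₀p; exact Nat.not_prime_one hR₀p
  have hxr : orderOf x = Nat.card R₀ := ((Nat.dvd_prime hR₀p).1 (by
    have := orderOf_dvd_natCard (⟨x, hx0⟩ : R₀)
    rwa [Subgroup.orderOf_mk] at this)).resolve_left fun h => hx1 (orderOf_eq_one_iff.1 h)
  have hxprime : (orderOf x).Prime := hxr ▸ hR₀p
  have hR₀x : R₀ = zpowers x := (Subgroup.eq_of_le_of_card_ge (zpowers_le.2 hx0)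
    (by rw [Nat.card_zpowers, hxr])).symm
  have hCx : ∀ g : G, g ∈ centralizer (R₀ : Set G) ↔ g * x = x * g := fun g => by
    rw [hR₀x, mem_centralizer_iff]
    refine ⟨fun h => (h x (mem_zpowers x)).symm, fun h y hy => ?_⟩
    obtain ⟨n, rfl⟩ := hy
    exact ((Commute.zpow_left (h.symm : Commute x g) n)).eq
  have hxR : x ∈ R := hR₀ hx0
  set r := orderOf x with hr
  have hr2 : r ≠ 2 := fun h => by
    have h1 : orderOf x ∣ Nat.card G := orderOf_dvd_natCard x
    exact absurd (hodd.of_dvd_nat h1) (by rw [← hr, h]; decide)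
  have hrP : r.Coprime (Nat.card P) := by
    obtain ⟨e, he⟩ := hP.exists_card_eq
    rw [he]
    exact ((Nat.coprime_primes hxprime hp).2 (hxr ▸ hrp)).pow_right e
  have hpQ : ¬ p ∣ Nat.card Q := by
    obtain ⟨e, he⟩ := hQ.exists_card_eq
    rw [he]
    exact fun h => hqp ((Nat.prime_dvd_prime_iff_eq hp hq).1 (hp.dvd_of_dvd_pow h)).symm
  have hqP : ¬ q ∣ Nat.card P := by
    obtain ⟨e, he⟩ := hP.exists_card_eq
    rw [he]
    exact fun h => hqp ((Nat.prime_dvd_prime_iff_eq hq hp).1 (hq.dvd_of_dvd_pow h))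
  have hrQ : r.Coprime (Nat.card Q) := by
    obtain ⟨e, he⟩ := hQ.exists_card_eq
    rw [he]
    exact ((Nat.coprime_primes hxprime hq).2 (hxr ▸ hrq)).pow_right e
  have hQP_cop : (Nat.card P).Coprime (Nat.card Q) := by
    obtain ⟨e, he⟩ := hQ.exists_card_eq
    rw [he]
    exact ((hq.coprime_iff_not_dvd.2 hqP).symm).pow_right e
  have hQU : U ⊔ Q ⊔ P = U ⊔ (Q ⊔ P) := sup_assoc _ _ _
  -- `x` does not centralise `Q`
  have h1 : ¬ Q ≤ centralizer (R₀ : Set G) := by
    intro h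
    haveI : IsCyclic Q := hZ q hq Q (le_sup_right.trans le_sup_left) h hQ
    set N := normalizer (Q : Set G)
    haveI : (Q.subgroupOf N).Normal := Coprime.normal_subgroupOf_of_le_normalizer le_rfl
    haveI : IsCyclic (Q.subgroupOf N) :=
      isCyclic_of_surjective (subgroupOfEquivOfLe (le_normalizer : Q ≤ N)).symm.toMonoidHom
        (MulEquiv.surjective _)
    have h2 : ⁅P, R⁆ ≤ centralizer (Q : Set G) := commutator_le.2 fun a ha b hb => by
      have h3 := commutator_le_centralizer_of_isCyclic (Q.subgroupOf N)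
        (commutator_mem_commutator (mem_top (⟨a, hPQ ha⟩ : N)) (mem_top (⟨b, hRQ hb⟩ : N)))
      refine mem_centralizer_iff.2 fun c hc => ?_
      exact congrArg Subtype.val (mem_centralizer_iff.1 h3 ⟨c, le_normalizer hc⟩ hc)
    exact hP1 (le_bot_iff.1 (hPfaith ▸ le_inf le_rfl (hPR ▸ h2)))
  -- fixed points of `x` on `U`
  have h2 : U ⊓ centralizer ({x} : Set G) ≠ ⊥ := by
    intro h
    have h3 := commutator_le_centralizer hodd U Q hU x hxprime
      (by rw [normalizer_eq_top]; exact le_top) (by rw [normalizer_eq_top]; exact mem_top x)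
      (hRQ hxR) (fun h' => hrp (hxr.symm.trans h')) hrQ hpQ h
    have h4 : ⁅zpowers x, Q⁆ ≤ Q :=
      le_normalizer_iff_commutator_le_right.1 (zpowers_le.2 (hRQ hxR))
    refine h1 ?_
    rw [hR₀x, le_centralizer_iff, ← commutator_eq_bot_iff_le_centralizer]
    exact le_bot_iff.1 (hQfaith ▸ le_inf h4 h3)
  obtain ⟨u, hu, hu1⟩ := (bot_or_exists_ne_one _).resolve_left h2
  have hux : u * x = x * u := mem_centralizer_singleton_iff.1 hu.2
  have hfpf : ∀ a ∈ P, a * x = x * a → a = 1 := by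
    intro a ha hax
    by_contra ha1
    obtain ⟨k, hk⟩ := hP ⟨a, ha⟩
    replace hk : a ^ p ^ k = 1 := congrArg Subtype.val hk
    have hex : ∃ b ∈ P, b ≠ 1 ∧ b ^ p = 1 ∧ b * x = x * b := by
      obtain ⟨j, hj, hjo⟩ := (Nat.dvd_prime_pow hp).1 (orderOf_dvd_of_pow_eq_one hk)
      have hj1 : j ≠ 0 := fun h => ha1 (orderOf_eq_one_iff.1 (by rw [hjo, h, pow_zero]))
      obtain ⟨i, rfl⟩ := Nat.exists_eq_succ_of_ne_zero hj1
      refine ⟨a ^ p ^ i, pow_mem ha _, fun h => ?_, ?_, (Commute.pow_left (hax : Commute a x) _).eq⟩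
      · have h5 := orderOf_dvd_of_pow_eq_one h
        rw [hjo] at h5
        have h6 := Nat.le_of_dvd (pow_pos hp.pos i) h5
        exact absurd h6 (not_le.2 (pow_lt_pow_right₀ hp.one_lt (Nat.lt_succ_self i)))
      · rw [← pow_mul, ← pow_succ, ← hjo, pow_orderOf_eq_one]
    obtain ⟨b, hb, hb1, hbp, hbx⟩ := hex
    set S := (U ⊔ P) ⊓ centralizer (R₀ : Set G) with hSdef
    have hUp : IsPGroup p U := fun v => ⟨1, Subtype.ext (by simpa using hU.2 v v.2)⟩
    have hScyc : IsCyclic S := hZ p hp S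
      (inf_le_left.trans (sup_le (le_sup_left.trans le_sup_left) le_sup_right)) inf_le_right
      ((hUp.to_sup_of_normal_left hP).to_le inf_le_left)
    have he := zpowers_eq_of_isCyclic (q := p) hScyc
      (show u ∈ S from ⟨mem_sup_left hu.1, (hCx u).2 hux⟩)
      (show b ∈ S from ⟨mem_sup_right hb, (hCx b).2 hbx⟩) (hU.2 u hu.1) hbp hu1 hb1
    have hbU : b ∈ U := (zpowers_le.2 hu.1 : zpowers u ≤ U) (he ▸ mem_zpowers b)
    exact hb1 (mem_bot.1 (hUP ▸ ⟨hbU, hb⟩))
  have hfixcard : Nat.card ↥(U ⊓ centralizer ({x} : Set G)) = p := by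
    have hel : IsElementaryAbelian p (U ⊓ centralizer ({x} : Set G) : Subgroup G) :=
      PGroup.isElementaryAbelian_mono hU inf_le_left
    have hcyc : IsCyclic ↥(U ⊓ centralizer ({x} : Set G)) := hZ p hp _
      (inf_le_left.trans (le_sup_left.trans le_sup_left))
      (fun g hg => (hCx g).2 (mem_centralizer_singleton_iff.1 hg.2))
      (fun v => ⟨1, Subtype.ext (by simpa using hel.2 v v.2)⟩)
    refine le_antisymm (card_le_of_isCyclic hcyc hel le_rfl) ?_
    have h5 : orderOf u = p := orderOf_eq_prime (hU.2 u hu.1) hu1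
    rw [← h5, ← Subgroup.orderOf_mk u hu]
    exact Nat.le_of_dvd Nat.card_pos (orderOf_dvd_natCard _)
  -- `P` is abelian
  have hPc : ∀ a ∈ P, ∀ b ∈ P, a * b = b * a := by
    have hlt : ⁅P, P⁆ < P := Coprime.commutator_lt_of_isPGroup hP hP le_normalizer hP1
    have hN : R ≤ normalizer ((⁅P, P⁆ : Subgroup G) : Set G) := by
      intro g hg
      refine Coprime.mem_normalizer_of_conj_smul_eq ?_
      show Subgroup.map (MulAut.conj g).toMonoidHom ⁅P, P⁆ = _
      rw [map_commutator]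
      exact congrArg₂ (fun X Y => ⁅X, Y⁆) (Coprime.conj_smul_eq_self_of_mem (hRP hg))
        (Coprime.conj_smul_eq_self_of_mem (hRP hg))
    have hc := hS _ hlt hN
    intro a ha b hb
    have h5 := hfpf _ (hlt.le (commutator_mem_commutator ha hb))
      (mem_centralizer_iff.1 (hc hxR) _ (commutator_mem_commutator ha hb))
    exact commutatorElement_eq_one_iff_mul_comm.1 h5
  -- the representation
  obtain ⟨m, ρ₀, hker, -, hrk⟩ := HallHigman.exists_rep' U hU
  have hNU : normalizer (U : Set G) = ⊤ := normalizer_eq_top _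
  let ρ : G →* Module.End (AlgebraicClosure (ZMod p)) (Fin m → AlgebraicClosure (ZMod p)) :=
    ρ₀.comp ((MonoidHom.id G).codRestrict _ fun g => hNU ▸ mem_top g)
  have hrank : Module.finrank (AlgebraicClosure (ZMod p)) (LinearMap.ker (ρ x - 1)) ≤ 1 :=
    hrk ⟨x, hNU ▸ mem_top x⟩ hfixcard
  have hfaith : ∀ g ∈ Q, ρ g = 1 → g = 1 := fun g hg h =>
    mem_bot.1 (hQfaith ▸ ⟨hg, (hker ⟨g, hNU ▸ mem_top g⟩).1 h⟩)
  have hcardk : ∀ L : Subgroup G, L ≤ Q → (Nat.card L : AlgebraicClosure (ZMod p)) ≠ 0 := fun L hL h =>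
    hpQ ((CharP.cast_eq_zero_iff _ p _).1 h |>.trans (card_dvd_of_le hL))
  have hxr1 : x ^ r = 1 := pow_orderOf_eq_one x
  -- `Q = [Q, P]`, `Q'` is central
  have hQP : ⁅Q, P⁆ = Q := by
    by_contra hne
    have hlt : ⁅Q, P⁆ < Q :=
      lt_of_le_of_ne (Coprime.commutator_le_left_of_le_normalizer hPQ) hne
    have hN : R ≤ normalizer ((⁅Q, P⁆ : Subgroup G) : Set G) := fun g hg => by
      refine Coprime.mem_normalizer_of_conj_smul_eq ?_
      show Subgroup.map (MulAut.conj g).toMonoidHom ⁅Q, P⁆ = _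
      rw [map_commutator]
      exact congrArg₂ (fun X Y => ⁅X, Y⁆) (Coprime.conj_smul_eq_self_of_mem (hRQ hg))
        (Coprime.conj_smul_eq_self_of_mem (hRP hg))
    have h5 := Coprime.le_centralizer_of_commutator_le_centralizer hPQ hQP_cop
      (Or.inl inferInstance) (hT _ hlt (normalizer_commutator_ge_right Q P) hN)
    exact hP1 (le_bot_iff.1 (hPfaith ▸ le_inf le_rfl h5))
  have hQ1 : Q ≠ ⊥ := fun h => h1 (h ▸ bot_le)
  have hlt : ⁅Q, Q⁆ < Q := Coprime.commutator_lt_of_isPGroup hQ hQ le_normalizer hQ1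
  have hNQ' : ∀ {A : Subgroup G}, A ≤ normalizer (Q : Set G) →
      A ≤ normalizer ((⁅Q, Q⁆ : Subgroup G) : Set G) := fun hA g hg => by
    refine Coprime.mem_normalizer_of_conj_smul_eq ?_
    show Subgroup.map (MulAut.conj g).toMonoidHom ⁅Q, Q⁆ = _
    rw [map_commutator]
    exact congrArg₂ (fun X Y => ⁅X, Y⁆) (Coprime.conj_smul_eq_self_of_mem (hA hg))
      (Coprime.conj_smul_eq_self_of_mem (hA hg))
  have hPQ' := hT _ hlt (hNQ' hPQ) (hNQ' hRQ)
  have hcent : Q ≤ centralizer ((⁅Q, Q⁆ : Subgroup G) : Set G) := by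
    have h5 : ⁅⁅Q, P⁆, ⁅Q, Q⁆⁆ = ⊥ := by
      refine commutator_commutator_eq_bot_of_rotate ?_ ?_
      · rw [commutator_eq_bot_iff_le_centralizer.2 hPQ', commutator_bot_left]
      · refine le_bot_iff.1 ?_
        calc ⁅⁅⁅Q, Q⁆, Q⁆, P⁆ ≤ ⁅⁅Q, Q⁆, P⁆ :=
              commutator_mono (Coprime.commutator_le_left_of_le_normalizer (hNQ' le_normalizer)) le_rfl
          _ ≤ ⊥ := (Coprime.le_centralizer_iff_commutator_eq_bot.1 hPQ').le
    rw [hQP] at h5
    exact commutator_eq_bot_iff_le_centralizer.1 h5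
  -- `x` centralises `Q'`
  have hxQ' : ∀ l ∈ ⁅Q, Q⁆, l * x = x * l := by
    set L := ⁅Q, Q⁆ with hL
    haveI : IsMulCommutative L := ⟨⟨fun a b => Subtype.ext
      ((mem_centralizer_iff.1 (hcent (hlt.le b.2)) a a.2))⟩⟩
    intro l hl
    have hxL : x ∈ normalizer (L : Set G) := hNQ' hRQ hxR
    have hmem : x⁻¹ * l * x * l⁻¹ ∈ L :=
      mul_mem ((mem_normalizer_iff''.1 hxL l).1 hl) (inv_mem hl)
    have h5 := eq_one_of_forall_weight ρ (L := L) (hcardk L hlt.le) (l₀ := ⟨_, hmem⟩)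
      (hfaith _ (hlt.le hmem)) fun χ v hv0 hv => by
        have hst := FixedLineWeights.mem_wStab_of_commutator ρ hxprime hxr1 hxL hrank hcent le_rfl
          hv hv0
        have h6 := apply_eq_of_mem_wStab hst
        show χ (⟨_, hmem⟩ : L) = 1
        rw [show (⟨_, hmem⟩ : L) = ⟨x⁻¹ * l * x, (mem_normalizer_iff''.1 hxL l).1 hl⟩ *
          (⟨l, hl⟩ : L)⁻¹ from rfl, map_mul]
        rw [show χ ⟨x⁻¹ * l * x, (mem_normalizer_iff''.1 hxL l).1 hl⟩ = χ ⟨l, hl⟩ from
          (mem_wStab_iff hxL).1 hst |> fun e => DFunLike.congr_fun e ⟨l, hl⟩]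
        rw [← map_mul, mul_inv_cancel, map_one]
    have h6 : x⁻¹ * l * x = l := mul_inv_eq_one.1 h5
    conv_rhs => rw [← h6]
    group
  -- fixed points of `x` on `Q` are central in `Q`
  have hfixQ : ∀ c ∈ Q, c * x = x * c → c ∈ centralizer (Q : Set G) := by
    intro c hc hcx
    haveI : IsCyclic ↥(Q ⊓ centralizer (R₀ : Set G)) :=
      hZ q hq _ (inf_le_left.trans (le_sup_right.trans le_sup_left)) inf_le_right
        (hQ.to_le inf_le_left)
    have h5 : Q ≤ centralizer ({c} : Set G) := by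
      rw [← Coprime.commutator_sup_centralizer (K := Q) (A := R₀) (hR₀.trans hRQ)
        (by rw [← hxr]; exact hrQ) (Or.inl inferInstance)]
      refine sup_le (commutator_le.2 fun g hg y hy => mem_centralizer_singleton_iff.2 ?_)
        fun d hd => mem_centralizer_singleton_iff.2 (congrArg Subtype.val
          (IsCyclic.commGroup.mul_comm (⟨d, hd⟩ : ↥(Q ⊓ centralizer (R₀ : Set G)))
            ⟨c, hc, (hCx c).2 hcx⟩))
      -- `[g, y]` commutes with `c`
      have hyx : y ∈ zpowers x := hR₀x ▸ hy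
      obtain ⟨n, hn⟩ := hyx
      have hyc : y * c = c * y := hn ▸ ((Commute.zpow_left (hcx.symm : Commute x c) n)).eq
      have hd : g * c * g⁻¹ * c⁻¹ ∈ ⁅Q, Q⁆ := by
        rw [← commutatorElement_def]; exact commutator_mem_commutator hg hc
      set d := g * c * g⁻¹ * c⁻¹ with hd'
      have hyd : y * d = d * y := hn ▸ ((Commute.zpow_left ((hxQ' d hd).symm : Commute x d) n)).eq
      have hyd' : y * d * y⁻¹ = d := by rw [hyd, mul_inv_cancel_right]
      have hgd : g * d = d * g := (mem_centralizer_iff.1 (hcent hg) d hd).symm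
      have hdc : d * c = c * d := mem_centralizer_iff.1 (hcent hc) d hd
      have e1 : g * c * g⁻¹ = d * c := by rw [hd']; group
      have e2 : g⁻¹ * c * g = d⁻¹ * c := by
        have : c = d * (g⁻¹ * c * g) := by
          calc c = g⁻¹ * (g * c * g⁻¹) * g := by group
            _ = g⁻¹ * (d * c) * g := by rw [e1]
            _ = g⁻¹ * (d * g) * (g⁻¹ * c * g) := by group
            _ = g⁻¹ * (g * d) * (g⁻¹ * c * g) := by rw [hgd]
            _ = d * (g⁻¹ * c * g) := by group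
        conv_rhs => rw [this]
        group
      have e3 : (y * g⁻¹ * y⁻¹) * c * (y * g⁻¹ * y⁻¹)⁻¹ = d⁻¹ * c := by
        calc (y * g⁻¹ * y⁻¹) * c * (y * g⁻¹ * y⁻¹)⁻¹ = y * g⁻¹ * (y⁻¹ * (c * y)) * g * y⁻¹ := by group
          _ = y * g⁻¹ * (y⁻¹ * (y * c)) * g * y⁻¹ := by rw [hyc]
          _ = y * (g⁻¹ * c * g) * y⁻¹ := by group
          _ = y * (d⁻¹ * c) * y⁻¹ := by rw [e2]
          _ = (y * d * y⁻¹)⁻¹ * (y * c * y⁻¹) := by group
          _ = d⁻¹ * c := by rw [hyd', hyc, mul_inv_cancel_right]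
      rw [commutatorElement_def]
      have e4 : g * y * g⁻¹ * y⁻¹ * c * (g * y * g⁻¹ * y⁻¹)⁻¹ = c := by
        calc g * y * g⁻¹ * y⁻¹ * c * (g * y * g⁻¹ * y⁻¹)⁻¹
            = g * ((y * g⁻¹ * y⁻¹) * c * (y * g⁻¹ * y⁻¹)⁻¹) * g⁻¹ := by group
          _ = g * (d⁻¹ * c) * g⁻¹ := by rw [e3]
          _ = (g * d * g⁻¹)⁻¹ * (g * c * g⁻¹) := by group
          _ = c := by rw [hgd, mul_inv_cancel_right, e1]; group
      conv_rhs => rw [← e4]
      group
    exact mem_centralizer_iff.2 fun g hg => mem_centralizer_singleton_iff.1 (h5 hg)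
  -- `Q` is abelian
  have hQab : Q ≤ centralizer (Q : Set G) := by
    by_contra hne
    set Z := Q ⊓ centralizer (Q : Set G) with hZdef
    have hZlt : Z < Q := lt_of_le_of_ne inf_le_left fun h => hne (h.ge.trans inf_le_right)
    have hNZ : ∀ {A : Subgroup G}, A ≤ normalizer (Q : Set G) → A ≤ normalizer (Z : Set G) :=
      fun hA => Coprime.le_normalizer_inf_of_le hA (Coprime.le_normalizer_centralizer hA)
    have hPZ := hT Z hZlt (hNZ hPQ) (hNZ hRQ)
    set N := normalizer (Q : Set G)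
    haveI : (Q.subgroupOf N).Normal := Coprime.normal_subgroupOf_of_le_normalizer le_rfl
    have hinj : Function.Injective (N.subtype) := N.subtype_injective
    have h5 := eq_bot_of_fixed_le (G := N) (hodd.of_dvd_nat (card_subgroup_dvd_card N))
      (Q.subgroupOf N) (P.subgroupOf N) (q := q) (hQ.comap_subtype)
      ⟨x, hRQ hxR⟩ (by rw [Subgroup.orderOf_mk]; exact hxprime)
      (by rw [Subgroup.orderOf_mk]; exact fun h' => hrq (hxr.symm.trans h'))
      (by rw [Coprime.card_subgroupOf hPQ]; exact hqP)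
      (mem_normalizer_iff.2 fun n => mem_normalizer_iff.1 (hRP hxR) n)
      (by rw [Subgroup.orderOf_mk, Coprime.card_subgroupOf hPQ]; exact hrP)
      (fun a ha b hb => Subtype.ext (hPc a ha b hb))
      (fun a ha h => Subtype.ext (hfpf a ha (congrArg Subtype.val h)))
      (fun c hc h a ha => Subtype.ext ((mem_centralizer_iff.1 (hPZ ha) (c : G)
        ⟨hc, hfixQ c hc (congrArg Subtype.val h)⟩).symm))
      (map_injective hinj (by
        rw [map_commutator, map_subgroupOf_eq_of_le le_normalizer, map_subgroupOf_eq_of_le hPQ, hQP]))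
    exact hQ1 (by rw [← map_subgroupOf_eq_of_le (le_normalizer : Q ≤ N), h5, Subgroup.map_bot])
  -- weights of `Q`
  haveI : IsMulCommutative Q := ⟨⟨fun a b => Subtype.ext (mem_centralizer_iff.1 (hQab b.2) a a.2)⟩⟩
  have hPodd : Odd (Nat.card P) := hodd.of_dvd_nat (card_subgroup_dvd_card P)
  have h5 : P ≤ centralizer (Q : Set G) := fun a ha => mem_centralizer_iff.2 fun l hl => by
    have hmem : a⁻¹ * l * a * l⁻¹ ∈ Q :=
      mul_mem ((mem_normalizer_iff''.1 (hPQ ha) l).1 hl) (inv_mem hl)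
    have h5 := eq_one_of_forall_weight ρ (L := Q) (hcardk Q le_rfl) (l₀ := ⟨_, hmem⟩)
      (hfaith _ hmem) fun χ v hv0 hv => by
        have hst := FixedLineWeights.mem_wStab_of_fpf ρ hxprime hr2 hxr1 (hRQ hxR) hrank hPc hPodd
          hPQ (hRP hxR) hfpf hv hv0 ha
        rw [show (⟨_, hmem⟩ : Q) = ⟨a⁻¹ * l * a, (mem_normalizer_iff''.1 (hPQ ha) l).1 hl⟩ *
          (⟨l, hl⟩ : Q)⁻¹ from rfl, map_mul]
        rw [show χ ⟨a⁻¹ * l * a, (mem_normalizer_iff''.1 (hPQ ha) l).1 hl⟩ = χ ⟨l, hl⟩ from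
          (mem_wStab_iff (hPQ ha)).1 hst |> fun e => DFunLike.congr_fun e ⟨l, hl⟩]
        rw [← map_mul, mul_inv_cancel, map_one]
    have h6 : a⁻¹ * l * a = l := mul_inv_eq_one.1 h5
    calc l * a = a * (a⁻¹ * l * a) := by group
      _ = a * l := by rw [h6]
  exact hP1 (le_bot_iff.1 (hPfaith ▸ le_inf le_rfl h5))

end Cfsg.Agent.OddOrder.PLengthEndgame
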