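import Cfsg.Agent.Lib.OddOrder.PLengthMaximal

/-!
# Bender–Glauberman 10.7: consequences of `p`-length one
-/

set_option autoImplicit false

namespace Cfsg.Agent.OddOrder

open Cfsg Subgroup
open scoped Pointwise commutatorElement

universe u
variable {G : Type u} [Group G] [Finite G] {p : ℕ} [Fact p.Prime]

/-- A maximal subgroup over `N(P)` and its decomposition `O_{p'}(M) N(P)`. -/
theorem exists_coatom_normalizer (hG : IsMinSimpleOddOrder G) (P : Sylow p G)
    (hP : (P : Subgroup G) ≠ ⊥) :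
    ∃ M : Subgroup G, IsCoatom M ∧ normalizer ((P : Subgroup G) : Set G) ≤ M ∧ p ∈ sigma M ∧
      ∀ m ∈ M, ∃ o ∈ core p M, ∃ n ∈ normalizer ((P : Subgroup G) : Set G), o * n = m := by
  obtain ⟨M, hM, hNM⟩ := exists_coatom_ge (normalizer_ne_top_of_pgroup hG P.2 hP)
  have hPM : (P : Subgroup G) ≤ M := le_normalizer.trans hNM
  set S : Sylow p M := P.subtype hPM with hS
  have hSmap : (S : Subgroup M).map M.subtype = (P : Subgroup G) := map_subgroupOf_eq_of_le hPM
  have hpM : p ∣ Nat.card M := by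
    obtain ⟨k, hk⟩ := P.2.exists_card_eq
    have hk0 : k ≠ 0 := fun h => hP (Subgroup.card_eq_one.1 (by rw [hk, h, pow_zero]))
    exact (hk ▸ dvd_pow_self p hk0).trans (card_dvd_of_le hPM)
  refine ⟨M, hM, hNM, ⟨Fact.out, hpM, S, by rw [hSmap]; exact hNM⟩, fun m hm => ?_⟩
  have hle : (S : Subgroup M) ≤ pPrimePCore p M :=
    le_pPrimePCore_of_pLength (pLengthLE_one_coatom hG hM) S.2
  have h := Sylow.normalizer_sup_eq_top' S hle
  have h2 : pPrimeCore p M ⊔ normalizer ((S : Subgroup M) : Set M) = ⊤ := by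
    rw [eq_top_iff, ← h]
    exact sup_le le_sup_right ((pPrimePCore_le_sup_sylow S).trans (sup_le_sup_left le_normalizer _))
  haveI : (pPrimeCore p M).Normal := PCore.pPrimeCore_normal
  obtain ⟨n, hn, o, ho, hmn⟩ := (Coprime.mem_sup_iff_of_le_normalizer
    (H := normalizer ((S : Subgroup M) : Set M)) (N := pPrimeCore p M)
    PLengthCommutator.le_normalizer_of_normal).1
    (show (⟨m, hm⟩ : M) ∈ normalizer ((S : Subgroup M) : Set M) ⊔ pPrimeCore p M by
      rw [sup_comm, h2]; exact mem_top _)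
  refine ⟨(n : G) * o * (n : G)⁻¹, ?_, n, ?_, ?_⟩
  · exact ⟨n * o * n⁻¹, Subgroup.Normal.conj_mem inferInstance o ho n, by simp⟩
  · have := le_normalizer_map (H := (S : Subgroup M)) M.subtype (mem_map_of_mem M.subtype hn)
    rwa [hSmap] at this
  · rw [show (n : G) * o * (n : G)⁻¹ * n = n * o by group]
    exact congrArg Subtype.val hmn

theorem inf_core_eq_bot {X : Subgroup G} (hX : IsPGroup p X) (M : Subgroup G) :
    X ⊓ core p M = ⊥ := by
  obtain ⟨k, hk⟩ := hX.exists_card_eq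
  exact Coprime.disjoint_of_coprime_card (hk ▸ ((coprime_card_core M).symm).pow_left k)

/-- Fusion in `P` is controlled by `N(P)`, for subgroups. -/
theorem exists_normalizer_conj (hG : IsMinSimpleOddOrder G) (P : Sylow p G) {Q : Subgroup G} {x : G}
    (hQ : Q ≤ (P : Subgroup G)) (hx : MulAut.conj x • Q ≤ (P : Subgroup G)) :
    ∃ y ∈ normalizer ((P : Subgroup G) : Set G), MulAut.conj x • Q = MulAut.conj y • Q := by
  rcases eq_or_ne Q ⊥ with rfl | hQ1
  · refine ⟨1, one_mem _, ?_⟩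
    rw [smul_bot, smul_bot]
  have hP : (P : Subgroup G) ≠ ⊥ := fun h => hQ1 (le_bot_iff.1 (h ▸ hQ))
  obtain ⟨M, hM, hNM, hσ, hdec⟩ := exists_coatom_normalizer hG P hP
  have hPM : (P : Subgroup G) ≤ M := le_normalizer.trans hNM
  obtain ⟨m, hm, c, hc, rfl⟩ := exists_mul_centralizer hG hM hσ (P.2.to_le hQ) hQ1 (hQ.trans hPM)
    (hx.trans hPM)
  have hcQ : MulAut.conj c • Q = Q :=
    Coprime.conj_smul_eq_self_of_mem (centralizer_le_normalizer _ hc)
  rw [← Coprime.conj_smul_smul, hcQ] at hx ⊢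
  obtain ⟨o, ho, n, hn, rfl⟩ := hdec m hm
  refine ⟨n, hn, ?_⟩
  refine Subgroup.eq_of_le_of_card_ge (fun z hz => ?_) (by rw [Coprime.card_conj_smul, Coprime.card_conj_smul])
  have hz' := hx hz
  rw [Coprime.mem_conj_smul_iff] at hz ⊢
  set q := (o * n)⁻¹ * z * (o * n) with hq
  have hq' : n * q * n⁻¹ ∈ (P : Subgroup G) := (mem_normalizer_iff.1 hn q).1 (hQ hz)
  have h1 : z * (n * q * n⁻¹)⁻¹ ∈ (P : Subgroup G) ⊓ core p M := by
    refine ⟨(P : Subgroup G).mul_mem hz' ((P : Subgroup G).inv_mem hq'), ?_⟩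
    show z * (n * q * n⁻¹)⁻¹ ∈ core p M
    have hnorm := (mem_normalizer_iff.1 (le_normalizer_core M (hPM hq')) o⁻¹).1 ((core p M).inv_mem ho)
    have := (core p M).mul_mem ho hnorm
    convert this using 1
    rw [hq]; group
  rw [inf_core_eq_bot P.2 M, mem_bot, mul_inv_eq_one] at h1
  rw [h1, show n⁻¹ * (n * q * n⁻¹) * n = q by group]
  exact hz

/-- `P ≤ N(P)'`. -/
theorem sylow_le_commutator_normalizer (hG : IsMinSimpleOddOrder G) (P : Sylow p G) :
    (P : Subgroup G) ≤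
      ⁅normalizer ((P : Subgroup G) : Set G), normalizer ((P : Subgroup G) : Set G)⁆ := by
  rcases eq_or_ne (P : Subgroup G) ⊥ with h | hP
  · rw [h]; exact bot_le
  obtain ⟨M, hM, hNM, hσ, hdec⟩ := exists_coatom_normalizer hG P hP
  set N := normalizer ((P : Subgroup G) : Set G)
  set T := ⁅N, N⁆ with hT
  set O := core p M with hO
  have hMO : M ≤ normalizer (O : Set G) := le_normalizer_core M
  have hTM : T ≤ M := (commutator_le_self N).trans hNM
  have hNT : N ≤ normalizer (T : Set G) := normalizer_commutator_ge_left N N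
  -- `M' ≤ T O`
  have hMT : ⁅M, M⁆ ≤ T ⊔ O := commutator_le.2 fun g hg g' hg' => by
    obtain ⟨o, ho, n, hn, rfl⟩ := hdec g hg
    obtain ⟨o', ho', n', hn', rfl⟩ := hdec g' hg'
    haveI : (O.subgroupOf M).Normal := Coprime.normal_subgroupOf_of_le_normalizer hMO
    set π := QuotientGroup.mk' (O.subgroupOf M)
    have h1 : π ⁅(⟨o * n, hg⟩ : M), ⟨o' * n', hg'⟩⁆ = π ⁅(⟨n, hNM hn⟩ : M), ⟨n', hNM hn'⟩⁆ := by
      have e : ∀ {a b : G} (ha : a * b ∈ M) (haO : a ∈ O) (hb : b ∈ M),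
          π ⟨a * b, ha⟩ = π ⟨b, hb⟩ := fun {a b} ha haO hb => by
        refine (QuotientGroup.eq).2 ?_
        show (a * b)⁻¹ * b ∈ O
        have := (mem_normalizer_iff''.1 (hMO hb) a⁻¹).1 (O.inv_mem haO)
        simpa [mul_assoc] using this
      rw [map_commutatorElement, map_commutatorElement, e hg ho (hNM hn), e hg' ho' (hNM hn')]
    have h2 := (QuotientGroup.eq).1 h1.symm
    have h3 : (⁅n, n'⁆)⁻¹ * ⁅o * n, o' * n'⁆ ∈ O := by
      have h4 : ((⁅(⟨n, hNM hn⟩ : M), ⟨n', hNM hn'⟩⁆⁻¹ * ⁅(⟨o * n, hg⟩ : M), ⟨o' * n', hg'⟩⁆ : M) : G) ∈ O := h2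
      simpa [commutatorElement_def] using h4
    have := mul_mem (mem_sup_left (T := O) (commutator_mem_commutator hn hn'))
      (mem_sup_right (S := T) h3)
    rwa [mul_inv_cancel_left] at this
  intro s hs
  have hsM' : s ∈ ⁅M, M⁆ := by
    have hSmap : ((P.subtype (le_normalizer.trans hNM) : Sylow p M) : Subgroup M).map M.subtype =
        (P : Subgroup G) := map_subgroupOf_eq_of_le (le_normalizer.trans hNM)
    have := sylow_le_commutator_of_sigma hG hM hσ (P.subtype (le_normalizer.trans hNM))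
    rw [hSmap] at this
    exact this hs
  obtain ⟨c, hc, o, ho, hco⟩ := (Coprime.mem_sup_iff_of_le_normalizer (hTM.trans hMO)).1 (hMT hsM')
  have hsN : s ∈ normalizer (T : Set G) := hNT (le_normalizer hs)
  have hpow : ∀ n : ℕ, ∃ t ∈ T, (c⁻¹ * s) ^ n = t * s ^ n := by
    intro n
    induction n with
    | zero => exact ⟨1, one_mem _, by simp⟩
    | succ n ih =>
      obtain ⟨t, ht, he⟩ := ih
      refine ⟨t * (s ^ n * c⁻¹ * (s ^ n)⁻¹),
        mul_mem ht ((mem_normalizer_iff.1 (pow_mem hsN n) _).1 (inv_mem hc)), ?_⟩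
      rw [pow_succ, he, pow_succ]; group
  have hoeq : o = c⁻¹ * s := by rw [← hco, inv_mul_cancel_left]
  obtain ⟨k, hk⟩ := P.2 ⟨s, hs⟩
  replace hk : s ^ p ^ k = 1 := congrArg Subtype.val hk
  obtain ⟨t, ht, he⟩ := hpow (p ^ k)
  rw [hk, mul_one, ← hoeq] at he
  have hcop : (p ^ k).Coprime (orderOf o) :=
    (((coprime_card_core M).symm).pow_left k).coprime_dvd_right (Subgroup.orderOf_dvd_natCard _ ho)
  obtain ⟨j, hj⟩ := exists_pow_eq_self_of_coprime hcop
  have hoT : o ∈ T := by rw [← hj, he]; exact pow_mem ht j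
  rw [← hco]
  exact mul_mem hc hoT

end Cfsg.Agent.OddOrder
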