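import Cfsg.Agent.Lib.OddOrder.SigmaLocal
import Cfsg.Agent.Lib.OddOrder.DerivedNilpotent
import Cfsg.Agent.Lib.OddOrder.PiCore
import Cfsg.Agent.Lib.IsolatedP.Cyclic

/-!
# `M_α` (BG 10.2)

* `sylow_le_alphaCore`: Sylow p-subgroups of `M` lie in `M_α` for `p ∈ α(M)`;
* `alphaCore_hall`, `alphaCore_isPiHall`, `alphaCore_le_sigmaCore`, `rankLE_quotient_alphaCore`,
  `commutator_quotient_le_fitting`, `alphaCore_le_commutator`.
-/

set_option linter.style.haveILetI false
set_option linter.unusedSectionVars false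

namespace Cfsg.Agent.OddOrder

open Cfsg
open Subgroup (centralizer normalizer zpowers)

universe u
variable {G : Type u} [Group G] [Finite G] (hG : IsMinSimpleOddOrder G) {M : Subgroup G} (hM : IsCoatom M)
include hG hM

theorem pCore_quotient_alpha_eq_bot {r : ℕ} (hr : r ∈ alpha M) :
    pCore r (↥M ⧸ piCore (alpha M) ↥M) = ⊥ := by
  haveI := Fact.mk hr.1
  set N := piCore (alpha M) ↥M
  set π := QuotientGroup.mk' N
  have hle : (pCore r (↥M ⧸ N)).comap π ≤ N := by
    refine le_sSup ⟨(inferInstance : ((pCore r (↥M ⧸ N)).comap π).Normal), fun l hl hd => ?_⟩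
    have hd' := hd.trans (PCore.card_comap_dvd π (pCore r (↥M ⧸ N)))
    rw [QuotientGroup.ker_mk'] at hd'
    rcases hl.dvd_mul.1 hd' with h | h
    · exact isPiGrp_piCore (alpha M) ↥M l hl h
    · obtain ⟨j, hj⟩ := (PCore.isPGroup_pCore (p := r) (G := ↥M ⧸ N)).exists_card_eq
      rw [(Nat.prime_dvd_prime_iff_eq hl hr.1).1 (hl.dvd_of_dvd_pow (hj ▸ h))]
      exact hr
  rw [eq_bot_iff]
  intro x hx
  obtain ⟨y, rfl⟩ := QuotientGroup.mk'_surjective N x
  exact Subgroup.mem_bot.2 ((QuotientGroup.eq_one_iff y).2 (hle hx))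

theorem pRankLE_quotient_alpha {r : ℕ} (hr : r.Prime) (hra : r ∉ alpha M) :
    PRankLE r 2 (↥M ⧸ piCore (alpha M) ↥M) := by
  haveI := Fact.mk hr
  have hrM : PRankLE r 2 M := by
    by_contra h
    exact hra ⟨hr, h⟩
  set N := piCore (alpha M) ↥M
  set π := QuotientGroup.mk' N
  intro B hB hBp
  haveI := hB
  have hBel : IsElementaryAbelian r B := ⟨hB, hBp⟩
  obtain ⟨R, hR⟩ := (PGroup.isPGroup_of_elementaryAbelian hBel).exists_le_sylow
  obtain ⟨S⟩ : Nonempty (Sylow r M) := inferInstance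
  obtain ⟨g, hg⟩ := MulAction.exists_smul_eq (↥M ⧸ N) (S.mapSurjective (QuotientGroup.mk'_surjective N)) R
  obtain ⟨g, rfl⟩ := QuotientGroup.mk'_surjective N g
  have hRS : (R : Subgroup (↥M ⧸ N)) = ((g • S : Sylow r M) : Subgroup M).map π := by
    rw [← hg, Sylow.coe_subgroup_smul, Sylow.coe_subgroup_smul, Sylow.coe_mapSurjective, Coprime.map_conj_smul]
  set S' := ((g • S : Sylow r M) : Subgroup M)
  have hcop : (Nat.card N).Coprime r :=
    (hr.coprime_iff_not_dvd.2 fun h => hra (isPiGrp_piCore (alpha M) ↥M r hr h)).symm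
  have hinj : Function.Injective (π.subgroupMap S') := by
    rw [← MonoidHom.ker_eq_bot_iff, Subgroup.eq_bot_iff_forall]
    intro x hx
    have h1 : (x : M) ∈ S' ⊓ N := ⟨x.2, (QuotientGroup.eq_one_iff (x : M)).1 (congrArg Subtype.val hx)⟩
    rw [(PCore.disjoint_of_isPGroup_of_coprime (g • S).2 hcop).eq_bot, Subgroup.mem_bot] at h1
    exact Subtype.ext h1
  let e := MulEquiv.ofBijective _ ⟨hinj, π.subgroupMap_surjective S'⟩
  have hr' : PRankLE r 2 (S'.map π) := pRankLE_of_injective (f := e.symm.toMonoidHom) e.symm.injective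
    (pRankLE_of_injective (f := S'.subtype) S'.subtype_injective hrM)
  rw [← Coprime.card_subgroupOf (hR.trans hRS.le)]
  exact hr' _ ⟨⟨fun a b => Subtype.ext (Subtype.ext (PGroup.mul_comm_of_isMulCommutative hB a.2 b.2))⟩⟩
    fun a ha => Subtype.ext (hBp _ ha)

theorem commutator_quotient_le_fitting :
    _root_.commutator (↥M ⧸ piCore (alpha M) ↥M) ≤ fittingSubgroup (↥M ⧸ piCore (alpha M) ↥M) := by
  haveI := isSolvable_of_coatom hG hM
  refine commutator_le_fittingSubgroup (odd_quotient (odd_subgroup hG.1 M) _) fun r hr => ?_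
  by_cases hra : r ∈ alpha M
  · rw [pCore_quotient_alpha_eq_bot hG hM hra]
    intro B _ _
    refine B.card_le_card_group.trans ?_
    rw [Subgroup.card_bot]
    exact Nat.one_le_pow _ _ hr.pos
  · exact pRankLE_of_injective (f := Subgroup.subtype _) (Subgroup.subtype_injective _)
      (pRankLE_quotient_alpha hG hM hr hra)

theorem sylow_le_piCore_alpha {p : ℕ} [Fact p.Prime] (hp : p ∈ alpha M) (S : Sylow p M) :
    (S : Subgroup M) ≤ piCore (alpha M) ↥M := by
  haveI := isSolvable_of_coatom hG hM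
  intro x hx
  have hder : x ∈ _root_.commutator M := by
    have h := sylow_le_commutator_of_sigma hG hM (alpha_subset_sigma hG hM hp) S ⟨x, hx, rfl⟩
    have e : ⁅M, M⁆ = (_root_.commutator M).map M.subtype := by
      rw [commutator_def, Subgroup.map_commutator, ← MonoidHom.range_eq_map, Subgroup.range_subtype]
    rw [e] at h
    obtain ⟨y, hy, hyx⟩ := h
    exact (Subtype.ext hyx : y = x) ▸ hy
  obtain ⟨k, hk⟩ := S.2 ⟨x, hx⟩
  set π := QuotientGroup.mk' (piCore (alpha M) ↥M)
  have hmap : π x ∈ _root_.commutator (↥M ⧸ piCore (alpha M) ↥M) := by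
    have := Subgroup.mem_map_of_mem π hder
    rw [commutator_def, Subgroup.map_commutator] at this
    exact Subgroup.commutator_mono le_top le_top this
  have h2 := Subnormal.mem_pCore_of_mem_fittingSubgroup (p := p) (k := k)
    (commutator_quotient_le_fitting hG hM hmap)
    (by rw [← map_pow, show x ^ p ^ k = 1 from congrArg Subtype.val hk, map_one])
  rw [pCore_quotient_alpha_eq_bot hG hM hp, Subgroup.mem_bot] at h2
  exact (QuotientGroup.eq_one_iff x).1 h2

theorem sylow_le_alphaCore {p : ℕ} [Fact p.Prime] (hp : p ∈ alpha M) (S : Sylow p M) :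
    (S : Subgroup M).map M.subtype ≤ alphaCore M :=
  Subgroup.map_mono (sylow_le_piCore_alpha hG hM hp S)

theorem alphaCore_isPiHall : IsPiHall (alpha M) (alphaCore M) := by
  refine ⟨isPiGrp_piCoreOf (alpha M) M, fun p hp hpa hd => ?_⟩
  haveI := Fact.mk hp
  obtain ⟨S⟩ : Nonempty (Sylow p M) := inferInstance
  obtain ⟨P, hP⟩ := sigma_sylow_eq (alpha_subset_sigma hG hM hpa) S
  exact P.not_dvd_index (hd.trans (Subgroup.index_dvd_of_le (hP.le.trans (sylow_le_alphaCore hG hM hpa S))))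

theorem alphaCore_hall : IsPiHallOf (alpha M) (alphaCore M) M :=
  ⟨piCoreOf_le _ M, isPiGrp_piCoreOf (alpha M) M, fun p hp hpa hd =>
    (alphaCore_isPiHall hG hM).2 p hp hpa (hd.trans (Subgroup.relIndex_dvd_index_of_le (piCoreOf_le _ M)))⟩

theorem alphaCore_le_sigmaCore : alphaCore M ≤ sigmaCore M :=
  Subgroup.map_mono (le_sSup ⟨piCore_normal _ _, fun p hp hd =>
    alpha_subset_sigma hG hM (isPiGrp_piCore (alpha M) ↥M p hp hd)⟩)

theorem rankLE_quotient_alphaCore : RankLE 2 (↥M ⧸ piCore (alpha M) ↥M) := by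
  intro p hp
  haveI := Fact.mk hp
  by_cases hpa : p ∈ alpha M
  · intro B hB hBp
    obtain ⟨k, hk⟩ := (PGroup.isPGroup_of_elementaryAbelian (⟨hB, hBp⟩ : IsElementaryAbelian p B)).exists_card_eq
    rcases Nat.eq_zero_or_pos k with rfl | hk0
    · rw [hk, pow_zero]
      exact Nat.one_le_pow _ _ hp.pos
    · exfalso
      obtain ⟨S⟩ : Nonempty (Sylow p M) := inferInstance
      have h1 : p ∣ Nat.card (↥M ⧸ piCore (alpha M) ↥M) :=
        (hk ▸ dvd_pow_self p hk0.ne').trans B.card_subgroup_dvd_card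
      exact S.not_dvd_index (h1.trans (Subgroup.index_dvd_of_le (sylow_le_piCore_alpha hG hM hpa S)))
  · exact pRankLE_quotient_alpha hG hM hp hpa

theorem alphaCore_le_commutator : alphaCore M ≤ ⁅M, M⁆ := by
  intro x hx
  refine mem_of_forall_primePart fun r hr _ u hu ⟨k, hk⟩ => ?_
  haveI := Fact.mk hr
  have huM : u ∈ M := piCoreOf_le _ M (Subgroup.zpowers_le.2 hx hu)
  rcases eq_or_ne u 1 with rfl | hu1
  · exact one_mem _
  obtain ⟨S, hS⟩ := exists_sylow_map_ge (p := r) (X := zpowers u) (by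
    obtain ⟨i, -, hi⟩ := (Nat.dvd_prime_pow hr).1 (orderOf_dvd_of_pow_eq_one hk)
    exact IsPGroup.of_card (n := i) (by rw [Nat.card_zpowers, hi])) (Subgroup.zpowers_le.2 huM)
  have hra : r ∈ alpha M := by
    refine isPiGrp_piCoreOf (alpha M) M r hr (dvd_trans ?_
      (Subgroup.orderOf_dvd_natCard _ (Subgroup.zpowers_le.2 hx hu : u ∈ alphaCore M)))
    obtain ⟨i, -, hi⟩ := (Nat.dvd_prime_pow hr).1 (orderOf_dvd_of_pow_eq_one hk)
    rcases Nat.eq_zero_or_pos i with rfl | hi0
    · rw [pow_zero, orderOf_eq_one_iff] at hi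
      exact absurd hi hu1
    · exact hi ▸ dvd_pow_self r hi0.ne'
  exact sylow_le_commutator_of_sigma hG hM (alpha_subset_sigma hG hM hra) S (hS (Subgroup.mem_zpowers u))

omit hG hM in
theorem not_pRankLE_sylow {p : ℕ} [Fact p.Prime] (hr : ¬ PRankLE p 2 M) (S : Sylow p M) :
    ¬ PRankLE p 2 ((S : Subgroup M).map M.subtype) := by
  obtain ⟨E, hEM, hE, hE3⟩ := exists_elementary_cube hr
  obtain ⟨S', hS'⟩ := exists_sylow_map_ge (PGroup.isPGroup_of_elementaryAbelian hE) hEM
  obtain ⟨k, hk⟩ := MulAction.exists_smul_eq M S' S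
  refine not_pRankLE_of_elementary (E := E.map (MulAut.conj (k : G)).toMonoidHom)
    (PGroup.isElementaryAbelian_map hE _) ?_ ?_
  · rw [← hk, Sylow.coe_subgroup_smul, Coprime.map_conj_smul, M.coe_subtype]
    exact Subgroup.map_mono hS'
  · rw [Subgroup.card_map_of_injective (f := (MulAut.conj (k : G)).toMonoidHom) (MulEquiv.injective _)]
    exact hE3

omit hG hM in
theorem isZGroup_of_rankLE_one (hodd : Odd (Nat.card G)) {H : Subgroup G} (h : RankLE 1 H) :
    IsZGroup H := by
  rw [isZGroup_iff]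
  intro p hp P
  haveI := Fact.mk hp
  by_cases hd : p ∣ Nat.card H
  · exact IsolatedP.isCyclic_of_pRankLE_one (ne_two_of_odd_of_dvd (odd_subgroup hodd H) hd) P.2
      (pRankLE_of_injective (f := (P : Subgroup H).subtype) (Subgroup.subtype_injective _) (h p hp))
  · have : (P : Subgroup H) = ⊥ := PCore.eq_bot_of_isPGroup_of_coprime P.2
      ((hp.coprime_iff_not_dvd.2 fun hd' => hd (hd'.trans (P : Subgroup H).card_subgroup_dvd_card)).symm)
    show IsCyclic (P : Subgroup H)
    rw [this]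
    infer_instance

end Cfsg.Agent.OddOrder
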