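import Cfsg.Agent.S1403
import Cfsg.Agent.Lib.OddOrder.RankTwo
import Cfsg.Agent.Lib.Transfer.Fusion
import Cfsg.Agent.Lib.Coprime.Sylow

/-!
# Maximal subgroups and the primes of σ(M) (BG 10.1)

* `inUniqueMaximal_of_rank`, `alpha_subset_sigma`;
* `sigma_normalizer_le`, `sigma_sylow_eq`: every Sylow p-subgroup of `M`, `p ∈ σ(M)`;
* `exists_mul_centralizer`: fusion of p-subgroups of `M` is controlled by `M` up to centralizers;
* `sylow_le_commutator_of_sigma`: `S ≤ M'`.
-/

set_option linter.style.haveILetI false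
set_option linter.unusedSectionVars false

namespace Cfsg.Agent.OddOrder

open Cfsg
open Subgroup (centralizer normalizer zpowers)
open scoped Pointwise

universe u
variable {G : Type u} [Group G] [Finite G] {p : ℕ} [Fact p.Prime]

theorem commutator_eq_top (hG : IsMinSimpleOddOrder G) : _root_.commutator G = ⊤ := by
  rcases hG.2.1.eq_bot_or_eq_top_of_normal (_root_.commutator G) inferInstance with h | h
  · exact absurd ⟨⟨fun a c => commutatorElement_eq_one_iff_mul_comm.1 (Subgroup.mem_bot.1 (h ▸ by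
      rw [commutator_def]; exact Subgroup.commutator_mem_commutator trivial trivial))⟩⟩ hG.2.2.1
  · exact h

theorem not_pRankLE_of_elementary {H E : Subgroup G} (hE : IsElementaryAbelian p E) (hEH : E ≤ H) {k : ℕ}
    (hk : p ^ (k + 1) ≤ Nat.card E) : ¬ PRankLE p k H := fun h => by
  have h2 := h (E.subgroupOf H) (PGroup.isMulCommutative_of_forall fun a ha b hb =>
    Subtype.ext (PGroup.mul_comm_of_elementaryAbelian hE ha hb)) fun a ha => Subtype.ext (hE.2 _ ha)
  rw [Coprime.card_subgroupOf hEH] at h2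
  exact absurd (hk.trans h2) (Nat.pow_lt_pow_right (Fact.out : p.Prime).one_lt (Nat.lt_succ_self k)).not_ge

theorem exists_sylow_map_ge {M X : Subgroup G} (hX : IsPGroup p X) (hXM : X ≤ M) :
    ∃ S : Sylow p M, X ≤ (S : Subgroup M).map M.subtype := by
  obtain ⟨S, hS⟩ := (hX.comap_of_injective M.subtype M.subtype_injective).exists_le_sylow
  exact ⟨S, (Subgroup.map_subgroupOf_eq_of_le hXM).ge.trans (Subgroup.map_mono hS)⟩

theorem inUniqueMaximal_of_rank (hG : IsMinSimpleOddOrder G) {K : Subgroup G} (hK : K ≠ ⊤)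
    (hr : ¬ PRankLE p 2 K) : InUniqueMaximal K := by
  refine S1403.result hG K hK (fun h => hr fun B hB hB' => (h p Fact.out B hB hB').trans
    (Nat.pow_le_pow_right (Fact.out : p.Prime).pos (by norm_num))) (Or.inl fun h => hr (h p Fact.out))

theorem le_of_inUniqueMaximal {M K X : Subgroup G} (hu : InUniqueMaximal K) (hM : IsCoatom M)
    (hKM : K ≤ M) (hKX : K ≤ X) (hX : X ≠ ⊤) : X ≤ M := by
  obtain ⟨M', -, h⟩ := hu
  exact le_of_forall_coatom hX fun L hL hle => (h L ⟨hL, hKX.trans hle⟩).trans (h M ⟨hM, hKM⟩).symm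

theorem mem_sigma_of_rank (hG : IsMinSimpleOddOrder G) {M : Subgroup G} (hM : IsCoatom M)
    (hr : ¬ PRankLE p 2 M) : p ∈ sigma M := by
  have hp : p.Prime := Fact.out
  obtain ⟨E, hEM, hE, hE3⟩ := exists_elementary_cube hr
  obtain ⟨S, hS⟩ := exists_sylow_map_ge (PGroup.isPGroup_of_elementaryAbelian hE) hEM
  have hE1 : E ≠ ⊥ := fun h => by
    rw [h, Subgroup.card_bot] at hE3
    exact absurd hE3 (Nat.one_lt_pow (by norm_num) hp.one_lt).not_ge
  have hSp : IsPGroup p ((S : Subgroup M).map M.subtype) := S.2.map _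
  refine ⟨hp, ?_, S, le_of_inUniqueMaximal
    (inUniqueMaximal_of_rank hG (ne_top_of_isPGroup hG hSp) (not_pRankLE_of_elementary hE hS hE3))
    hM (Subgroup.map_subtype_le _) Subgroup.le_normalizer
    (normalizer_ne_top_of_pgroup hG hSp (ne_bot_of_le_ne_bot hE1 hS))⟩
  obtain ⟨k, hk⟩ := (PGroup.isPGroup_of_elementaryAbelian hE).exists_card_eq
  have hk0 : k ≠ 0 := fun h => hE1 (Subgroup.card_eq_one.1 (by rw [hk, h, pow_zero]))
  exact (hk ▸ dvd_pow_self p hk0).trans (Subgroup.card_dvd_of_le hEM)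

omit [Fact p.Prime] in
theorem alpha_subset_sigma (hG : IsMinSimpleOddOrder G) {M : Subgroup G} (hM : IsCoatom M) :
    alpha M ⊆ sigma M := fun q hq => by
  haveI := Fact.mk hq.1
  exact mem_sigma_of_rank hG hM hq.2

theorem sigma_normalizer_le {M : Subgroup G} (hp : p ∈ sigma M) (S : Sylow p M) :
    normalizer (((S : Subgroup M).map M.subtype : Subgroup G) : Set G) ≤ M := by
  obtain ⟨-, -, S₀, hS₀⟩ := hp
  obtain ⟨k, hk⟩ := MulAction.exists_smul_eq M S₀ S
  intro n hn
  rw [← hk, Sylow.coe_subgroup_smul, Coprime.map_conj_smul] at hn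
  have hn' : ((k : G)⁻¹) * n * k ∈ normalizer (((S₀ : Subgroup M).map M.subtype : Subgroup G) : Set G) := by
    refine Coprime.mem_normalizer_of_conj_smul_eq ?_
    have h := congrArg (fun K : Subgroup G => MulAut.conj ((k : G)⁻¹) • K) (Coprime.conj_smul_eq_self_of_mem hn)
    simp only [Coprime.conj_smul_smul, M.coe_subtype, inv_mul_cancel, map_one, one_smul] at h
    rwa [← mul_assoc] at h
  have h2 := M.mul_mem (M.mul_mem k.2 (hS₀ hn')) (M.inv_mem k.2)
  rwa [show (k : G) * ((k : G)⁻¹ * n * k) * (k : G)⁻¹ = n by group] at h2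

theorem sigma_sylow_eq {M : Subgroup G} (hp : p ∈ sigma M) (S : Sylow p M) :
    ∃ P : Sylow p G, (P : Subgroup G) = (S : Subgroup M).map M.subtype :=
  exists_sylow_eq S (sigma_normalizer_le hp S)

/-- BG 10.1. -/
theorem exists_mul_centralizer (hG : IsMinSimpleOddOrder G) {M : Subgroup G} (hM : IsCoatom M)
    (hp : p ∈ sigma M) {X : Subgroup G} (hXp : IsPGroup p X) (hX1 : X ≠ ⊥) (hXM : X ≤ M) {g : G}
    (hg : MulAut.conj g • X ≤ M) : ∃ m ∈ M, ∃ c ∈ centralizer (X : Set G), g = m * c := by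
  induction hn : Nat.card G - Nat.card X using Nat.strong_induction_on generalizing X g with
  | _ n ih =>
  subst hn
  set N := normalizer (X : Set G) with hNdef
  have hIH : ∀ {T : Subgroup G}, IsPGroup p T → Nat.card X < Nat.card T → T ≤ M → ∀ {k : G},
      MulAut.conj k • T ≤ M → ∃ m ∈ M, ∃ c ∈ centralizer (T : Set G), k = m * c := fun {T} hT hlt hTM k hk =>
    ih _ (by have := T.card_le_card_group; omega) hT
      (fun h => by rw [h, Subgroup.card_bot] at hlt; have := Nat.card_pos (α := X); omega) hTM hk rfl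
  obtain ⟨S, hS⟩ := exists_sylow_map_ge hXp hXM
  by_cases heq : X = (S : Subgroup M).map M.subtype
  · -- `X` is a Sylow subgroup of `M`
    have hgp : IsPGroup p (MulAut.conj g • X : Subgroup G) := hXp.map _
    obtain ⟨S', hS'⟩ := exists_sylow_map_ge hgp hg
    obtain ⟨k, hk⟩ := MulAction.exists_smul_eq M S' S
    have h1 : MulAut.conj g • X = (S' : Subgroup M).map M.subtype := Subgroup.eq_of_le_of_card_ge hS' (by
      rw [Coprime.card_conj_smul, heq, Subgroup.card_map_of_injective M.subtype_injective,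
        Subgroup.card_map_of_injective M.subtype_injective, ← hk, Sylow.coe_subgroup_smul,
        Coprime.card_conj_smul])
    have h2 : MulAut.conj (k : G) • MulAut.conj g • X = X := by
      rw [h1]
      conv_rhs => rw [heq, ← hk, Sylow.coe_subgroup_smul, Coprime.map_conj_smul, M.coe_subtype]
    rw [Coprime.conj_smul_smul] at h2
    have h3 := sigma_normalizer_le hp S (heq ▸ Coprime.mem_normalizer_of_conj_smul_eq h2)
    refine ⟨g, ?_, 1, one_mem _, (mul_one g).symm⟩
    have := M.mul_mem (M.inv_mem k.2) h3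
    rwa [inv_mul_cancel_left] at this
  have hlocal : ∀ {g : G}, MulAut.conj g • X ≤ M → ∃ T : Subgroup G, IsPGroup p T ∧
      Nat.card X < Nat.card T ∧ T ≤ M ∧ MulAut.conj g • X ≤ T ∧ MulAut.conj g⁻¹ • T ≤ N := by
    intro g hg
    obtain ⟨X', hX'⟩ : ∃ Y : Subgroup G, Y = MulAut.conj g • X := ⟨_, rfl⟩
    rw [← hX'] at hg ⊢
    obtain ⟨S', hS'⟩ := exists_sylow_map_ge (by rw [hX']; exact hXp.map _ : IsPGroup p X') hg
    have hne : X' ≠ (S' : Subgroup M).map M.subtype := fun e => by
      obtain ⟨k, hk⟩ := MulAction.exists_smul_eq M S' S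
      refine heq (Subgroup.eq_of_le_of_card_ge hS ?_)
      rw [Subgroup.card_map_of_injective M.subtype_injective, ← hk, Sylow.coe_subgroup_smul,
        Coprime.card_conj_smul, ← Subgroup.card_map_of_injective M.subtype_injective, ← e, hX',
        Coprime.card_conj_smul]
    have hlt := lt_inf_normalizer (S'.2.map M.subtype).isNilpotent (lt_of_le_of_ne hS' hne)
    refine ⟨_, (S'.2.map M.subtype).to_le inf_le_left, ?_, inf_le_left.trans (Subgroup.map_subtype_le _),
      hlt.le, ?_⟩
    · refine lt_of_le_of_ne ?_ fun e => hlt.ne (Subgroup.eq_of_le_of_card_ge hlt.le ?_)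
      · exact (Coprime.card_conj_smul g X).ge.trans (hX' ▸ Subgroup.card_le_of_le hlt.le)
      · exact e.ge.trans (show Nat.card X' = Nat.card X by rw [hX', Coprime.card_conj_smul]).ge
    · intro t ht
      rw [Coprime.mem_conj_smul_iff, inv_inv] at ht
      refine Coprime.mem_normalizer_of_conj_smul_eq ?_
      have h := congrArg (fun K : Subgroup G => MulAut.conj g⁻¹ • K) (Coprime.conj_smul_eq_self_of_mem ht.2)
      rw [hX'] at h
      simp only [Coprime.conj_smul_smul, inv_mul_cancel, map_one, one_smul] at h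
      rwa [show g⁻¹ * (g * t * g⁻¹ * g) = t by group] at h
  -- every such `g` lies in `M h N`
  have hstep : ∀ (Q : Sylow p N) (h : G), MulAut.conj h • (Q : Subgroup N).map N.subtype ≤ M → ∀ {g : G},
      MulAut.conj g • X ≤ M → ∃ m ∈ M, ∃ n ∈ N, g = m * h * n := by
    intro Q h hh g hg
    obtain ⟨T, hT, hlt, hTM, hXT, hTN⟩ := hlocal hg
    obtain ⟨Q', hQ'⟩ := exists_sylow_map_ge (hT.map _ : IsPGroup p (MulAut.conj g⁻¹ • T : Subgroup G)) hTN
    obtain ⟨k, hk⟩ := MulAction.exists_smul_eq N Q' Q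
    have hT' : MulAut.conj (h * k * g⁻¹) • T ≤ M := by
      rw [← Coprime.conj_smul_smul, ← Coprime.conj_smul_smul]
      refine le_trans ?_ hh
      rw [Subgroup.pointwise_smul_le_pointwise_smul_iff, ← hk, Sylow.coe_subgroup_smul,
        Coprime.map_conj_smul, N.coe_subtype, Subgroup.pointwise_smul_le_pointwise_smul_iff]
      exact hQ'
    obtain ⟨m, hm, c, hc, he⟩ := hIH hT hlt hTM hT'
    have hc' : g⁻¹ * c * g ∈ N := by
      refine Subgroup.centralizer_le_normalizer _ (Subgroup.mem_centralizer_iff.2 fun x hx => ?_)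
      have h1 := Subgroup.mem_centralizer_iff.1 hc (g * x * g⁻¹)
        (hXT ⟨x, hx, rfl⟩)
      calc x * (g⁻¹ * c * g) = g⁻¹ * ((g * x * g⁻¹) * c) * g := by group
        _ = g⁻¹ * (c * (g * x * g⁻¹)) * g := by rw [h1]
        _ = g⁻¹ * c * g * x := by group
    refine ⟨m⁻¹, M.inv_mem hm, k * (g⁻¹ * c * g)⁻¹, N.mul_mem k.2 (N.inv_mem hc'), ?_⟩
    calc g = m⁻¹ * (m * c) * (c⁻¹ * g) := by group
      _ = m⁻¹ * (h * k * g⁻¹) * (c⁻¹ * g) := by rw [he]
      _ = _ := by group
  -- a Sylow subgroup of `N` inside `M`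
  obtain ⟨Q, hQM, hQlt⟩ : ∃ Q : Sylow p N, (Q : Subgroup N).map N.subtype ≤ M ∧
      Nat.card X < Nat.card ((Q : Subgroup N).map N.subtype) := by
    obtain ⟨Q₀⟩ : Nonempty (Sylow p N) := inferInstance
    obtain ⟨PG, hPG⟩ := (Q₀.2.map N.subtype).exists_le_sylow
    obtain ⟨PM, hPM⟩ := sigma_sylow_eq hp S
    obtain ⟨h, hh⟩ := MulAction.exists_smul_eq G PG PM
    have hh' : MulAut.conj h • (Q₀ : Subgroup N).map N.subtype ≤ M := by
      refine (Subgroup.pointwise_smul_le_pointwise_smul_iff.2 hPG).trans ?_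
      rw [← Sylow.coe_subgroup_smul, hh, hPM]
      exact Subgroup.map_subtype_le _
    have h1X : MulAut.conj (1 : G) • X ≤ M := by rwa [map_one, one_smul]
    obtain ⟨m, hm, k, hk, he⟩ := hstep Q₀ h hh' h1X
    refine ⟨(⟨k⁻¹, N.inv_mem hk⟩ : N) • Q₀, ?_, ?_⟩
    · rw [Sylow.coe_subgroup_smul, Coprime.map_conj_smul, N.coe_subtype]
      have e : k⁻¹ = m * h := (eq_inv_of_mul_eq_one_left he.symm).symm
      rw [show (((⟨k⁻¹, N.inv_mem hk⟩ : N)) : G) = m * h from e, ← Coprime.conj_smul_smul]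
      exact (Subgroup.pointwise_smul_le_pointwise_smul_iff.2 hh').trans
        (Coprime.conj_smul_eq_self_of_mem (Subgroup.le_normalizer hm)).le
    · obtain ⟨T, hT, hlt, -, -, hTN⟩ := hlocal h1X
      rw [inv_one, map_one, one_smul] at hTN
      obtain ⟨Q', hQ'⟩ := exists_sylow_map_ge hT hTN
      obtain ⟨j, hj⟩ := MulAction.exists_smul_eq N Q' ((⟨k⁻¹, N.inv_mem hk⟩ : N) • Q₀)
      rw [← hj, Sylow.coe_subgroup_smul, Coprime.map_conj_smul, Coprime.card_conj_smul]
      exact hlt.trans_le (Subgroup.card_le_of_le hQ')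
  set Q' := (Q : Subgroup N).map N.subtype with hQ'
  have hQ'p : IsPGroup p Q' := Q.2.map _
  have hNtop : N ≠ ⊤ := normalizer_ne_top_of_pgroup hG hXp hX1
  have hXQ : X ≤ Q' := by
    haveI : (X.subgroupOf N).Normal :=
      (Subgroup.normal_subgroupOf_iff_le_normalizer Subgroup.le_normalizer).2 le_rfl
    exact (Subgroup.map_subgroupOf_eq_of_le Subgroup.le_normalizer).ge.trans
      (Subgroup.map_mono ((PCore.le_pCore (N := X.subgroupOf N) (hXp.comap_of_injective N.subtype N.subtype_injective :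
        IsPGroup p (X.subgroupOf N))).trans (PCore.pCore_le_sylow Q)))
  -- `N = (N ∩ M) C(X)`
  have hsplit : ∀ x ∈ N, ∃ m ∈ M, ∃ c ∈ centralizer (X : Set G), x = m * c := by
    intro x hx
    by_cases hr : PRankLE p 2 Q'
    · haveI : Group.IsSolvable N := hG.2.2.2 N hNtop
      have hr' : PRankLE p 2 (Q : Subgroup N) := pRankLE_of_injective
        (f := ((Q : Subgroup N).equivMapOfInjective _ N.subtype_injective).toMonoidHom) (MulEquiv.injective _) hr
      have hmem : (⟨x, hx⟩ : N) ∈ pPrimeCore p N ⊔ normalizer ((Q : Subgroup N) : Set N) := by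
        rw [sup_normalizer_sylow_of_rankTwo (odd_subgroup hG.1 N) Q hr']
        exact Subgroup.mem_top _
      haveI : (pPrimeCore p N).Normal := PCore.pPrimeCore_normal
      obtain ⟨o, ho, k, hk, hok⟩ := Subgroup.mem_sup_of_normal_left.1 hmem
      have hoc : (o : G) ∈ centralizer (X : Set G) := by
        refine le_centralizer_of_normalize ?_ (core_le (p := p) N)
          (Subgroup.le_normalizer.trans (le_normalizer_core N)) ⟨o, ho, rfl⟩
        obtain ⟨j, hj⟩ := hXp.exists_card_eq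
        exact Coprime.disjoint_of_coprime_card (hj ▸ (coprime_card_core N).pow_right j)
      have hkN : MulAut.conj (k : G) • Q' = Q' := by
        rw [hQ']
        conv_rhs => rw [← Coprime.conj_smul_eq_self_of_mem hk, Coprime.map_conj_smul, N.coe_subtype]
      obtain ⟨m, hm, c, hc, he⟩ := hIH hQ'p hQlt hQM (k := (k : G)) (hkN.le.trans hQM)
      have hcX := Subgroup.centralizer_le hXQ hc
      -- move `o` to the right of `k`
      refine ⟨m, hm, c * ((k : G)⁻¹ * o * k), Subgroup.mul_mem _ hcX ?_, ?_⟩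
      · have hk' := Subgroup.mem_normalizer_iff.1 (k : N).2
        refine Subgroup.mem_centralizer_iff.2 fun y hy => ?_
        have h1 := Subgroup.mem_centralizer_iff.1 hoc _ ((hk' y).1 hy)
        calc y * ((k : G)⁻¹ * o * k) = (k : G)⁻¹ * (((k : G) * y * (k : G)⁻¹) * o) * k := by group
          _ = (k : G)⁻¹ * (o * ((k : G) * y * (k : G)⁻¹)) * k := by rw [h1]
          _ = (k : G)⁻¹ * o * k * y := by group
      · rw [show x = (o : G) * k from (congrArg Subtype.val hok).symm, ← mul_assoc m, ← he]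
        group
    · exact ⟨x, le_of_inUniqueMaximal (inUniqueMaximal_of_rank hG (ne_top_of_isPGroup hG hQ'p) hr) hM hQM
        (Subgroup.map_subtype_le _) hNtop hx, 1, one_mem _, (mul_one x).symm⟩
  obtain ⟨m, hm, k, hk, he⟩ := hstep Q 1 (by rw [map_one, one_smul]; exact hQM) hg
  obtain ⟨m', hm', c, hc, he'⟩ := hsplit k hk
  exact ⟨m * m', M.mul_mem hm hm', c, hc, by rw [he, he', mul_one, mul_assoc]⟩

/-- `S ≤ M'` for `p ∈ σ(M)`. -/
theorem sylow_le_commutator_of_sigma (hG : IsMinSimpleOddOrder G) {M : Subgroup G} (hM : IsCoatom M)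
    (hp : p ∈ sigma M) (S : Sylow p M) : (S : Subgroup M).map M.subtype ≤ ⁅M, M⁆ := by
  obtain ⟨P, hP⟩ := sigma_sylow_eq hp S
  have hPM : (P : Subgroup G) ≤ M := hP.le.trans (Subgroup.map_subtype_le _)
  have hc : Transfer.ControlsElementFusion M (P : Subgroup G) := by
    intro x hx g hg
    rcases eq_or_ne x 1 with rfl | hx1
    · exact ⟨1, one_mem _, by simp⟩
    obtain ⟨m, hm, c, hc, rfl⟩ := exists_mul_centralizer hG hM hp (X := zpowers x) (g := g)
      (P.2.to_le (Subgroup.zpowers_le.2 hx)) (fun h => hx1 (Subgroup.zpowers_eq_bot.1 h))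
      (Subgroup.zpowers_le.2 (hPM hx)) (by
        show (zpowers x).map (MulAut.conj g).toMonoidHom ≤ M
        rw [MonoidHom.map_zpowers]
        exact Subgroup.zpowers_le.2 (hPM hg))
    refine ⟨m, hm, ?_⟩
    rw [mul_inv_rev, mul_assoc m c x, ← Subgroup.mem_centralizer_iff.1 hc x (Subgroup.mem_zpowers x)]
    group
  have := Transfer.commutator_inf_eq_of_controlsElementFusion (Transfer.sylow_coprime P) hPM hc
  rw [commutator_eq_top hG, top_inf_eq] at this
  exact hP ▸ this.le.trans inf_le_left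

theorem pLengthLE_one_of_sylow_le {H : Type*} [Group H] [Finite H] (S : Sylow p H)
    (hS : (S : Subgroup H) ≤ pPrimePCore p H) : PLengthLE p 1 H := by
  refine top_le_iff.1 (PCore.le_upperPSeries_succ_of_coprime (n := 2) even_two (A := pPrimePCore p H)
    (B := ⊤) PCore.upperPSeries_two.ge ?_)
  rw [Subgroup.relIndex_top_right]
  exact Nat.Coprime.coprime_dvd_left (Subgroup.index_dvd_of_le hS)
    (((Fact.out : p.Prime).coprime_iff_not_dvd.2 S.not_dvd_index).symm)

end Cfsg.Agent.OddOrder
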