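import Cfsg.Agent.Lib.OddOrder.PLengthEndgame
import Cfsg.Agent.Lib.OddOrder.SigmaLocal
import Cfsg.Agent.Lib.PCore.PLength
import Cfsg.Agent.Lib.PCore.HallHigman
import Cfsg.Agent.Lib.PCore.Extras
import Cfsg.Agent.Lib.Coprime.Sylow
import Cfsg.Agent.Lib.Signalizer.GenFixed
import Cfsg.Agent.Lib.Components.Subnormal

/-!
# Bender–Glauberman 3.6: `[H, R]` has `p`-length one

`G` solvable of odd order, `H` a normal Hall subgroup with complement `R`, `R₀ ≤ R` of prime order with
`C_H(R₀)` a Z-group: then `[H, R]` has `p`-length at most one for every prime `p`.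
-/

set_option autoImplicit false

namespace Cfsg.Agent.OddOrder.PLengthCommutator

open Subgroup
open scoped Pointwise commutatorElement

universe u

/-- The hypotheses. -/
def Hyp {G : Type u} [Group G] (H R R₀ : Subgroup G) : Prop :=
  (Nat.card H).Coprime H.index ∧ Subgroup.IsComplement' H R ∧ R₀ ≤ R ∧ (Nat.card R₀).Prime ∧
    IsZGroup ↥(H ⊓ centralizer (R₀ : Set G))

variable {G : Type u} [Group G]

theorem le_normalizer_of_normal {A N : Subgroup G} [hN : N.Normal] : A ≤ normalizer (N : Set G) :=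
  le_top.trans (normalizer_eq_top_iff.2 hN).ge

variable [Finite G]

theorem card_commutator_complement {H R : Subgroup G} (h : Subgroup.IsComplement' H R) :
    Nat.card H * Nat.card R = Nat.card G := h.card_mul

theorem coprime_of_hyp {H R : Subgroup G} (hHall : (Nat.card H).Coprime H.index)
    (hR : Subgroup.IsComplement' H R) : (Nat.card R).Coprime (Nat.card H) := by
  rw [← hR.symm.index_eq_card]; exact hHall.symm

theorem isCyclic_of_le_zgroup {Z S : Subgroup G} [IsZGroup Z] (hS : S ≤ Z) {ℓ : ℕ} [Fact ℓ.Prime]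
    (hp : IsPGroup ℓ S) : IsCyclic S := by
  haveI : IsZGroup S := IsZGroup.of_injective (inclusion_injective hS)
  haveI := hp.isNilpotent
  infer_instance

/-- Internal complements from coprimality. -/
theorem isComplement'_of_sup {N R : Subgroup G} [N.Normal] (hcop : (Nat.card N).Coprime (Nat.card R))
    (h : N ⊔ R = ⊤) : Subgroup.IsComplement' N R :=
  isComplement'_of_disjoint_and_mul_eq_univ (disjoint_iff.2 (Coprime.disjoint_of_coprime_card hcop))
    (by rw [← Subgroup.normal_mul, h, coe_top])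

variable {p : ℕ} [Fact p.Prime] [Group.IsSolvable G]

/-- Transfer to a proper invariant subgroup. -/
theorem sub_case (hodd : Odd (Nat.card G)) {H R R₀ : Subgroup G} [H.Normal] (hyp : Hyp H R R₀)
    (ih : ∀ {G' : Type u} [Group G'] [Finite G'] [Group.IsSolvable G'] (H' R' R₀' : Subgroup G')
      [H'.Normal], Nat.card G' < Nat.card G → Odd (Nat.card G') → Hyp H' R' R₀' →
      PLengthLE p 1 ↥⁅H', R'⁆)
    {X : Subgroup G} (hXH : X ≤ H) (hne : X ≠ H) (hRX : R ≤ normalizer (X : Set G)) :
    PLengthLE p 1 ↥⁅X, R⁆ := by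
  obtain ⟨hHall, hR, hR₀, hR₀p, hZ⟩ := hyp
  set W := X ⊔ R with hW
  have hcopX : (Nat.card X).Coprime (Nat.card R) :=
    ((coprime_of_hyp hHall hR).coprime_dvd_right (card_dvd_of_le hXH)).symm
  haveI : (X.subgroupOf W).Normal :=
    Coprime.normal_subgroupOf_of_le_normalizer (sup_le le_normalizer hRX)
  have hXc : Nat.card (X.subgroupOf W) = Nat.card X := Coprime.card_subgroupOf le_sup_left
  have hRc : Nat.card (R.subgroupOf W) = Nat.card R := Coprime.card_subgroupOf le_sup_right
  have hcompl : Subgroup.IsComplement' (X.subgroupOf W) (R.subgroupOf W) :=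
    isComplement'_of_sup (by rw [hXc, hRc]; exact hcopX)
      (by rw [← subgroupOf_sup le_sup_left le_sup_right, subgroupOf_self])
  haveI : Group.IsSolvable W := Coprime.isSolvable_of_le le_top inferInstance
  have hlt : Nat.card W < Nat.card G := by
    rw [hW, PLengthEndgame.card_sup_eq hRX hcopX, ← hR.card_mul]
    refine Nat.mul_lt_mul_of_lt_of_le ?_ le_rfl Nat.card_pos
    exact lt_of_not_ge fun h => hne (Subgroup.eq_of_le_of_card_ge hXH h)
  have hZ' : IsZGroup ↥(X.subgroupOf W ⊓ centralizer ((R₀.subgroupOf W : Subgroup W) : Set W)) := by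
    let φ : ↥(X.subgroupOf W ⊓ centralizer ((R₀.subgroupOf W : Subgroup W) : Set W)) →*
        ↥(H ⊓ centralizer (R₀ : Set G)) :=
      (W.subtype.comp (Subgroup.subtype _)).codRestrict _ fun y => ⟨hXH y.2.1,
        mem_centralizer_iff.2 fun c hc => congrArg Subtype.val
          (mem_centralizer_iff.1 y.2.2 ⟨c, (hR₀.trans le_sup_right) hc⟩ hc)⟩
    have := hZ
    exact IsZGroup.of_injective (f := φ) fun a b h => Subtype.ext (Subtype.ext (congrArg Subtype.val h :))
  have h := ih (X.subgroupOf W) (R.subgroupOf W) (R₀.subgroupOf W) hlt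
    (hodd.of_dvd_nat (card_subgroup_dvd_card W))
    ⟨by rw [hcompl.symm.index_eq_card, hXc, hRc]; exact hcopX, hcompl,
      fun y hy => hR₀ hy, by rw [Coprime.card_subgroupOf (hR₀.trans le_sup_right)]; exact hR₀p, hZ'⟩
  have he : (⁅X.subgroupOf W, R.subgroupOf W⁆).map W.subtype = ⁅X, R⁆ := by
    rw [map_commutator, map_subgroupOf_eq_of_le le_sup_left, map_subgroupOf_eq_of_le le_sup_right]
  rw [← he]
  exact PCore.pLengthLE_of_injective (equivMapOfInjective _ _ W.subtype_injective).symm.toMonoidHom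
    (MulEquiv.injective _) h

/-- Transfer to a quotient. -/
theorem quot_case (hodd : Odd (Nat.card G)) {H R R₀ : Subgroup G} [H.Normal] (hyp : Hyp H R R₀)
    (ih : ∀ {G' : Type u} [Group G'] [Finite G'] [Group.IsSolvable G'] (H' R' R₀' : Subgroup G')
      [H'.Normal], Nat.card G' < Nat.card G → Odd (Nat.card G') → Hyp H' R' R₀' →
      PLengthLE p 1 ↥⁅H', R'⁆)
    (N : Subgroup G) [N.Normal] (hN : N ≠ ⊥) (hNH : N ≤ H) :
    PLengthLE p 1 ↥(⁅H, R⁆.map (QuotientGroup.mk' N)) := by
  obtain ⟨hHall, hR, hR₀, hR₀p, hZ⟩ := hyp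
  set f := QuotientGroup.mk' N
  have hf : Function.Surjective f := QuotientGroup.mk'_surjective N
  haveI : (H.map f).Normal := Subgroup.Normal.map inferInstance f hf
  haveI : Group.IsSolvable (G ⧸ N) := Group.isSolvable_of_surjective hf
  have hlt : Nat.card (G ⧸ N) < Nat.card G := by
    rw [Subgroup.card_eq_card_quotient_mul_card_subgroup N]
    exact lt_mul_of_one_lt_right Nat.card_pos (one_lt_card_iff_ne_bot N |>.2 hN)
  have hcop := coprime_of_hyp hHall hR
  have hcop' : (Nat.card (H.map f)).Coprime (Nat.card (R.map f)) :=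
    (hcop.symm.coprime_dvd_left (card_map_dvd _ _)).coprime_dvd_right (card_map_dvd _ _)
  have hcompl : Subgroup.IsComplement' (H.map f) (R.map f) :=
    isComplement'_of_sup hcop' (by rw [← Subgroup.map_sup, hR.sup_eq_top, map_top_of_surjective f hf])
  have hR₀c : Nat.card (R₀.map f) = Nat.card R₀ := by
    refine ((Nat.dvd_prime hR₀p).1 (card_map_dvd R₀ f)).resolve_left fun h => ?_
    rw [Subgroup.card_eq_one, Subgroup.map_eq_bot_iff, QuotientGroup.ker_mk'] at h
    have h1 : Nat.card R₀ = 1 := Nat.eq_one_of_dvd_coprimes hcop (card_dvd_of_le hR₀)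
      (card_dvd_of_le (h.trans hNH))
    exact hR₀p.ne_one h1
  have hZ' : IsZGroup ↥(H.map f ⊓ centralizer ((R₀.map f : Subgroup _) : Set (G ⧸ N))) := by
    rw [← Coprime.map_mk'_inf_centralizer N le_normalizer_of_normal
      (hcop.coprime_dvd_left (card_dvd_of_le hR₀)) (Or.inr inferInstance)]
    haveI := hZ
    exact IsZGroup.of_surjective (f.subgroupMap_surjective _)
  rw [map_commutator]
  exact ih (H.map f) (R.map f) (R₀.map f) hlt (hodd.of_dvd_nat (card_quotient_dvd_card N))
    ⟨by rw [hcompl.symm.index_eq_card]; exact hcop', hcompl, map_mono hR₀, hR₀c ▸ hR₀p, hZ'⟩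

/-- A quotient by a normal `p`-subgroup without a bigger `p'`-section. -/
theorem exists_pPrime_over {H : Subgroup G} [H.Normal]
    (hneg : ¬ ∀ S : Sylow p H, (S : Subgroup H) ≤ pCore p H)
    (N : Subgroup G) [N.Normal] (hNp : IsPGroup p N) (hNH : N ≤ H)
    (hq : PLengthLE p 1 ↥(H.map (QuotientGroup.mk' N))) :
    ∃ M B : Subgroup G, M.Normal ∧ N ≤ M ∧ M ≤ H ∧ B ≤ M ∧ N ⊔ B = M ∧ N ⊓ B = ⊥ ∧
      B ≠ ⊥ ∧ (Nat.card B).Coprime p ∧ N ⊔ normalizer (B : Set G) = ⊤ := by
  set f := QuotientGroup.mk' N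
  have hf : Function.Surjective f := QuotientGroup.mk'_surjective N
  set H' := H.map f with hH'
  haveI : H'.Normal := Subgroup.Normal.map inferInstance f hf
  set O := (pPrimeCore p H').map H'.subtype with hO
  haveI : O.Normal := ConjAct.normal_of_characteristic_of_normal
  have hO1 : O ≠ ⊥ := by
    intro h
    apply hneg
    intro S
    have hbot : pPrimeCore p H' = ⊥ := (map_eq_bot_iff_of_injective _ H'.subtype_injective).1 h
    set g := f.subgroupMap H
    have hker : IsPGroup p g.ker := by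
      intro y
      have hy : (y : H).1 ∈ N := (QuotientGroup.eq_one_iff _).1 (congrArg Subtype.val y.2)
      obtain ⟨k, hk⟩ := hNp ⟨_, hy⟩
      exact ⟨k, Subtype.ext (Subtype.ext (congrArg Subtype.val hk :))⟩
    rw [← PCore.comap_pCore_of_ker g (f.subgroupMap_surjective H) hker, ← map_le_iff_le_comap]
    have h0 := PCore.pLengthLE_of_pCore (QuotientGroup.mk' (pCore p H'))
      (QuotientGroup.mk'_surjective _) (by rw [QuotientGroup.ker_mk']) hbot (k := 0) hq
    rw [PCore.pLengthLE_zero_iff] at h0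
    intro y hy
    have hpy : IsPGroup p (((S : Subgroup H).map g).map (QuotientGroup.mk' (pCore p H'))) :=
      (S.2.map g).map _
    obtain ⟨e, he⟩ := hpy.exists_card_eq
    have h1 : Nat.card (((S : Subgroup H).map g).map (QuotientGroup.mk' (pCore p H'))) = 1 :=
      Nat.eq_one_of_dvd_coprimes (h0.pow_right e) (card_subgroup_dvd_card _) (dvd_of_eq he)
    rw [Subgroup.card_eq_one, Subgroup.map_eq_bot_iff, QuotientGroup.ker_mk'] at h1
    exact h1 hy
  set M := O.comap f with hM
  have hOH : O ≤ H' := map_subtype_le _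
  have hNM : N ≤ M := fun n hn => by
    rw [hM, mem_comap, show f n = 1 from (QuotientGroup.eq_one_iff n).2 hn]; exact one_mem _
  have hMH : M ≤ H := fun m hm => by
    obtain ⟨h, hh, he⟩ := hOH hm
    have h1 : h⁻¹ * m ∈ N := (QuotientGroup.eq).1 he
    simpa using mul_mem hh (hNH h1)
  have hMf : M.map f = O := map_comap_eq_self_of_surjective hf O
  have hcopO : (Nat.card O).Coprime p := by
    rw [hO, card_map_of_injective H'.subtype_injective]; exact PCore.coprime_card_pPrimeCore
  haveI : (N.subgroupOf M).Normal := Subgroup.Normal.subgroupOf inferInstance M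
  have hidx : (N.subgroupOf M).index = Nat.card O := by
    rw [← hMf, ← PCore.relIndex_eq_card_map_mk']; rfl
  obtain ⟨e, he⟩ := hNp.exists_card_eq
  obtain ⟨B', hB'⟩ := exists_right_complement'_of_coprime (N := N.subgroupOf M) (by
    rw [hidx, Coprime.card_subgroupOf hNM, he]
    exact (hcopO.symm).pow_left e)
  set B := B'.map M.subtype with hB
  have hBc : Nat.card B = Nat.card O := by
    rw [hB, card_map_of_injective M.subtype_injective, ← hB'.symm.index_eq_card, hidx]
  have hBp : (Nat.card B).Coprime p := hBc ▸ hcopO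
  have hsup : N ⊔ B = M := by
    rw [hB]
    conv_lhs => arg 1; rw [← map_subgroupOf_eq_of_le hNM]
    rw [← Subgroup.map_sup, hB'.sup_eq_top, ← MonoidHom.range_eq_map, range_subtype]
  have hBcop : (Nat.card B).Coprime (Nat.card N) := by rw [he]; exact hBp.pow_right e
  refine ⟨M, B, Subgroup.Normal.comap inferInstance f, hNM, hMH, map_subtype_le _, hsup,
    Coprime.disjoint_of_coprime_card hBcop.symm, ?_, hBp, ?_⟩
  · intro h
    rw [h, Subgroup.card_bot] at hBc
    exact hO1 (Subgroup.card_eq_one.1 hBc.symm)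
  · refine top_unique fun g _ => ?_
    obtain ⟨n, hn, hnB⟩ := Coprime.exists_conj_eq_of_le_sup (N := N) (H := B)
      (K := MulAut.conj g • B) le_normalizer_of_normal (fun y hy => by
        rw [Coprime.mem_conj_smul_iff] at hy
        rw [sup_comm, hsup]
        have hMn : M.Normal := Subgroup.Normal.comap inferInstance f
        have := hMn.conj_mem _ ((map_subtype_le _ : B ≤ M) hy) g
        simpa [mul_assoc] using this)
      (Coprime.card_conj_smul _ _) hBcop (Or.inl inferInstance)
    have h1 : n⁻¹ * g ∈ normalizer (B : Set G) := by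
      refine Coprime.mem_normalizer_of_conj_smul_eq ?_
      rw [← Coprime.conj_smul_smul, ← hnB, Coprime.conj_smul_smul, inv_mul_cancel, map_one, one_smul]
    simpa using mul_mem (mem_sup_left hn : n ∈ N ⊔ normalizer (B : Set G)) (mem_sup_right h1)

/-- The fixed points of a complement form a normal subgroup. -/
theorem inf_centralizer_normal (U : Subgroup G) [U.Normal] {N B : Subgroup G}
    (hNU : N ≤ centralizer (U : Set G)) (hfr : N ⊔ normalizer (B : Set G) = ⊤) :
    (U ⊓ centralizer (B : Set G)).Normal := by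
  refine normalizer_eq_top_iff.1 (top_unique ?_)
  rw [← hfr]
  refine sup_le (fun n hn => centralizer_le_normalizer _ ?_) ?_
  · exact mem_centralizer_iff.2 fun c hc => mem_centralizer_iff.1 (hNU hn) c hc.1
  · exact Coprime.le_normalizer_inf_of_le le_normalizer_of_normal
      (Coprime.le_normalizer_centralizer (V := B) le_rfl)

/-- The main induction step. -/
theorem step (hodd : Odd (Nat.card G)) {H R R₀ : Subgroup G} [H.Normal] (hyp : Hyp H R R₀)
    (ih : ∀ {G' : Type u} [Group G'] [Finite G'] [Group.IsSolvable G'] (H' R' R₀' : Subgroup G')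
      [H'.Normal], Nat.card G' < Nat.card G → Odd (Nat.card G') → Hyp H' R' R₀' →
      PLengthLE p 1 ↥⁅H', R'⁆) : PLengthLE p 1 ↥⁅H, R⁆ := by
  classical
  have hp : p.Prime := Fact.out
  have hsub := fun {X : Subgroup G} => sub_case hodd hyp ih (X := X)
  have hquot := quot_case hodd hyp ih
  obtain ⟨hHall, hR, hR₀, hR₀p, hZ⟩ := hyp
  have hcopRH := coprime_of_hyp hHall hR
  have hRnH : R ≤ normalizer (H : Set G) := by rw [normalizer_eq_top]; exact le_top
  by_cases hHR : ⁅H, R⁆ = H
  swap
  · have h := hsub (Coprime.commutator_le_left_of_le_normalizer hRnH) hHR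
      (normalizer_commutator_ge_right H R)
    rwa [Coprime.commutator_commutator_eq hRnH hcopRH (Or.inl inferInstance)] at h
  rw [hHR] at hquot ⊢
  by_contra hgoal
  have hneg : ¬ ∀ S : Sylow p H, (S : Subgroup H) ≤ pCore p H := fun h =>
    hgoal (pLengthLE_one_of_sylow_le default ((h default).trans PCore.pCore_le_pPrimePCore))
  -- `O_{p'}(H) = 1`
  have hOH : pPrimeCore p H = ⊥ := by
    by_contra hne
    set N := (pPrimeCore p H).map H.subtype with hN
    haveI : N.Normal := ConjAct.normal_of_characteristic_of_normal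
    have hq := hquot N (fun h => hne ((map_eq_bot_iff_of_injective _ H.subtype_injective).1 h))
      (map_subtype_le _)
    refine hgoal (PCore.pLengthLE_of_ker_le_pPrimeCore ((QuotientGroup.mk' N).subgroupMap H)
      (MonoidHom.subgroupMap_surjective _ _) ?_ hq)
    intro y hy
    obtain ⟨z, hz, hzy⟩ := (QuotientGroup.eq_one_iff (y : G)).1 (congrArg Subtype.val hy)
    rwa [← Subtype.ext hzy]
  set U := pCoreOf p H with hUdef
  haveI hUn : U.Normal := ConjAct.normal_of_characteristic_of_normal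
  have hUp : IsPGroup p U := PCore.isPGroup_pCoreOf H
  have hUH : U ≤ H := PCore.pCoreOf_le H
  have hmaxU : ∀ {X : Subgroup G} [X.Normal], X ≤ H → IsPGroup p X → X ≤ U := fun {X} _ hX hXp =>
    PCore.le_pCoreOf hX hXp le_normalizer_of_normal
  have hCU : H ⊓ centralizer (U : Set G) ≤ U := by
    intro y hy
    refine ⟨⟨y, hy.1⟩, PCore.centralizer_pCore_le_of_isSolvable hOH
      (mem_centralizer_iff.2 fun z hz => Subtype.ext ?_), rfl⟩
    exact mem_centralizer_iff.1 hy.2 z ⟨z, hz, rfl⟩
  have hU1 : U ≠ ⊥ := by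
    intro h
    apply hgoal
    rw [h] at hCU
    have hH : H = ⊥ := le_bot_iff.1 fun y hy => hCU ⟨hy, mem_centralizer_iff.2 fun z hz => by
      rw [mem_bot.1 hz, one_mul, mul_one]⟩
    have : Subsingleton H := by rw [hH]; infer_instance
    exact top_le_iff.1 fun y _ => by rw [Subsingleton.elim y 1]; exact one_mem _
  obtain ⟨eU, heU⟩ := hUp.exists_card_eq
  have hcopB : ∀ {B : Subgroup G}, (Nat.card B).Coprime p → (Nat.card B).Coprime (Nat.card U) :=
    fun h => by rw [heU]; exact h.pow_right eU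
  -- a minimal normal subgroup
  obtain ⟨N, -, hNmin⟩ := (Set.toFinite {N : Subgroup G | N.Normal ∧ N ≠ ⊥ ∧ N ≤ U}).exists_le_minimal
    (show U ∈ {N : Subgroup G | N.Normal ∧ N ≠ ⊥ ∧ N ≤ U} from ⟨hUn, hU1, le_rfl⟩)
  obtain ⟨hNn, hN1, hNU⟩ := hNmin.prop
  haveI := hNn
  have hmin : ∀ X : Subgroup G, X.Normal → X ≤ N → X = ⊥ ∨ X = N := fun X hX hXN => by
    by_cases h : X = ⊥
    · exact Or.inl h
    · exact Or.inr (le_antisymm hXN (hNmin.le_of_le ⟨hX, h, hXN.trans hNU⟩ hXN))
  have hNUc : N ≤ centralizer (U : Set G) := by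
    have hlt := Coprime.commutator_lt_of_isPGroup hUp (hUp.to_le hNU)
      le_normalizer_of_normal hN1
    haveI : (⁅N, U⁆ : Subgroup G).Normal := Subgroup.commutator_normal N U
    have h := (hmin _ inferInstance hlt.le).resolve_right hlt.ne
    exact commutator_eq_bot_iff_le_centralizer.1 h
  obtain ⟨M, B, hMn, hNM, hMH, hBM, hsupM, hdisM, hB1, hBp, hfr⟩ :=
    exists_pPrime_over hneg N (hUp.to_le hNU) (hNU.trans hUH) (hquot N hN1 (hNU.trans hUH))
  haveI := hMn
  have hUB : ∀ {B : Subgroup G}, (Nat.card B).Coprime p → U ⊓ B = ⊥ := fun h =>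
    Coprime.disjoint_of_coprime_card (hcopB h).symm
  have hUM : U ⊓ M ≤ N := by
    intro y hy
    obtain ⟨b, hb, n, hn, rfl⟩ := (Coprime.mem_sup_iff_of_le_normalizer (H := B) (N := N)
      le_normalizer_of_normal).1 (by rw [sup_comm, hsupM]; exact hy.2)
    have h1 : b ∈ U ⊓ B := mem_inf.2 ⟨by simpa using U.mul_mem hy.1 (U.inv_mem (hNU hn)), hb⟩
    rw [hUB hBp, mem_bot] at h1
    rw [h1, one_mul]; exact hn
  have hBU : B ≤ normalizer (U : Set G) := by rw [normalizer_eq_top]; exact le_top
  have hcomm : ⁅U, B⁆ ≤ N := le_trans (le_inf (Coprime.commutator_le_left_of_le_normalizer hBU)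
    ((commutator_mono le_rfl hBM).trans (Subgroup.commutator_le_right U M))) hUM
  have hUC : U ≤ N ⊔ (U ⊓ centralizer (B : Set G)) := by
    conv_lhs => rw [← Coprime.commutator_sup_centralizer hBU (hcopB hBp) (Or.inl inferInstance)]
    exact sup_le_sup_right hcomm _
  haveI hCn := inf_centralizer_normal U hNUc hfr
  have hminU : ∀ X : Subgroup G, X.Normal → X ≤ U → X = ⊥ ∨ X = U := by
    suffices hNeq : N = U by rw [← hNeq]; exact hmin
    set C := U ⊓ centralizer (B : Set G) with hC
    rcases hmin (C ⊓ N) inferInstance inf_le_right with h | h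
    · by_cases hC1 : C = ⊥
      · rw [hC1, sup_bot_eq] at hUC
        exact le_antisymm hNU hUC
      exfalso
      have hCH : C ≤ H := inf_le_left.trans hUH
      let Ni : Bool → Subgroup G := fun b => bif b then C else N
      haveI hNi : ∀ b, (Ni b).Normal := fun b => by cases b <;> assumption
      refine hgoal (PCore.pLengthLE_of_subdirect (G := H)
        (K := fun b => ↥(H.map (QuotientGroup.mk' (Ni b))))
        (fun b => (QuotientGroup.mk' (Ni b)).subgroupMap H)
        (fun b => MonoidHom.subgroupMap_surjective _ _) (fun y hy => Subtype.ext (mem_bot.1 (h ▸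
          (show (y : G) ∈ C ⊓ N from ⟨(QuotientGroup.eq_one_iff _).1 (congrArg Subtype.val (hy true)),
            (QuotientGroup.eq_one_iff _).1 (congrArg Subtype.val (hy false))⟩)))) fun b => ?_)
      cases b
      · exact hquot N hN1 (hNU.trans hUH)
      · exact hquot C hC1 hCH
    · exfalso
      have h1 : U ≤ centralizer (B : Set G) :=
        hUC.trans (sup_le ((h ▸ inf_le_left : N ≤ C).trans inf_le_right) inf_le_right)
      exact hB1 (le_bot_iff.1 ((hUB hBp) ▸ le_inf
        ((le_inf (hBM.trans hMH) (le_centralizer_iff.1 h1)).trans hCU) le_rfl))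
  clear hNmin hN1 hmin hNUc hfr hUM hcomm hUC hCn hsupM hdisM hB1 hBp hBU hBM hNM hMH
  -- `U` is elementary abelian
  have hUel : IsElementaryAbelian p U := by
    haveI : ((frattini U).map U.subtype).Normal := ConjAct.normal_of_characteristic_of_normal
    have h0 : frattini U = ⊥ := by
      rcases hminU ((frattini U).map U.subtype) inferInstance (map_subtype_le _) with h | h
      · exact (map_eq_bot_iff_of_injective _ U.subtype_injective).1 h
      · exfalso
        have h2 : (⊥ : Subgroup U) = ⊤ := frattini_nongenerating (by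
          rw [show frattini U = ⊤ from map_injective U.subtype_injective (by
            rw [h, ← MonoidHom.range_eq_map, range_subtype]), bot_sup_eq])
        refine hU1 (eq_bot_iff.2 fun a ha => ?_)
        have h3 : (⟨a, ha⟩ : U) ∈ (⊥ : Subgroup U) := by rw [h2]; exact mem_top _
        exact mem_bot.2 (congrArg Subtype.val (mem_bot.1 h3))
    obtain ⟨hc, he⟩ := (PGroup.frattini_eq_bot_iff hUp).1 h0
    exact ⟨hc, fun a ha => by simpa using congrArg Subtype.val (he ⟨a, ha⟩)⟩
  haveI := hUel.1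
  have hUc : U ≤ centralizer (U : Set G) := fun a ha => mem_centralizer_iff.2 fun b hb =>
    congrArg Subtype.val (mul_comm' (⟨b, hb⟩ : U) ⟨a, ha⟩)
  obtain ⟨M, B₀, hMn, hUM, hMH, hB₀M, hsupM, -, hB₀1, hB₀p, hfr⟩ :=
    exists_pPrime_over hneg U hUp hUH (hquot U hU1 hUH)
  haveI := hMn
  -- an `R`-invariant complement
  obtain ⟨u, hu, huR⟩ := Coprime.exists_conj_le_of_le_mul (A := R) (K := U)
    (W := normalizer (B₀ : Set G)) le_normalizer_of_normal
    (hcopRH.coprime_dvd_right (card_dvd_of_le hUH)) (Or.inl inferInstance) (fun a _ => by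
      obtain ⟨m, hm, n, hn, hmn⟩ := (Coprime.mem_sup_iff_of_le_normalizer (H := normalizer (B₀ : Set G))
        (N := U) le_normalizer_of_normal).1
        (show a ∈ normalizer (B₀ : Set G) ⊔ U by rw [sup_comm, hfr]; exact mem_top a)
      refine ⟨m * n * m⁻¹, hUn.conj_mem n hn m, ?_⟩
      rw [← hmn, show (m * n * m⁻¹)⁻¹ * (m * n) = m by group]
      exact hm)
  set B := MulAut.conj u • B₀ with hBdef
  have huN : MulAut.conj u • normalizer (B₀ : Set G) ≤ normalizer (B : Set G) := by
    intro y hy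
    rw [Coprime.mem_conj_smul_iff] at hy
    refine Coprime.mem_normalizer_of_conj_smul_eq ?_
    rw [hBdef, Coprime.conj_smul_smul, show y * u = u * (u⁻¹ * y * u) by group,
      ← Coprime.conj_smul_smul, Coprime.conj_smul_eq_self_of_mem hy]
  have hRB : R ≤ normalizer (B : Set G) := huR.trans huN
  have hBp : (Nat.card B).Coprime p := by rw [hBdef, Coprime.card_conj_smul]; exact hB₀p
  have hBM : B ≤ M := fun y hy => by
    rw [hBdef, Coprime.mem_conj_smul_iff] at hy
    simpa [mul_assoc] using hMn.conj_mem _ (hB₀M hy) u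
  have hB1 : B ≠ ⊥ := fun h => hB₀1 (Subgroup.card_eq_one.1 (by
    rw [← Coprime.card_conj_smul u B₀, ← hBdef, h, Subgroup.card_bot]))
  have hfrB : U ⊔ normalizer (B : Set G) = ⊤ := by
    refine top_unique fun g _ => ?_
    have h1 : u⁻¹ * g * u ∈ U ⊔ normalizer (B₀ : Set G) := hfr ▸ mem_top _
    obtain ⟨m, hm, n, hn, hmn⟩ := (Coprime.mem_sup_iff_of_le_normalizer'
      (H := normalizer (B₀ : Set G)) (N := U) le_normalizer_of_normal).1
      (by rw [sup_comm]; exact h1)
    have h2 : u * n * u⁻¹ ∈ normalizer (B : Set G) := huN (by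
      rw [Coprime.mem_conj_smul_iff]; simpa [mul_assoc] using hn)
    have h3 : g = (u * m * u⁻¹) * (u * n * u⁻¹) := by
      rw [show g = u * (u⁻¹ * g * u) * u⁻¹ by group, ← hmn]; group
    rw [h3]
    exact mul_mem (mem_sup_left (hUn.conj_mem m hm u)) (mem_sup_right h2)
  clear huR huN hB₀1 hB₀p hB₀M hsupM hfr
  -- `C_U(B) = 1`
  have hCUB : U ⊓ centralizer (B : Set G) = ⊥ := by
    rcases hminU _ (inf_centralizer_normal U hUc hfrB) inf_le_left with h | h
    · exact h
    exfalso
    exact hB1 (le_bot_iff.1 (hUB hBp ▸ le_inf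
      ((le_inf (hBM.trans hMH) (le_centralizer_iff.1 (h ▸ inf_le_right))).trans hCU) le_rfl))
  -- the complement `K` of `U` in `H`
  set K := H ⊓ normalizer (B : Set G) with hK
  have hKH : K ≤ H := inf_le_left
  have hUK : U ⊓ K = ⊥ := by
    rw [eq_bot_iff, ← hCUB]
    intro y hy
    refine ⟨hy.1, mem_centralizer_iff.2 fun b hb => ?_⟩
    have h1 : y * b * y⁻¹ * b⁻¹ ∈ U ⊓ B := by
      refine ⟨?_, B.mul_mem ((mem_normalizer_iff.1 hy.2.2 b).1 hb) (B.inv_mem hb)⟩
      rw [mul_assoc, mul_assoc]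
      exact mul_mem hy.1 (by simpa [mul_assoc] using hUn.conj_mem _ (inv_mem hy.1) b)
    rw [hUB hBp, mem_bot, mul_inv_eq_one, mul_inv_eq_iff_eq_mul] at h1
    exact h1.symm
  have hHUK : U ⊔ K = H := by
    refine le_antisymm (sup_le hUH hKH) fun y hy => ?_
    obtain ⟨m, hm, n, hn, rfl⟩ := (Coprime.mem_sup_iff_of_le_normalizer'
      (H := normalizer (B : Set G)) (N := U) le_normalizer_of_normal).1
      (show y ∈ normalizer (B : Set G) ⊔ U by rw [sup_comm, hfrB]; exact mem_top y)
    exact mul_mem (mem_sup_left hm) (mem_sup_right ⟨by simpa using mul_mem (inv_mem (hUH hm)) hy, hn⟩)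
  have hRK : R ≤ normalizer (K : Set G) :=
    Coprime.le_normalizer_inf_of_le hRnH (hRB.trans le_normalizer)
  have hNK : normalizer (B : Set G) ≤ normalizer (K : Set G) :=
    Coprime.le_normalizer_inf_of_le le_normalizer_of_normal le_normalizer
  have hKlen : PLengthLE p 1 K := by
    refine PCore.pLengthLE_of_injective (((QuotientGroup.mk' U).subgroupMap H).comp (inclusion hKH))
      ((injective_iff_map_eq_one _).2 fun y hy => ?_) (hquot U hU1 hUH)
    refine Subtype.ext (mem_bot.1 (hUK ▸ ⟨?_, y.2⟩))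
    exact (QuotientGroup.eq_one_iff (y : G)).1 (congrArg Subtype.val hy)
  -- `O = O_{p'}(K)` and a Sylow subgroup
  set O := (pPrimeCore p K).map K.subtype with hOdef
  have hOK : O ≤ K := map_subtype_le _
  have hOn : normalizer (K : Set G) ≤ normalizer (O : Set G) := Components.normalizer_le_normalizer_map_of_characteristic _ _
  have hOp : (Nat.card O).Coprime p := by
    rw [hOdef, card_map_of_injective K.subtype_injective]; exact PCore.coprime_card_pPrimeCore
  have hBK : B ≤ K := le_inf (hBM.trans hMH) le_normalizer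
  have hBO : B ≤ O := by
    intro y hy
    haveI : (B.subgroupOf K).Normal := Coprime.normal_subgroupOf_of_le_normalizer inf_le_right
    exact ⟨⟨y, hBK hy⟩, PCore.le_pPrimeCore (N := B.subgroupOf K)
      (by rw [Coprime.card_subgroupOf hBK]; exact hBp) hy, rfl⟩
  have hCUO : U ⊓ centralizer (O : Set G) = ⊥ :=
    le_bot_iff.1 (hCUB ▸ inf_le_inf_left _ (Subgroup.centralizer_le hBO))
  have hOfaith : O ⊓ centralizer (U : Set G) = ⊥ := by
    rw [eq_bot_iff, ← hUK]
    exact le_inf ((inf_le_inf_right _ (hOK.trans hKH)).trans hCU) (inf_le_left.trans hOK)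
  obtain ⟨P₀, hRP⟩ := Coprime.exists_invariant_sylow hRK
    (hcopRH.coprime_dvd_right (card_dvd_of_le hKH)) (Or.inl inferInstance) p
  set P := (P₀ : Subgroup K).map K.subtype with hPdef
  have hPK : P ≤ K := map_subtype_le _
  have hPp : IsPGroup p P := P₀.2.map _
  have hPO : P ≤ normalizer (O : Set G) := hPK.trans (le_normalizer.trans hOn)
  have hRO : R ≤ normalizer (O : Set G) := hRK.trans hOn
  obtain ⟨eP, heP⟩ := hPp.exists_card_eq
  have hOPcop : (Nat.card O).Coprime (Nat.card P) := by rw [heP]; exact hOp.pow_right eP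
  have hJ : (pPrimePCore p K).map K.subtype = O ⊔ P := by
    rw [hOdef, hPdef, ← Subgroup.map_sup]
    congr 1
    have hle : pPrimeCore p K ⊔ (P₀ : Subgroup K) ≤ pPrimePCore p K := by
      refine sup_le PCore.pPrimeCore_le_pPrimePCore ?_
      have hbot : pPrimeCore p (K ⧸ pPrimeCore p K) = ⊥ := PCore.pPrimeCore_quotient_self_eq_bot
      have h0 := PCore.pLengthLE_of_pCore (QuotientGroup.mk' (pCore p (K ⧸ pPrimeCore p K)))
        (QuotientGroup.mk'_surjective _) (by rw [QuotientGroup.ker_mk']) hbot (k := 0)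
        (PCore.pLengthLE_of_surjective _ (QuotientGroup.mk'_surjective _) hKlen)
      rw [PCore.pLengthLE_zero_iff] at h0
      rw [pPrimePCore, ← map_le_iff_le_comap]
      obtain ⟨e, he⟩ := (((P₀.2.map (QuotientGroup.mk' (pPrimeCore p K))).map
        (QuotientGroup.mk' (pCore p (K ⧸ pPrimeCore p K))))).exists_card_eq
      intro y hy
      have h1 := Nat.eq_one_of_dvd_coprimes (h0.pow_right e) (card_subgroup_dvd_card _) (dvd_of_eq he)
      rw [Subgroup.card_eq_one, Subgroup.map_eq_bot_iff, QuotientGroup.ker_mk'] at h1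
      exact h1 hy
    refine le_antisymm ?_ hle
    rw [← relIndex_eq_one]
    obtain ⟨m, hm⟩ := PCore.relIndex_pPrimePCore (p := p) (G := K)
    refine Nat.eq_one_of_dvd_coprimes ?_ (Subgroup.relIndex_dvd_of_le_left _ le_sup_left)
      (relIndex_dvd_index_of_le hle |>.trans
        (Subgroup.index_dvd_of_le (le_sup_right : (P₀ : Subgroup K) ≤ _)))
    rw [hm]
    exact ((hp.coprime_iff_not_dvd.2 P₀.not_dvd_index).pow_left m)
  have hX : (U ⊔ (O ⊔ P)).Normal := by
    refine normalizer_eq_top_iff.1 (top_unique ?_)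
    rw [← hfrB]
    have h1 : U ≤ normalizer ((U ⊔ (O ⊔ P) : Subgroup G) : Set G) :=
      le_sup_left.trans le_normalizer
    refine sup_le h1 ?_
    refine Signalizer.GenFixed.le_normalizer_sup' le_normalizer_of_normal ?_
    rw [← hJ]
    exact hNK.trans (Components.normalizer_le_normalizer_map_of_characteristic _ _)
  -- subgroups above `U`
  have hproper : ∀ {Y : Subgroup G}, U ≤ Y → Y ≤ H → Y ≠ H → R ≤ normalizer (Y : Set G) →
      ∀ S : Subgroup G, IsPGroup p S → S ≤ ⁅Y, R⁆ → S ≤ pCoreOf p Y := by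
    intro Y hUY hYH hY hRY S hS hSY
    have hlen := hsub hYH hY hRY
    have hLY : ⁅Y, R⁆ ≤ Y := Coprime.commutator_le_left_of_le_normalizer hRY
    have hbot : pPrimeCore p Y = ⊥ := by
      set T := (pPrimeCore p Y).map Y.subtype with hT
      have hTY : T ≤ Y := map_subtype_le _
      have hTp : (Nat.card T).Coprime p := by
        rw [hT, card_map_of_injective Y.subtype_injective]; exact PCore.coprime_card_pPrimeCore
      have hTc : T ≤ centralizer (U : Set G) := fun t ht => mem_centralizer_iff.2 fun v hv => by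
        have hYT : Y ≤ normalizer (T : Set G) := le_normalizer.trans (Components.normalizer_le_normalizer_map_of_characteristic _ _)
        have h1 : v * t * v⁻¹ * t⁻¹ ∈ U ⊓ T := by
          refine ⟨?_, T.mul_mem ((mem_normalizer_iff.1 (hYT (hUY hv)) t).1 ht) (T.inv_mem ht)⟩
          rw [mul_assoc, mul_assoc]
          exact mul_mem hv (by simpa [mul_assoc] using hUn.conj_mem _ (inv_mem hv) t)
        rw [hUB hTp, mem_bot, mul_inv_eq_one, mul_inv_eq_iff_eq_mul] at h1
        exact h1
      refine (map_eq_bot_iff_of_injective _ Y.subtype_injective).1 ?_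
      rw [← hT]
      exact le_bot_iff.1 (hUB hTp ▸ le_inf ((le_inf (hTY.trans hYH) hTc).trans hCU) le_rfl)
    haveI : (⁅Y, R⁆.subgroupOf Y).Normal :=
      Coprime.normal_subgroupOf_of_le_normalizer (normalizer_commutator_ge_left Y R)
    set L := ⁅Y, R⁆.subgroupOf Y with hL
    have hLlen : PLengthLE p 1 L := PCore.pLengthLE_of_injective
      (subgroupOfEquivOfLe hLY).toMonoidHom (MulEquiv.injective _) hlen
    have hLbot : pPrimeCore p L = ⊥ := PCore.pPrimeCore_eq_bot_of_normal L hbot
    have h0 := PCore.pLengthLE_of_pCore (QuotientGroup.mk' (pCore p L))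
      (QuotientGroup.mk'_surjective _) (by rw [QuotientGroup.ker_mk']) hLbot (k := 0) hLlen
    rw [PCore.pLengthLE_zero_iff] at h0
    have hS' : IsPGroup p ((S.subgroupOf Y).subgroupOf L) :=
      ((hS.of_equiv (subgroupOfEquivOfLe (hSY.trans hLY)).symm).comap_subtype)
    obtain ⟨e, he⟩ := (hS'.map (QuotientGroup.mk' (pCore p L))).exists_card_eq
    have h1 := Nat.eq_one_of_dvd_coprimes (h0.pow_right e) (card_subgroup_dvd_card _) (dvd_of_eq he)
    rw [Subgroup.card_eq_one, Subgroup.map_eq_bot_iff, QuotientGroup.ker_mk'] at h1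
    intro s hs
    have h2 : (⟨⟨s, hLY (hSY hs)⟩, hSY hs⟩ : L) ∈ pCore p L := h1 hs
    have h3 : ((pCore p L).map L.subtype : Subgroup Y) ≤ pCore p Y := by
      haveI : ((pCore p L).map L.subtype).Normal := ConjAct.normal_of_characteristic_of_normal
      exact PCore.le_pCore (PCore.isPGroup_pCore.map _)
    exact ⟨⟨s, hLY (hSY hs)⟩, h3 ⟨_, h2, rfl⟩, rfl⟩
  -- centralising
  have hcentral : ∀ T S : Subgroup G, T ≤ O → S ≤ P → R ≤ normalizer (T : Set G) →
      R ≤ normalizer (S : Set G) → S ≤ normalizer (T : Set G) → U ⊔ (T ⊔ S) ≠ H →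
      ⁅S, R⁆ ≤ centralizer (T : Set G) := by
    intro T S hT hS hRT hRS hST hne
    have hS' : ⁅S, R⁆ ≤ S := Coprime.commutator_le_left_of_le_normalizer hRS
    have hY : U ⊔ (T ⊔ S) ≤ H := sup_le hUH ((sup_le (hT.trans hOK) (hS.trans hPK)).trans hKH)
    have hle := hproper le_sup_left hY hne
      (Signalizer.GenFixed.le_normalizer_sup' le_normalizer_of_normal
        (Signalizer.GenFixed.le_normalizer_sup' hRT hRS)) ⁅S, R⁆ ((hPp.to_le hS).to_le hS')
      (commutator_mono (le_sup_right.trans le_sup_right) le_rfl)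
    rw [← commutator_eq_bot_iff_le_centralizer, eq_bot_iff]
    have h1 : ⁅⁅S, R⁆, T⁆ ≤ T := le_normalizer_iff_commutator_le_right.1 (hS'.trans hST)
    have h2 : ⁅⁅S, R⁆, T⁆ ≤ pCoreOf p (U ⊔ (T ⊔ S) : Subgroup G) :=
      (commutator_mono hle le_rfl).trans (le_normalizer_iff_commutator_le_left.1
        ((le_sup_left.trans le_sup_right).trans (PCore.le_normalizer_pCoreOf _)))
    refine (le_inf h2 (h1.trans hT)).trans ?_
    obtain ⟨e, he⟩ := (PCore.isPGroup_pCoreOf (p := p) (U ⊔ (T ⊔ S) : Subgroup G)).exists_card_eq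
    exact (Coprime.disjoint_of_coprime_card (he ▸ (hOp.symm).pow_left e)).le
  -- `[P, R] ≠ 1`
  have hPRP : ⁅P, R⁆ ≤ P := Coprime.commutator_le_left_of_le_normalizer hRP
  have hPR1 : ⁅P, R⁆ ≠ ⊥ := by
    intro h
    have hKR : ⁅K, R⁆ = K := by
      refine le_antisymm (Coprime.commutator_le_left_of_le_normalizer hRK) fun y hy => ?_
      have h1 : ⁅H, R⁆ ≤ ⁅K, R⁆ ⊔ U := commutator_le.2 fun g hg a ha => by
        rw [← hHUK] at hg
        obtain ⟨v, hv, c, hc, rfl⟩ := (Coprime.mem_sup_iff_of_le_normalizer'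
          (H := K) (N := U) le_normalizer_of_normal).1 (by rw [sup_comm]; exact hg)
        rw [commutatorElement_mul_left_eq_conj_mul]
        refine mul_mem ?_ (mem_sup_right ?_)
        · have h2 : ⁅c, a⁆ ∈ ⁅K, R⁆ ⊔ U := mem_sup_left (commutator_mem_commutator hc ha)
          have hvv := mem_sup_right (S := ⁅K, R⁆) hv
          exact mul_mem (mul_mem hvv h2) (inv_mem hvv)
        · rw [commutatorElement_def, mul_assoc, mul_assoc]
          exact mul_mem hv (by simpa [mul_assoc] using hUn.conj_mem _ (inv_mem hv) a)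
      obtain ⟨c, hc, v, hv, rfl⟩ := (Coprime.mem_sup_iff_of_le_normalizer (H := ⁅K, R⁆) (N := U)
        le_normalizer_of_normal).1 (h1 (hHR.ge (hKH hy)))
      have hc' := Coprime.commutator_le_left_of_le_normalizer hRK hc
      have hv1 : v = 1 := mem_bot.1 (hUK ▸ ⟨hv, by simpa using mul_mem (inv_mem hc') hy⟩)
      rwa [hv1, mul_one]
    have hKJ : K ≤ normalizer ((O ⊔ P : Subgroup G) : Set G) :=
      hJ ▸ le_normalizer.trans (Components.normalizer_le_normalizer_map_of_characteristic _ _)
    have hKO : K ≤ normalizer (O : Set G) := le_normalizer.trans hOn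
    have hJR : ⁅O ⊔ P, R⁆ ≤ O := commutator_le.2 fun g hg a ha => by
      obtain ⟨c, hc, d, hd, rfl⟩ := (Coprime.mem_sup_iff_of_le_normalizer' (H := P) (N := O) hPO).1
        (by rw [sup_comm]; exact hg)
      rw [commutatorElement_mul_left_eq_conj_mul]
      refine mul_mem ?_ (le_normalizer_iff_commutator_le_left.1 hRO (commutator_mem_commutator hc ha))
      have h2 : ⁅d, a⁆ = 1 := mem_bot.1 (h ▸ commutator_mem_commutator hd ha)
      rw [h2, mul_one, mul_inv_cancel]; exact one_mem _
    have hJK : ⁅O ⊔ P, K⁆ ≤ O := by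
      rw [commutator_comm]
      conv_lhs => rw [← hKR]
      refine Coprime.three_subgroup_le hKO hRO (hJ ▸ (map_subtype_le _).trans hKO) ?_ ?_
      · exact (commutator_mono ((commutator_comm R _).trans_le hJR) le_rfl).trans
          (le_normalizer_iff_commutator_le_left.1 hKO)
      · exact (commutator_mono (Coprime.commutator_le_left_of_le_normalizer hKJ) le_rfl).trans hJR
    have hN : normalizer ((P₀ : Subgroup K) : Set K) ≤ centralizer ((P₀ : Subgroup K) : Set K) := by
      intro n hn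
      refine mem_centralizer_iff.2 fun s hs => ?_
      have h1 : ((⁅s, n⁆ : K) : G) ∈ O ⊓ P := by
        refine ⟨hJK ?_, ?_⟩
        · exact commutator_mem_commutator (mem_sup_right ⟨s, hs, rfl⟩ : (s : G) ∈ O ⊔ P) n.2
        · refine ⟨⁅s, n⁆, ?_, rfl⟩
          rw [commutatorElement_def, mul_assoc, mul_assoc]
          refine mul_mem hs ?_
          rw [← mul_assoc]
          exact (mem_normalizer_iff.1 hn _).1 (inv_mem hs)
      rw [Coprime.disjoint_of_coprime_card hOPcop, mem_bot] at h1
      exact commutatorElement_eq_one_iff_mul_comm.1 (Subtype.ext h1)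
    set Nc := (MonoidHom.transferSylow P₀ hN).ker with hNc
    haveI : Nc.Normal := MonoidHom.normal_ker _
    have hNc' : Nc ≤ pPrimeCore p K := PCore.le_pPrimeCore
      ((hp.coprime_iff_not_dvd.2 (MonoidHom.not_dvd_card_ker_transferSylow P₀ hN)).symm)
    have hKN : K ≤ O := by
      rw [← hKR]
      refine le_trans (commutator_mono ?_ le_rfl) hJR
      intro y hy
      have h1 : (⟨y, hy⟩ : K) ∈ pPrimeCore p K ⊔ (P₀ : Subgroup K) := by
        refine (sup_le_sup_right hNc' (P₀ : Subgroup K)) ?_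
        rw [(MonoidHom.ker_transferSylow_isComplement' P₀ hN).sup_eq_top]
        exact mem_top _
      have h2 := mem_map_of_mem K.subtype h1
      rw [Subgroup.map_sup] at h2
      exact h2
    -- `p` does not divide `|K|`, so `U` is the Sylow subgroup
    refine hneg fun S y hy => ?_
    have hy' : (y : G) ∈ U ⊔ K := hHUK.symm ▸ y.2
    obtain ⟨k, hk, v, hv, hkv⟩ := (Coprime.mem_sup_iff_of_le_normalizer (H := K) (N := U)
      le_normalizer_of_normal).1 (by rw [sup_comm]; exact hy')
    suffices hk1 : k = 1 by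
      obtain ⟨z, hz, hzy⟩ := (show (y : G) ∈ U by rw [← hkv, hk1, one_mul]; exact hv)
      rwa [← Subtype.ext hzy]
    obtain ⟨t, ht⟩ := S.2 ⟨y, hy⟩
    have h2 : (QuotientGroup.mk' U k) ^ p ^ t = 1 := by
      have h4 : (y : G) ^ p ^ t = 1 := by
        simpa using congrArg (fun w : (S : Subgroup H) => ((w : H) : G)) ht
      rw [show QuotientGroup.mk' U k = QuotientGroup.mk' U (y : G) by
        rw [← hkv, map_mul, show QuotientGroup.mk' U v = 1 from (QuotientGroup.eq_one_iff v).2 hv,
          mul_one], ← map_pow, h4, map_one]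
    rw [← map_pow] at h2
    have h3 : k ^ p ^ t = 1 := mem_bot.1 (hUK ▸ ⟨(QuotientGroup.eq_one_iff _).1 h2, pow_mem hk _⟩)
    have h5 : orderOf k ∣ Nat.card O := (Subgroup.orderOf_mk k (hKN hk)) ▸ orderOf_dvd_natCard _
    have h6 : (Nat.card O).Coprime (p ^ t) := hOp.pow_right t
    exact orderOf_eq_one_iff.1 (Nat.eq_one_of_dvd_coprimes h6 h5 (orderOf_dvd_of_pow_eq_one h3))
  have hP1 : P ≠ ⊥ := fun h => hPR1 (by rw [h, commutator_bot_left])
  -- `H = U O P`
  have hXH : U ⊔ (O ⊔ P) = H := by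
    by_contra hne
    haveI := hX
    have hXle : U ⊔ (O ⊔ P) ≤ H := sup_le hUH ((sup_le hOK hPK).trans hKH)
    have h1 := hproper le_sup_left hXle hne le_normalizer_of_normal ⁅P, R⁆
      (hPp.to_le hPRP) (commutator_mono (le_sup_right.trans le_sup_right) le_rfl)
    haveI : (pCoreOf p (U ⊔ (O ⊔ P) : Subgroup G)).Normal :=
      ConjAct.normal_of_characteristic_of_normal
    have h2 := hmaxU ((PCore.pCoreOf_le _).trans hXle)
      (PCore.isPGroup_pCoreOf (p := p) (U ⊔ (O ⊔ P) : Subgroup G))
    exact hPR1 (le_bot_iff.1 (hUK ▸ le_inf (h1.trans h2) (hPRP.trans hPK)))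
  have hKeq : ∀ T S : Subgroup G, T ≤ O → S ≤ P → S ≤ normalizer (T : Set G) →
      U ⊔ (T ⊔ S) = H → T = O ∧ S = P := by
    intro T S hT hS hST he
    have hTS : T ⊔ S ≤ K := sup_le (hT.trans hOK) (hS.trans hPK)
    have h1 : K ≤ T ⊔ S := fun y hy => by
      obtain ⟨c, hc, v, hv, rfl⟩ := (Coprime.mem_sup_iff_of_le_normalizer (H := T ⊔ S) (N := U)
        le_normalizer_of_normal).1 (by rw [sup_comm, he]; exact hKH hy)
      have hv1 : v = 1 := mem_bot.1 (hUK ▸ ⟨hv, by simpa using mul_mem (inv_mem (hTS hc)) hy⟩)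
      rwa [hv1, mul_one]
    have h2 := card_dvd_of_le ((sup_le hOK hPK).trans h1)
    rw [PLengthEndgame.card_sup_eq hPO hOPcop, PLengthEndgame.card_sup_eq hST
      ((hOPcop.coprime_dvd_left (card_dvd_of_le hT)).coprime_dvd_right (card_dvd_of_le hS))] at h2
    have h3 := Nat.le_of_dvd (Nat.mul_pos Nat.card_pos Nat.card_pos) h2
    have ha := Nat.le_of_dvd Nat.card_pos (card_dvd_of_le hT)
    have hb := Nat.le_of_dvd Nat.card_pos (card_dvd_of_le hS)
    have ha0 : 0 < Nat.card T := Nat.card_pos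
    have hb0 : 0 < Nat.card S := Nat.card_pos
    constructor
    · exact Subgroup.eq_of_le_of_card_ge hT (Nat.le_of_mul_le_mul_right
        ((Nat.mul_le_mul_left _ hb).trans (h3.trans le_rfl) |>.trans le_rfl) hb0)
    · exact Subgroup.eq_of_le_of_card_ge hS (Nat.le_of_mul_le_mul_left
        ((Nat.mul_le_mul_right _ ha).trans h3) ha0)
  -- `C_P(O) = 1`
  have hPfaith : P ⊓ centralizer (O : Set G) = ⊥ := by
    set T := P ⊓ centralizer (O : Set G) with hT
    have hTp : IsPGroup p (U ⊔ T : Subgroup G) :=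
      hUp.to_sup_of_normal_left (hPp.to_le inf_le_left)
    have hle : U ⊔ T ≤ H := sup_le hUH (inf_le_left.trans (hPK.trans hKH))
    have hnorm : H ≤ normalizer ((U ⊔ T : Subgroup G) : Set G) := by
      rw [← hXH]
      refine sup_le (le_sup_left.trans le_normalizer)
        (Signalizer.GenFixed.le_normalizer_sup' le_normalizer_of_normal (sup_le ?_ ?_))
      · exact (le_centralizer_iff.1 inf_le_right).trans (centralizer_le_normalizer _)
      · exact Coprime.le_normalizer_inf_of_le le_normalizer (Coprime.le_normalizer_centralizer hPO)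
    exact le_bot_iff.1 (hUK ▸ le_inf (le_sup_right.trans (PCore.le_pCoreOf hle hTp hnorm))
      (inf_le_left.trans hPK))
  -- `O` is a `q`-group
  obtain ⟨q, hq, Q, hQO, hQp, hRQ, hPQ, hQeq⟩ : ∃ q : ℕ, q.Prime ∧ ∃ Q : Subgroup G, Q ≤ O ∧
      IsPGroup q Q ∧ R ≤ normalizer (Q : Set G) ∧ P ≤ normalizer (Q : Set G) ∧
      U ⊔ (Q ⊔ P) = H := by
    by_contra hno
    push Not at hno
    have hOcent : O ≤ centralizer ((⁅P, R⁆ : Subgroup G) : Set G) := by
      refine fun y hy => ?_
      suffices h : Nat.card O ∣ Nat.card ↥(O ⊓ centralizer ((⁅P, R⁆ : Subgroup G) : Set G)) by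
        exact (Subgroup.eq_of_le_of_card_ge inf_le_left (Nat.le_of_dvd Nat.card_pos h) ▸ hy).2
      rw [Nat.dvd_iff_prime_pow_dvd_dvd]
      intro q k hq hk
      haveI := Fact.mk hq
      have hcopA : (Nat.card ↥(P ⊔ R)).Coprime (Nat.card O) := by
        rw [PLengthEndgame.card_sup_eq hRP
          (hcopRH.coprime_dvd_right (card_dvd_of_le (hPK.trans hKH))).symm]
        exact Nat.Coprime.mul_left hOPcop.symm
          (hcopRH.coprime_dvd_right (card_dvd_of_le (hOK.trans hKH)))
      obtain ⟨Q₀, hQ₀⟩ := Coprime.exists_invariant_sylow (sup_le hPO hRO) hcopA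
        (Or.inl inferInstance) q
      set Q := (Q₀ : Subgroup O).map O.subtype with hQ
      have hQO : Q ≤ O := map_subtype_le _
      have hPQ := le_sup_left.trans hQ₀
      have hRQ := le_sup_right.trans hQ₀
      have hc := hcentral Q P hQO le_rfl hRQ hRP hPQ (hno q hq Q hQO (Q₀.2.map _) hRQ hPQ)
      have hQc : Q ≤ O ⊓ centralizer ((⁅P, R⁆ : Subgroup G) : Set G) :=
        le_inf hQO (le_centralizer_iff.1 hc)
      refine dvd_trans ?_ (card_dvd_of_le hQc)
      rw [hQ, card_map_of_injective O.subtype_injective, Sylow.card_eq_multiplicity]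
      exact Nat.pow_dvd_pow q ((hq.pow_dvd_iff_le_factorization Nat.card_pos.ne').1 hk)
    exact hPR1 (le_bot_iff.1 (hPfaith ▸ le_inf hPRP (le_centralizer_iff.1 hOcent)))
  haveI := Fact.mk hq
  obtain rfl : Q = O := (hKeq Q P hQO le_rfl hPQ hQeq).1
  have hO1 : O ≠ ⊥ := fun h => hB1 (le_bot_iff.1 (h ▸ hBO))
  obtain ⟨eO, heO⟩ := hQp.exists_card_eq
  have heO0 : eO ≠ 0 := fun h => hO1 (Subgroup.card_eq_one.1 (by rw [heO, h, pow_zero]))
  have heP0 : eP ≠ 0 := fun h => hP1 (Subgroup.card_eq_one.1 (by rw [heP, h, pow_zero]))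
  have hqp : q ≠ p := fun h => by
    subst h
    exact hp.ne_one (Nat.eq_one_of_dvd_coprimes hOp (heO ▸ dvd_pow_self q heO0) dvd_rfl)
  have hrne : ∀ {ℓ : ℕ}, ℓ ∣ Nat.card H → Nat.card R₀ ≠ ℓ := fun {ℓ} hl h =>
    hR₀p.ne_one (Nat.eq_one_of_dvd_coprimes hcopRH (card_dvd_of_le hR₀) (h ▸ hl))
  have hS : ∀ S, S < P → R ≤ normalizer (S : Set G) → R ≤ centralizer (S : Set G) := by
    intro S hS hRS
    have h1 := hcentral O S le_rfl hS.le hRO hRS (hS.le.trans hPO)
      (fun h => hS.ne (hKeq O S le_rfl hS.le (hS.le.trans hPO) h).2)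
    rw [Coprime.le_centralizer_iff_commutator_eq_bot]
    exact le_bot_iff.1 (hPfaith ▸ le_inf
      ((Coprime.commutator_le_left_of_le_normalizer hRS).trans hS.le) h1)
  have hPR : ⁅P, R⁆ = P := by
    by_contra hne
    have h1 := hS _ (lt_of_le_of_ne hPRP hne) (normalizer_commutator_ge_right P R)
    rw [Coprime.le_centralizer_iff_commutator_eq_bot, Coprime.commutator_commutator_eq hRP
      (hcopRH.coprime_dvd_right (card_dvd_of_le (hPK.trans hKH))) (Or.inl inferInstance)] at h1
    exact hPR1 h1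
  refine PLengthEndgame.endgame hodd (q := q) U P O R R₀ hUel hPp hQp hqp hP1 hOfaith hPfaith
    (le_bot_iff.1 (hUK ▸ inf_le_inf_left _ hPK)) hPO hRO hRP hR₀ hR₀p
    (hrne ((heP ▸ dvd_pow_self p heP0).trans (card_dvd_of_le (hPK.trans hKH))))
    (hrne ((heO ▸ dvd_pow_self q heO0).trans (card_dvd_of_le (hOK.trans hKH)))) hPR hS ?_ ?_
  · intro T hT hPT hRT
    have h1 := hcentral T P hT.le le_rfl hRT hRP hPT
      (fun h => hT.ne (hKeq T P hT.le le_rfl hPT h).1)
    rwa [hPR] at h1
  · intro ℓ hl S hS hSR hSp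
    haveI := Fact.mk hl
    haveI := hZ
    exact isCyclic_of_le_zgroup (le_inf (hS.trans (by rw [sup_assoc, hXH])) hSR) hSp

/-- **Bender–Glauberman 3.6.** -/
theorem pLengthLE_commutator_aux : ∀ (n : ℕ) {G : Type u} [Group G] [Finite G] [Group.IsSolvable G]
    (H R R₀ : Subgroup G) [H.Normal], Nat.card G = n → Odd (Nat.card G) → Hyp H R R₀ →
    PLengthLE p 1 ↥⁅H, R⁆ := by
  intro n
  induction n using Nat.strong_induction_on with
  | _ n ih =>
    intro G _ _ _ H R R₀ _ hn hodd hyp
    exact step hodd hyp fun {G'} _ _ _ H' R' R₀' _ hlt ho hh => ih _ (hn ▸ hlt) H' R' R₀' rfl ho hh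

theorem pLengthLE_commutator (hodd : Odd (Nat.card G)) {H R R₀ : Subgroup G} [H.Normal]
    (hyp : Hyp H R R₀) : PLengthLE p 1 ↥⁅H, R⁆ :=
  pLengthLE_commutator_aux _ H R R₀ rfl hodd hyp

end Cfsg.Agent.OddOrder.PLengthCommutator
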