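import Cfsg.Agent.S1407
import Cfsg.Agent.Lib.OddOrder.PLengthCommutator
import Cfsg.Agent.Lib.OddOrder.PLengthOne
import Cfsg.Agent.Lib.OddOrder.RankTwo
import Cfsg.Agent.Lib.OddOrder.AlphaCore
import Cfsg.Agent.Lib.OddOrder.SigmaLocal

/-!
# Bender–Glauberman 10.6: proper subgroups have `p`-length at most one
-/

set_option autoImplicit false

namespace Cfsg.Agent.OddOrder

open Cfsg Subgroup
open scoped Pointwise commutatorElement

universe u

/-- A direct factor of a solvable group inside the derived group is trivial if the orders are coprime. -/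
theorem eq_bot_of_le_commutator {X : Type*} [Group X] [Finite X] [Group.IsSolvable X] (C E : Subgroup X)
    (hcop : (Nat.card C).Coprime (Nat.card E)) (hcomm : ∀ c ∈ C, ∀ e ∈ E, c * e = e * c)
    (htop : C ⊔ E = ⊤) (hC : C ≤ commutator X) : C = ⊥ := by
  have hEC : C ≤ normalizer (E : Set X) := fun c hc =>
    centralizer_le_normalizer _ (mem_centralizer_iff.2 fun e he => (hcomm c hc e he).symm)
  have hdec : ∀ y : X, ∃ a ∈ C, ∃ b ∈ E, a * b = y := fun y =>
    (Coprime.mem_sup_iff_of_le_normalizer hEC).1 (htop ▸ mem_top y)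
  have hC'E : ∀ c ∈ ⁅C, C⁆, ∀ e ∈ E, c * e = e * c := fun c hc e he => by
    have hle : ⁅C, C⁆ ≤ C := (Subgroup.commutator_le_self C)
    exact hcomm c (hle hc) e he
  have key : commutator X ≤ ⁅C, C⁆ ⊔ ⁅E, E⁆ := by
    rw [_root_.commutator_def]
    refine commutator_le.2 fun g _ g' _ => ?_
    obtain ⟨a, ha, b, hb, rfl⟩ := hdec g
    obtain ⟨a', ha', b', hb', rfl⟩ := hdec g'
    have e1 : ⁅a * b, a' * b'⁆ = ⁅a, a'⁆ * ⁅b, b'⁆ := by
      simp only [commutatorElement_def, mul_inv_rev]
      have h1 : Commute b a' := (hcomm a' ha' b hb).symm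
      have h2 : Commute b' a⁻¹ := (hcomm a⁻¹ (inv_mem ha) b' hb').symm
      calc a * b * (a' * b') * (b⁻¹ * a⁻¹) * (b'⁻¹ * a'⁻¹)
          = a * (b * a') * b' * b⁻¹ * (a⁻¹ * b'⁻¹) * a'⁻¹ := by group
        _ = a * (a' * b) * b' * b⁻¹ * (b'⁻¹ * a⁻¹) * a'⁻¹ := by rw [h1.eq, h2.symm.inv_right.eq]
        _ = a * a' * ((b * b' * b⁻¹ * b'⁻¹) * (a⁻¹ * a'⁻¹)) := by
          have h3 : Commute (b * b' * b⁻¹ * b'⁻¹) (a⁻¹ : X) := (hcomm a⁻¹ (inv_mem ha) _
            (mul_mem (mul_mem (mul_mem hb hb') (inv_mem hb)) (inv_mem hb'))).symm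
          group
        _ = a * a' * ((a⁻¹ * a'⁻¹) * (b * b' * b⁻¹ * b'⁻¹)) := by
          rw [(hcomm (a⁻¹ * a'⁻¹) (mul_mem (inv_mem ha) (inv_mem ha')) _
            (mul_mem (mul_mem (mul_mem hb hb') (inv_mem hb)) (inv_mem hb'))).symm]
        _ = _ := by group
    rw [e1]
    exact mul_mem (mem_sup_left (commutator_mem_commutator ha ha'))
      (mem_sup_right (commutator_mem_commutator hb hb'))
  have hCC : C ≤ ⁅C, C⁆ := by
    intro c hc
    have hn : ⁅C, C⁆ ≤ normalizer ((⁅E, E⁆ : Subgroup X) : Set X) := fun z hz =>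
      centralizer_le_normalizer _ (mem_centralizer_iff.2 fun e he =>
        (hC'E z hz e ((Subgroup.commutator_le_self E) he)).symm)
    obtain ⟨a, ha, b, hb, hab⟩ := (Coprime.mem_sup_iff_of_le_normalizer hn).1 (key (hC hc))
    have hb' : b ∈ C ⊓ E :=
      ⟨by simpa [← hab] using mul_mem (inv_mem ((Subgroup.commutator_le_self C) ha)) hc,
        (Subgroup.commutator_le_self E) hb⟩
    rw [Coprime.disjoint_of_coprime_card hcop, mem_bot] at hb'
    rwa [← hab, hb', mul_one]
  by_contra hne
  have hn : ∀ n, C ≤ (derivedSeries X n) := fun n => by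
    induction n with
    | zero => exact le_top
    | succ n ih => exact hCC.trans (commutator_mono ih ih)
  obtain ⟨n, hn'⟩ := (Group.isSolvable_def X).1 inferInstance
  exact hne (le_bot_iff.1 (hn' ▸ hn n))

variable {G : Type u} [Group G] [Finite G] {p : ℕ} [Fact p.Prime]

/-- BG 10.6 for maximal subgroups. -/
theorem pLengthLE_one_coatom (hG : IsMinSimpleOddOrder G) {M : Subgroup G} (hM : IsCoatom M) :
    PLengthLE p 1 M := by
  classical
  haveI := isSolvable_of_coatom hG hM
  have hoddM : Odd (Nat.card M) := odd_subgroup hG.1 M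
  obtain ⟨S⟩ : Nonempty (Sylow p M) := inferInstance
  by_cases hr : PRankLE p 2 M
  · exact pLengthLE_one_of_sylow_le S (sylow_le_pPrimePCore_of_rankTwo hoddM S
      (pRankLE_of_injective (f := (S : Subgroup M).subtype) (Subgroup.subtype_injective _) hr))
  have hpa : p ∈ alpha M := ⟨Fact.out, hr⟩
  set A : Subgroup M := piCore (alpha M) ↥M with hA
  have hSA : (S : Subgroup M) ≤ A := sylow_le_piCore_alpha hG hM hpa S
  have hMA : alphaCore M = A.map M.subtype := rfl
  have hAne : A ≠ ⊥ := fun h => not_pRankLE_sylow hr S (by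
    intro B hB hBp
    have : (S : Subgroup M) = ⊥ := le_bot_iff.1 (h ▸ hSA)
    have hB1 : B = ⊥ := by
      refine le_bot_iff.1 fun b _ => ?_
      obtain ⟨z, hz, hzb⟩ := b.2
      rw [this] at hz
      exact Subgroup.mem_bot.2 (Subtype.ext (by rw [← hzb, mem_bot.1 hz]; rfl))
    rw [hB1, Subgroup.card_bot]
    exact Nat.one_le_pow _ _ (Fact.out : p.Prime).pos)
  -- a prime dividing the index of the derived group
  haveI : Nontrivial M := (Subgroup.nontrivial_iff_exists_ne_one M).2 (by
    obtain ⟨a, ha, ha1⟩ := (bot_or_exists_ne_one A).resolve_left hAne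
    exact ⟨a, a.2, fun h => ha1 (Subtype.ext h)⟩)
  obtain ⟨q, hq, hqd⟩ := Nat.exists_prime_and_dvd (n := (commutator M).index) (fun h =>
    (Group.IsSolvable.commutator_lt_top_of_nontrivial M).ne (Subgroup.index_eq_one.1 h))
  haveI := Fact.mk hq
  have hqσ : q ∉ sigma M := fun h => by
    obtain ⟨T⟩ : Nonempty (Sylow q M) := inferInstance
    have h1 := sylow_le_commutator_of_sigma hG hM h T
    refine T.not_dvd_index (hqd.trans (Subgroup.index_dvd_of_le ?_))
    rw [← Subgroup.map_le_map_iff_of_injective M.subtype_injective, Subgroup.map_subtype_commutator]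
    exact h1
  have hqM : q ∣ Nat.card M := hqd.trans (Subgroup.index_dvd_card _)
  have hMα : alphaCore M ≠ ⊥ := by
    rw [hMA]
    exact fun h => hAne ((Subgroup.map_eq_bot_iff_of_injective _ M.subtype_injective).1 h)
  obtain ⟨Q⟩ : Nonempty (Sylow q M) := inferInstance
  obtain ⟨x, hxP, hxo, hxZ, -⟩ := S1407.result hG M hM hMα q hqM hqσ Q
  have hxM : x ∈ M := Subgroup.map_subtype_le _ hxP
  -- a complement through `x`
  haveI : A.Normal := piCore_normal _ _
  have hAhall : (Nat.card A).Coprime A.index := by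
    refine Nat.coprime_of_dvd fun l hl h1 h2 => ?_
    have hla : l ∈ alpha M := isPiGrp_piCore (alpha M) ↥M l hl h1
    haveI := Fact.mk hl
    obtain ⟨T⟩ : Nonempty (Sylow l M) := inferInstance
    exact T.not_dvd_index (h2.trans (Subgroup.index_dvd_of_le (sylow_le_piCore_alpha hG hM hla T)))
  obtain ⟨E₀, hE₀⟩ := Subgroup.exists_right_complement'_of_coprime hAhall
  have hE₀c : (Nat.card E₀).Coprime (Nat.card A) := by rw [← hE₀.symm.index_eq_card]; exact hAhall.symm
  set x' : M := ⟨x, hxM⟩
  have hx'o : orderOf x' = q := by rw [Subgroup.orderOf_mk]; exact hxo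
  have hxcop : (Nat.card (zpowers x')).Coprime (Nat.card A) := by
    rw [Nat.card_zpowers, hx'o]
    refine hq.coprime_iff_not_dvd.2 fun h => hqσ (alpha_subset_sigma hG hM ?_)
    exact isPiGrp_piCore (alpha M) ↥M q hq h
  obtain ⟨n, -, hn⟩ := Coprime.exists_le_conj_of_le_sup (A := E₀) (N := A) (B := zpowers x')
    PLengthCommutator.le_normalizer_of_normal (by rw [sup_comm, hE₀.sup_eq_top]; exact le_top)
    hE₀c hxcop (Or.inl inferInstance)
  set E := MulAut.conj n • E₀ with hE
  have hEc : Nat.card E = Nat.card E₀ := Coprime.card_conj_smul _ _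
  have hcompl : Subgroup.IsComplement' A E := Subgroup.isComplement'_of_coprime
    (by rw [hEc, hE₀.card_mul]) (by rw [hEc]; exact hE₀c.symm)
  have hlen := PLengthCommutator.pLengthLE_commutator (p := p) hoddM (H := A) (R := E)
    (R₀ := zpowers x') ⟨hAhall, hcompl, hn, by rw [Nat.card_zpowers, hx'o]; exact hq, by
      haveI := hxZ
      let φ : ↥(A ⊓ centralizer ((zpowers x' : Subgroup M) : Set M)) →*
          ↥(alphaCore M ⊓ centralizer ({x} : Set G)) :=
        (M.subtype.comp (Subgroup.subtype _)).codRestrict _ fun y => ⟨⟨y.1, y.2.1, rfl⟩,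
          mem_centralizer_singleton_iff.2 (congrArg Subtype.val
            (mem_centralizer_iff.1 y.2.2 x' (mem_zpowers x'))).symm⟩
      exact IsZGroup.of_injective (f := φ) fun a b h => Subtype.ext (Subtype.ext (congrArg Subtype.val h :))⟩
  -- `A = [A, E]`
  set N := ⁅A, E⁆ with hN
  haveI : N.Normal := normalizer_eq_top_iff.1 (top_unique (by
    rw [← hcompl.sup_eq_top]
    exact sup_le (normalizer_commutator_ge_left A E) (normalizer_commutator_ge_right A E)))
  have hNA : N ≤ A := Subgroup.commutator_le_left A E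
  have hNeq : N = A := by
    refine le_antisymm hNA ?_
    set π := QuotientGroup.mk' N
    haveI : Group.IsSolvable (↥M ⧸ N) :=
      Group.isSolvable_of_surjective (QuotientGroup.mk'_surjective N)
    have h := eq_bot_of_le_commutator (A.map π) (E.map π)
      (((hEc ▸ hE₀c).symm.coprime_dvd_left (Subgroup.card_map_dvd _ _)).coprime_dvd_right
        (Subgroup.card_map_dvd _ _))
      (by
        rintro _ ⟨c, hc, rfl⟩ _ ⟨e, he, rfl⟩
        rw [← commutatorElement_eq_one_iff_mul_comm, ← map_commutatorElement]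
        exact (QuotientGroup.eq_one_iff _).2 (commutator_mem_commutator hc he))
      (by rw [← Subgroup.map_sup, hcompl.sup_eq_top,
        Subgroup.map_top_of_surjective π (QuotientGroup.mk'_surjective N)])
      (by
        rw [_root_.commutator_def, ← Subgroup.map_top_of_surjective π (QuotientGroup.mk'_surjective N),
          ← Subgroup.map_commutator]
        refine Subgroup.map_mono ?_
        rw [← _root_.commutator_def, ← Subgroup.map_le_map_iff_of_injective M.subtype_injective,
          Subgroup.map_subtype_commutator]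
        exact alphaCore_le_commutator hG hM)
    rwa [Subgroup.map_eq_bot_iff, QuotientGroup.ker_mk'] at h
  rw [hNeq] at hlen
  -- up to `M`
  refine pLengthLE_one_of_sylow_le S ?_
  have hSp : IsPGroup p ((S : Subgroup M).subgroupOf A) := S.2.comap_subtype
  have h1 := (le_pPrimePCore_of_pLength hlen hSp)
  set O := (pPrimeCore p A).map A.subtype with hO
  haveI : O.Normal := ConjAct.normal_of_characteristic_of_normal
  have hOle : O ≤ pPrimeCore p ↥M := PCore.le_pPrimeCore (by
    rw [hO, Subgroup.card_map_of_injective A.subtype_injective]; exact PCore.coprime_card_pPrimeCore)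
  set J := (pPrimePCore p A).map A.subtype with hJ
  haveI : (pPrimePCore p A).Characteristic := by
    have h := PCore.upperPSeries_two (p := p) (G := A)
    rw [← h]
    exact Subgroup.characteristic_iff_map_eq.2 fun φ => PCore.map_upperPSeries_mulEquiv φ 2
  haveI : J.Normal := ConjAct.normal_of_characteristic_of_normal
  have hSJ : (S : Subgroup M) ≤ J := fun s hs => ⟨⟨s, hSA hs⟩, h1 hs, rfl⟩
  refine hSJ.trans ?_
  rw [pPrimePCore, ← Subgroup.map_le_iff_le_comap]
  haveI : (J.map (QuotientGroup.mk' (pPrimeCore p ↥M))).Normal :=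
    Subgroup.Normal.map inferInstance _ (QuotientGroup.mk'_surjective _)
  refine PCore.le_pCore ?_
  have hJS : J ≤ (S : Subgroup M) ⊔ O := by
    obtain ⟨T⟩ : Nonempty (Sylow p A) := inferInstance
    let T' : Sylow p A := S.subtype hSA
    refine (Subgroup.map_mono (pPrimePCore_le_sup_sylow T')).trans ?_
    rw [Subgroup.map_sup, sup_comm]
    refine sup_le_sup_right ?_ _
    rintro _ ⟨a, ha, rfl⟩
    exact ha
  refine IsPGroup.to_le (S.2.map (QuotientGroup.mk' (pPrimeCore p ↥M))) ?_
  refine (Subgroup.map_mono hJS).trans ?_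
  rw [Subgroup.map_sup]
  refine sup_le le_rfl ?_
  rw [(Subgroup.map_eq_bot_iff (H := O)).2 (by rw [QuotientGroup.ker_mk']; exact hOle)]
  exact bot_le

/-- **Bender–Glauberman 10.6.** -/
theorem pLengthLE_one_of_ne_top (hG : IsMinSimpleOddOrder G) {H : Subgroup G} (hH : H ≠ ⊤) :
    PLengthLE p 1 H := by
  obtain ⟨L, hL, hle⟩ := exists_coatom_ge hH
  exact PCore.pLengthLE_of_injective (Subgroup.inclusion hle) (Subgroup.inclusion_injective hle)
    (pLengthLE_one_coatom hG hL)

end Cfsg.Agent.OddOrder
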