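import Cfsg.Agent.Lib.OddOrder.AlphaCore

/-!
# Bender–Glauberman 10.2 (b): `M_σ` is a Hall `σ(M)`-subgroup of `M` and of `G`, inside `M'`
-/

set_option autoImplicit false
set_option linter.style.haveILetI false
set_option linter.unusedSectionVars false

namespace Cfsg.Agent.OddOrder

open Cfsg
open Subgroup (centralizer normalizer zpowers)

universe u
variable {G : Type u} [Group G] [Finite G] (hG : IsMinSimpleOddOrder G) {M : Subgroup G} (hM : IsCoatom M)
include hG hM

theorem sylow_le_piCore_sigma {p : ℕ} [Fact p.Prime] (hp : p ∈ sigma M) (S : Sylow p M) :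
    (S : Subgroup M) ≤ piCore (sigma M) ↥M := by
  haveI := isSolvable_of_coatom hG hM
  intro x hx
  have hder : x ∈ _root_.commutator M := by
    have h := sylow_le_commutator_of_sigma hG hM hp S ⟨x, hx, rfl⟩
    have e : ⁅M, M⁆ = (_root_.commutator M).map M.subtype := by
      rw [commutator_def, Subgroup.map_commutator, ← MonoidHom.range_eq_map, Subgroup.range_subtype]
    rw [e] at h
    obtain ⟨y, hy, hyx⟩ := h
    exact (Subtype.ext hyx : y = x) ▸ hy
  obtain ⟨k, hk⟩ := S.2 ⟨x, hx⟩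
  set N := piCore (alpha M) ↥M
  set π := QuotientGroup.mk' N
  have hmap : π x ∈ _root_.commutator (↥M ⧸ N) := by
    have := Subgroup.mem_map_of_mem π hder
    rw [commutator_def, Subgroup.map_commutator] at this
    exact Subgroup.commutator_mono le_top le_top this
  have h2 := Subnormal.mem_pCore_of_mem_fittingSubgroup (p := p) (k := k)
    (commutator_quotient_le_fitting hG hM hmap)
    (by rw [← map_pow, show x ^ p ^ k = 1 from congrArg Subtype.val hk, map_one])
  have hle : (pCore p (↥M ⧸ N)).comap π ≤ piCore (sigma M) ↥M := by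
    refine le_sSup ⟨(inferInstance : ((pCore p (↥M ⧸ N)).comap π).Normal), fun l hl hd => ?_⟩
    have hd' := hd.trans (PCore.card_comap_dvd π (pCore p (↥M ⧸ N)))
    rw [QuotientGroup.ker_mk'] at hd'
    rcases hl.dvd_mul.1 hd' with h | h
    · exact alpha_subset_sigma hG hM (isPiGrp_piCore (alpha M) ↥M l hl h)
    · obtain ⟨j, hj⟩ := (PCore.isPGroup_pCore (p := p) (G := ↥M ⧸ N)).exists_card_eq
      rw [(Nat.prime_dvd_prime_iff_eq hl hp.1).1 (hl.dvd_of_dvd_pow (hj ▸ h))]
      exact hp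
  exact hle h2

theorem sylow_le_sigmaCore {p : ℕ} [Fact p.Prime] (hp : p ∈ sigma M) (S : Sylow p M) :
    (S : Subgroup M).map M.subtype ≤ sigmaCore M :=
  Subgroup.map_mono (sylow_le_piCore_sigma hG hM hp S)

theorem sigmaCore_isPiHall : IsPiHall (sigma M) (sigmaCore M) := by
  refine ⟨isPiGrp_piCoreOf (sigma M) M, fun p hp hps hd => ?_⟩
  haveI := Fact.mk hp
  obtain ⟨S⟩ : Nonempty (Sylow p M) := inferInstance
  obtain ⟨P, hP⟩ := sigma_sylow_eq hps S
  exact P.not_dvd_index (hd.trans (Subgroup.index_dvd_of_le (hP.le.trans (sylow_le_sigmaCore hG hM hps S))))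

theorem sigmaCore_hall : IsPiHallOf (sigma M) (sigmaCore M) M :=
  ⟨piCoreOf_le _ M, isPiGrp_piCoreOf (sigma M) M, fun p hp hps hd =>
    (sigmaCore_isPiHall hG hM).2 p hp hps (hd.trans (Subgroup.relIndex_dvd_index_of_le (piCoreOf_le _ M)))⟩

/-- `M_σ ≤ M'`. -/
theorem sigmaCore_le_commutator : sigmaCore M ≤ ⁅M, M⁆ := by
  intro x hx
  refine mem_of_forall_primePart fun r hr _ u hu ⟨k, hk⟩ => ?_
  haveI := Fact.mk hr
  have huM : u ∈ M := piCoreOf_le _ M (Subgroup.zpowers_le.2 hx hu)
  rcases eq_or_ne u 1 with rfl | hu1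
  · exact one_mem _
  obtain ⟨i, -, hi⟩ := (Nat.dvd_prime_pow hr).1 (orderOf_dvd_of_pow_eq_one hk)
  obtain ⟨S, hS⟩ := exists_sylow_map_ge (p := r) (X := zpowers u)
    (IsPGroup.of_card (n := i) (by rw [Nat.card_zpowers, hi])) (Subgroup.zpowers_le.2 huM)
  have hrs : r ∈ sigma M := by
    refine isPiGrp_piCoreOf (sigma M) M r hr (dvd_trans ?_
      (Subgroup.orderOf_dvd_natCard _ (Subgroup.zpowers_le.2 hx hu : u ∈ sigmaCore M)))
    rcases Nat.eq_zero_or_pos i with rfl | hi0
    · rw [pow_zero, orderOf_eq_one_iff] at hi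
      exact absurd hi hu1
    · exact hi ▸ dvd_pow_self r hi0.ne'
  exact sylow_le_commutator_of_sigma hG hM hrs S (hS (Subgroup.mem_zpowers u))

omit hG hM in
theorem sigmaCore_normal_subgroupOf : ((sigmaCore M).subgroupOf M).Normal := by
  rw [show (sigmaCore M).subgroupOf M = piCore (sigma M) ↥M from
    Subgroup.comap_map_eq_self_of_injective M.subtype_injective _]
  infer_instance

/-- A complement of `M_σ` has order prime to `σ(M)`. -/
theorem not_mem_sigma_of_compl {E : Subgroup G} (hE : IsComplIn E (sigmaCore M) M) {p : ℕ}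
    (hp : p.Prime) (hd : p ∣ Nat.card E) : p ∉ sigma M := fun hps => by
  haveI := Fact.mk hp
  obtain ⟨z, hz⟩ := exists_prime_orderOf_dvd_card' p hd
  rw [← Subgroup.orderOf_coe] at hz
  obtain ⟨S, hS⟩ := exists_sylow_map_ge (p := p) (X := zpowers (z : G))
    (IsPGroup.of_card (n := 1) (by rw [Nat.card_zpowers, hz, pow_one])) (Subgroup.zpowers_le.2 (hE.1 z.2))
  have h1 : (z : G) ∈ E ⊓ sigmaCore M :=
    ⟨z.2, sylow_le_sigmaCore hG hM hps S (hS (Subgroup.mem_zpowers _))⟩
  rw [hE.2.2.1, Subgroup.mem_bot] at h1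
  rw [h1, orderOf_one] at hz
  exact hp.ne_one hz.symm

/-- A complement of `M_σ` has rank at most two. -/
theorem rankLE_of_compl {E : Subgroup G} (hE : IsComplIn E (sigmaCore M) M) : RankLE 2 E := by
  intro p hp B hB hBp
  haveI := Fact.mk hp
  obtain ⟨k, hk⟩ := (PGroup.isPGroup_of_elementaryAbelian (⟨hB, hBp⟩ : IsElementaryAbelian p B)).exists_card_eq
  rcases Nat.eq_zero_or_pos k with rfl | hk0
  · rw [hk, pow_zero]
    exact Nat.one_le_pow _ _ hp.pos
  · have hd : p ∣ Nat.card E := (hk ▸ dvd_pow_self p hk0.ne').trans B.card_subgroup_dvd_card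
    have hr : PRankLE p 2 M := by
      by_contra h
      exact not_mem_sigma_of_compl hG hM hE hp hd (alpha_subset_sigma hG hM ⟨hp, h⟩)
    exact pRankLE_of_injective (f := Subgroup.inclusion hE.1) (Subgroup.inclusion_injective hE.1) hr B hB hBp

end Cfsg.Agent.OddOrder
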