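import Cfsg.Agent.Lib.OddOrder.DerivedNilpotent
import Cfsg.Agent.Lib.PCore.UpperSeries

/-!
# Solvable groups of odd order whose `O_{p',p}` has a small p-part

* `prime_lt_of_small_action`: a prime order automorphism of a p-group of order at most `p²` has order `< p`;
* `structure_of_action`: the consequences for `G` of a good action of `G/O_{p'}` on its `O_p`;
* `action_of_rankTwo`: that action in the rank two case.
-/

set_option linter.style.haveILetI false
set_option linter.unusedSectionVars false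

namespace Cfsg.Agent.OddOrder

open Cfsg
open Subgroup (centralizer normalizer zpowers)

variable {G : Type*} [Group G] [Finite G] {p : ℕ} [Fact p.Prime]

/-- An element of prime order `q ≠ 2, p` modulo `C(V)`, `|V| ≤ p²`, has `q < p`. -/
theorem prime_lt_of_small_action (hp : p ≠ 2) {q : ℕ} (hq : q.Prime) (hq2 : q ≠ 2) (hqp : q ≠ p)
    (V : Subgroup G) [V.Normal] (hV : IsPGroup p V) (hV2 : Nat.card V ≤ p ^ 2) {x : G}
    (hxq : x ^ q ∈ centralizer (V : Set G)) (hx : x ∉ centralizer (V : Set G)) : q < p := by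
  haveI := Fact.mk hq
  have hpp : p.Prime := Fact.out
  set Γ := zpowers (MulAut.conjNormal (H := V) x) with hΓ
  have hfix : ∀ v : V, (∀ γ : Γ, γ • v = v) ↔ (v : G) ∈ centralizer ({x} : Set G) := fun v => by
    refine ⟨fun h => ?_, fun h => ?_⟩
    · refine Subgroup.mem_centralizer_singleton_iff.2 ?_
      have h' := congrArg Subtype.val (h ⟨_, Subgroup.mem_zpowers _⟩)
      rw [Submonoid.smul_def, MulAut.smul_def, MulAut.conjNormal_apply, mul_inv_eq_iff_eq_mul] at h'
      exact h'.symm
    · rintro ⟨γ, hγ⟩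
      rw [hΓ, ← MonoidHom.map_zpowers] at hγ
      obtain ⟨g, hg, rfl⟩ := hγ
      refine Subtype.ext ?_
      show (MulAut.conjNormal g v : V).1 = v.1
      rw [MulAut.conjNormal_apply, mul_inv_eq_iff_eq_mul]
      obtain ⟨i, rfl⟩ := hg
      exact ((show Commute x v from (Subgroup.mem_centralizer_singleton_iff.1 h).symm).zpow_left i).eq
  have hone : MulAut.conjNormal (H := V) x ^ q = 1 := by
    rw [← map_pow]
    refine MulEquiv.ext fun v => Subtype.ext ?_
    rw [MulAut.conjNormal_apply, MulAut.one_apply, mul_inv_eq_iff_eq_mul]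
    exact (Subgroup.mem_centralizer_iff.1 hxq v v.2).symm
  have hΓp : IsPGroup q Γ := by
    obtain ⟨i, -, hi⟩ := (Nat.dvd_prime_pow hq).1 (show orderOf (MulAut.conjNormal (H := V) x) ∣ q ^ 1 by
      rw [pow_one]; exact orderOf_dvd_of_pow_eq_one hone)
    exact IsPGroup.of_card (n := i) (by rw [hΓ, Nat.card_zpowers, hi])
  have h1 := hΓp.card_modEq_card_fixedPoints V
  set F := (centralizer ({x} : Set G)).subgroupOf V with hF
  have hcard : Nat.card (MulAction.fixedPoints Γ V) = Nat.card F :=
    Nat.card_congr (Equiv.subtypeEquivRight fun v => (hfix v).trans Subgroup.mem_subgroupOf.symm)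
  rw [hcard] at h1
  obtain ⟨k, hk⟩ := hV.exists_card_eq
  obtain ⟨i, hi⟩ := (hV.to_subgroup F).exists_card_eq
  have hik : i < k := by
    refine (Nat.pow_lt_pow_iff_right hpp.one_lt).1 (hi ▸ hk ▸ lt_of_le_of_ne F.card_le_card_group fun e => ?_)
    refine hx (Subgroup.mem_centralizer_iff.2 fun v hv => ?_)
    have htop : F = ⊤ := Subgroup.eq_top_of_card_eq _ e
    exact Subgroup.mem_centralizer_singleton_iff.1
      (Subgroup.mem_subgroupOf.1 (htop.ge (Subgroup.mem_top (⟨v, hv⟩ : V))))
  have hk2 : k ≤ 2 := (Nat.pow_le_pow_iff_right hpp.one_lt).1 (hk ▸ hV2)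
  rw [hi, hk] at h1
  have hd := (Nat.modEq_iff_dvd' (Nat.pow_le_pow_right hpp.pos hik.le)).1 h1.symm
  have hqp' : ¬ q ∣ p := fun h => hqp ((Nat.prime_dvd_prime_iff_eq hq hpp).1 h)
  have h3 := hpp.two_le
  have h4 : q ∣ p - 1 ∨ q ∣ p + 1 := by
    interval_cases k <;> interval_cases i
    · left; simpa using hd
    · have : q ∣ (p - 1) * (p + 1) := by
        rwa [show (p - 1) * (p + 1) = p ^ 2 - p ^ 0 by
          obtain ⟨m, rfl⟩ : ∃ m, p = m + 1 := ⟨p - 1, by omega⟩
          simp only [Nat.add_sub_cancel, pow_zero]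
          have : (m + 1) ^ 2 = m * (m + 1 + 1) + 1 := by ring
          omega]
      exact (hq.dvd_mul).1 this
    · left
      rw [show p ^ 2 - p ^ 1 = p * (p - 1) by rw [Nat.mul_sub, mul_one, pow_one, pow_two]] at hd
      exact (hq.dvd_mul.1 hd).resolve_left hqp'
  rcases h4 with h | h
  · exact lt_of_le_of_lt (Nat.le_of_dvd (by omega) h) (by omega)
  · have hle := Nat.le_of_dvd (by omega) h
    rcases Nat.lt_or_ge q p with h5 | h5
    · exact h5
    · exfalso
      have : q = p + 1 := by omega
      exact hp (by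
        rcases hpp.eq_two_or_odd with h6 | h6
        · exact h6
        · exact absurd (hq.eq_two_or_odd) (by omega))

variable [Group.IsSolvable G]

/-- `N` normal, of order prime to `p` with p-power index, is a normal p-complement. -/
theorem hasNormalPComplement_of_normal {H : Type*} [Group H] [Finite H] (N : Subgroup H) [N.Normal]
    (hc : (Nat.card N).Coprime p) {k : ℕ} (hk : N.index = p ^ k) : HasNormalPComplement p H := by
  obtain ⟨P⟩ : Nonempty (Sylow p H) := inferInstance
  refine ⟨P, N, inferInstance, ?_⟩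
  obtain ⟨j, hj⟩ := P.2.exists_card_eq
  have hcop : (Nat.card N).Coprime (Nat.card (P : Subgroup H)) := hj ▸ hc.pow_right j
  refine Subgroup.isComplement'_of_coprime ?_ hcop
  rw [← N.card_mul_index]
  congr 1
  refine Nat.dvd_antisymm ?_ ?_
  · rw [hj]
    refine (Nat.Coprime.pow_left j hc.symm).dvd_of_dvd_mul_left ?_
    rw [N.card_mul_index, ← hj]
    exact Subgroup.card_subgroup_dvd_card _
  · rw [hk]
    exact P.pow_dvd_card_of_pow_dvd_card (hk ▸ N.index_dvd_card)

/-- Structure of `G` from the action of `G/O_{p'}(G)` on its `O_p`. -/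
theorem structure_of_action (hodd : Odd (Nat.card G)) (S : Sylow p G)
    (hS : (S : Subgroup G) ≤ pPrimePCore p G)
    (hder : ∀ x ∈ commutator (G ⧸ pPrimeCore p G), (orderOf x).Coprime p →
      x ∈ centralizer (pCore p (G ⧸ pPrimeCore p G) : Set (G ⧸ pPrimeCore p G)))
    (hlt : ∀ (q : ℕ) (x : G ⧸ pPrimeCore p G), q.Prime → q ≠ p → orderOf x = q →
      x ∉ centralizer (pCore p (G ⧸ pPrimeCore p G) : Set (G ⧸ pPrimeCore p G)) → q < p) :
    (∀ q : ℕ, q.Prime → q ∣ (pPrimeCore p G).index → q ≤ p) ∧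
      ((p = 3 ∨ ∀ q : ℕ, q.Prime → q ∣ Nat.card G → p ≤ q) → HasNormalPComplement p G) ∧
      HasNormalPComplement p ↥(commutator G) ∧
      (∀ L : Subgroup ↥(commutator G), (Nat.card L).Coprime p → L ≤ pPrimeCore p ↥(commutator G)) ∧
      commutator G ≤ pPrimePCore p G ∧ ((pPrimePCore p G).index).Coprime p := by
  have hpp : p.Prime := Fact.out
  set π := QuotientGroup.mk' (pPrimeCore p G) with hπ
  have hfix : ∀ x : G ⧸ pPrimeCore p G, (orderOf x).Coprime p →
      x ∈ centralizer (pCore p (G ⧸ pPrimeCore p G) : Set (G ⧸ pPrimeCore p G)) → x = 1 := fun x hc hx => by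
    obtain ⟨k, hk⟩ := (PCore.isPGroup_pCore (p := p))
      ⟨x, centralizer_pCore_le PCore.pPrimeCore_quotient_self_eq_bot hx⟩
    exact orderOf_eq_one_iff.1 (Nat.eq_one_of_dvd_coprimes (hc.pow_right k) dvd_rfl
      (orderOf_dvd_of_pow_eq_one (congrArg Subtype.val hk)))
  have hq : ∀ q : ℕ, q.Prime → q ∣ (pPrimeCore p G).index → q ≠ p → q < p := fun q hq hd hne => by
    haveI := Fact.mk hq
    obtain ⟨x, hx⟩ := exists_prime_orderOf_dvd_card' (G := G ⧸ pPrimeCore p G) q hd
    refine hlt q x hq hne hx fun hc => ?_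
    have h1 := hfix x (hx ▸ (Nat.coprime_primes hq hpp).2 hne) hc
    rw [h1, orderOf_one] at hx
    exact hq.ne_one hx.symm
  have hD : commutator G ≤ pPrimePCore p G := by
    intro g hg
    have hmap : π g ∈ commutator (G ⧸ pPrimeCore p G) := by
      have := Subgroup.mem_map_of_mem π hg
      rw [commutator_def, Subgroup.map_commutator] at this
      exact Subgroup.commutator_mono le_top le_top this
    have hp' : IsPGroup p (commutator (G ⧸ pPrimeCore p G)) :=
      PComplement.isPrimePow_orderOf_of_forall fun a ha hac => hfix a hac (hder a ha hac)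
    exact PCore.le_pCore hp' hmap
  have hcop : ((pPrimePCore p G).index).Coprime p :=
    Nat.Coprime.coprime_dvd_left (Subgroup.index_dvd_of_le hS)
      ((hpp.coprime_iff_not_dvd.2 S.not_dvd_index).symm)
  have hcomp : ∀ q, (∀ r : ℕ, r.Prime → r ∣ (pPrimeCore p G).index → r = p) → q = p →
      HasNormalPComplement p G := fun q h _ => by
    exact hasNormalPComplement_of_normal (pPrimeCore p G) PCore.coprime_card_pPrimeCore
      (Nat.eq_prime_pow_of_unique_prime_dvd Subgroup.index_ne_zero_of_finite fun {d} hd hdd => h d hd hdd)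
  refine ⟨fun q hq' hd => ?_, fun h => hcomp p (fun r hr hd => ?_) rfl, ?_, ?_, hD, hcop⟩
  · rcases eq_or_ne q p with rfl | hne
    · exact le_rfl
    · exact (hq q hq' hd hne).le
  · by_contra hne
    have h1 := hq r hr hd hne
    have h2 : r ∣ Nat.card G := hd.trans (Subgroup.index_dvd_card _)
    rcases h with rfl | h
    · have : r = 2 := le_antisymm (by omega) hr.two_le
      subst this
      exact (Nat.not_even_iff_odd.2 hodd) (even_iff_two_dvd.2 h2)
    · exact absurd (h r hr h2) (by omega)
  all_goals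
    set N := (pPrimeCore p G).subgroupOf (commutator G) with hN
    haveI : N.Normal := inferInstanceAs ((pPrimeCore p G).subgroupOf (commutator G)).Normal
    have hNc : (Nat.card N).Coprime p := by
      refine Nat.Coprime.coprime_dvd_left ?_ (PCore.coprime_card_pPrimeCore (G := G) (p := p))
      exact Subgroup.card_comap_dvd_of_injective (pPrimeCore p G) (commutator G).subtype
        (commutator G).subtype_injective
    have hIm : IsPGroup p ((commutator G).map π) := (PCore.isPGroup_pCore (p := p)).to_le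
      (Subgroup.map_le_iff_le_comap.2 hD)
  · obtain ⟨k, hk⟩ := hIm.exists_card_eq
    refine hasNormalPComplement_of_normal N hNc (k := k) ?_
    rw [← hk, hN, ← Subgroup.relIndex, ← Subgroup.relIndex_ker, QuotientGroup.ker_mk']
  · intro L hL l hl
    refine PCore.le_pPrimeCore hNc ?_
    show (l : G) ∈ pPrimeCore p G
    rw [← QuotientGroup.eq_one_iff (N := pPrimeCore p G), ← orderOf_eq_one_iff]
    obtain ⟨k, hk⟩ := hIm ⟨π l, ⟨l, l.2, rfl⟩⟩
    refine Nat.eq_one_of_dvd_coprimes (hL.pow_right k) ?_ (orderOf_dvd_of_pow_eq_one (congrArg Subtype.val hk))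
    exact ((orderOf_map_dvd π (l : G)).trans (Subgroup.orderOf_coe l).dvd).trans
      (Subgroup.orderOf_dvd_natCard _ hl)

omit [Group.IsSolvable G] in
theorem pRankLE_quotient_sylow (S : Sylow p G) {k : ℕ} (hr : PRankLE p k (S : Subgroup G)) :
    PRankLE p k ((S : Subgroup G).map (QuotientGroup.mk' (pPrimeCore p G))) := by
  set π := QuotientGroup.mk' (pPrimeCore p G) with hπ
  have hinj : Function.Injective (π.subgroupMap (S : Subgroup G)) := by
    rw [← MonoidHom.ker_eq_bot_iff, Subgroup.eq_bot_iff_forall]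
    intro x hx
    have h1 : (x : G) ∈ (S : Subgroup G) ⊓ pPrimeCore p G :=
      ⟨x.2, (QuotientGroup.eq_one_iff (x : G)).1 (congrArg Subtype.val hx)⟩
    rw [(PCore.disjoint_of_isPGroup_of_coprime S.2 PCore.coprime_card_pPrimeCore).eq_bot,
      Subgroup.mem_bot] at h1
    exact Subtype.ext h1
  let e := MulEquiv.ofBijective _ ⟨hinj, π.subgroupMap_surjective (S : Subgroup G)⟩
  exact pRankLE_of_injective (f := e.symm.toMonoidHom) e.symm.injective hr

/-- The rank two action. -/
theorem action_of_rankTwo (hodd : Odd (Nat.card G)) (hpG : p ∣ Nat.card G) (U : Subgroup G) [U.Normal]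
    (hU : IsPGroup p U) (hr : PRankLE p 2 U) :
    (∀ x ∈ commutator G, (orderOf x).Coprime p → x ∈ centralizer (U : Set G)) ∧
      ∀ (q : ℕ) (x : G), q.Prime → q ≠ p → orderOf x = q → x ∉ centralizer (U : Set G) → q < p := by
  have hp := ne_two_of_odd_of_dvd hodd hpG
  refine ⟨fun x hx hc => commutator_mem_centralizer_of_rankTwo hodd U hU hr hx hc,
    fun q x hq hne hord hx => ?_⟩
  haveI := Fact.mk hq
  obtain ⟨D, hDn, V, hVn, hVp, hV2, hcent⟩ := exists_rankTwo_section hp U hU hr
  have hq2 : q ≠ 2 := ne_two_of_odd_of_dvd hodd (hord ▸ orderOf_dvd_natCard x)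
  refine prime_lt_of_small_action hp hq hq2 hne V hVp hV2 (x := QuotientGroup.mk' D x) ?_ ?_
  · rw [← map_pow, ← hord, pow_orderOf_eq_one, map_one]
    exact one_mem _
  · exact fun h => hx (hcent x (hord ▸ (Nat.coprime_primes hq Fact.out).2 hne) h)

end Cfsg.Agent.OddOrder
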