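import Cfsg.Agent.Lib.OddOrder.Narrow
import Cfsg.Agent.Lib.OddOrder.RankTwoStructure
import Cfsg.Agent.Lib.OddOrder.PLengthOne

/-!
# Structure of solvable groups of odd order with a Sylow subgroup of rank two, or of `p`-length one
with a maximal elementary abelian subgroup of order `p²` in a Sylow subgroup
-/

set_option autoImplicit false

namespace Cfsg.Agent.OddOrder

open Cfsg

theorem structure_of_maximal_square {G : Type*} [Group G] [Finite G] [Group.IsSolvable G]
    (hodd : Odd (Nat.card G)) (p : ℕ) [Fact p.Prime] (hpG : p ∣ Nat.card G) (S : Sylow p G)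
    (h : PRankLE p 2 ↥(S : Subgroup G) ∨ (PLengthLE p 1 G ∧ ∃ E : Subgroup ↥(S : Subgroup G),
      IsElementaryAbelian p E ∧ Nat.card E = p ^ 2 ∧
        ∀ B : Subgroup ↥(S : Subgroup G), IsElementaryAbelian p B → E ≤ B → B = E)) :
    (∀ q : ℕ, q.Prime → q ∣ (pPrimeCore p G).index → q ≤ p) ∧
      ((p = 3 ∨ ∀ q : ℕ, q.Prime → q ∣ Nat.card G → p ≤ q) → HasNormalPComplement p G) ∧
      HasNormalPComplement p ↥(commutator G) ∧
      (∀ L : Subgroup ↥(commutator G), (Nat.card L).Coprime p → L ≤ pPrimeCore p ↥(commutator G)) ∧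
      commutator G ≤ pPrimePCore p G ∧ ((pPrimePCore p G).index).Coprime p := by
  have hodd' := odd_quotient hodd (pPrimeCore p G)
  have hd : p ∣ Nat.card (G ⧸ pPrimeCore p G) := by
    have h1 := (pPrimeCore p G).card_mul_index
    exact (((Fact.out : p.Prime).dvd_mul).1 (h1.symm ▸ hpG)).resolve_left PCore.not_dvd_card_pPrimeCore
  by_cases hrS : PRankLE p 2 (S : Subgroup G)
  · have hle := sylow_le_pPrimePCore_of_rankTwo hodd S hrS
    obtain ⟨h1, h2⟩ := action_of_rankTwo hodd' hd _ PCore.isPGroup_pCore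
      (pRankLE_of_le (PCore.pCore_le_sylow (S.mapSurjective (QuotientGroup.mk'_surjective _)))
        (pRankLE_quotient_sylow S hrS))
    exact structure_of_action hodd S hle h1 h2
  have hle : (S : Subgroup G) ≤ pPrimePCore p G := le_pPrimePCore_of_pLength (h.resolve_left hrS).1 S.2
  have hp := ne_two_of_odd_of_dvd hodd hpG
  obtain ⟨E, hE, hE2, hEmax⟩ := (h.resolve_left hrS).2
  set π := QuotientGroup.mk' (pPrimeCore p G) with hπ
  set U := pCore p (G ⧸ pPrimeCore p G) with hU
  have hSU : (S : Subgroup G).map π = U := by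
    refine le_antisymm (Subgroup.map_le_iff_le_comap.2 hle) ?_
    have h := PCore.pCore_le_sylow (S.mapSurjective (QuotientGroup.mk'_surjective (pPrimeCore p G)))
    rwa [Sylow.coe_mapSurjective] at h
  let f : (S : Subgroup G) →* U := (π.comp (S : Subgroup G).subtype).codRestrict U fun s =>
    hSU.le ⟨s, s.2, rfl⟩
  have hf : Function.Bijective f := by
    refine ⟨fun a b h => Subtype.ext ?_, fun u => ?_⟩
    · have h1 : (a : G)⁻¹ * b ∈ (S : Subgroup G) ⊓ pPrimeCore p G :=
        ⟨(S : Subgroup G).mul_mem ((S : Subgroup G).inv_mem a.2) b.2, QuotientGroup.eq.1 (congrArg Subtype.val h)⟩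
      rw [(PCore.disjoint_of_isPGroup_of_coprime S.2 PCore.coprime_card_pPrimeCore).eq_bot,
        Subgroup.mem_bot, inv_mul_eq_one] at h1
      exact h1
    · obtain ⟨s, hs, hsu⟩ := hSU.ge u.2
      exact ⟨⟨s, hs⟩, Subtype.ext hsu⟩
  let e := MulEquiv.ofBijective f hf
  have hrU : ¬ PRankLE p 2 U := fun h => hrS (pRankLE_of_injective (f := e.toMonoidHom) e.injective h)
  have hkey := fun (x : G ⧸ pPrimeCore p G) (hc : (orderOf x).Coprime p) hx =>
    mem_centralizer_of_narrow hp U PCore.isPGroup_pCore hrU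
      (E := E.map e.toMonoidHom) (PGroup.isElementaryAbelian_map hE _)
      (by rw [Subgroup.card_map_of_injective (f := e.toMonoidHom) e.injective, hE2])
      (fun B hB hEB => by
        have h1 := hEmax (B.map e.symm.toMonoidHom) (PGroup.isElementaryAbelian_map hB _) (fun a ha =>
          ⟨e a, hEB ⟨a, ha, rfl⟩, e.symm_apply_apply a⟩)
        refine le_antisymm (fun b hb => ⟨e.symm b, h1.le ⟨b, hb, rfl⟩, e.apply_symm_apply b⟩) hEB)
      hc hx
  refine structure_of_action hodd S hle
    (fun x hx hc => hkey x hc fun M N _ _ _ _ h m hm => commutator_mem_of_relIndex_eq h hx hm)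
    fun q x hq hne hord hnc => ?_
  have hp1 : x ^ (p - 1) ∈ Subgroup.centralizer (U : Set (G ⧸ pPrimeCore p G)) :=
    hkey _ ((hord ▸ (Nat.coprime_primes hq Fact.out).2 hne : (orderOf x).Coprime p).coprime_dvd_left
      (orderOf_pow_dvd _)) fun M N _ _ _ _ h m hm => pow_pred_commutator_mem h x hm
  have hdvd : q ∣ p - 1 := by
    by_contra hnd
    refine hnc ?_
    obtain ⟨i, hi⟩ := exists_pow_eq_self_of_coprime
      (show (p - 1).Coprime (orderOf x) from hord ▸ (hq.coprime_iff_not_dvd.2 hnd).symm)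
    rw [← hi]
    exact pow_mem hp1 i
  have h2 := (Fact.out : p.Prime).two_le
  exact lt_of_le_of_lt (Nat.le_of_dvd (by omega) hdvd) (by omega)

end Cfsg.Agent.OddOrder
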