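import Cfsg.Agent.S1408
import Cfsg.Agent.S1414
import Cfsg.Agent.S1415
import Cfsg.Agent.Lib.OddOrder.Exceptional
import Cfsg.Agent.Lib.OddOrder.PLengthEndgame
import Cfsg.Agent.Lib.OddOrder.SylowSetting
import Cfsg.Agent.Lib.IsolatedP.Cyclic

/-!
# `q`-subgroups inverted in an exceptional maximal subgroup

`M` exceptional for `A₀ ≤ A`, `q ∉ σ(M)`, `W = [W, A]` a nontrivial `q`-subgroup centralised by `A₀`:
then `W` is cyclic and normal in `M`, and `M` is exceptional for `q` too.
-/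

set_option autoImplicit false
set_option linter.unusedSectionVars false

namespace Cfsg.Agent.OddOrder

open Cfsg
open Subgroup (centralizer normalizer zpowers)
open scoped Pointwise commutatorElement

universe u
variable {G : Type u} [Group G] [Finite G]

/-- A `q`-subgroup lies in a normal subgroup of index prime to `q`. -/
theorem le_map_of_not_dvd_index {q : ℕ} [Fact q.Prime] {M U : Subgroup G} {N : Subgroup M} [N.Normal]
    (hUM : U ≤ M) (hU : IsPGroup q U) (h : ¬ q ∣ N.index) : U ≤ N.map M.subtype := by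
  intro u hu
  obtain ⟨k, hk⟩ := hU ⟨u, hu⟩
  have hk' : u ^ q ^ k = 1 := congrArg Subtype.val hk
  refine ⟨⟨u, hUM hu⟩, (QuotientGroup.eq_one_iff _).1 (orderOf_eq_one_iff.1 (Nat.eq_one_of_dvd_coprimes
    (((Fact.out : q.Prime).coprime_iff_not_dvd.2 h).pow_left k) ?_ ?_)), rfl⟩
  · refine orderOf_dvd_of_pow_eq_one ?_
    rw [← QuotientGroup.mk_pow, show (⟨u, hUM hu⟩ : M) ^ q ^ k = 1 from Subtype.ext hk', QuotientGroup.mk_one]
  · rw [Subgroup.index_eq_card]
    exact orderOf_dvd_natCard _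

/-- A normal `q`-subgroup lies in every Sylow `q`-subgroup. -/
theorem le_sylow_of_normal {q : ℕ} [Fact q.Prime] {M D : Subgroup G} (hDM : D ≤ M) (hD : IsPGroup q D)
    (hn : M ≤ normalizer (D : Set G)) (S : Sylow q M) : D ≤ (S : Subgroup M).map M.subtype := by
  haveI : (D.subgroupOf M).Normal := Coprime.normal_subgroupOf_of_le_normalizer hn
  have h := S.is_maximal' (Q := (S : Subgroup M) ⊔ D.subgroupOf M)
    (S.2.to_sup_of_normal_right' (hD.comap_subtype) PLengthCommutator.le_normalizer_of_normal) le_sup_left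
  exact fun d hd => ⟨⟨d, hDM hd⟩, h.le (Subgroup.mem_sup_right (show (⟨d, hDM hd⟩ : M) ∈ D.subgroupOf M from hd)), rfl⟩

theorem eq_of_card_eq_cyclic {D X Y : Subgroup G} (hD : IsCyclic D) (hX : X ≤ D) (hY : Y ≤ D)
    (h : Nat.card X = Nat.card Y) : X = Y := by
  classical
  haveI := Fintype.ofFinite D
  have key : ∀ L : Subgroup D, Nat.card L = Nat.card X →
      (L : Set D).toFinset = Finset.univ.filter fun x => x ^ Nat.card X = 1 := fun L hL => by
    refine Finset.eq_of_subset_of_card_le (fun x hx => ?_) ?_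
    · rw [Set.mem_toFinset, SetLike.mem_coe] at hx
      refine Finset.mem_filter.2 ⟨Finset.mem_univ _, ?_⟩
      rw [← hL]
      have := congrArg Subtype.val (pow_card_eq_one' (x := (⟨x, hx⟩ : L)))
      rwa [SubgroupClass.coe_pow, OneMemClass.coe_one] at this
    · refine (IsCyclic.card_pow_eq_one_le Nat.card_pos).trans (le_of_eq ?_)
      rw [← hL]
      exact Nat.card_eq_card_toFinset (L : Set D)
  have h2 := (key (X.subgroupOf D) (Coprime.card_subgroupOf hX)).trans
    (key (Y.subgroupOf D) ((Coprime.card_subgroupOf hY).trans h.symm)).symm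
  rw [Set.toFinset_inj, SetLike.coe_set_eq] at h2
  rw [← Subgroup.map_subgroupOf_eq_of_le hX, h2, Subgroup.map_subgroupOf_eq_of_le hY]

theorem normalizer_le_normalizer_omegaOne (q : ℕ) (Z : Subgroup G) :
    normalizer (Z : Set G) ≤ normalizer (omegaOne q Z : Set G) := fun g hg => by
  rw [Subgroup.mem_normalizer_iff_map_conj_eq] at hg ⊢
  rw [PGroup.map_omegaOne_of_injective (MulAut.conj g).injective, hg]

/-- A conjugate of `X` inside a cyclic `D` of the same order is `X`. -/
theorem normalizer_le_of_cyclic {D X : Subgroup G} (hD : IsCyclic D) (hX : X ≤ D) :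
    normalizer (D : Set G) ≤ normalizer (X : Set G) := fun g hg =>
  Coprime.mem_normalizer_of_conj_smul_eq (eq_of_card_eq_cyclic hD
    ((Subgroup.pointwise_smul_le_pointwise_smul_iff.2 hX).trans (Coprime.conj_smul_eq_self_of_mem hg).le)
    hX (Coprime.card_conj_smul _ _))

/-- `W = [x, W]` centralises an `r`-group on which `x` is fixed-point-free. -/
theorem le_centralizer_of_fpf_frattini {X : Type*} [Group X] [Finite X] [Group.IsSolvable X]
    (hodd : Odd (Nat.card X)) (R W : Subgroup X) [R.Normal] {r : ℕ} [Fact r.Prime] (hR : IsPGroup r R)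
    (x : X) (hx : (orderOf x).Prime) (hxr : orderOf x ≠ r) (hxW : x ∈ normalizer (W : Set X))
    (hxcop : (orderOf x).Coprime (Nat.card W)) (hrW : ¬ r ∣ Nat.card W)
    (hWx : ⁅zpowers x, W⁆ = W) (hfix : R ⊓ centralizer ({x} : Set X) = ⊥) :
    W ≤ centralizer (R : Set X) := by
  classical
  set Φ : Subgroup X := (frattini R).map R.subtype with hΦ
  haveI : Φ.Normal := ConjAct.normal_of_characteristic_of_normal
  let f := QuotientGroup.mk' Φ
  set V := R.map f with hV
  haveI : Group.IsSolvable (X ⧸ Φ) :=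
    Group.isSolvable_of_surjective (QuotientGroup.mk'_surjective Φ)
  have hVr : IsPGroup r V := hR.map f
  have hfr : frattini V = ⊥ := by
    rw [← PGroup.map_frattini hR (f.subgroupMap R) (f.subgroupMap_surjective R), Subgroup.map_eq_bot_iff]
    intro a ha
    rw [MonoidHom.mem_ker]
    exact Subtype.ext ((QuotientGroup.eq_one_iff (a : X)).2 ⟨a, ha, rfl⟩)
  obtain ⟨hVc, hVe⟩ := (PGroup.frattini_eq_bot_iff hVr).1 hfr
  have hVel : IsElementaryAbelian r V :=
    ⟨hVc, fun a ha => by simpa using congrArg Subtype.val (hVe ⟨a, ha⟩)⟩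
  have hcopxR : (Nat.card (zpowers x)).Coprime (Nat.card R) := by
    obtain ⟨e, he⟩ := hR.exists_card_eq
    rw [he, Nat.card_zpowers]
    exact ((Nat.coprime_primes hx Fact.out).2 hxr).pow_right e
  have hCV : V ⊓ centralizer ({f x} : Set (X ⧸ Φ)) = ⊥ := by
    rw [eq_bot_iff]
    intro w hw
    have h2 : w ∈ V ⊓ centralizer (((zpowers x).map f : Subgroup _) : Set (X ⧸ Φ)) := ⟨hw.1, by
      rw [MonoidHom.map_zpowers]
      exact Subgroup.mem_centralizer_iff.2 fun y hy =>
        (commute_of_mem_zpowers (Subgroup.mem_centralizer_singleton_iff.1 hw.2) hy).eq.symm⟩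
    rw [hV, ← Coprime.map_mk'_inf_centralizer Φ (PLengthCommutator.le_normalizer_of_normal) hcopxR
      (Or.inr inferInstance)] at h2
    obtain ⟨c, hc, rfl⟩ := h2
    have hc1 : c ∈ R ⊓ centralizer ({x} : Set X) := ⟨hc.1, Subgroup.mem_centralizer_singleton_iff.2
      (Subgroup.mem_centralizer_iff.1 hc.2 x (Subgroup.mem_zpowers x)).symm⟩
    rw [hfix, Subgroup.mem_bot] at hc1
    rw [hc1, map_one]
    exact Subgroup.one_mem _
  have hfxr : orderOf (f x) = orderOf x := by
    refine (((Nat.dvd_prime hx).1 (orderOf_map_dvd f x)).resolve_left fun h => ?_)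
    have h1 : x ∈ Φ := (QuotientGroup.eq_one_iff x).1 (orderOf_eq_one_iff.1 h)
    have h3 : orderOf x ∣ Nat.card R := Subgroup.orderOf_dvd_natCard R (Subgroup.map_subtype_le _ h1)
    exact hx.ne_one (Nat.eq_one_of_dvd_coprimes (Nat.card_zpowers x ▸ hcopxR) dvd_rfl h3)
  haveI hVn : V.Normal := Subgroup.Normal.map inferInstance f (QuotientGroup.mk'_surjective Φ)
  have hkey := PLengthEndgame.commutator_le_centralizer (Odd.of_dvd_nat hodd (Subgroup.card_quotient_dvd_card Φ))
    V (W.map f) hVel (f x) (hfxr ▸ hx) PLengthCommutator.le_normalizer_of_normal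
    (PLengthCommutator.le_normalizer_of_normal (A := (⊤ : Subgroup (X ⧸ Φ))) (Subgroup.mem_top _))
    (Subgroup.le_normalizer_map f (Subgroup.mem_map_of_mem f hxW)) (hfxr ▸ hxr)
    (hfxr ▸ hxcop.coprime_dvd_right (Subgroup.card_map_dvd _ _))
    (fun h => hrW (h.trans (Subgroup.card_map_dvd _ _))) hCV
  rw [← MonoidHom.map_zpowers, ← Subgroup.map_commutator, hWx] at hkey
  refine Coprime.le_centralizer_of_frattini PLengthCommutator.le_normalizer_of_normal ?_ fun w hw k hk => ?_
  · obtain ⟨e, he⟩ := (hR.to_subgroup (frattini R)).exists_card_eq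
    rw [he]
    exact (((Fact.out : r.Prime).coprime_iff_not_dvd.2 hrW).symm).pow_right e
  · refine (QuotientGroup.eq_one_iff _).1 ?_
    show f (w * k * w⁻¹ * k⁻¹) = 1
    rw [map_mul, map_mul, map_mul,
      ← Subgroup.mem_centralizer_iff.1 (hkey (Subgroup.mem_map_of_mem f hw)) _ (Subgroup.mem_map_of_mem f hk),
      map_inv, map_inv, mul_inv_cancel_right, mul_inv_cancel]

/-- A `q`-subgroup of a normal nilpotent subgroup lies in a normal `q`-subgroup. -/
theorem exists_normal_pgroup_ge {q : ℕ} [Fact q.Prime] {M C U : Subgroup G} (hC : Group.IsNilpotent C)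
    (hn : M ≤ normalizer (C : Set G)) (hUC : U ≤ C) (hU : IsPGroup q U) :
    ∃ D : Subgroup G, D ≤ C ∧ IsPGroup q D ∧ U ≤ D ∧ M ≤ normalizer (D : Set G) := by
  obtain ⟨S, hS⟩ := exists_sylow_map_ge hU hUC
  haveI : (S : Subgroup C).Normal := by
    haveI := hC
    exact Sylow.normal_of_normalizerCondition Group.normalizerCondition_of_isNilpotent S
  exact ⟨pOf q C, pOf_le C, isPGroup_pOf C, hS.trans (le_pOf (Subgroup.map_subtype_le _)
    (le_normalizer_map_of_normal _) (S.2.map _)), hn.trans (normalizer_le_normalizer_pOf C)⟩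

/-- An elementary subgroup of order `q²` inside every Sylow subgroup. -/
theorem exists_square_le {q : ℕ} [Fact q.Prime] {M : Subgroup G} (hr : ¬ PRankLE q 1 M)
    (S : Sylow q M) :
    ∃ E : Subgroup G, E ≤ (S : Subgroup M).map M.subtype ∧ IsElementaryAbelian q E ∧ Nat.card E = q ^ 2 := by
  simp only [PRankLE, not_forall, not_le, pow_one] at hr
  obtain ⟨E, hE, hEp, hlt⟩ := hr
  have hel : IsElementaryAbelian q E := ⟨hE, hEp⟩
  obtain ⟨k, hk⟩ := (PGroup.isPGroup_of_elementaryAbelian hel).exists_card_eq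
  have h2 : 2 ≤ k := by
    by_contra h
    rw [hk] at hlt
    exact absurd ((Nat.pow_le_pow_right (Fact.out : q.Prime).pos (by omega : k ≤ 1)).trans_eq (pow_one q)) (by omega)
  obtain ⟨F, hF⟩ := Sylow.exists_subgroup_card_pow_prime q (G := E) (n := 2) (hk ▸ pow_dvd_pow q h2)
  set F' := F.map E.subtype with hF'
  have hF'el : IsElementaryAbelian q F' := PGroup.isElementaryAbelian_mono hel (Subgroup.map_subtype_le _)
  obtain ⟨T, hT⟩ := (PGroup.isPGroup_of_elementaryAbelian hF'el).exists_le_sylow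
  obtain ⟨m, hm⟩ := MulAction.exists_smul_eq M T S
  refine ⟨MulAut.conj (m : G) • F'.map M.subtype, ?_,
    PGroup.isElementaryAbelian_map (PGroup.isElementaryAbelian_map hF'el _) _, ?_⟩
  · rw [← hm, Sylow.coe_subgroup_smul, Coprime.map_conj_smul]
    exact Subgroup.pointwise_smul_le_pointwise_smul_iff.2 (Subgroup.map_mono hT)
  · rw [Coprime.card_conj_smul, Subgroup.card_map_of_injective M.subtype_injective,
      hF', Subgroup.card_map_of_injective E.subtype_injective, hF]

/-- A nontrivial `p`-subgroup has a central element of order `p`. -/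
theorem exists_central_pow_eq_one {p : ℕ} [Fact p.Prime] {P : Subgroup G} (hP : IsPGroup p P)
    (h1 : P ≠ ⊥) : ∃ z ∈ P, z ≠ 1 ∧ z ^ p = 1 ∧ P ≤ centralizer ({z} : Set G) := by
  haveI : Nontrivial P := (Subgroup.nontrivial_iff_ne_bot P).2 h1
  obtain ⟨k, hk⟩ := (hP.to_subgroup (Subgroup.center P)).exists_card_eq
  have hd : p ∣ Nat.card (Subgroup.center P) := by
    have := hP.center_nontrivial
    rw [hk]
    exact dvd_pow_self p fun e => absurd (hk.trans (by rw [e, pow_zero])) Finite.one_lt_card.ne'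
  obtain ⟨⟨z, hz⟩, hzo⟩ := exists_prime_orderOf_dvd_card' p hd
  rw [Subgroup.orderOf_mk, ← Subgroup.orderOf_coe] at hzo
  refine ⟨z, z.2, fun e => ?_, hzo ▸ pow_orderOf_eq_one (z : G), fun y hy =>
    Subgroup.mem_centralizer_singleton_iff.2 (congrArg Subtype.val (Subgroup.mem_center_iff.1 hz ⟨y, hy⟩))⟩
  rw [e, orderOf_one] at hzo
  exact (Fact.out : p.Prime).ne_one hzo.symm

theorem not_beta {M : Subgroup G} (hG : IsMinSimpleOddOrder G) (hM : IsCoatom M) {q : ℕ}
    (h : q ∉ Cfsg.sigma M) : q ∉ beta M := fun hb => h (alpha_subset_sigma hG hM hb.1)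

/-- A normal `q`-subgroup of `M` centralising `M_σ`, `q ∉ σ(M)`, is cyclic. -/
theorem normal_cyclic_data (hG : IsMinSimpleOddOrder G) {M : Subgroup G}
    (hM : IsCoatom M) {q : ℕ} [Fact q.Prime] (hq : q ∉ Cfsg.sigma M) {D : Subgroup G} (hDM : D ≤ M)
    (hD : IsPGroup q D) (hDn : M ≤ normalizer (D : Set G))
    (hDc : D ≤ centralizer (sigmaCore M : Set G)) (hD1 : D ≠ ⊥) :
    IsCyclic D ∧ ∃ B₀ : Subgroup G, Nat.card B₀ = q ∧ (∀ x ∈ D, x ^ q = 1 → x ∈ B₀) ∧
      normalizer (B₀ : Set G) ≤ M ∧ ∀ S : Sylow q M, ∃ B : Subgroup G, Exc q M B B₀ ∧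
        B ≤ (S : Subgroup M).map M.subtype ∧ (∀ x ∈ (S : Subgroup M).map M.subtype, x ^ q = 1 → x ∈ B) ∧
        (S : Subgroup M).map M.subtype ≤ centralizer (B : Set G) := by
  have hq2 : q ≠ 2 := ne_two_of_minSimple hG hD hD1
  have hr2 : PRankLE q 2 M := by
    by_contra hr
    exact hq (alpha_subset_sigma hG hM ⟨Fact.out, hr⟩)
  have hqM : q ∣ Nat.card M := by
    obtain ⟨k, hk⟩ := hD.exists_card_eq
    exact (dvd_pow_self q fun e => hD1 (Subgroup.card_eq_one.1 (by rw [hk, e, pow_zero]))).trans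
      (hk ▸ Subgroup.card_dvd_of_le hDM)
  obtain ⟨S₀⟩ : Nonempty (Sylow q M) := inferInstance
  set T₀ := (S₀ : Subgroup M).map M.subtype with hT₀
  have hT₀M : T₀ ≤ M := Subgroup.map_subtype_le _
  have hnN : ¬ normalizer (T₀ : Set G) ≤ M := fun hle => hq ⟨Fact.out, hqM, S₀, hle⟩
  have hr1 : ¬ PRankLE q 1 M := by
    intro hr
    have hc : IsCyclic T₀ := IsolatedP.isCyclic_of_pRankLE_one hq2 (S₀.2.map _) (pRankLE_of_le hT₀M hr)
    exact hnN ((normalizer_le_of_cyclic hc (le_sylow_of_normal hDM hD hDn S₀)).trans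
      (normalizer_eq_of_normal hG hM hDM hDn hD1).le)
  obtain ⟨-, hmax8⟩ := S1408.result hG M hM q hq hr2 hr1
  -- `Ω₁(Z(D))`
  set Z := D ⊓ centralizer (D : Set G) with hZ
  have hZc : IsMulCommutative Z := PGroup.isMulCommutative_of_forall fun a ha b hb =>
    (Subgroup.mem_centralizer_iff.1 ha.2 b hb.1).symm
  set Ω := omegaOne q Z with hΩ
  have hΩel : IsElementaryAbelian q Ω := PGroup.isElementaryAbelian_omegaOne hZc
  have hΩD : Ω ≤ D := (PGroup.omegaOne_le Z).trans inf_le_left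
  have hΩn : M ≤ normalizer (Ω : Set G) := (Coprime.le_normalizer_inf_of_le hDn
    (Coprime.le_normalizer_centralizer hDn)).trans (normalizer_le_normalizer_omegaOne q Z)
  have hmemΩ : ∀ x ∈ D, x ^ q = 1 → D ≤ centralizer ({x} : Set G) → x ∈ Ω := fun x hx hxq hxc =>
    PGroup.mem_omegaOne_of_pow_eq_one (show x ∈ Z from ⟨hx, Subgroup.mem_centralizer_iff.2 fun d hd =>
      Subgroup.mem_centralizer_singleton_iff.1 (hxc hd)⟩) hxq
  have hΩ1 : Ω ≠ ⊥ := by
    obtain ⟨z, hz, hz1, hzq, hzc⟩ := exists_central_pow_eq_one hD hD1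
    intro e
    have := hmemΩ z hz hzq hzc
    rw [e, Subgroup.mem_bot] at this
    exact hz1 this
  obtain ⟨k, hk⟩ := (PGroup.isPGroup_of_elementaryAbelian hΩel).exists_card_eq
  have hk0 : k ≠ 0 := fun e => hΩ1 (Subgroup.card_eq_one.1 (by rw [hk, e, pow_zero]))
  have hk2 : k ≤ 2 := by
    have h2 := hr2 (Ω.subgroupOf M) (PGroup.isMulCommutative_of_forall fun a ha b hb =>
      Subtype.ext (PGroup.mul_comm_of_elementaryAbelian hΩel ha hb)) fun a ha => Subtype.ext (hΩel.2 _ ha)
    rw [Coprime.card_subgroupOf (hΩD.trans hDM), hk] at h2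
    exact (Nat.pow_le_pow_iff_right (Fact.out : q.Prime).one_lt).1 h2
  have hΩM : normalizer (Ω : Set G) = M := normalizer_eq_of_normal hG hM (hΩD.trans hDM) hΩn hΩ1
  have hΩq : Nat.card Ω = q := by
    rcases (show k = 1 ∨ k = 2 by omega) with e | e
    · rw [hk, e, pow_one]
    exfalso
    subst e
    have hset : TISetting q M Ω := ⟨hG, hM, hΩD.trans hDM, hΩel, hk,
      (Subgroup.centralizer_le_normalizer _).trans hΩM.le, hq⟩
    have hT₀p : IsPGroup q T₀ := S₀.2.map _
    have hΩT : Ω ≤ T₀ := hΩD.trans (le_sylow_of_normal hDM hD hDn S₀)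
    by_cases hcen : T₀ ≤ centralizer (Ω : Set G)
    · refine hnN ((normalizer_le_normalizer_omegaOne q T₀).trans ?_)
      have e2 : omegaOne q T₀ = Ω := le_antisymm
        (PGroup.omegaOne_le_iff.2 fun x hx hxq => hset.hmax x (hcen hx) hxq)
        (fun x hx => PGroup.mem_omegaOne_of_pow_eq_one (hΩT hx) (hΩel.2 x hx))
      rw [e2, hΩM]
    · obtain ⟨z, hz, hz1, hzq, hzc⟩ := exists_central_pow_eq_one hT₀p
        (fun e => hΩ1 (le_bot_iff.1 (e ▸ hΩT)))
      have hzΩ : z ∈ Ω := hset.hmax z (Subgroup.mem_centralizer_iff.2 fun a ha =>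
        Subgroup.mem_centralizer_singleton_iff.1 (hzc (hΩT ha))) hzq
      obtain ⟨g, hg, hgM⟩ := SetLike.not_le_iff_exists.1 hnN
      have hgc : T₀ ≤ centralizer ({g * z * g⁻¹} : Set G) := by
        rw [← conj_smul_centralizer]
        exact (Coprime.conj_smul_eq_self_of_mem hg).ge.trans (Subgroup.pointwise_smul_le_pointwise_smul_iff.2 hzc)
      have hgzq : (g * z * g⁻¹) ^ q = 1 := by rw [conj_pow, hzq, mul_one, mul_inv_cancel]
      have hgzΩ : g * z * g⁻¹ ∈ Ω := hset.hmax _ (Subgroup.mem_centralizer_iff.2 fun a ha =>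
        Subgroup.mem_centralizer_singleton_iff.1 (hgc (hΩT ha))) hgzq
      have hgz : g * z * g⁻¹ ∈ zpowers z := by
        by_contra hne
        refine hcen fun t ht => Subgroup.mem_centralizer_iff.2 fun a ha => ?_
        exact (commute_of_sup (Subgroup.mem_centralizer_singleton_iff.1 (hzc ht))
          (Subgroup.mem_centralizer_singleton_iff.1 (hgc ht))
          ((square_eq_sup hΩel hk hzΩ hz1 hgzΩ hne).ge ha)).symm.eq
      have hzz : z ∈ zpowers (g * z * g⁻¹) := by
        have e3 : zpowers (g * z * g⁻¹) = zpowers z := Subgroup.eq_of_le_of_card_ge (Subgroup.zpowers_le.2 hgz)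
          (by rw [Nat.card_zpowers, Nat.card_zpowers, orderOf_eq_prime hzq hz1,
            orderOf_eq_prime hgzq (fun e => hz1 (by simpa using e))])
        exact e3 ▸ Subgroup.mem_zpowers z
      have hbot := hset.sigmaCore_inf_centralizer_eq_bot hT₀M hT₀p hΩT hgM hg hz1 hzc fun y hy =>
        Subgroup.mem_centralizer_singleton_iff.2
          (commute_of_mem_zpowers (Subgroup.mem_centralizer_singleton_iff.1 hy) hzz).eq
      refine sigmaCore_ne_bot hG hM (eq_bot_iff.2 fun y hy => ?_)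
      rw [← hbot]
      exact ⟨hy, Subgroup.mem_centralizer_singleton_iff.2
        (Subgroup.mem_centralizer_iff.1 (hDc (hΩD hzΩ)) y hy)⟩
  obtain ⟨x₀, hx₀, hx₀1⟩ := (Subgroup.bot_or_exists_ne_one Ω).resolve_left hΩ1
  -- the elementary subgroups
  have hS : ∀ S : Sylow q M, ∃ B : Subgroup G, Exc q M B Ω ∧ B ≤ (S : Subgroup M).map M.subtype ∧
      (∀ x ∈ (S : Subgroup M).map M.subtype, x ^ q = 1 → x ∈ B) ∧
      (S : Subgroup M).map M.subtype ≤ centralizer (B : Set G) := by
    intro S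
    set T := (S : Subgroup M).map M.subtype with hT
    have hTp : IsPGroup q T := S.2.map _
    obtain ⟨E, hET, hE, hEc⟩ := exists_square_le hr1 S
    have hΩT : Ω ≤ T := hΩD.trans (le_sylow_of_normal hDM hD hDn S)
    have hTΩ : T ≤ normalizer (Ω : Set G) := (Subgroup.map_subtype_le _).trans hΩn
    have hbot : ⁅Ω, T⁆ = ⊥ := by
      have hlt := Coprime.commutator_lt_of_isPGroup hTp (PGroup.isPGroup_of_elementaryAbelian hΩel) hTΩ hΩ1
      rcases (Nat.dvd_prime (Fact.out : q.Prime)).1 (hΩq ▸ Subgroup.card_dvd_of_le hlt.le) with e | e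
      · exact Subgroup.card_eq_one.1 e
      · exact absurd (Subgroup.eq_of_le_of_card_ge hlt.le (by rw [e, hΩq])) hlt.ne
    have hΩE : Ω ≤ E := fun x hx =>
      mem_of_pow_eq_one_of_rank hE hEc hr2 (hET.trans (Subgroup.map_subtype_le _)) (hDM (hΩD hx))
        (Subgroup.mem_centralizer_iff.2 fun a ha => (commutatorElement_eq_one_iff_mul_comm.1 (by
          have := Subgroup.commutator_mem_commutator hx (hET ha)
          rwa [hbot, Subgroup.mem_bot] at this)).symm) (hΩel.2 x hx)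
    have hexc : Exc q M E Ω := ⟨hG, hM, hET.trans (Subgroup.map_subtype_le _), hE, hEc, hΩE, hΩq, hΩM.le, hq⟩
    exact ⟨E, hexc, hET, fun x hx hxq => hexc.mem_of_sylow S hET hx hxq, hexc.le_centralizer_of_sylow S hET⟩
  -- `D` is cyclic
  obtain ⟨B, hB, hBT, hBmem, hBc⟩ := hS S₀
  have hDT : D ≤ T₀ := le_sylow_of_normal hDM hD hDn S₀
  have hmem : ∀ x ∈ D, x ^ q = 1 → x ∈ Ω := fun x hx hxq => hmemΩ x hx hxq fun d hd =>
    Subgroup.mem_centralizer_singleton_iff.2
      (Subgroup.mem_centralizer_iff.1 (hBc (hDT hd)) x (hBmem x (hDT hx) hxq)).symm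
  haveI hDcyc : IsCyclic D := IsolatedP.isCyclic_of_pRankLE_one hq2 hD fun E hE hEp => by
    rw [pow_one, ← hΩq, ← Subgroup.card_map_of_injective D.subtype_injective]
    refine Subgroup.card_le_of_le ?_
    rintro _ ⟨e, he, rfl⟩
    exact hmem e e.2 (congrArg Subtype.val (hEp e he))
  exact ⟨hDcyc, Ω, hΩq, hmem, hΩM.le, hS⟩

/-- The largest normal `q`-subgroup of `M` centralising `M_σ`. -/
def fixedPart (q : ℕ) (M : Subgroup G) : Subgroup G :=
  pOf q (M ⊓ centralizer (sigmaCore M : Set G))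

theorem fixedPart_spec (q : ℕ) (M : Subgroup G) :
    fixedPart q M ≤ M ∧ IsPGroup q (fixedPart q M) ∧ M ≤ normalizer (fixedPart q M : Set G) ∧
      fixedPart q M ≤ centralizer (sigmaCore M : Set G) := by
  refine ⟨(pOf_le _).trans inf_le_left, isPGroup_pOf _, ?_, (pOf_le _).trans inf_le_right⟩
  exact (Coprime.le_normalizer_inf_of_le Subgroup.le_normalizer
    (Coprime.le_normalizer_centralizer (le_normalizer_sigmaCore M))).trans (normalizer_le_normalizer_pOf _)

namespace Exc

variable {p : ℕ} [Fact p.Prime] {M A A₀ : Subgroup G} (h : Exc p M A A₀) {q : ℕ} [Fact q.Prime]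
include h

theorem exists_invariant_sylow_compl (hqp : q ≠ p) (hq : q ∉ Cfsg.sigma M) {W U : Subgroup G}
    (hW : IsPGroup q W) (hWM : W ≤ M) (hWc : ⁅W, A⁆ = W) (hW1 : W ≠ ⊥) (hU : IsPGroup q U)
    (hUM : U ≤ M) (hUA : A ≤ normalizer (U : Set G)) :
    ∃ S : Sylow q M, U ≤ (S : Subgroup M).map M.subtype ∧
      A ≤ normalizer (((S : Subgroup M).map M.subtype : Subgroup G) : Set G) := by
  have hqM : q ∣ Nat.card M := by
    obtain ⟨k, hk⟩ := hW.exists_card_eq
    refine (dvd_pow_self q fun e => hW1 (Subgroup.card_eq_one.1 (by rw [hk, e, pow_zero]))).trans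
      (hk ▸ Subgroup.card_dvd_of_le hWM)
  obtain ⟨-, -, -, -, hkey⟩ := S1414.result h.minSimple M h.coatom
  obtain ⟨-, -, hq2⟩ := hkey q Fact.out hqM (not_beta h.minSimple h.coatom hq)
  obtain ⟨-, -, hp2⟩ := hkey p Fact.out h.setting.dvd_card (not_beta h.minSimple h.coatom h.sigma)
  haveI : ∀ r : ℕ, (pPrimeCore r ↥M).Normal := fun r => PCore.pPrimeCore_normal
  have hAp := PGroup.isPGroup_of_elementaryAbelian h.elem
  have hpq : p < q := by
    refine lt_of_le_of_ne (not_lt.1 fun hlt => hW1 ?_) (Ne.symm hqp)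
    have hA : A ≤ core q M := le_map_of_not_dvd_index h.le hAp fun hd => absurd (hq2 p Fact.out hd) (by omega)
    have h2 : W ≤ core q M := hWc ▸ (Subgroup.commutator_mono hWM hA).trans
      (Subgroup.le_normalizer_iff_commutator_le_right.1 (le_normalizer_core M))
    rw [← le_bot_iff, ← inf_core_eq_bot hW M]
    exact le_inf le_rfl h2
  have hind : ¬ q ∣ (pPrimeCore p ↥M).index := fun hd => absurd (hp2 q Fact.out hd) (by omega)
  set K := core p M
  have hAcop : (Nat.card A).Coprime (Nat.card K) := coprime_of_isPGroup hAp fun hd =>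
    (Fact.out : p.Prime).coprime_iff_not_dvd.1 (coprime_card_core (p := p) M).symm hd
  obtain ⟨P, hUP, hPA⟩ := Coprime.exists_invariant_sylow_ge (h.le.trans (le_normalizer_core M)) hAcop
    (Or.inr (Coprime.isSolvable_of_le (core_le M) (isSolvable_of_coatom h.minSimple h.coatom)))
    (le_map_of_not_dvd_index hUM hU hind) hU hUA
  obtain ⟨S, hS⟩ := exists_sylow_map_ge (P.2.map K.subtype)
    ((Subgroup.map_subtype_le (P : Subgroup K)).trans (core_le M))
  set S' := (S : Subgroup M).map M.subtype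
  have hSK : S' ≤ K := le_map_of_not_dvd_index (Subgroup.map_subtype_le _) (S.2.map _) hind
  have hPS := P.is_maximal' (Q := S'.subgroupOf K) (S.2.map M.subtype).comap_subtype
    fun y hy => hS ⟨y, hy, rfl⟩
  have e : (P : Subgroup K).map K.subtype = S' := by
    rw [← hPS, Subgroup.map_subgroupOf_eq_of_le hSK]
  refine ⟨S, hUP.trans_eq e, ?_⟩
  show A ≤ normalizer (S' : Set G)
  rw [← e]
  exact hPA

/-- `W = [W, A]` centralised by a line of `A` centralises `M_σ`. -/
theorem le_centralizer_sigmaCore (hqp : q ≠ p) (hq : q ∉ Cfsg.sigma M) {W : Subgroup G}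
    (hW : IsPGroup q W) (hWA : A ≤ normalizer (W : Set G)) (hWM : W ≤ M) {x : G} (hxA : x ∈ A)
    (hx1 : x ≠ 1) (hWx : W ≤ centralizer ({x} : Set G)) (hWc : ⁅W, A⁆ = W) :
    W ≤ centralizer (sigmaCore M : Set G) := by
  obtain ⟨b, hbA, hb0, hbo, hfix⟩ := h.exists_fpf_not_mem hxA hx1
  have hW0 : W ≤ centralizer (zpowers x : Set G) := by
    rw [Subgroup.zpowers_eq_closure, Subgroup.centralizer_closure]; exact hWx
  have hWb : ⁅W, zpowers b⁆ = W := by
    refine le_antisymm (Coprime.commutator_le_left_of_le_normalizer ((Subgroup.zpowers_le.2 hbA).trans hWA)) ?_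
    conv_lhs => rw [← hWc]
    refine Subgroup.commutator_le.2 fun w hw a ha => ?_
    have ha' : a ∈ zpowers x ⊔ zpowers b :=
      (square_eq_sup h.elem h.card hxA hx1 hbA hb0).ge ha
    obtain ⟨c, hc, d, hd, rfl⟩ := (Coprime.mem_sup_iff_of_le_normalizer (H := zpowers x) (N := zpowers b)
      (Subgroup.zpowers_le.2 (Subgroup.centralizer_le_normalizer _ (Subgroup.mem_centralizer_iff.2 fun w hw =>
        (commute_of_mem_zpowers (PGroup.mul_comm_of_elementaryAbelian h.elem hxA hbA) hw).eq.symm)))).1 ha'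
    have hd' : ⁅w, d⁆ ∈ W := by
      have := Subgroup.commutator_mem_commutator (G := G) hw ((Subgroup.zpowers_le.2 hbA) hd)
      rwa [hWc] at this
    have h1 : Commute w c := (Subgroup.mem_centralizer_iff.1 (hW0 hw) c hc).symm
    have h2 : Commute c ⁅w, d⁆ := Subgroup.mem_centralizer_iff.1 (hW0 hd') c hc
    have e : ⁅w, c * d⁆ = ⁅w, c⁆ * (c * ⁅w, d⁆ * c⁻¹) := by simp only [commutatorElement_def]; group
    rw [e, commutatorElement_eq_one_iff_mul_comm.2 h1.eq, one_mul, h2.eq, mul_inv_cancel_right]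
    exact Subgroup.commutator_mem_commutator hw hd
  haveI := isSolvable_of_coatom h.minSimple h.coatom
  set K := piCore (Cfsg.sigma M) ↥M with hK
  haveI hKnil : Group.IsNilpotent K := by
    haveI : Group.IsNilpotent ↥(K.map M.subtype) := h.isNilpotent_sigmaCore
    exact Group.nilpotent_of_mulEquiv (K.equivMapOfInjective M.subtype M.subtype_injective).symm
  set W' := W.subgroupOf M with hW'
  set b' : M := ⟨b, h.le hbA⟩ with hb'
  have hWb' : ⁅zpowers b', W'⁆ = W' := Subgroup.map_injective M.subtype_injective (by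
    rw [Subgroup.map_commutator, MonoidHom.map_zpowers, hW', Subgroup.map_subgroupOf_eq_of_le hWM,
      Subgroup.commutator_comm]
    exact hWb)
  have hkey : ∀ r : ℕ, r.Prime → W' ≤ centralizer (((pCore r K).map K.subtype : Subgroup M) : Set M) := by
    intro r hr
    haveI := Fact.mk hr
    set R := (pCore r K).map K.subtype with hR
    rcases eq_or_ne R ⊥ with e | e
    · rw [e]
      intro w _
      exact Subgroup.mem_centralizer_iff.2 fun y hy => by rw [Subgroup.mem_bot.1 hy, one_mul, mul_one]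
    haveI : (pCore r K).Characteristic := PCore.pCore_characteristic
    haveI : R.Normal := ConjAct.normal_of_characteristic_of_normal
    have hRp : IsPGroup r R := PCore.isPGroup_pCore.map _
    have hrs : r ∈ Cfsg.sigma M := by
      obtain ⟨k, hk⟩ := hRp.exists_card_eq
      exact isPiGrp_piCore (Cfsg.sigma M) ↥M r hr ((dvd_pow_self r fun e' =>
        e (Subgroup.card_eq_one.1 (by rw [hk, e', pow_zero]))).trans
          (hk ▸ Subgroup.card_dvd_of_le (Subgroup.map_subtype_le _)))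
    have hrp : p ≠ r := fun e' => h.sigma (e' ▸ hrs)
    have hrq : q ≠ r := fun e' => hq (e' ▸ hrs)
    have hb'o : orderOf b' = p := by rw [Subgroup.orderOf_mk, hbo]
    have hW'q : IsPGroup q W' := hW.comap_subtype
    refine le_centralizer_of_fpf_frattini (odd_subgroup h.minSimple.1 M) R W' hRp b' (hb'o ▸ Fact.out)
      (hb'o ▸ hrp) ?_ ?_ ?_ hWb' ?_
    · refine Subgroup.mem_normalizer_iff.2 fun y => ?_
      simp only [hW', Subgroup.mem_subgroupOf]
      exact Subgroup.mem_normalizer_iff.1 (hWA hbA) y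
    · obtain ⟨k, hk⟩ := hW'q.exists_card_eq
      rw [hb'o, hk]
      exact ((Nat.coprime_primes Fact.out Fact.out).2 (Ne.symm hqp)).pow_right k
    · obtain ⟨k, hk⟩ := hW'q.exists_card_eq
      rw [hk]
      exact fun hd => hrq ((Nat.prime_dvd_prime_iff_eq hr Fact.out).1 (hr.dvd_of_dvd_pow hd)).symm
    · refine eq_bot_iff.2 fun y hy => ?_
      have h2 : (y : G) ∈ sigmaCore M ⊓ centralizer ({b} : Set G) :=
        ⟨⟨y, (Subgroup.map_subtype_le _) hy.1, rfl⟩, Subgroup.mem_centralizer_singleton_iff.2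
          (congrArg Subtype.val (Subgroup.mem_centralizer_singleton_iff.1 hy.2))⟩
      rw [hfix, Subgroup.mem_bot] at h2
      exact Subgroup.mem_bot.2 (Subtype.ext h2)
  intro w hw
  refine Subgroup.mem_centralizer_iff.2 ?_
  rintro _ ⟨y, hy, rfl⟩
  suffices hh : y ∈ centralizer ({(⟨w, hWM hw⟩ : M)} : Set M) from
    congrArg Subtype.val (Subgroup.mem_centralizer_singleton_iff.1 hh)
  refine mem_of_forall_primePart fun r hr _ u hu ⟨k, hk⟩ => ?_
  haveI := Fact.mk hr
  have huK : u ∈ K := Subgroup.zpowers_le.2 hy hu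
  obtain ⟨i, -, hi⟩ := (Nat.dvd_prime_pow hr).1 (orderOf_dvd_of_pow_eq_one hk)
  obtain ⟨T, hT⟩ := exists_sylow_map_ge (p := r) (X := zpowers u)
    (IsPGroup.of_card (n := i) (by rw [Nat.card_zpowers, hi])) (Subgroup.zpowers_le.2 huK)
  haveI : (T : Subgroup K).Normal :=
    Sylow.normal_of_normalizerCondition Group.normalizerCondition_of_isNilpotent T
  have huR : u ∈ (pCore r K).map K.subtype :=
    Subgroup.map_mono (PCore.le_pCore T.2) (hT (Subgroup.mem_zpowers u))
  exact Subgroup.mem_centralizer_singleton_iff.2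
    (Subgroup.mem_centralizer_iff.1 (hkey r hr (show (⟨w, hWM hw⟩ : M) ∈ W' from hw)) u huR)

/-- `W` lies in a normal `q`-subgroup of `M` centralising `M_σ`. -/
theorem exists_normal_ge (hqp : q ≠ p) (hq : q ∉ Cfsg.sigma M) {W : Subgroup G}
    (hW : IsPGroup q W) (hWA : A ≤ normalizer (W : Set G)) (hWM : W ≤ M) {x : G} (hxA : x ∈ A)
    (hx1 : x ≠ 1) (hWx : W ≤ centralizer ({x} : Set G))
    (hWc : ⁅W, A⁆ = W) : ∃ D : Subgroup G, D ≤ M ∧ IsPGroup q D ∧ W ≤ D ∧
      M ≤ normalizer (D : Set G) ∧ D ≤ centralizer (sigmaCore M : Set G) := by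
  have hcen := h.le_centralizer_sigmaCore hqp hq hW hWA hWM hxA hx1 hWx hWc
  haveI := isSolvable_of_coatom h.minSimple h.coatom
  set K := piCore (Cfsg.sigma M) ↥M with hK
  set C := _root_.commutator M ⊓ centralizer (K : Set M) with hC
  set π := QuotientGroup.mk' K
  -- a complement of `M_σ`
  have hcop : (Nat.card K).Coprime K.index := by
    refine Nat.coprime_of_dvd fun l hl h1 h2 => ?_
    haveI := Fact.mk hl
    obtain ⟨T⟩ : Nonempty (Sylow l M) := inferInstance
    exact T.not_dvd_index (h2.trans (Subgroup.index_dvd_of_le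
      (sylow_le_piCore_sigma h.minSimple h.coatom (isPiGrp_piCore (Cfsg.sigma M) ↥M l hl h1) T)))
  obtain ⟨E, hE⟩ := Subgroup.exists_right_complement'_of_coprime hcop
  have hcompl : IsComplIn (E.map M.subtype) (sigmaCore M) M := by
    refine ⟨Subgroup.map_subtype_le _, sigmaCore_le M, ?_, fun m hm => ?_⟩
    · show E.map M.subtype ⊓ K.map M.subtype = ⊥
      rw [← Subgroup.map_inf _ _ _ M.subtype_injective, inf_comm, hE.disjoint.eq_bot, Subgroup.map_bot]
    · obtain ⟨e, he, k, hk, hek⟩ := (Coprime.mem_sup_iff_of_le_normalizer (H := E) (N := K)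
        PLengthCommutator.le_normalizer_of_normal).1
        (show (⟨m, hm⟩ : M) ∈ E ⊔ K by rw [sup_comm, hE.sup_eq_top]; exact Subgroup.mem_top _)
      exact ⟨e, ⟨e, he, rfl⟩, k, ⟨k, hk, rfl⟩, congrArg Subtype.val hek.symm⟩
  haveI hEE : Group.IsNilpotent ↥⁅E, E⁆ := by
    haveI : Group.IsNilpotent ↥(⁅E, E⁆.map M.subtype) := by
      rw [Subgroup.map_commutator]
      exact (S1415.result h.minSimple M h.coatom _ hcompl).1
    exact Group.nilpotent_of_mulEquiv (⁅E, E⁆.equivMapOfInjective M.subtype M.subtype_injective).symm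
  have hEπ : E.map π = ⊤ := by
    rw [← Subgroup.map_top_of_surjective π (QuotientGroup.mk'_surjective K), ← hE.sup_eq_top,
      Subgroup.map_sup, show K.map π = ⊥ from (Subgroup.map_eq_bot_iff K).2 (by rw [QuotientGroup.ker_mk']),
      bot_sup_eq]
  have hCπ : C.map π ≤ ⁅E, E⁆.map π := by
    rw [Subgroup.map_commutator, hEπ]
    refine (Subgroup.map_mono inf_le_left).trans ?_
    rw [_root_.commutator_def, Subgroup.map_commutator]
    exact Subgroup.commutator_mono le_top le_top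
  haveI : Group.IsNilpotent ↥(⁅E, E⁆.map π) :=
    Group.nilpotent_of_surjective _ (π.subgroupMap_surjective _)
  haveI : Group.IsNilpotent ↥(C.map π) :=
    Group.nilpotent_of_mulEquiv (Subgroup.subgroupOfEquivOfLe hCπ)
  have hCnil : Group.IsNilpotent C := by
    refine isNilpotent_of_ker_le_center (π.subgroupMap C) fun y hy => Subgroup.mem_center_iff.2 fun z => ?_
    have hyK : (y : M) ∈ K := (QuotientGroup.eq_one_iff _).1 (congrArg Subtype.val hy)
    exact Subtype.ext (Subgroup.mem_centralizer_iff.1 z.2.2 y hyK).symm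
  have hW'C : W.subgroupOf M ≤ C := by
    intro w hw
    refine ⟨?_, Subgroup.mem_centralizer_iff.2 fun k hk =>
      Subtype.ext (Subgroup.mem_centralizer_iff.1 (hcen hw) k ⟨k, hk, rfl⟩)⟩
    have h2 : (w : G) ∈ ⁅M, M⁆ := (hWc.ge.trans (Subgroup.commutator_mono hWM h.le)) hw
    rw [← Subgroup.map_subtype_commutator] at h2
    obtain ⟨z, hz, hzw⟩ := h2
    rwa [← Subtype.ext hzw]
  haveI : (centralizer (K : Set M)).Normal := by
    rw [← Subgroup.normalizer_eq_top_iff, eq_top_iff]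
    exact Coprime.le_normalizer_centralizer PLengthCommutator.le_normalizer_of_normal
  haveI : C.Normal := inferInstanceAs (_root_.commutator M ⊓ centralizer (K : Set M)).Normal
  haveI : Group.IsNilpotent ↥(C.map M.subtype) :=
    Group.nilpotent_of_mulEquiv (C.equivMapOfInjective M.subtype M.subtype_injective)
  obtain ⟨D, hDC, hD, hWD, hDn⟩ := exists_normal_pgroup_ge (M := M) (C := C.map M.subtype) inferInstance
    (le_normalizer_map_of_normal C) ((Subgroup.map_subgroupOf_eq_of_le hWM).ge.trans (Subgroup.map_mono hW'C)) hW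
  refine ⟨D, hDC.trans (Subgroup.map_subtype_le _), hD, hWD, hDn, fun d hd => ?_⟩
  obtain ⟨c, hc, rfl⟩ := hDC hd
  refine Subgroup.mem_centralizer_iff.2 ?_
  rintro _ ⟨k, hk, rfl⟩
  exact congrArg Subtype.val (Subgroup.mem_centralizer_iff.1 hc.2 k hk)

/-- `q`-subgroups `[W, A]` centralised by a line lie in the fixed part. -/
theorem le_fixedPart (hqp : q ≠ p) (hq : q ∉ Cfsg.sigma M) {W : Subgroup G} (hW : IsPGroup q W)
    (hWA : A ≤ normalizer (W : Set G)) (hWM : W ≤ M) {x : G} (hxA : x ∈ A) (hx1 : x ≠ 1)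
    (hWx : W ≤ centralizer ({x} : Set G)) (hWc : ⁅W, A⁆ = W) : W ≤ fixedPart q M := by
  obtain ⟨D, hDM, hD, hWD, hDn, hDc⟩ := h.exists_normal_ge hqp hq hW hWA hWM hxA hx1 hWx hWc
  exact hWD.trans (le_pOf (le_inf hDM hDc) (inf_le_left.trans hDn) hD)

/-- BG 12.3, the configuration in an exceptional maximal subgroup. -/
theorem core' (hqp : q ≠ p) (hq : q ∉ Cfsg.sigma M) {W : Subgroup G} (hW : IsPGroup q W)
    (hWA : A ≤ normalizer (W : Set G)) (hWM : W ≤ M) (hWF : W ≤ fixedPart q M) (hWc : ⁅W, A⁆ = W)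
    (hW1 : W ≠ ⊥) :
    M ≤ normalizer (W : Set G) ∧ W ⊓ centralizer (A : Set G) = ⊥ ∧ IsCyclic W ∧
      ∃ B₀ : Subgroup G, B₀ ≤ W ∧ Nat.card B₀ = q ∧ normalizer (B₀ : Set G) ≤ M ∧
        ∀ S : Sylow q M, ∃ B : Subgroup G, Exc q M B B₀ ∧ B ≤ (S : Subgroup M).map M.subtype ∧
          (∀ x ∈ (S : Subgroup M).map M.subtype, x ^ q = 1 → x ∈ B) ∧
          (S : Subgroup M).map M.subtype ≤ centralizer (B : Set G) := by
  obtain ⟨hDM, hD, hDn, hDc⟩ := fixedPart_spec q M
  set D := fixedPart q M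
  have hWD : W ≤ D := hWF
  obtain ⟨hDcyc, Ω, hΩq, hmem, hΩM, hS⟩ := normal_cyclic_data h.minSimple h.coatom hq hDM hD hDn hDc
    fun e => hW1 (le_bot_iff.1 (e ▸ hWD))
  have hMW : M ≤ normalizer (W : Set G) := hDn.trans (normalizer_le_of_cyclic hDcyc hWD)
  haveI : IsMulCommutative W := PGroup.isMulCommutative_of_forall fun a ha b hb =>
    congrArg Subtype.val (IsCyclic.commGroup.mul_comm (⟨a, hWD ha⟩ : D) ⟨b, hWD hb⟩)
  refine ⟨hMW, ?_, isCyclic_of_injective (Subgroup.inclusion hWD) (Subgroup.inclusion_injective hWD), Ω, ?_, hΩq, hΩM, hS⟩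
  · have h1 := Coprime.inf_centralizer_inf_commutator_eq_bot hWA
      (coprime_of_isPGroup (PGroup.isPGroup_of_elementaryAbelian h.elem) fun hd => by
        obtain ⟨j, hj⟩ := hW.exists_card_eq
        exact hqp ((Nat.prime_dvd_prime_iff_eq Fact.out Fact.out).1
          ((Fact.out : p.Prime).dvd_of_dvd_pow (hj ▸ hd))).symm)
    rwa [hWc, inf_right_comm, inf_idem] at h1
  · obtain ⟨w, hw, hw1, hwq, -⟩ := exists_central_pow_eq_one hW hW1
    have e : zpowers w = Ω := Subgroup.eq_of_le_of_card_ge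
      (Subgroup.zpowers_le.2 (hmem w (hWD hw) hwq))
      (by rw [hΩq, Nat.card_zpowers, orderOf_eq_prime hwq hw1])
    exact e ▸ Subgroup.zpowers_le.2 hw


/-- BG 12.3, for `W` centralised by `A₀`. -/
theorem core (hqp : q ≠ p) (hq : q ∉ Cfsg.sigma M) {W : Subgroup G} (hW : IsPGroup q W)
    (hWA : A ≤ normalizer (W : Set G)) (hW0 : W ≤ centralizer (A₀ : Set G)) (hWc : ⁅W, A⁆ = W)
    (hW1 : W ≠ ⊥) :
    M ≤ normalizer (W : Set G) ∧ W ⊓ centralizer (A : Set G) = ⊥ ∧
      ∃ B₀ : Subgroup G, B₀ ≤ W ∧ Nat.card B₀ = q ∧ normalizer (B₀ : Set G) ≤ M ∧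
        ∀ S : Sylow q M, ∃ B : Subgroup G, Exc q M B B₀ ∧ B ≤ (S : Subgroup M).map M.subtype ∧
          (∀ x ∈ (S : Subgroup M).map M.subtype, x ^ q = 1 → x ∈ B) ∧
          (S : Subgroup M).map M.subtype ≤ centralizer (B : Set G) := by
  obtain ⟨x, hx0, hx1, hx⟩ := h.exists_gen
  have hWM : W ≤ M := hW0.trans h.centralizer_line_le
  have hF := h.le_fixedPart hqp hq hW hWA hWM (h.line_le hx0) hx1
    (hW0.trans (Subgroup.centralizer_le (Set.singleton_subset_iff.2 hx0))) hWc
  obtain ⟨h1, h2, -, h3⟩ := h.core' hqp hq hW hWA hWM hF hWc hW1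
  exact ⟨h1, h2, h3⟩

end Exc

end Cfsg.Agent.OddOrder
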