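import Cfsg.Agent.S1399
import Cfsg.Agent.S1337
import Cfsg.Agent.Lib.IsolatedP.Cyclic

/-!
# Uniqueness subgroups of a minimal simple group of odd order

* conjugation and overgroup invariance of `InUniqueMaximal`;
* `elementary_cube_unique`: if one elementary abelian subgroup of order at least `p³` is a uniqueness
  subgroup, all of them are;
* `not_rankLE_one_of_not_isCyclic`, `exists_elementary_cube`.
-/

set_option linter.style.haveILetI false

namespace Cfsg.Agent.OddOrder

open Cfsg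

universe u
variable {G : Type u} [Group G] [Finite G] {p : ℕ} [Fact p.Prime]

theorem inUniqueMaximal_of_le {X Y : Subgroup G} (h : InUniqueMaximal X) (hle : X ≤ Y) (hY : Y ≠ ⊤) :
    InUniqueMaximal Y := by
  obtain ⟨M, -, hu⟩ := h
  obtain ⟨L, hL, hYL⟩ := exists_coatom_ge hY
  exact ⟨L, ⟨hL, hYL⟩, fun L' h' =>
    (hu L' ⟨h'.1, hle.trans h'.2⟩).trans (hu L ⟨hL, hle.trans hYL⟩).symm⟩

omit [Finite G] in
theorem inUniqueMaximal_map_equiv (e : G ≃* G) {X : Subgroup G} (h : InUniqueMaximal X) :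
    InUniqueMaximal (X.map e.toMonoidHom) := by
  obtain ⟨M, ⟨hM, hXM⟩, hu⟩ := h
  refine ⟨M.map e.toMonoidHom,
    ⟨(OrderIso.isCoatom_iff (MulEquiv.mapSubgroup e) M).2 hM, Subgroup.map_mono hXM⟩, ?_⟩
  rintro L ⟨hL, hXL⟩
  have h1 : (MulEquiv.mapSubgroup e).symm L = M := by
    refine hu _ ⟨(OrderIso.isCoatom_iff (MulEquiv.mapSubgroup e).symm L).2 hL, ?_⟩
    exact (OrderIso.le_symm_apply _).2 hXL
  rw [← h1]
  exact ((MulEquiv.mapSubgroup e).apply_symm_apply L).symm

omit [Finite G] in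
theorem not_rankLE_one_of_elementary {Y : Subgroup G} (hY : IsElementaryAbelian p Y)
    (h2 : p ^ 2 ≤ Nat.card Y) : ¬ RankLE 1 Y := by
  intro h
  haveI := hY.1
  have := h p Fact.out ⊤ inferInstance fun y _ => Subtype.ext (hY.2 y y.2)
  rw [Subgroup.card_top] at this
  exact absurd (h2.trans this) (Nat.pow_lt_pow_right (Fact.out : p.Prime).one_lt one_lt_two).not_ge

theorem not_rankLE_one_of_not_isCyclic {B : Subgroup G} (hp : p ≠ 2) (hB : IsPGroup p B)
    (h : ¬ IsCyclic B) : ¬ RankLE 1 B :=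
  fun hr => h (IsolatedP.isCyclic_of_pRankLE_one hp hB (hr p Fact.out))

theorem exists_elementary_cube {H : Subgroup G} (h : ¬ PRankLE p 2 H) :
    ∃ E : Subgroup G, E ≤ H ∧ IsElementaryAbelian p E ∧ p ^ 3 ≤ Nat.card E := by
  simp only [PRankLE, not_forall, not_le] at h
  obtain ⟨E, hE, hEp, hlt⟩ := h
  have hel : IsElementaryAbelian p (E.map H.subtype) :=
    PGroup.isElementaryAbelian_map ⟨hE, hEp⟩ H.subtype
  refine ⟨E.map H.subtype, Subgroup.map_subtype_le _, hel, ?_⟩
  obtain ⟨k, hk⟩ := (PGroup.isPGroup_of_elementaryAbelian hel).exists_card_eq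
  rw [hk]
  rw [← Subgroup.card_map_of_injective H.subtype_injective, hk,
    Nat.pow_lt_pow_iff_right (Fact.out : p.Prime).one_lt] at hlt
  exact Nat.pow_le_pow_right (Fact.out : p.Prime).pos hlt

/-- One step along a commuting pair. -/
theorem inUniqueMaximal_of_commute (hG : IsMinSimpleOddOrder G) {X Y : Subgroup G}
    (hX : InUniqueMaximal X) (hY : IsElementaryAbelian p Y) (hY2 : p ^ 2 ≤ Nat.card Y)
    (hc : Y ≤ Subgroup.centralizer (X : Set G)) : InUniqueMaximal Y :=
  S1399.result hG X Y hX hc (not_rankLE_one_of_elementary hY hY2)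

/-- Uniqueness spreads over all elementary abelian subgroups of order at least `p³`. -/
theorem elementary_cube_unique (hG : IsMinSimpleOddOrder G) {E₀ E : Subgroup G}
    (hE₀ : IsElementaryAbelian p E₀) (hE₀3 : p ^ 3 ≤ Nat.card E₀) (hU₀ : InUniqueMaximal E₀)
    (hE : IsElementaryAbelian p E) (hE3 : p ^ 3 ≤ Nat.card E) : InUniqueMaximal E := by
  have hp : p.Prime := Fact.out
  obtain ⟨P, hP⟩ := (PGroup.isPGroup_of_elementaryAbelian hE₀).exists_le_sylow
  obtain ⟨Q, hQ⟩ := (PGroup.isPGroup_of_elementaryAbelian hE).exists_le_sylow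
  obtain ⟨g, hg⟩ := MulAction.exists_smul_eq G Q P
  set c := MulAut.conj g
  have hEP : E.map c.toMonoidHom ≤ (P : Subgroup G) := by
    rw [← hg, Sylow.coe_subgroup_smul]
    exact Subgroup.map_mono hQ
  have hcube : ∀ F : Subgroup G, F ≤ (P : Subgroup G) → IsElementaryAbelian p F → p ^ 3 ≤ Nat.card F →
      IsElementaryAbelian p (F.subgroupOf P) ∧ p ^ 3 ≤ Nat.card (F.subgroupOf (P : Subgroup G)) ∧
        ¬ PRankLE p 2 (Subgroup.centralizer ((F.subgroupOf (P : Subgroup G) : Subgroup P) : Set P)) := by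
    intro F hF hFe hF3
    have h1 : IsElementaryAbelian p (F.subgroupOf (P : Subgroup G)) :=
      PGroup.isElementaryAbelian_of_forall
        (fun a ha b hb => Subtype.ext (PGroup.mul_comm_of_elementaryAbelian hFe ha hb))
        fun a ha => Subtype.ext (hFe.2 a ha)
    have h2 : p ^ 3 ≤ Nat.card (F.subgroupOf (P : Subgroup G)) := by rwa [Coprime.card_subgroupOf hF]
    refine ⟨h1, h2, fun h => ?_⟩
    have hle := PGroup.le_centralizer_of_isMulCommutative h1.1
    have := h ((F.subgroupOf (P : Subgroup G)).subgroupOf _)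
      (PGroup.isMulCommutative_of_forall fun a ha b hb =>
        Subtype.ext (PGroup.mul_comm_of_elementaryAbelian h1 ha hb))
      fun a ha => Subtype.ext (h1.2 a ha)
    rw [Coprime.card_subgroupOf hle] at this
    exact absurd (h2.trans this) (Nat.pow_lt_pow_right hp.one_lt (by norm_num)).not_ge
  have hr : ¬ PRankLE p 2 (P : Subgroup G) := fun h => by
    obtain ⟨h1, h2, -⟩ := hcube E₀ hP hE₀ hE₀3
    exact absurd (h2.trans (h _ h1.1 h1.2)) (Nat.pow_lt_pow_right hp.one_lt (by norm_num)).not_ge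
  obtain ⟨U, -, -, -, hU⟩ := S1337.result p P.2 hr
  let R : Subgroup P → Subgroup P → Prop := fun A B => IsElementaryAbelian p A ∧ p ^ 2 ≤ Nat.card ↥A ∧
    IsElementaryAbelian p B ∧ p ^ 2 ≤ Nat.card ↥B ∧ ∀ a ∈ A, ∀ b ∈ B, a * b = b * a
  have hRs : ∀ {A B}, R A B → R B A := fun {A B} h =>
    ⟨h.2.2.1, h.2.2.2.1, h.1, h.2.1, fun a ha b hb => (h.2.2.2.2 b hb a ha).symm⟩
  have hstep : ∀ {A B}, R A B → InUniqueMaximal (A.map (P : Subgroup G).subtype) →
      InUniqueMaximal (B.map (P : Subgroup G).subtype) := fun {A B} h hA => by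
    refine inUniqueMaximal_of_commute hG hA (PGroup.isElementaryAbelian_map h.2.2.1 _) ?_ ?_
    · rw [Subgroup.card_map_of_injective (P : Subgroup G).subtype_injective]
      exact h.2.2.2.1
    · rintro _ ⟨b, hb, rfl⟩
      refine Subgroup.mem_centralizer_iff.2 ?_
      rintro _ ⟨a, ha, rfl⟩
      rw [← map_mul, ← map_mul, h.2.2.2.2 a ha b hb]
  have hchain : ∀ F : Subgroup G, F ≤ (P : Subgroup G) → IsElementaryAbelian p F → p ^ 3 ≤ Nat.card F →
      (InUniqueMaximal F ↔ InUniqueMaximal (U.map (P : Subgroup G).subtype)) := by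
    intro F hF hFe hF3
    obtain ⟨h1, h2, h3⟩ := hcube F hF hFe hF3
    have hreach : Relation.ReflTransGen R (F.subgroupOf P) U :=
      (hU _ h1 ((Nat.pow_le_pow_right hp.pos (by norm_num)).trans h2)).2 h3
    conv_lhs => rw [← Subgroup.map_subgroupOf_eq_of_le hF]
    revert hreach
    generalize F.subgroupOf (P : Subgroup G) = V
    intro hreach
    induction hreach using Relation.ReflTransGen.head_induction_on with
    | refl => exact Iff.rfl
    | head h _ ih => exact Iff.trans ⟨hstep h, hstep (hRs h)⟩ ih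
  have h1 : InUniqueMaximal (E.map c.toMonoidHom) :=
    (hchain _ hEP (PGroup.isElementaryAbelian_map hE _) (by
      rwa [Subgroup.card_map_of_injective c.injective])).2 ((hchain _ hP hE₀ hE₀3).1 hU₀)
  have h2 := inUniqueMaximal_map_equiv c.symm h1
  rwa [Subgroup.map_map, show c.symm.toMonoidHom.comp c.toMonoidHom = MonoidHom.id G from
    MonoidHom.ext fun x => c.symm_apply_apply x, Subgroup.map_id] at h2

/-- Abelian form. -/
theorem elementary_unique_of_abelian (hG : IsMinSimpleOddOrder G) {A : Subgroup G}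
    (hAc : IsMulCommutative A) (hA3 : ¬ PRankLE p 2 A) (hAU : InUniqueMaximal A) {E : Subgroup G}
    (hE : IsElementaryAbelian p E) (hE3 : p ^ 3 ≤ Nat.card E) : InUniqueMaximal E := by
  obtain ⟨E₀, hE₀A, hE₀, hE₀3⟩ := exists_elementary_cube hA3
  refine elementary_cube_unique hG hE₀ hE₀3 (inUniqueMaximal_of_commute hG hAU hE₀
    ((Nat.pow_le_pow_right (Fact.out : p.Prime).pos (by norm_num)).trans hE₀3) ?_) hE hE3
  exact hE₀A.trans (PGroup.le_centralizer_of_isMulCommutative hAc)

end Cfsg.Agent.OddOrder
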