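import Cfsg.Agent.Lib.Quadratic.Stability
import Cfsg.Agent.Lib.Replacement.FullCentre
import Cfsg.Agent.Lib.Replacement.Constrained
import Cfsg.Agent.Lib.PComplement.AbelianCore

/-!
# p-stability of groups of odd order and its consequences

* `isPStableOn_of_odd`: a group of odd order acts p-stably on every normal p-subgroup;
* `zj_sup_normal`: `Z(J(S)) O_{p'}(G)` is normal (solvable, odd order);
* `le_preimage_of_abelian`, `sSup_le_pCore`: abelian subgroups normalised by a normal p-subgroup (BG 6.1).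
-/

set_option linter.style.haveILetI false
set_option linter.unusedSectionVars false

namespace Cfsg.Agent.OddOrder

open Cfsg
open Subgroup (centralizer normalizer zpowers commutator_mem_commutator mem_zpowers)
open scoped commutatorElement

variable {G : Type*} [Group G] {p : ℕ} [Fact p.Prime]

theorem ne_two_of_odd_of_dvd (hodd : Odd (Nat.card G)) (hd : p ∣ Nat.card G) : p ≠ 2 := fun h =>
  (Nat.not_even_iff_odd.mpr hodd) (even_iff_two_dvd.mpr (h ▸ hd))

theorem odd_quotient (hodd : Odd (Nat.card G)) (N : Subgroup G) : Odd (Nat.card (G ⧸ N)) :=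
  Odd.of_dvd_nat hodd N.card_quotient_dvd_card

theorem odd_subgroup (hodd : Odd (Nat.card G)) (N : Subgroup G) : Odd (Nat.card N) :=
  Odd.of_dvd_nat hodd N.card_subgroup_dvd_card

theorem isMulCommutative_sylow_two [Finite G] (hodd : Odd (Nat.card G)) (T : Sylow 2 G) :
    IsMulCommutative T := by
  have : (T : Subgroup G) = ⊥ := PCore.eq_bot_of_isPGroup_of_coprime T.2
    (Nat.prime_two.coprime_iff_not_dvd.mpr fun h => (Nat.not_even_iff_odd.mpr hodd)
      (even_iff_two_dvd.mpr (h.trans (T : Subgroup G).card_subgroup_dvd_card))).symm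
  refine PGroup.isMulCommutative_of_forall fun x hx y hy => ?_
  rw [this, Subgroup.mem_bot] at hx hy
  rw [hx, hy]

/-- Chief factors inside a normal p-subgroup are elementary abelian. -/
theorem isElementaryAbelian_layer [Finite G] {B B' : Subgroup G} [B.Normal] [B'.Normal]
    (hB : IsPGroup p B) (hlt : B' < B) (hmax : ∀ N : Subgroup G, N.Normal → N < B → B' ≤ N → N ≤ B') :
    IsElementaryAbelian p (B.map (QuotientGroup.mk' B')) := by
  set π := QuotientGroup.mk' B'
  have hsurj : Function.Surjective π := QuotientGroup.mk'_surjective B'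
  have hBU : B ≤ pCore p G := PCore.le_pCore hB
  have hlayer := PComplement.layer_le hBU hlt hmax
  have hcomm : ∀ x ∈ B.map π, ∀ y ∈ B.map π, x * y = y * x := by
    rintro _ ⟨x, hx, rfl⟩ _ ⟨y, hy, rfl⟩
    refine commutatorElement_eq_one_iff_mul_comm.1 ?_
    rw [← map_commutatorElement]
    exact (QuotientGroup.eq_one_iff _).2 (hlayer (commutator_mem_commutator hx (hBU hy)))
  refine PGroup.isElementaryAbelian_of_forall hcomm fun w hw => ?_
  obtain ⟨u, hu, rfl⟩ := hw
  let N : Subgroup G :=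
    { carrier := {u | u ∈ B ∧ π u ^ p = 1}
      one_mem' := ⟨one_mem _, by simp⟩
      mul_mem' := fun {a b} ha hb => ⟨mul_mem ha.1 hb.1, by
        rw [map_mul, (show Commute (π a) (π b) from hcomm _ ⟨a, ha.1, rfl⟩ _ ⟨b, hb.1, rfl⟩).mul_pow,
          ha.2, hb.2, one_mul]⟩
      inv_mem' := fun {a} ha => ⟨inv_mem ha.1, by rw [map_inv, inv_pow, ha.2, inv_one]⟩ }
  have hNn : N.Normal := ⟨fun x hx c => ⟨‹B.Normal›.conj_mem x hx.1 c, by
    rw [map_mul, map_mul, map_inv, conj_pow, hx.2, mul_one, mul_inv_cancel]⟩⟩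
  have hB'N : B' ≤ N := fun x hx => ⟨hlt.le hx, by
    rw [show π x = 1 from (QuotientGroup.eq_one_iff x).2 hx, one_pow]⟩
  have hNB : N ≤ B := fun x hx => hx.1
  rcases eq_or_lt_of_le hNB with h | h
  · exact (h.ge hu).2
  · exfalso
    obtain ⟨y, hy, hyB⟩ := SetLike.exists_of_lt hlt
    obtain ⟨k, hk⟩ := hB ⟨y, hy⟩
    have hk' : π y ^ p ^ k = 1 := by
      rw [← map_pow, show y ^ p ^ k = 1 from congrArg Subtype.val hk, map_one]
    clear hk
    induction k generalizing y with
    | zero => exact hyB ((QuotientGroup.eq_one_iff y).1 (show π y = 1 by simpa using hk'))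
    | succ k ih =>
      by_cases h2 : π y ^ p = 1
      · exact hyB (hmax N hNn h hB'N ⟨hy, h2⟩)
      · refine ih (y ^ p) (pow_mem hy p) (fun h3 => h2 ?_) (by rwa [map_pow, ← pow_mul, ← pow_succ'])
        rw [← map_pow]
        exact (QuotientGroup.eq_one_iff _).2 h3

/-- p-stability on elementary abelian normal subgroups of quotients gives it on all normal
p-subgroups. -/
theorem isPStableOn_of_elementary [Finite G]
    (h : ∀ (N : Subgroup G) [N.Normal] (V : Subgroup (G ⧸ N)) [V.Normal],
      IsElementaryAbelian p V → IsPStableOn p V)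
    (B : Subgroup G) [B.Normal] (hB : IsPGroup p B) : IsPStableOn p B := by
  intro a hq
  induction hn : Nat.card B using Nat.strong_induction_on generalizing B with
  | _ n ih =>
  subst hn
  by_cases hbot : B = ⊥
  · subst hbot
    have : centralizer ((⊥ : Subgroup G) : Set G) = ⊤ :=
      eq_top_iff.2 fun x _ => Subgroup.mem_centralizer_iff.2 fun y hy => by
        rw [Subgroup.mem_bot.1 hy, one_mul, mul_one]
    have h1 : (QuotientGroup.mk a : G ⧸ centralizer ((⊥ : Subgroup G) : Set G)) = 1 :=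
      (QuotientGroup.eq_one_iff a).2 (this.ge trivial)
    rw [h1]
    exact one_mem _
  obtain ⟨B', ⟨hB'n, hB'lt⟩, hmax⟩ :=
    (Set.toFinite {N : Subgroup G | N.Normal ∧ N < B}).exists_maximal
      ⟨⊥, inferInstance, bot_lt_iff_ne_bot.2 hbot⟩
  haveI := hB'n
  have hcard : Nat.card B' < Nat.card B := by
    by_contra hh
    exact hB'lt.ne (Subgroup.eq_of_le_of_card_ge hB'lt.le (not_lt.1 hh))
  have h1 := ih _ hcard B' (hB.to_le hB'lt.le) (le_bot_iff.1 ((Subgroup.commutator_mono
    (Subgroup.commutator_mono hB'lt.le le_rfl) le_rfl).trans hq.le)) rfl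
  set π := QuotientGroup.mk' B'
  have hsurj : Function.Surjective π := QuotientGroup.mk'_surjective B'
  haveI hVn : (B.map π).Normal := ‹B.Normal›.map π hsurj
  have hel := isElementaryAbelian_layer hB hB'lt fun N h1 h2 h3 => hmax ⟨h1, h2⟩ h3
  have h2 := h B' (B.map π) hel (π a) (by
    rw [← MonoidHom.map_zpowers, ← Subgroup.map_commutator, ← Subgroup.map_commutator, hq, Subgroup.map_bot])
  -- both kernels
  set K₁ := (pCore p (G ⧸ centralizer (B' : Set G))).comap (QuotientGroup.mk' (centralizer (B' : Set G)))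
  set K₂ := (pCore p ((G ⧸ B') ⧸ centralizer ((B.map π : Subgroup (G ⧸ B')) : Set (G ⧸ B')))).comap
    ((QuotientGroup.mk' (centralizer ((B.map π : Subgroup (G ⧸ B')) : Set (G ⧸ B')))).comp π)
  set D := K₁ ⊓ K₂
  set σ := QuotientGroup.mk' (centralizer (B : Set G))
  haveI : D.Normal := Subgroup.normal_inf_normal _ _
  haveI : (D.map σ).Normal := ‹D.Normal›.map σ (QuotientGroup.mk'_surjective _)
  refine PCore.le_pCore (N := D.map σ) (PComplement.isPrimePow_orderOf_of_forall ?_)
    ⟨a, ⟨h1, h2⟩, rfl⟩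
  rintro _ ⟨x, hx, rfl⟩ hxc
  obtain ⟨i, m, hm, him⟩ := Nat.exists_eq_pow_mul_and_not_dvd (orderOf_pos x).ne' p
    (Fact.out : p.Prime).ne_one
  obtain ⟨j, hj⟩ := exists_pow_eq_self_of_coprime (x := σ x) (n := p ^ i) ((hxc.pow_right i).symm)
  rw [← hj, ← map_pow]
  suffices hy : x ^ p ^ i ∈ centralizer (B : Set G) by
    rw [show σ (x ^ p ^ i) = 1 from (QuotientGroup.eq_one_iff _).2 hy, one_pow]
  have hyc : (orderOf (x ^ p ^ i)).Coprime p := by
    refine ((Fact.out : p.Prime).coprime_iff_not_dvd.2 hm).symm.coprime_dvd_left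
      (orderOf_dvd_of_pow_eq_one ?_)
    rw [← pow_mul, ← him, pow_orderOf_eq_one]
  have hyD : x ^ p ^ i ∈ D := pow_mem hx _
  -- a p'-element of a p-group is trivial
  have triv : ∀ {H : Type _} [Group H] [Finite H] (f : G →* H),
      f (x ^ p ^ i) ∈ pCore p H → f (x ^ p ^ i) = 1 := by
    intro H _ _ f hf
    obtain ⟨k, hk⟩ := PCore.isPGroup_pCore (p := p) ⟨_, hf⟩
    exact orderOf_eq_one_iff.1 (Nat.eq_one_of_dvd_coprimes (hyc.pow_right k) (orderOf_map_dvd f _)
      (orderOf_dvd_of_pow_eq_one (congrArg Subtype.val hk)))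
  have hy1 : x ^ p ^ i ∈ centralizer (B' : Set G) := (QuotientGroup.eq_one_iff _).1 (triv _ hyD.1)
  have hy2 : π (x ^ p ^ i) ∈ centralizer ((B.map π : Subgroup (G ⧸ B')) : Set (G ⧸ B')) :=
    (QuotientGroup.eq_one_iff _).1
      (triv ((QuotientGroup.mk' (centralizer ((B.map π : Subgroup (G ⧸ B')) : Set (G ⧸ B')))).comp π) hyD.2)
  refine Subgroup.mem_centralizer_iff.2 fun b hb => ?_
  have hz : ⁅x ^ p ^ i, b⁆ ∈ B' := by
    refine (QuotientGroup.eq_one_iff _).1 ?_
    show π ⁅x ^ p ^ i, b⁆ = 1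
    rw [map_commutatorElement, commutatorElement_eq_one_iff_mul_comm]
    exact (Subgroup.mem_centralizer_iff.1 hy2 (π b) ⟨b, hb, rfl⟩).symm
  obtain ⟨k, hk⟩ := (hB.to_le hB'lt.le) ⟨_, hz⟩
  exact (Coprime.commute_of_translate (a := x ^ p ^ i) (h := b) (z := ⁅x ^ p ^ i, b⁆)
    (by rw [commutatorElement_def, inv_mul_cancel_right])
    ((Subgroup.mem_centralizer_iff.1 hy1 _ hz).symm)
    ((hyc.pow_right k).coprime_dvd_right (orderOf_dvd_of_pow_eq_one (congrArg Subtype.val hk)))).eq.symm

/-- Groups of odd order act p-stably on their normal p-subgroups. -/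
theorem isPStableOn_of_odd [Finite G] (hodd : Odd (Nat.card G)) (hp : p ≠ 2) (B : Subgroup G)
    [B.Normal] (hB : IsPGroup p B) : IsPStableOn p B :=
  isPStableOn_of_elementary (fun N _ V _ hV => Quadratic.isPStableOn_of_abelian_sylow_two hp
    (fun T => isMulCommutative_sylow_two (odd_quotient hodd N) T) V hV) B hB

theorem stableOn_of_odd [Finite G] (hodd : Odd (Nat.card G)) (hp : p ≠ 2) (S : Subgroup G) :
    Replacement.StableOn p S :=
  Replacement.stableOn_of_isPStableOn S fun V _ hV => isPStableOn_of_odd hodd hp V hV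

theorem centralizer_pCore_le [Finite G] [Group.IsSolvable G] (h : pPrimeCore p G = ⊥) :
    centralizer (pCore p G : Set G) ≤ pCore p G :=
  PCore.centralizer_pCore_le_of_isSolvable h

/-- The ZJ theorem for solvable groups of odd order. -/
theorem zj_sup_normal [Finite G] [Group.IsSolvable G] (hodd : Odd (Nat.card G)) (S : Sylow p G) :
    (centerThompsonOf p (S : Subgroup G) ⊔ pPrimeCore p G).Normal := by
  by_cases hd : p ∣ Nat.card G
  swap
  · have hS : (S : Subgroup G) = ⊥ := PCore.eq_bot_of_isPGroup_of_coprime S.2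
      ((Fact.out : p.Prime).coprime_iff_not_dvd.mpr fun h =>
        hd (h.trans (S : Subgroup G).card_subgroup_dvd_card)).symm
    have : centerThompsonOf p (S : Subgroup G) = ⊥ :=
      le_bot_iff.1 ((inf_le_left.trans (Subgroup.map_subtype_le _)).trans hS.le)
    rw [this, bot_sup_eq]
    infer_instance
  have hp := ne_two_of_odd_of_dvd hodd hd
  set π := QuotientGroup.mk' (pPrimeCore p G)
  have hsurj : Function.Surjective π := QuotientGroup.mk'_surjective _
  have h1 := Replacement.centerThompsonOf_normal hp (S.mapSurjective hsurj)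
    (stableOn_of_odd (odd_quotient hodd _) hp _)
    (centralizer_pCore_le PCore.pPrimeCore_quotient_self_eq_bot)
  rw [Sylow.coe_mapSurjective, Replacement.centerThompsonOf_map_injOn π
    (Replacement.injOn_mk_pPrimeCore S.2)] at h1
  have h2 := h1.comap π
  rwa [Subgroup.comap_map_eq, QuotientGroup.ker_mk'] at h2

/-- The image of an abelian subgroup normalised by a normal p-subgroup `P` lies in `O_p(G/C(P))`. -/
theorem le_preimage_of_abelian [Finite G] (hodd : Odd (Nat.card G)) (hp : p ≠ 2) (P : Subgroup G)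
    [P.Normal] (hP : IsPGroup p P) (B : Subgroup G) (hB : IsMulCommutative B)
    (hPB : P ≤ normalizer (B : Set G)) :
    B ≤ (pCore p (G ⧸ centralizer (P : Set G))).comap (QuotientGroup.mk' (centralizer (P : Set G))) :=
  fun b hb => isPStableOn_of_odd hodd hp P hP b
    (Replacement.commutator_commutator_zpowers_eq_bot hB hPB hb)

/-- If `O_{p'} = 1` and `O_p ∩ C(P) ≤ P` such a subgroup lies in `O_p(G)`. -/
theorem le_pCore_of_abelian [Finite G] [Group.IsSolvable G] (hodd : Odd (Nat.card G)) (hp : p ≠ 2)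
    (hO : pPrimeCore p G = ⊥) (P : Subgroup G) [P.Normal] (hP : IsPGroup p P)
    (hPc : pCore p G ⊓ centralizer (P : Set G) ≤ P) (B : Subgroup G) (hB : IsMulCommutative B)
    (hPB : P ≤ normalizer (B : Set G)) : B ≤ pCore p G := by
  set C := centralizer (P : Set G)
  haveI : C.Normal := Subgroup.normal_centralizer
  -- `C(P)` is a p-group
  have hO' : pPrimeCore p C = ⊥ := by
    rw [eq_bot_iff]
    intro x hx
    have h1 : (x : G) ∈ (pPrimeCore p C).map C.subtype := ⟨x, hx, rfl⟩
    rw [PCore.map_pPrimeCore_subtype_of_normal C, hO, bot_inf_eq, Subgroup.mem_bot] at h1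
    exact Subgroup.mem_bot.2 (Subtype.ext h1)
  have hZ : ∀ z ∈ pCore p C, z ∈ Subgroup.center C := by
    intro z hz
    have h1 : (z : G) ∈ (pCore p C).map C.subtype := ⟨z, hz, rfl⟩
    rw [PCore.map_pCore_subtype_of_normal C] at h1
    exact Subgroup.mem_center_iff.2 fun u => Subtype.ext
      (Subgroup.mem_centralizer_iff.1 u.2 _ (hPc h1)).symm
  have hCp : IsPGroup p C := by
    intro x
    have hx : x ∈ pCore p C := centralizer_pCore_le hO' (Subgroup.mem_centralizer_iff.2 fun z hz =>
      ((Subgroup.mem_center_iff.1 (hZ z hz)) x).symm)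
    obtain ⟨k, hk⟩ := PCore.isPGroup_pCore (p := p) ⟨x, hx⟩
    exact ⟨k, congrArg Subtype.val hk⟩
  refine (le_preimage_of_abelian hodd hp P hP B hB hPB).trans (PCore.le_pCore ?_)
  exact PCore.isPGroup_pCore.comap_of_ker_isPGroup _ (by rwa [QuotientGroup.ker_mk'])

end Cfsg.Agent.OddOrder
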