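import Cfsg.Agent.Lib.OddOrder.CNBasic
import Cfsg.Agent.Lib.OddOrder.Stability
import Cfsg.Agent.Lib.ZJControl.Fusion
import Cfsg.Agent.Lib.Transfer.Fusion
import Cfsg.Agent.Lib.Transfer.Alperin
import Cfsg.Agent.Lib.Frobenius.FixedPointFree
import Cfsg.Agent.Lib.PGroup.UniqueOrderP
import Cfsg.Agent.Lib.Coprime.Lift
import Mathlib.GroupTheory.SpecificGroups.ZGroup

/-!
# Local analysis for CN-groups of odd order

* `isCNGroup_quotient`: the quotient by an abelian normal `p`-subgroup is CN;
* `sylow_le_commutator`: in a perfect group of odd order, `P ≤ N(Z(J(P)))'`;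
* `commutator_mem_pCore`: the structure of a local subgroup with fixed-point-free `p'`-elements;
* `sylow_centralizer_le`: in a simple CN-group of odd order with solvable proper subgroups, a Sylow
  subgroup that is maximal nilpotent contains the centralizers of its nontrivial elements.
-/

set_option autoImplicit false
set_option linter.style.haveILetI false

namespace Cfsg.Agent.OddOrder.CN

open Subgroup
open Cfsg (IsCNGroup pCore)
open Cfsg.Agent.ZJControl (zjA isZJLike_A)

universe u

variable {G : Type u} [Group G] [Finite G] {p : ℕ} [hp : Fact p.Prime]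

omit [Finite G] hp in
theorem card_lt_card {A B : Subgroup G} [Finite B] (h : A < B) : Nat.card A < Nat.card B :=
  lt_of_not_ge fun hle => h.ne (Subgroup.eq_of_le_of_card_ge h.le hle)

omit [Finite G] hp in
theorem centralizer_le_of_pow {x : G} (k : ℕ) :
    centralizer ({x} : Set G) ≤ centralizer ({x ^ k} : Set G) := fun a ha =>
  mem_centralizer_singleton_iff.mpr
    ((show Commute a x from mem_centralizer_singleton_iff.mp ha).pow_right k).eq

/-- The quotient of a CN-group by an abelian normal `p`-subgroup is a CN-group. -/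
theorem isCNGroup_quotient (hCN : IsCNGroup G) (A : Subgroup G) [A.Normal] (hA : IsPGroup p A)
    (hAc : ∀ a ∈ A, ∀ b ∈ A, a * b = b * a) : IsCNGroup (G ⧸ A) := by
  rcases eq_or_ne A ⊥ with hA0 | hAne
  · subst hA0
    exact of_injective hCN (QuotientGroup.quotientBot (G := G)).toMonoidHom
      (MulEquiv.injective _)
  intro q hq
  obtain ⟨r, hr, hrd⟩ := Nat.exists_prime_and_dvd (fun h => hq (orderOf_eq_one_iff.mp h))
  haveI := Fact.mk hr
  obtain ⟨k, hk⟩ := hrd
  have hk0 : k ≠ 0 := fun h => (orderOf_pos q).ne' (by rw [hk, h, mul_zero])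
  suffices H : Group.IsNilpotent (centralizer ({q ^ k} : Set (G ⧸ A))) from
    isNilpotent_of_le (centralizer_le_of_pow k) H
  have hord : orderOf (q ^ k) = r := by
    rw [orderOf_pow_of_dvd hk0 (Dvd.intro_left _ hk.symm), hk,
      Nat.mul_div_cancel _ (Nat.pos_of_ne_zero hk0)]
  obtain ⟨g, hg⟩ := QuotientGroup.mk'_surjective A (q ^ k)
  have hg1 : g ∉ A := fun h => hr.ne_one (by
    rw [← hord, ← hg, show QuotientGroup.mk' A g = 1 from (QuotientGroup.eq_one_iff g).mpr h,
      orderOf_one])
  set Y := (centralizer ({q ^ k} : Set (G ⧸ A))).comap (QuotientGroup.mk' A) with hY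
  have hYmap : centralizer ({q ^ k} : Set (G ⧸ A)) = Y.map (QuotientGroup.mk' A) :=
    (Subgroup.map_comap_eq_self_of_surjective (QuotientGroup.mk'_surjective A) _).symm
  have hYdef : ∀ y ∈ Y, ∀ x : G, QuotientGroup.mk' A x = q ^ k →
      QuotientGroup.mk' A (y * x) = QuotientGroup.mk' A (x * y) := fun y hy x hx => by
    rw [map_mul, map_mul, hx]
    exact mem_centralizer_singleton_iff.mp hy
  rw [hYmap]
  suffices HZ : ∃ z : G, z ≠ 1 ∧
      Y.map (QuotientGroup.mk' A) ≤ (centralizer ({z} : Set G)).map (QuotientGroup.mk' A) by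
    obtain ⟨z, hz, hle⟩ := HZ
    haveI := hCN z hz
    exact isNilpotent_of_le hle (Group.nilpotent_of_surjective _
      ((QuotientGroup.mk' A).subgroupMap_surjective _))
  by_cases hrp : r = p
  swap
  · -- lift to an element of order `r`
    obtain ⟨n, hn⟩ := hA.exists_card_eq
    obtain ⟨x, hx, hxo⟩ := Coprime.exists_orderOf_lift A (q ^ k)
      (by rw [hord, hn]; exact Nat.Coprime.pow_right _ ((Nat.coprime_primes hr hp.out).mpr hrp))
    refine ⟨x, fun h => hr.ne_one (by rw [← hord, ← hxo, h, orderOf_one]), ?_⟩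
    rintro _ ⟨y, hy, rfl⟩
    have hxY : ∀ j : ℤ, QuotientGroup.mk' A (y⁻¹ * x ^ j * y * (x ^ j)⁻¹) = 1 := fun j => by
      have h1 : Commute (QuotientGroup.mk' A y) (q ^ k) := mem_centralizer_singleton_iff.mp hy
      have h2 : QuotientGroup.mk' A (x ^ j) = (q ^ k) ^ j := by
        rw [map_zpow]; exact congrArg (· ^ j) hx
      rw [map_mul, map_mul, map_mul, map_inv, map_inv, h2, mul_assoc ((QuotientGroup.mk' A y)⁻¹),
        ← (h1.zpow_right j).eq, inv_mul_cancel_left, mul_inv_cancel]
    obtain ⟨a, ha, hca⟩ := Coprime.exists_mul_mem_centralizer (A := zpowers x) (N := A) (k := y)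
      (le_top.trans (normalizer_eq_top (H := A)).ge)
      (by rw [Nat.card_zpowers, hxo, hord, hn]
          exact Nat.Coprime.pow_right _ ((Nat.coprime_primes hr hp.out).mpr hrp))
      (Or.inl inferInstance) (fun b hb => by
        obtain ⟨j, rfl⟩ := mem_zpowers_iff.mp hb
        exact (QuotientGroup.eq_one_iff _).mp (hxY j))
    refine ⟨y * a, mem_centralizer_singleton_iff.mpr
      (mem_centralizer_iff.mp hca x (mem_zpowers x)).symm, ?_⟩
    rw [map_mul, show QuotientGroup.mk' A a = 1 from (QuotientGroup.eq_one_iff a).mpr ha, mul_one]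
  · subst hrp
    -- the elements of `Y` of order prime to `r` centralize `A`
    have hAY : A ≤ Y := fun a ha => by
      rw [hY, mem_comap, show QuotientGroup.mk' A a = 1 from (QuotientGroup.eq_one_iff a).mpr ha]
      exact one_mem _
    have hpow : ∀ (x : G), QuotientGroup.mk' A x = q ^ k → ∃ i : ℕ, x ^ r ^ i = 1 := fun x hx => by
      have h1 : x ^ r ∈ A := (QuotientGroup.eq_one_iff _).mp (by
        show QuotientGroup.mk' A (x ^ r) = 1
        rw [map_pow, hx, ← hord, pow_orderOf_eq_one])
      obtain ⟨i, hi⟩ := hA ⟨_, h1⟩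
      exact ⟨i + 1, by rw [pow_succ', pow_mul]; exact congrArg Subtype.val hi⟩
    have hcent : ∀ y ∈ Y, (orderOf y).Coprime r → ∀ a ∈ A, y * a = a * y := by
      intro y hy hyr a ha
      obtain ⟨n, hn⟩ := hA.exists_card_eq
      obtain ⟨b, hb, hcb⟩ := Coprime.exists_mul_mem_centralizer (A := zpowers y) (N := A) (k := g)
        (le_top.trans (normalizer_eq_top (H := A)).ge)
        (by rw [Nat.card_zpowers, hn]; exact hyr.pow_right n)
        (Or.inl inferInstance) (fun c hc => by
          obtain ⟨j, rfl⟩ := mem_zpowers_iff.mp hc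
          refine (QuotientGroup.eq_one_iff _).mp ?_
          have h1 : Commute (QuotientGroup.mk' A y) (q ^ k) := mem_centralizer_singleton_iff.mp hy
          show QuotientGroup.mk' A (g⁻¹ * y ^ j * g * (y ^ j)⁻¹) = 1
          rw [map_mul, map_mul, map_mul, map_inv, map_inv, hg, map_zpow,
            mul_assoc ((q ^ k)⁻¹), (h1.zpow_left j).eq, inv_mul_cancel_left, mul_inv_cancel])
      set x := g * b with hx
      have hxq : QuotientGroup.mk' A x = q ^ k := by
        rw [hx, map_mul, show QuotientGroup.mk' A b = 1 from (QuotientGroup.eq_one_iff b).mpr hb,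
          mul_one, hg]
      have hx1 : x ≠ 1 := fun h => hg1 (by
        rw [show g = b⁻¹ from eq_inv_of_mul_eq_one_left (hx ▸ h)]; exact inv_mem hb)
      have hyx : y * x = x * y := mem_centralizer_iff.mp hcb y (mem_zpowers y)
      -- a nontrivial element of `A` fixed by `x`
      obtain ⟨i, hi⟩ := hpow x hxq
      have hS : IsPGroup r (zpowers x ⊔ A : Subgroup G) := by
        obtain ⟨n, -, hn⟩ := (Nat.dvd_prime_pow hr).mp (orderOf_dvd_of_pow_eq_one hi)
        exact (IsPGroup.of_card (n := n) (by rw [Nat.card_zpowers, hn]) :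
          IsPGroup r (zpowers x)).to_sup_of_normal_right hA
      haveI : Nontrivial (A.subgroupOf (zpowers x ⊔ A)) := by
        rw [Subgroup.nontrivial_iff_ne_bot, ne_eq, Subgroup.subgroupOf_eq_bot, disjoint_iff,
          inf_eq_left.mpr le_sup_right]
        exact hAne
      obtain ⟨⟨c, hcA, hcc⟩, hc1⟩ := Subgroup.ne_bot_iff_exists_ne_one.mp
        (PGroup.inf_center_ne_bot hS (A.subgroupOf (zpowers x ⊔ A))
          ((Subgroup.nontrivial_iff_ne_bot _).mp inferInstance))
      have hc0 : (c : G) ≠ 1 := fun h => hc1 (Subtype.ext (Subtype.ext h))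
      have hcx : (c : G) * x = x * c := (congrArg Subtype.val
        (Subgroup.mem_center_iff.mp hcc ⟨x, Subgroup.mem_sup_left (mem_zpowers x)⟩)).symm
      obtain ⟨l, hl⟩ := hA ⟨(c : G), hcA⟩
      obtain ⟨l', hl'⟩ := hA ⟨a, ha⟩
      have hyc : y * c = c * y := commute_of_centralizer hCN hx1 hcx hyx
        ⟨l, congrArg Subtype.val hl⟩ hyr
      exact commute_of_centralizer hCN hc0 (hAc a ha c hcA) hyc
        ⟨l', congrArg Subtype.val hl'⟩ hyr
    obtain ⟨S⟩ := (inferInstance : Nonempty (Sylow r Y))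
    haveI : Nontrivial (A.subgroupOf Y) := by
      rw [Subgroup.nontrivial_iff_ne_bot, ne_eq, Subgroup.subgroupOf_eq_bot, disjoint_iff,
        inf_eq_left.mpr hAY]
      exact hAne
    have hAS : A.subgroupOf Y ≤ (S : Subgroup Y) :=
      (hA.comap_subtype (K := Y)).le_sylow_of_normal S
    haveI hn' : ((A.subgroupOf Y).subgroupOf (S : Subgroup Y)).Normal :=
      Subgroup.Normal.subgroupOf inferInstance _
    haveI : Nontrivial ((A.subgroupOf Y).subgroupOf (S : Subgroup Y)) :=
      (Subgroup.subgroupOfEquivOfLe hAS).toEquiv.nontrivial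
    obtain ⟨⟨c, hcA, hcc⟩, hc1⟩ := Subgroup.ne_bot_iff_exists_ne_one.mp
      (PGroup.inf_center_ne_bot S.2 ((A.subgroupOf Y).subgroupOf (S : Subgroup Y))
        ((Subgroup.nontrivial_iff_ne_bot _).mp inferInstance))
    have hc0 : ((c : Y) : G) ≠ 1 := fun h => hc1 (Subtype.ext (Subtype.ext (Subtype.ext h)))
    refine ⟨_, hc0, Subgroup.map_mono (Subgroup.subgroupOf_eq_top.mp ?_)⟩
    refine Components.eq_top_of_forall_sylow fun l hl _ => ?_
    haveI := Fact.mk hl
    by_cases hlr : l = r
    · subst hlr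
      exact ⟨S, fun a ha => mem_centralizer_singleton_iff.mpr
        (congrArg (fun t : (S : Subgroup Y) => ((t : Y) : G))
          (Subgroup.mem_center_iff.mp hcc ⟨a, ha⟩))⟩
    · obtain ⟨T⟩ := (inferInstance : Nonempty (Sylow l Y))
      refine ⟨T, fun a ha => mem_centralizer_singleton_iff.mpr (hcent a a.2 ?_ _ hcA)⟩
      obtain ⟨j, hj⟩ := IsPGroup.iff_orderOf.mp T.2 ⟨a, ha⟩
      rw [Subgroup.orderOf_mk] at hj
      rw [Subgroup.orderOf_coe, hj]
      exact Nat.Coprime.pow_left _ ((Nat.coprime_primes hl hp.out).mpr hlr)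

/-- In a perfect group of odd order a Sylow subgroup lies in the derived group of the normalizer of
the centre of its Thompson subgroup. -/
theorem sylow_le_commutator (hodd : Odd (Nat.card G)) (hperf : _root_.commutator G = ⊤)
    (hp2 : p ≠ 2) (P : Sylow p G) :
    (P : Subgroup G) ≤ ⁅normalizer (zjA G (P : Subgroup G) : Set G),
      normalizer (zjA G (P : Subgroup G) : Set G)⁆ := by
  have hctl := ZJControl.controlled_of_stableClass hp2
    (fun H (_ : Group H) => Odd (Nat.card H))
    (fun H _ _ K h => odd_subgroup h K) (fun H _ _ N _ h => odd_quotient h N)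
    (fun H _ _ h S _ => stableOn_of_odd h hp2 _) hodd (isZJLike_A hp2) P
    (Replacement.isStronglyClosed_self _)
  set M := normalizer (zjA G (P : Subgroup G) : Set G) with hM
  have hc : Transfer.ControlsElementFusion M (P : Subgroup G) := by
    intro x hx g hg
    obtain ⟨h, hh, he⟩ := hctl {x} (Set.singleton_subset_iff.mpr hx) g (fun a ha => by
      rw [Set.mem_singleton_iff.mp ha]; exact hg)
    exact ⟨h, hh, (he x rfl).symm⟩
  have := Transfer.commutator_inf_eq_of_controlsElementFusion (Transfer.sylow_coprime P)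
    ((isZJLike_A hp2).sylow_le_normalizer (Replacement.isStronglyClosed_self _)) hc
  rw [hperf, top_inf_eq] at this
  exact this.le.trans inf_le_left

/-- Structure of a solvable group of odd order in which the elements of order prime to `p` act
fixed-point-freely on `O_p`. -/
theorem commutator_mem_pCore {M : Type u} [Group M] [Finite M] [Group.IsSolvable M]
    (hodd : Odd (Nat.card M)) (hR : pCore p M ≠ ⊥)
    (hfpf : ∀ y : M, (orderOf y).Coprime p → ∀ b ∈ pCore p M, b ≠ 1 → y * b = b * y → y = 1)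
    {u : M} (hu : u ∈ _root_.commutator M) (hup : ∃ k : ℕ, u ^ p ^ k = 1) : u ∈ pCore p M := by
  set R := pCore p M with hRdef
  haveI : R.Normal := Components.pCore_normal' p
  have hRp : IsPGroup p R := PCore.isPGroup_pCore
  -- the centre of `R` as a module for `M ⧸ R`
  haveI : Nontrivial R := (Subgroup.nontrivial_iff_ne_bot R).mpr hR
  haveI := hRp.center_nontrivial
  set V := (Subgroup.center R).map R.subtype with hV
  haveI hVn : V.Normal := ConjAct.normal_of_characteristic_of_normal
  haveI : Nontrivial V :=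
    ((Subgroup.center R).equivMapOfInjective R.subtype R.subtype_injective).symm.toEquiv.nontrivial
  have hVc : ∀ a ∈ V, ∀ r ∈ R, r * a = a * r := by
    rintro _ ⟨a, ha, rfl⟩ r hr
    exact congrArg Subtype.val (Subgroup.mem_center_iff.mp ha ⟨r, hr⟩)
  have hVR : V ≤ R := Subgroup.map_subtype_le _
  letI : CommGroup V := { (inferInstance : Group V) with
    mul_comm := fun a b => Subtype.ext (hVc b b.2 a (hVR a.2)) }
  let ψ : M →* MulAut V := MulAut.conjNormal
  let φ : M ⧸ R →* MulAut V := QuotientGroup.lift R ψ fun r hr => by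
    refine MulEquiv.ext fun v => Subtype.ext ?_
    show r * (v : M) * r⁻¹ = v
    rw [hVc v v.2 r hr, mul_inv_cancel_right]
  -- the Fitting subgroup of the quotient
  set F := Cfsg.fittingSubgroup (M ⧸ R) with hF
  haveI : Group.IsSolvable (M ⧸ R) := Group.isSolvable_of_surjective (QuotientGroup.mk'_surjective R)
  haveI : Group.IsNilpotent F := Components.fittingSubgroup_isNilpotent _
  have hFp : (Nat.card F).Coprime p := by
    rw [Nat.coprime_comm, hp.out.coprime_iff_not_dvd]
    intro hd
    obtain ⟨w, hw⟩ := exists_prime_orderOf_dvd_card' p hd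
    have hmem := Subnormal.mem_pCore_of_mem_fittingSubgroup (p := p) (k := 1) w.2
      (by rw [pow_one, ← Subgroup.coe_pow, orderOf_dvd_iff_pow_eq_one.mp hw.dvd]; rfl)
    rw [PCore.pCore_quotient_self_eq_bot, Subgroup.mem_bot] at hmem
    rw [show w = 1 from Subtype.ext hmem, orderOf_one] at hw
    exact hp.out.ne_one hw.symm
  have hfpfF : Frobenius.Fpf.IsFpf (φ.comp F.subtype) := by
    rintro ⟨a, haF⟩ ha v hv
    obtain ⟨n, hn⟩ := hRp.exists_card_eq
    have hord : (orderOf a).Coprime p := by
      rw [← Subgroup.orderOf_mk a haF]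
      exact hFp.coprime_dvd_left (orderOf_dvd_natCard _)
    obtain ⟨y, hy, hyo⟩ := Coprime.exists_orderOf_lift R a (hn ▸ hord.pow_right n)
    have hψ : φ a = ψ y := by rw [← hy]; rfl
    have hv' : ψ y v = v := hψ ▸ hv
    by_contra hv1
    have hy1 : y = 1 := hfpf y (hyo ▸ hord) v (hVR v.2) (fun h => hv1 (Subtype.ext h))
      (mul_inv_eq_iff_eq_mul.mp (congrArg Subtype.val hv'))
    exact ha (Subtype.ext (by show a = 1; rw [← hy, hy1]; rfl))
  have hZ : IsZGroup F := by
    refine ⟨fun r hr S => ?_⟩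
    haveI := Fact.mk hr
    have hfS : Frobenius.Fpf.IsFpf ((φ.comp F.subtype).comp (S : Subgroup F).subtype) :=
      fun a ha v hv => hfpfF (a : F) (fun h => ha (Subtype.ext h)) v hv
    rcases PGroup.cyclic_or_quaternion_of_unique S.2
      (fun H K hH hK => Frobenius.Fpf.eq_of_card_eq_prime hfS S.2 hH hK) with hc | ⟨h2, n, -, hn, -⟩
    · exact hc
    · exfalso
      have h3 : Odd (Nat.card (S : Subgroup F)) :=
        odd_subgroup (odd_subgroup (odd_quotient hodd R) F) _
      rw [hn] at h3
      exact (Nat.not_even_iff_odd.mpr h3) (Nat.even_pow.mpr ⟨even_two, by omega⟩)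
  haveI := hZ
  haveI : IsCyclic F := inferInstance
  -- the derived group centralises `F`
  haveI : IsMulCommutative (MulAut F) := by
    refine ⟨⟨fun a b => MulEquiv.ext fun z => ?_⟩⟩
    obtain ⟨g, hg⟩ := IsCyclic.exists_generator (α := F)
    obtain ⟨i, hi⟩ := Subgroup.mem_zpowers_iff.mp (hg (a g))
    obtain ⟨j, hj⟩ := Subgroup.mem_zpowers_iff.mp (hg (b g))
    obtain ⟨l, rfl⟩ := Subgroup.mem_zpowers_iff.mp (hg z)
    simp only [MulAut.mul_apply, map_zpow, ← hj, ← hi, ← zpow_mul]
    ring_nf
  have huker : QuotientGroup.mk' R u ∈ F := by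
    refine Components.centralizer_fittingSubgroup_le ?_
    rw [← hF, mem_centralizer_iff]
    intro z hz
    have hker : _root_.commutator (M ⧸ R) ≤ (MulAut.conjNormal : M ⧸ R →* MulAut F).ker := by
      rw [_root_.commutator_def, Subgroup.commutator_le]
      intro a _ b _
      rw [MonoidHom.mem_ker, map_commutatorElement, commutatorElement_eq_one_iff_mul_comm]
      exact IsMulCommutative.is_comm.comm _ _
    have hu' : QuotientGroup.mk' R u ∈ _root_.commutator (M ⧸ R) := by
      have h1 := Subgroup.map_commutator (⊤ : Subgroup M) ⊤ (QuotientGroup.mk' R)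
      rw [← _root_.commutator_def, Subgroup.map_top_of_surjective _
        (QuotientGroup.mk'_surjective R), ← _root_.commutator_def] at h1
      exact h1 ▸ Subgroup.mem_map_of_mem _ hu
    have h2 := congrArg (fun f : MulAut F => ((f ⟨z, hz⟩ : F) : M ⧸ R)) (hker hu')
    simp only [MulAut.conjNormal_apply, MulAut.one_apply] at h2
    exact (mul_inv_eq_iff_eq_mul.mp h2).symm
  obtain ⟨k, hk⟩ := hup
  have h1 : orderOf (QuotientGroup.mk' R u) = 1 := by
    refine Nat.eq_one_of_dvd_coprimes (hFp.pow_right k) ?_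
      (orderOf_dvd_of_pow_eq_one (by rw [← map_pow, hk, map_one]))
    rw [← Subgroup.orderOf_mk _ huker]
    exact orderOf_dvd_natCard _
  exact (QuotientGroup.eq_one_iff u).mp (orderOf_eq_one_iff.mp h1)

/-- In a simple CN-group of odd order with solvable proper subgroups a Sylow subgroup that is
maximal nilpotent contains the centralizers of its nontrivial elements. -/
theorem sylow_centralizer_le [IsSimpleGroup G] (hne : ¬ ∀ a b : G, a * b = b * a)
    (hodd : Odd (Nat.card G)) (hCN : IsCNGroup G)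
    (hsol : ∀ H : Subgroup G, H ≠ ⊤ → Group.IsSolvable H) (P : Sylow p G)
    (hmax : IsMaxNilp (P : Subgroup G)) {x : G} (hx : x ∈ (P : Subgroup G)) (hx1 : x ≠ 1) :
    centralizer ({x} : Set G) ≤ (P : Subgroup G) := by
  classical
  haveI := Fintype.ofFinite (Subgroup G)
  haveI := Fintype.ofFinite (Sylow p G)
  have hcen : ∀ b : G, b ≠ 1 → (∃ k : ℕ, b ^ p ^ k = 1) →
      IsPGroup p (centralizer ({b} : Set G)) := fun b hb hbp => isPGroup_centralizer hCN P hmax hb hbp
  have hpow : ∀ {S : Subgroup G}, IsPGroup p S → ∀ b ∈ S, ∃ k : ℕ, b ^ p ^ k = 1 := fun hS b hb =>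
    let ⟨k, hk⟩ := hS ⟨b, hb⟩
    ⟨k, congrArg Subtype.val hk⟩
  obtain ⟨Q, hQ⟩ := (hcen x hx1 (hpow P.2 x hx)).exists_le_sylow
  suffices h : Q = P by rw [← h]; exact hQ
  by_contra hQP
  have hxQ : x ∈ (Q : Subgroup G) := hQ (mem_centralizer_singleton_iff.mpr rfl)
  have hperf : _root_.commutator G = ⊤ :=
    (Subgroup.Normal.eq_bot_or_eq_top (inferInstance : (_root_.commutator G).Normal)).resolve_left
      fun h => hne fun a b => by
        have := Subgroup.commutator_mem_commutator (mem_top a) (mem_top b)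
        rw [← _root_.commutator_def, h, mem_bot, commutatorElement_eq_one_iff_mul_comm] at this
        exact this
  have hp2 : p ≠ 2 := by
    refine ne_two_of_odd_of_dvd hodd ?_
    obtain ⟨k, hk⟩ := hpow P.2 x hx
    obtain ⟨n, -, hn⟩ := (Nat.dvd_prime_pow hp.out).mp (orderOf_dvd_of_pow_eq_one hk)
    have hn0 : n ≠ 0 := fun h => hx1 (orderOf_eq_one_iff.mp (by rw [hn, h, pow_zero]))
    exact (dvd_pow_self p hn0).trans (hn ▸ orderOf_dvd_natCard x)
  -- nontrivial `p`-subgroups whose normalizer has several Sylow subgroups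
  let Bad : Subgroup G → Prop := fun D => IsPGroup p D ∧ D ≠ ⊥ ∧
    ¬ Subsingleton (Sylow p (normalizer (D : Set G)))
  have hBad : ∃ D, Bad D := by
    obtain ⟨⟨Q₁, Q₂⟩, hQQ, hmaxQ⟩ := Finset.exists_max_image
      ((Finset.univ : Finset (Sylow p G × Sylow p G)).filter fun q => q.1 ≠ q.2)
      (fun q => Nat.card ((q.1 : Subgroup G) ⊓ q.2 : Subgroup G))
      ⟨(P, Q), Finset.mem_filter.mpr ⟨Finset.mem_univ _, Ne.symm hQP⟩⟩
    simp only [Finset.mem_filter, Finset.mem_univ, true_and] at hQQ hmaxQ
    set D := (Q₁ : Subgroup G) ⊓ Q₂ with hD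
    have hDne : D ≠ ⊥ := fun h => by
      have h1 := hmaxQ (P, Q) (Ne.symm hQP)
      rw [h, Subgroup.card_bot] at h1
      haveI : Nontrivial ((P : Subgroup G) ⊓ Q : Subgroup G) :=
        ⟨⟨⟨x, hx, hxQ⟩, 1, fun h => hx1 (congrArg Subtype.val h)⟩⟩
      exact absurd h1 (not_le.mpr Finite.one_lt_card)
    refine ⟨D, Q₁.2.to_le inf_le_left, hDne, fun hsub => ?_⟩
    have hlt : ∀ S T : Sylow p G, S ≠ T → (S : Subgroup G) ⊓ T = D →
        D < (S : Subgroup G) ⊓ normalizer (D : Set G) := by
      intro S T hST hSTD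
      refine Transfer.lt_inf_normalizer_of_lt S.2 (lt_of_le_of_ne (hSTD ▸ inf_le_left) fun h => ?_)
      have h1 : (S : Subgroup G) ≤ T := by rw [← h, ← hSTD]; exact inf_le_right
      exact hST (Sylow.ext (le_antisymm h1 (by
        rw [S.is_maximal' T.2 h1])))
    have h1 := hlt Q₁ Q₂ hQQ rfl
    have h2 := hlt Q₂ Q₁ hQQ.symm (inf_comm _ _)
    -- the unique Sylow subgroup of `N(D)`
    set N := normalizer (D : Set G)
    obtain ⟨S, hS⟩ := ((default : Sylow p N).2.map N.subtype).exists_le_sylow
    have hle : ∀ T : Sylow p G, (T : Subgroup G) ⊓ N ≤ S := by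
      intro T a ha
      obtain ⟨R, hR⟩ := (T.2.comap_subtype (K := N)).exists_le_sylow
      refine hS ⟨⟨a, ha.2⟩, ?_, rfl⟩
      rw [SetLike.mem_coe, Subsingleton.elim (default : Sylow p N) R]
      exact hR (mem_subgroupOf.mpr ha.1)
    have hkey : ∀ T : Sylow p G, D < (T : Subgroup G) ⊓ N → T = S := fun T hT => by
      by_contra hne
      have h3 := hmaxQ (T, S) hne
      have h4 : (T : Subgroup G) ⊓ N ≤ (T : Subgroup G) ⊓ S := le_inf inf_le_left (hle T)
      have h5 : Nat.card D < Nat.card ((T : Subgroup G) ⊓ S : Subgroup G) :=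
        lt_of_lt_of_le (card_lt_card hT) (Subgroup.card_le_of_le h4)
      exact absurd h3 (not_le.mpr h5)
    exact hQQ ((hkey Q₁ h1).trans (hkey Q₂ h2).symm)
  obtain ⟨D, hD, hmaxD⟩ := Finset.exists_max_image (Finset.univ.filter Bad)
    (fun D => Nat.card ((default : Sylow p ↥(normalizer (D : Set G))).toSubgroup))
    (by obtain ⟨D, hD⟩ := hBad; exact ⟨D, Finset.mem_filter.mpr ⟨Finset.mem_univ _, hD⟩⟩)
  simp only [Finset.mem_filter, Finset.mem_univ, true_and] at hD hmaxD
  obtain ⟨hDp, hDne, hDsyl⟩ := hD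
  set N := normalizer (D : Set G) with hN
  -- facts about local subgroups
  have hlocal : ∀ (T : Subgroup G), IsPGroup p T → T ≠ ⊥ → ∀ y ∈ normalizer (T : Set G),
      (∀ t ∈ T, y * t = t * y) → ∃ k : ℕ, y ^ p ^ k = 1 := by
    intro T hT hT1 y _ hy
    obtain ⟨⟨t, ht⟩, ht1⟩ := Subgroup.ne_bot_iff_exists_ne_one.mp hT1
    exact hpow (hcen t (fun h => ht1 (Subtype.ext h)) (hpow hT t ht)) y
      (mem_centralizer_singleton_iff.mpr (hy t ht))
  have hDN : D ≤ N := Subgroup.le_normalizer
  haveI : (D.subgroupOf N).Normal := Subgroup.normal_in_normalizer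
  have hDcore : D.subgroupOf N ≤ pCore p N := PCore.le_pCore hDp.comap_subtype
  have hconst : centralizer (pCore p N : Set N) ≤ pCore p N := by
    haveI : (centralizer (pCore p N : Set N)).Normal :=
      haveI : (pCore p N).Normal := Components.pCore_normal' p
      inferInstanceAs (centralizer _).Normal
    refine PCore.le_pCore fun y => ?_
    obtain ⟨k, hk⟩ := hlocal D hDp hDne (y : N) (y : N).2 fun t ht => congrArg Subtype.val
      (mem_centralizer_iff.mp y.2 ⟨t, hDN ht⟩ (hDcore (mem_subgroupOf.mpr ht))).symm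
    exact ⟨k, Subtype.ext (Subtype.ext hk)⟩
  set R₀ := (default : Sylow p N) with hR₀
  have hoddN : Odd (Nat.card N) := odd_subgroup hodd N
  have hFn : (zjA N (R₀ : Subgroup N)).Normal := (isZJLike_A hp2).normal N R₀ _
    (Replacement.isStronglyClosed_self _) (stableOn_of_odd hoddN hp2 _) hconst
  set R := (R₀ : Subgroup N).map N.subtype with hRdef
  set Z := zjA G R with hZdef
  have hNZ : N ≤ normalizer (Z : Set G) := by
    rw [hZdef, hRdef, (isZJLike_A hp2).map_subtype (R₀ : Subgroup N)]
    exact Subgroup.normal_subgroupOf_iff_le_normalizer (Subgroup.map_subtype_le _) |>.mp (by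
      rwa [Subgroup.subgroupOf, Subgroup.comap_map_eq_self_of_injective N.subtype_injective])
  have hRp : IsPGroup p R := R₀.2.map _
  have hR1 : R ≠ ⊥ := fun h => hDne (le_bot_iff.mp (by
    rw [← h, hRdef]
    intro d hd
    refine ⟨⟨d, hDN hd⟩, ?_, rfl⟩
    have h5 : IsPGroup p (D.subgroupOf N) := hDp.comap_subtype
    exact h5.le_sylow_of_normal R₀ (mem_subgroupOf.mpr hd)))
  have hZp : IsPGroup p Z := hRp.to_le ((isZJLike_A hp2).le G R)
  have hZ1 : Z ≠ ⊥ := (isZJLike_A hp2).ne_bot G R hRp hR1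
  obtain ⟨S, hRS⟩ := hRp.exists_le_sylow
  set M := normalizer (Z : Set G) with hM
  have hMbad : ¬ Subsingleton (Sylow p M) := by
    intro hsub
    refine hDsyl ⟨fun T T' => ?_⟩
    obtain ⟨A, hA⟩ := (T.2.map (Subgroup.inclusion hNZ)).exists_le_sylow
    obtain ⟨A', hA'⟩ := (T'.2.map (Subgroup.inclusion hNZ)).exists_le_sylow
    rw [Subsingleton.elim A' A] at hA'
    have hp' : IsPGroup p (((A : Subgroup M).comap (Subgroup.inclusion hNZ))) :=
      A.2.comap_of_injective _ (Subgroup.inclusion_injective hNZ)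
    have h1 := T.is_maximal' hp' (Subgroup.map_le_iff_le_comap.mp hA)
    have h2 := T'.is_maximal' hp' (Subgroup.map_le_iff_le_comap.mp hA')
    exact Sylow.ext (h1.symm.trans h2)
  rcases eq_or_ne R (S : Subgroup G) with hRS' | hRS'
  swap
  · have hlt := Transfer.lt_inf_normalizer_of_lt S.2 (lt_of_le_of_ne hRS hRS')
    have hnorm : (S : Subgroup G) ⊓ normalizer (R : Set G) ≤ M :=
      inf_le_right.trans ((isZJLike_A hp2).normalizer_le R)
    obtain ⟨A, hA⟩ := ((S.2.to_le inf_le_left : IsPGroup p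
      ((S : Subgroup G) ⊓ normalizer (R : Set G) : Subgroup G)).comap_subtype (K := M)).exists_le_sylow
    have h1 : Nat.card (default : Sylow p M).toSubgroup ≤ Nat.card R₀.toSubgroup :=
      hmaxD Z ⟨hZp, hZ1, hMbad⟩
    have h2 : Nat.card ((S : Subgroup G) ⊓ normalizer (R : Set G) : Subgroup G) ≤
        Nat.card (A : Subgroup M) := by
      rw [← Nat.card_congr (Subgroup.subgroupOfEquivOfLe hnorm).toEquiv]
      exact Subgroup.card_le_of_le hA
    rw [Sylow.card_eq_multiplicity A, ← Sylow.card_eq_multiplicity (default : Sylow p M)] at h2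
    have h3 : Nat.card R = Nat.card (R₀ : Subgroup N) :=
      Subgroup.card_map_of_injective N.subtype_injective
    have h4 := card_lt_card hlt
    omega
  -- `R` is a Sylow subgroup of `G`
  have hSM : (S : Subgroup G) ≤ M := by
    rw [hM, hZdef, hRS']
    exact (isZJLike_A hp2).sylow_le_normalizer (Replacement.isStronglyClosed_self _)
  have hSM' := sylow_le_commutator hodd hperf hp2 S
  rw [← hRS', ← hZdef, ← hM, hRS'] at hSM'
  have hMtop : M ≠ ⊤ := by
    intro h
    rcases (Subgroup.normalizer_eq_top_iff.mp h).eq_bot_or_eq_top with h0 | h0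
    · exact hZ1 h0
    · have hG : IsPGroup p G := (h0 ▸ hZp).of_equiv Subgroup.topEquiv
      haveI := hG.isNilpotent
      exact hne fun a b => mul_comm a b
  haveI := hsol M hMtop
  haveI : (Z.subgroupOf M).Normal := Subgroup.normal_in_normalizer
  have hZcore : Z.subgroupOf M ≤ pCore p M := PCore.le_pCore hZp.comap_subtype
  have hcoreM : pCore p M ≠ ⊥ := fun h => hZ1 (by
    rw [h, le_bot_iff, Subgroup.subgroupOf_eq_bot, disjoint_iff,
      inf_eq_left.mpr Subgroup.le_normalizer] at hZcore
    exact hZcore)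
  have hSle : (S : Subgroup G).subgroupOf M ≤ pCore p M := by
    intro a ha
    refine commutator_mem_pCore (odd_subgroup hodd M) hcoreM (fun y hy b hb hb1 hcomm => ?_) ?_ ?_
    · have hbp : ∃ k : ℕ, (b : G) ^ p ^ k = 1 := by
        obtain ⟨k, hk⟩ := PCore.isPGroup_pCore ⟨b, hb⟩
        exact ⟨k, congrArg (fun t : pCore p M => ((t : M) : G)) hk⟩
      obtain ⟨k, hk⟩ := hpow (hcen b (fun h => hb1 (Subtype.ext h)) hbp) y
        (mem_centralizer_singleton_iff.mpr (congrArg Subtype.val hcomm))
      exact orderOf_eq_one_iff.mp (Nat.eq_one_of_dvd_coprimes (hy.pow_right k) dvd_rfl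
        (orderOf_dvd_of_pow_eq_one (Subtype.ext hk)))
    · have h1 : ⁅M, M⁆ = (_root_.commutator M).map M.subtype := (M.map_subtype_commutator).symm
      obtain ⟨a', ha', hea⟩ : (a : G) ∈ (_root_.commutator M).map M.subtype :=
        h1 ▸ hSM' (mem_subgroupOf.mp ha)
      rwa [← Subtype.ext hea]
    · obtain ⟨k, hk⟩ := hpow S.2 _ (mem_subgroupOf.mp ha)
      exact ⟨k, Subtype.ext hk⟩
  refine hMbad ?_
  haveI : (pCore p M).Normal := Components.pCore_normal' p
  have h1 := (S.subtype hSM).is_maximal' PCore.isPGroup_pCore (by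
    rw [Sylow.coe_subtype]; exact hSle)
  haveI := Sylow.unique_of_normal (S.subtype hSM) (h1 ▸ inferInstance)
  infer_instance

end Cfsg.Agent.OddOrder.CN
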