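import Mathlib
import Cfsg.Prelude.Def_OddOrderLocal
import Cfsg.Agent.Lib.OddOrder.PiCore
import Cfsg.Agent.Lib.OddOrder.FixedPoint
import Cfsg.Agent.Lib.Coprime.Basic
import Cfsg.Agent.Lib.Coprime.Sylow

/-! The transitivity theorems of local analysis in a minimal simple group of odd order. -/

namespace Cfsg.Agent.OddOrder

open Cfsg
open scoped Pointwise

universe u
variable {G : Type u} [Group G] [Finite G]

theorem minSimple_eq_bot_or_top (hG : IsMinSimpleOddOrder G) {N : Subgroup G}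
    (h : Subgroup.normalizer (N : Set G) = ⊤) : N = ⊥ ∨ N = ⊤ :=
  hG.2.1.eq_bot_or_eq_top_of_normal N (Subgroup.normalizer_eq_top_iff.mp h)

theorem normalizer_ne_top_of_minSimple (hG : IsMinSimpleOddOrder G) {N : Subgroup G} (h1 : N ≠ ⊥)
    (h2 : N ≠ ⊤) : Subgroup.normalizer (N : Set G) ≠ ⊤ :=
  fun h => (minSimple_eq_bot_or_top hG h).elim h1 h2

theorem centralizer_singleton_ne_top_of_minSimple (hG : IsMinSimpleOddOrder G) {b : G} (hb : b ≠ 1) :
    Subgroup.centralizer ({b} : Set G) ≠ ⊤ := by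
  intro h
  have hbc : b ∈ Subgroup.center G := Subgroup.mem_center_iff.mpr fun g =>
    Subgroup.mem_centralizer_singleton_iff.mp (h.symm ▸ Subgroup.mem_top g)
  rcases hG.2.1.eq_bot_or_eq_top_of_normal (Subgroup.center G) inferInstance with h' | h'
  · rw [h', Subgroup.mem_bot] at hbc
    exact hb hbc
  · exact hG.2.2.1 ⟨⟨fun a c => Subgroup.mem_center_iff.mp (h'.symm ▸ Subgroup.mem_top c) a⟩⟩

/-- The core `O_{π(A)'}(C_G(A))`. -/
abbrev coreC (A B : Subgroup G) : Subgroup G :=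
  piCoreOf (primesNotDvd (Nat.card A)) (Subgroup.centralizer (B : Set G))

/-- `k` conjugates `Q₁` to `Q₂`. -/
def Linked (A Q₁ Q₂ : Subgroup G) : Prop := ∃ k ∈ coreC A A, Q₂ = MulAut.conj k • Q₁

theorem Linked.refl (A Q : Subgroup G) : Linked A Q Q :=
  ⟨1, Subgroup.one_mem _, by rw [map_one, one_smul]⟩

theorem Linked.symm {A Q₁ Q₂ : Subgroup G} (h : Linked A Q₁ Q₂) : Linked A Q₂ Q₁ := by
  obtain ⟨k, hk, rfl⟩ := h
  exact ⟨k⁻¹, Subgroup.inv_mem _ hk, by rw [Coprime.conj_smul_smul, inv_mul_cancel, map_one, one_smul]⟩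

theorem Linked.trans {A Q₁ Q₂ Q₃ : Subgroup G} (h : Linked A Q₁ Q₂) (h' : Linked A Q₂ Q₃) :
    Linked A Q₁ Q₃ := by
  obtain ⟨k, hk, rfl⟩ := h
  obtain ⟨l, hl, rfl⟩ := h'
  exact ⟨l * k, Subgroup.mul_mem _ hl hk, by rw [Coprime.conj_smul_smul]⟩

variable {A : Subgroup G} {q : ℕ} [hqF : Fact q.Prime]

theorem mem_invSubgroups_iff {B Y : Subgroup G} :
    Y ∈ invSubgroups ⊤ B {q} ↔ IsPGroup q Y ∧ B ≤ Subgroup.normalizer (Y : Set G) :=
  ⟨fun h => ⟨isPiGrp_singleton_iff.mp h.2.1, h.2.2⟩,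
    fun h => ⟨le_top, isPiGrp_singleton_iff.mpr h.1, h.2⟩⟩

theorem isPGroup_of_maxInv {B Q : Subgroup G} (h : Q ∈ maxInvSubgroups ⊤ B {q}) : IsPGroup q Q :=
  (mem_invSubgroups_iff.mp h.1).1

theorem le_normalizer_of_maxInv {B Q : Subgroup G} (h : Q ∈ maxInvSubgroups ⊤ B {q}) :
    B ≤ Subgroup.normalizer (Q : Set G) := h.1.2.2

theorem exists_maxInv_ge {B Y : Subgroup G} (hY : IsPGroup q Y)
    (hYB : B ≤ Subgroup.normalizer (Y : Set G)) : ∃ Q ∈ maxInvSubgroups ⊤ B {q}, Y ≤ Q := by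
  obtain ⟨Q, hQY, hQ⟩ := Set.Finite.exists_le_maximal (Set.toFinite (invSubgroups ⊤ B {q}))
    (mem_invSubgroups_iff.mpr ⟨hY, hYB⟩)
  exact ⟨Q, ⟨hQ.1, fun R hR hQR => le_antisymm (hQ.2 hR hQR) hQR⟩, hQY⟩

omit hqF in
theorem conj_smul_mem_invSubgroups {B Y : Subgroup G} {g : G} (hg : g ∈ Subgroup.normalizer (B : Set G))
    (hY : Y ∈ invSubgroups ⊤ B {q}) : MulAut.conj g • Y ∈ invSubgroups ⊤ B {q} := by
  refine ⟨le_top, fun p hp hd => hY.2.1 p hp ?_, ?_⟩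
  · rwa [Coprime.card_conj_smul] at hd
  · conv_lhs => rw [← Coprime.conj_smul_eq_self_of_mem hg]
    exact (Subgroup.map_mono hY.2.2).trans (Subgroup.le_normalizer_map _)

omit hqF in
theorem conj_smul_mem_maxInv {B Q : Subgroup G} {g : G} (hg : g ∈ Subgroup.normalizer (B : Set G))
    (hQ : Q ∈ maxInvSubgroups ⊤ B {q}) : MulAut.conj g • Q ∈ maxInvSubgroups ⊤ B {q} := by
  refine ⟨conj_smul_mem_invSubgroups hg hQ.1, fun R hR hle => ?_⟩
  have h := hQ.2 _ (conj_smul_mem_invSubgroups (Subgroup.inv_mem _ hg) hR) (by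
    have := Subgroup.pointwise_smul_le_pointwise_smul_iff (a := MulAut.conj g⁻¹).mpr hle
    rwa [Coprime.conj_smul_smul, inv_mul_cancel, map_one, one_smul] at this)
  rw [← h, Coprime.conj_smul_smul, mul_inv_cancel, map_one, one_smul]

theorem coreC_le_centralizer (A B : Subgroup G) : coreC A B ≤ Subgroup.centralizer (B : Set G) :=
  piCoreOf_le _ _

theorem coreC_le_normalizer (A B : Subgroup G) : coreC A B ≤ Subgroup.normalizer (B : Set G) :=
  (piCoreOf_le _ _).trans (Subgroup.centralizer_le_normalizer _)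

/-- A `π(A)'`-subgroup centralized by `A` lies in `O_{π(A)'}(C_G(A))`. -/
theorem le_coreC (hG : IsMinSimpleOddOrder G) (hA : TransitivityHypothesis A) {Y : Subgroup G}
    (hY : Y ≤ Subgroup.centralizer (A : Set G)) (hπ : IsPiGrp (primesNotDvd (Nat.card A)) Y) :
    Y ≤ coreC A A := by
  set N := Subgroup.normalizer (A : Set G) with hN
  have hNtop : N ≠ ⊤ := normalizer_ne_top_of_minSimple hG hA.1 hA.2.1
  have hCN : Subgroup.centralizer (A : Set G) ≤ N := Subgroup.centralizer_le_normalizer _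
  have hmem : Y ∈ invSubgroups N A (primesNotDvd (Nat.card A)) :=
    ⟨hY.trans hCN, hπ, (Subgroup.le_centralizer_iff.mp hY).trans (Subgroup.centralizer_le_normalizer _)⟩
  have h1 : Y ≤ piCoreOf (primesNotDvd (Nat.card A)) N := hA.2.2 N hNtop Subgroup.le_normalizer ▸ le_sSup hmem
  refine (le_inf h1 hY).trans (le_piCoreOf inf_le_right ?_ ((isPiGrp_piCoreOf _ _).mono inf_le_left))
  exact fun c hc => Subgroup.inf_normalizer_le_normalizer_inf
    ⟨le_normalizer_piCoreOf _ _ (hCN hc), Subgroup.le_normalizer hc⟩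

theorem singleton_le_primesNotDvd (hqA : ¬ q ∣ Nat.card A) : ({q} : Set ℕ) ⊆ primesNotDvd (Nat.card A) := by
  rintro _ rfl
  exact ⟨hqF.out, hqA⟩

theorem le_core_of_invariant (hA : TransitivityHypothesis A) (hqA : ¬ q ∣ Nat.card A) {X Y : Subgroup G}
    (hX : X ≠ ⊤) (hAX : A ≤ X) (hYX : Y ≤ X) (hY : IsPGroup q Y)
    (hYA : A ≤ Subgroup.normalizer (Y : Set G)) : Y ≤ piCoreOf (primesNotDvd (Nat.card A)) X := by
  rw [← hA.2.2 X hX hAX]
  exact le_sSup ⟨hYX, fun p hp hd => singleton_le_primesNotDvd hqA (isPiGrp_singleton_iff.mpr hY p hp hd), hYA⟩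

theorem pgroup_normalizer_ne_top (hG : IsMinSimpleOddOrder G) (hA : TransitivityHypothesis A)
    (hqA : ¬ q ∣ Nat.card A) {Y : Subgroup G} (hY : IsPGroup q Y) (hY1 : Y ≠ ⊥) :
    Subgroup.normalizer (Y : Set G) ≠ ⊤ := by
  refine normalizer_ne_top_of_minSimple hG hY1 ?_
  rintro rfl
  apply hA.1
  rw [← Subgroup.card_eq_one]
  by_contra hne
  obtain ⟨r, hr, hrA⟩ := Nat.exists_prime_and_dvd hne
  have := isPiGrp_singleton_iff.mpr hY r hr (hrA.trans (Subgroup.card_dvd_of_le le_top))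
  exact hqA ((Set.mem_singleton_iff.mp this) ▸ hrA)

/-- Inside a proper `X ≥ A`, any two invariant `q`-subgroups lie in linked maximal ones. -/
theorem exists_linked_ge (hG : IsMinSimpleOddOrder G) (hA : TransitivityHypothesis A)
    (hqA : ¬ q ∣ Nat.card A) {X U₁ U₂ : Subgroup G} (hX : X ≠ ⊤) (hAX : A ≤ X)
    (h1X : U₁ ≤ X) (h1 : IsPGroup q U₁) (h1A : A ≤ Subgroup.normalizer (U₁ : Set G))
    (h2X : U₂ ≤ X) (h2 : IsPGroup q U₂) (h2A : A ≤ Subgroup.normalizer (U₂ : Set G)) :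
    ∃ Q ∈ maxInvSubgroups ⊤ A {q}, ∃ Q' ∈ maxInvSubgroups ⊤ A {q},
      U₁ ≤ Q ∧ U₂ ≤ Q' ∧ Linked A Q Q' := by
  set W := piCoreOf (primesNotDvd (Nat.card A)) X with hW
  have hAW : A ≤ Subgroup.normalizer (W : Set G) := hAX.trans (le_normalizer_piCoreOf _ _)
  have hcop : (Nat.card A).Coprime (Nat.card W) :=
    (coprime_of_primesNotDvd (isPiGrp_piCoreOf _ X)).symm
  have hs : Group.IsSolvable A ∨ Group.IsSolvable W :=
    Or.inr (Coprime.isSolvable_of_le (piCoreOf_le _ _) (hG.2.2.2 X hX))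
  obtain ⟨S₁, hS₁, hS₁A⟩ := Coprime.exists_invariant_sylow_ge hAW hcop hs
    (le_core_of_invariant hA hqA hX hAX h1X h1 h1A) h1 h1A
  obtain ⟨S₂, hS₂, hS₂A⟩ := Coprime.exists_invariant_sylow_ge hAW hcop hs
    (le_core_of_invariant hA hqA hX hAX h2X h2 h2A) h2 h2A
  obtain ⟨c, hcA, hc⟩ := Coprime.exists_centralizer_smul_sylow hAW hcop hs S₁ S₂ hS₁A hS₂A
  have hck : (c : G) ∈ coreC A A := by
    refine le_coreC hG hA (Y := W ⊓ Subgroup.centralizer (A : Set G)) inf_le_right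
      ((isPiGrp_piCoreOf _ X).mono inf_le_left) ⟨c.2, hcA⟩
  obtain ⟨Q, hQ, hQS⟩ := exists_maxInv_ge (S₁.isPGroup'.map W.subtype) hS₁A
  refine ⟨Q, hQ, MulAut.conj (c : G) • Q, conj_smul_mem_maxInv (coreC_le_normalizer A A hck) hQ,
    hS₁.trans hQS, hS₂.trans ?_, c, hck, rfl⟩
  rw [← hc, Sylow.coe_subgroup_smul, Coprime.map_conj_smul, Subgroup.coe_subtype]
  exact Subgroup.pointwise_smul_le_pointwise_smul_iff.mpr hQS

omit hqF in
theorem lt_inf_normalizer {D Q : Subgroup G} (hQ : Group.IsNilpotent Q) (h : D < Q) :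
    D < Q ⊓ Subgroup.normalizer (D : Set G) := by
  refine lt_of_le_of_ne (le_inf h.le Subgroup.le_normalizer) fun heq => ?_
  have hlt : D.subgroupOf Q < ⊤ := by
    rw [lt_top_iff_ne_top]
    exact fun he => h.not_ge (Subgroup.subgroupOf_eq_top.mp he)
  obtain ⟨n, hn, hnD⟩ := SetLike.exists_of_lt (Group.normalizerCondition_of_isNilpotent _ hlt)
  apply hnD
  rw [Subgroup.mem_subgroupOf, heq]
  refine ⟨n.2, Subgroup.mem_normalizer_iff.mpr fun d => ?_⟩
  have hn' := Subgroup.mem_normalizer_iff.mp hn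
  constructor
  · intro hd
    exact (hn' ⟨d, h.le hd⟩).mp hd
  · intro hd
    have hdQ : d ∈ Q := by
      have := Q.mul_mem (Q.mul_mem (Q.inv_mem n.2) (h.le hd)) n.2
      simpa [mul_assoc] using this
    exact (hn' ⟨d, hdQ⟩).mpr hd

/-- Maximal invariant `q`-subgroups with nontrivial intersection are linked. -/
theorem linked_of_inf_ne_bot (hG : IsMinSimpleOddOrder G) (hA : TransitivityHypothesis A)
    (hqA : ¬ q ∣ Nat.card A) {Q₁ Q₂ : Subgroup G} (h₁ : Q₁ ∈ maxInvSubgroups ⊤ A {q})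
    (h₂ : Q₂ ∈ maxInvSubgroups ⊤ A {q}) (hne : Q₁ ⊓ Q₂ ≠ ⊥) : Linked A Q₁ Q₂ := by
  induction hn : Nat.card G - Nat.card ↥(Q₁ ⊓ Q₂) using Nat.strong_induction_on generalizing Q₁ Q₂ with
  | _ n ih =>
  subst hn
  set D := Q₁ ⊓ Q₂ with hD
  rcases eq_or_lt_of_le (inf_le_left : D ≤ Q₁) with h | h1
  · rw [h₁.2 Q₂ h₂.1 (h ▸ inf_le_right)]
    exact Linked.refl _ _
  rcases eq_or_lt_of_le (inf_le_right : D ≤ Q₂) with h | h2
  · rw [h₂.2 Q₁ h₁.1 (h ▸ inf_le_left)]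
    exact Linked.refl _ _
  set N := Subgroup.normalizer (D : Set G) with hN
  have hAN : A ≤ N := Coprime.le_normalizer_inf_of_le (le_normalizer_of_maxInv h₁) (le_normalizer_of_maxInv h₂)
  have hN' : N ≠ ⊤ := pgroup_normalizer_ne_top hG hA hqA ((isPGroup_of_maxInv h₁).to_le inf_le_left) hne
  have g1 := lt_inf_normalizer (isPGroup_of_maxInv h₁).isNilpotent h1
  have g2 := lt_inf_normalizer (isPGroup_of_maxInv h₂).isNilpotent h2
  obtain ⟨Q, hQ, Q', hQ', hU, hU', hlink⟩ := exists_linked_ge hG hA hqA hN' hAN (U₁ := Q₁ ⊓ N) (U₂ := Q₂ ⊓ N)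
    inf_le_right ((isPGroup_of_maxInv h₁).to_le inf_le_left)
    (Coprime.le_normalizer_inf_of_le (le_normalizer_of_maxInv h₁) (hAN.trans Subgroup.le_normalizer))
    inf_le_right ((isPGroup_of_maxInv h₂).to_le inf_le_left)
    (Coprime.le_normalizer_inf_of_le (le_normalizer_of_maxInv h₂) (hAN.trans Subgroup.le_normalizer))
  have step : ∀ {R R' : Subgroup G}, R ∈ maxInvSubgroups ⊤ A {q} → R' ∈ maxInvSubgroups ⊤ A {q} →
      D < R ⊓ R' → Linked A R R' := by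
    intro R R' hR hR' hlt
    refine ih _ ?_ hR hR' (fun hb => not_lt_bot (hb ▸ hlt)) rfl
    have hc : Nat.card D < Nat.card ↥(R ⊓ R') :=
      lt_of_le_of_ne (Subgroup.card_le_of_le hlt.le) fun he =>
        hlt.ne (Subgroup.eq_of_le_of_card_ge hlt.le he.ge)
    have hG' : Nat.card ↥(R ⊓ R') ≤ Nat.card G := Subgroup.card_le_card_group _
    omega
  exact ((step h₁ hQ (g1.trans_le (le_inf inf_le_left hU))).trans hlink).trans
    (step hQ' h₂ (g2.trans_le (le_inf hU' inf_le_left)))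

/-- Two maximal invariant `q`-subgroups meeting a proper subgroup containing `A` are linked. -/
theorem linked_of_meet (hG : IsMinSimpleOddOrder G) (hA : TransitivityHypothesis A)
    (hqA : ¬ q ∣ Nat.card A) {Q₁ Q₂ : Subgroup G} (h₁ : Q₁ ∈ maxInvSubgroups ⊤ A {q})
    (h₂ : Q₂ ∈ maxInvSubgroups ⊤ A {q}) {H : Subgroup G} (hH : H ≠ ⊤) (hAH : A ≤ H)
    (hH₁ : H ⊓ Q₁ ≠ ⊥) (hH₂ : H ⊓ Q₂ ≠ ⊥) : Linked A Q₁ Q₂ := by
  obtain ⟨Q, hQ, Q', hQ', hU, hU', hlink⟩ := exists_linked_ge hG hA hqA hH hAH (U₁ := H ⊓ Q₁) (U₂ := H ⊓ Q₂)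
    inf_le_left ((isPGroup_of_maxInv h₁).to_le inf_le_right)
    (Coprime.le_normalizer_inf_of_le (hAH.trans Subgroup.le_normalizer) (le_normalizer_of_maxInv h₁))
    inf_le_left ((isPGroup_of_maxInv h₂).to_le inf_le_right)
    (Coprime.le_normalizer_inf_of_le (hAH.trans Subgroup.le_normalizer) (le_normalizer_of_maxInv h₂))
  refine ((linked_of_inf_ne_bot hG hA hqA h₁ hQ ?_).trans hlink).trans (linked_of_inf_ne_bot hG hA hqA hQ' h₂ ?_)
  · exact ne_bot_of_le_ne_bot hH₁ (le_inf inf_le_right hU)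
  · exact ne_bot_of_le_ne_bot hH₂ (le_inf hU' inf_le_right)

/-- Transport to the form of the statements. -/
theorem Linked.exists_map {A Q₁ Q₂ : Subgroup G} (h : Linked A Q₁ Q₂) :
    ∃ k ∈ piCoreOf (primesNotDvd (Nat.card A)) (Subgroup.centralizer (A : Set G)),
      Q₂ = Q₁.map (MulAut.conj k).toMonoidHom := h

/-- Two elements of `Z(A)` generating a `p × p` fix points on every nontrivial invariant `q`-group. -/
theorem exists_fixed_in (hqA : ¬ q ∣ Nat.card A) {p : ℕ} [Fact p.Prime] {Q : Subgroup G}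
    (hQ : IsPGroup q Q) (hQ1 : Q ≠ ⊥) {e f : G} (hf : f ∈ A) (hef : Commute e f)
    (hep : e ^ p = 1) (hfp : f ^ p = 1) (hf1 : f ≠ 1) (hnot : e ∉ Subgroup.zpowers f)
    (heQ : e ∈ Subgroup.normalizer (Q : Set G)) (hfQ : f ∈ Subgroup.normalizer (Q : Set G)) :
    ∃ g ∈ Subgroup.zpowers e ⊔ Subgroup.zpowers f, g ≠ 1 ∧ ∃ x ∈ Q, x ≠ 1 ∧ Commute g x := by
  refine exists_fixed_of_two_commuting ?_ hQ hQ1 hef hep hfp hf1 hnot heQ hfQ
  rintro rfl
  exact hqA (orderOf_eq_prime hfp hf1 ▸ Subgroup.orderOf_dvd_natCard A hf)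

end Cfsg.Agent.OddOrder
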