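import Cfsg.Agent.Lib.OddOrder.CyclicSylows
import Cfsg.Agent.Lib.OddOrder.DerivedNilpotent
import Cfsg.Agent.Lib.OddOrder.CNLocal
import Cfsg.Agent.S1398

/-!
# The configuration behind the uniqueness of SCN₃ subgroups

`Setup`: an abelian `p`-subgroup `A` satisfying the transitivity hypothesis whose rank-three part
contributes no uniqueness subgroup.  `Config`: a maximal subgroup `M ⊇ A` with `O_q(M)` of rank at least 3,
`q ≠ p`.  `Line`: a subgroup of order `q` of `wOf q M` centralized by a hyperplane of `A₁`.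

* `exists_config`, `exists_second`: two maximal subgroups with such configurations;
* `mem_or_mem`: of two lines of two configurations one lies in the other maximal subgroup;
* `false_of_setup`: the contradiction.
-/

set_option linter.style.haveILetI false
set_option linter.unusedSectionVars false

namespace Cfsg.Agent.OddOrder

open Cfsg
open Subgroup (centralizer normalizer zpowers)
open scoped commutatorElement

universe u
variable {G : Type u} [Group G] [Finite G] {p : ℕ} [Fact p.Prime]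

structure Setup (p : ℕ) (A A₁ : Subgroup G) : Prop where
  pgroup : IsPGroup p A
  comm : IsMulCommutative A
  le : A₁ ≤ A
  el : IsElementaryAbelian p A₁
  cube : p ^ 3 ≤ Nat.card A₁
  trans : TransitivityHypothesis A
  rank : ¬ RankLE 2 ↥(A ⊓ centralizer (A : Set G))
  nu : ∀ B : Subgroup G, B ≤ A₁ → p ^ 2 ≤ Nat.card B → ¬ InUniqueMaximal B
  fit : ∀ M : Subgroup G, IsCoatom M → PRankLE p 2 (fittingOf M)

structure Config (p : ℕ) (A M : Subgroup G) (q : ℕ) : Prop where
  coatom : IsCoatom M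
  le : A ≤ M
  prime : q.Prime
  ne : q ≠ p
  rank : ¬ PRankLE q 2 (pOf q M)

structure Line (p : ℕ) (A₁ M : Subgroup G) (q : ℕ) (u : G) (H : Subgroup G) : Prop where
  mem : u ∈ wOf q M
  ne_one : u ≠ 1
  le : H ≤ A₁
  index : Nat.card A₁ ≤ p * Nat.card H
  cent : H ≤ centralizer ({u} : Set G)

variable {A A₁ M L : Subgroup G} {q s : ℕ}

theorem Line.sq_le {u : G} {H : Subgroup G} (hl : Line p A₁ M q u H) (hS : Setup p A A₁) :
    p ^ 2 ≤ Nat.card H := by
  refine Nat.le_of_mul_le_mul_left ?_ (Fact.out : p.Prime).pos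
  calc p * p ^ 2 = p ^ 3 := by ring
    _ ≤ _ := hS.cube.trans hl.index

theorem exists_mem_inf (hS : Setup p A A₁) {H H' : Subgroup G} (hH : H ≤ A₁) (hH' : H' ≤ A₁)
    (h : Nat.card A₁ ≤ p * Nat.card H) (h' : Nat.card A₁ ≤ p * Nat.card H') :
    ∃ b, b ∈ H ∧ b ∈ H' ∧ b ≠ 1 := by
  by_contra hcon
  push Not at hcon
  have hd : H ⊓ H' = ⊥ := (Subgroup.eq_bot_iff_forall _).2 fun x hx => hcon x hx.1 hx.2
  have hn : H ≤ normalizer (H' : Set G) :=
    ((hH.trans (PGroup.le_centralizer_of_isMulCommutative hS.el.1)).trans (Subgroup.centralizer_le hH')).trans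
      (Subgroup.centralizer_le_normalizer _)
  have h1 : Nat.card H * Nat.card H' ≤ Nat.card A₁ :=
    Coprime.card_sup_of_le_normalizer hn hd ▸ Subgroup.card_le_of_le (sup_le hH hH')
  have h2 : Nat.card A₁ * Nat.card A₁ ≤ p ^ 2 * Nat.card A₁ :=
    calc Nat.card A₁ * Nat.card A₁ ≤ (p * Nat.card H) * (p * Nat.card H') := Nat.mul_le_mul h h'
      _ = p ^ 2 * (Nat.card H * Nat.card H') := by ring
      _ ≤ _ := Nat.mul_le_mul_left _ h1
  have h3 := hS.cube.trans (Nat.le_of_mul_le_mul_right h2 Nat.card_pos)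
  exact absurd h3 (Nat.pow_lt_pow_right (Fact.out : p.Prime).one_lt (by norm_num)).not_ge

theorem centralizer_singleton_ne_top (hG : IsMinSimpleOddOrder G) (hS : Setup p A A₁) {b : G}
    (hb : b ∈ A) (hb1 : b ≠ 1) : centralizer ({b} : Set G) ≠ ⊤ := fun h => by
  refine normalizer_ne_top_of_pgroup hG (hS.pgroup.to_le (Subgroup.zpowers_le.2 hb))
    (fun e => hb1 (Subgroup.zpowers_eq_bot.1 e)) (top_unique (h ▸ fun c hc => ?_))
  refine Subgroup.centralizer_le_normalizer _ (Subgroup.mem_centralizer_iff.2 fun y hy => ?_)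
  obtain ⟨i, rfl⟩ := hy
  exact ((show Commute c b from Subgroup.mem_centralizer_singleton_iff.1 hc).zpow_right i).eq.symm

theorem le_centralizer_singleton (hS : Setup p A A₁) {b : G} (hb : b ∈ A) :
    A ≤ centralizer ({b} : Set G) := fun a ha =>
  Subgroup.mem_centralizer_singleton_iff.2 (PGroup.mul_comm_of_isMulCommutative hS.comm ha hb)

theorem not_dvd_card (hS : Setup p A A₁) (hq : q.Prime) (hne : q ≠ p) : ¬ q ∣ Nat.card A := fun h => by
  obtain ⟨k, hk⟩ := hS.pgroup.exists_card_eq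
  exact hne ((Nat.prime_dvd_prime_iff_eq hq Fact.out).1 (hq.dvd_of_dvd_pow (hk ▸ h)))

theorem coprime_card_of_ne [Fact q.Prime] (hS : Setup p A A₁) (hne : q ≠ p) {Y : Subgroup G}
    (hY : IsPGroup q Y) : (Nat.card A).Coprime (Nat.card Y) := by
  obtain ⟨k, hk⟩ := hY.exists_card_eq
  rw [hk]
  exact ((Fact.out : q.Prime).coprime_iff_not_dvd.2 (not_dvd_card hS Fact.out hne)).symm.pow_right k

variable [Fact q.Prime] (hG : IsMinSimpleOddOrder G) (hS : Setup p A A₁) (hC : Config p A M q)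
include hG hS hC

theorem Line.pow_eq_one {u : G} {H : Subgroup G} (hl : Line p A₁ M q u H) : u ^ q = 1 :=
  ((mem_wOf (ne_two_of_rank hG hC.coatom hC.rank)).1 hl.mem).2.1

theorem card_inf_centralizer_le {H : Subgroup G} (hH : H ≤ A₁) (h2 : p ^ 2 ≤ Nat.card H) :
    Nat.card (wOf q M ⊓ centralizer (H : Set G) : Subgroup G) ≤ q := by
  have hq : q.Prime := Fact.out
  set S := wOf q M ⊓ centralizer (H : Set G) with hSdef
  by_contra h
  obtain ⟨k, hk⟩ := ((isPGroup_wOf (q := q) M).to_le (inf_le_left : S ≤ _)).exists_card_eq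
  have hk2 : 2 ≤ k := by
    by_contra hlt
    exact h (hk.le.trans ((Nat.pow_le_pow_right hq.pos (by omega : k ≤ 1)).trans (pow_one q).le))
  obtain ⟨E, hES, hE, hE2⟩ := exists_elementary_sq ((isPGroup_wOf M).to_le (inf_le_left : S ≤ _))
    (fun x hx => ((mem_wOf (ne_two_of_rank hG hC.coatom hC.rank)).1 hx.1).2.1)
    (hk ▸ Nat.pow_le_pow_right hq.pos hk2)
  have hEu : InUniqueMaximal E := ⟨M, ⟨hC.coatom, hES.trans (inf_le_left.trans (wOf_le M))⟩, fun L hL =>
    eq_of_wOf_le hG hC.coatom hC.rank (hES.trans inf_le_left) hE2 hL.1 hL.2⟩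
  exact hS.nu H hH h2 (inUniqueMaximal_of_commute hG hEu
    (PGroup.isElementaryAbelian_of_forall (fun a ha b hb => PGroup.mul_comm_of_elementaryAbelian hS.el (hH ha) (hH hb))
      fun a ha => hS.el.2 a (hH ha)) h2 (Subgroup.le_centralizer_iff.1 (hES.trans inf_le_right)))

theorem Line.zpowers_eq {u : G} {H : Subgroup G} (hl : Line p A₁ M q u H) :
    zpowers u = wOf q M ⊓ centralizer (H : Set G) := by
  refine Subgroup.eq_of_le_of_card_ge (le_inf (Subgroup.zpowers_le.2 hl.mem) (Subgroup.zpowers_le.2 ?_)) ?_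
  · exact Subgroup.mem_centralizer_iff.2 fun h hh => Subgroup.mem_centralizer_singleton_iff.1 (hl.cent hh)
  · rw [card_zpowers_eq (Line.pow_eq_one hG hS hC hl) hl.ne_one]
    exact card_inf_centralizer_le hG hS hC hl.le (hl.sq_le hS)

theorem Line.le_normalizer {u : G} {H : Subgroup G} (hl : Line p A₁ M q u H) :
    A ≤ normalizer (zpowers u : Set G) := by
  rw [Line.zpowers_eq hG hS hC hl]
  refine Coprime.le_normalizer_inf_of_le (hC.le.trans (le_normalizer_wOf M))
    (Coprime.le_normalizer_centralizer ?_)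
  exact ((PGroup.le_centralizer_of_isMulCommutative hS.comm).trans
    (Subgroup.centralizer_le (hl.le.trans hS.le))).trans (Subgroup.centralizer_le_normalizer _)

theorem exists_lines :
    ∃ u₁ H₁ u₂ H₂, Line p A₁ M q u₁ H₁ ∧ Line p A₁ M q u₂ H₂ ∧ u₂ ∉ zpowers u₁ := by
  have hp : p.Prime := Fact.out
  have hq : q.Prime := Fact.out
  haveI := hS.el.1
  have hex : ∀ S : Subgroup G, Nat.card S < q ^ 2 → ∃ u H, Line p A₁ M q u H ∧ u ∉ S := by
    intro S hlt
    by_contra hcon
    push Not at hcon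
    refine (sq_le_card_wOf hG hC.coatom hC.rank).not_gt (lt_of_le_of_lt (Subgroup.card_le_of_le ?_) hlt)
    refine Coprime.le_of_forall_cyclic_quotient (A := A₁) ((hS.le.trans hC.le).trans (le_normalizer_wOf M))
      ((coprime_card_of_ne hS hC.ne (isPGroup_wOf M)).coprime_dvd_left (Subgroup.card_dvd_of_le hS.le))
      fun B hB ⟨a, ha, hBa⟩ x hx => ?_
    rcases eq_or_ne x 1 with rfl | hx1
    · exact one_mem _
    refine hcon x B ⟨hx.1, hx1, hB, ?_, fun b hb => Subgroup.mem_centralizer_singleton_iff.2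
      (Subgroup.mem_centralizer_iff.1 hx.2 b hb)⟩
    by_cases haB : a ∈ B
    · rw [← hBa, sup_eq_left.2 (Subgroup.zpowers_le.2 haB)]
      exact Nat.le_mul_of_pos_left _ hp.pos
    · have ha1 : a ≠ 1 := fun e => haB (e ▸ one_mem B)
      have hap := hS.el.2 a ha
      have hd : zpowers a ⊓ B = ⊥ := (Subgroup.eq_bot_iff_forall _).2 fun y hy => by
        by_contra hy1
        exact haB (Subgroup.zpowers_le.2 hy.2 ((zpowers_eq_of_mem hap hy.1 hy1).ge (Subgroup.mem_zpowers a)))
      have hn : zpowers a ≤ normalizer (B : Set G) :=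
        ((Subgroup.zpowers_le.2 ha).trans ((PGroup.le_centralizer_of_isMulCommutative hS.el.1).trans
          (Subgroup.centralizer_le hB))).trans (Subgroup.centralizer_le_normalizer _)
      have hc := Coprime.card_sup_of_le_normalizer hn hd
      rw [sup_comm, hBa, card_zpowers_eq hap ha1] at hc
      exact hc.le
  obtain ⟨u₁, H₁, h₁, -⟩ := hex ⊥ (by rw [Subgroup.card_bot]; exact Nat.one_lt_pow (by norm_num) hq.one_lt)
  obtain ⟨u₂, H₂, h₂, hne⟩ := hex (zpowers u₁) (by
    rw [card_zpowers_eq (Line.pow_eq_one hG hS hC h₁) h₁.ne_one]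
    calc q = q ^ 1 := (pow_one q).symm
      _ < q ^ 2 := Nat.pow_lt_pow_right hq.one_lt (by norm_num))
  exact ⟨u₁, H₁, u₂, H₂, h₁, h₂, hne⟩

theorem centralizer_le : centralizer (A : Set G) ≤ M := by
  obtain ⟨u₁, H₁, u₂, H₂, h₁, h₂, hne⟩ := exists_lines hG hS hC
  obtain ⟨b, hb₁, hb₂, hb⟩ := exists_mem_inf hS h₁.le h₂.le h₁.index h₂.index
  have hbA : b ∈ A := hS.le (h₁.le hb₁)
  obtain ⟨L, hL, hbL⟩ := exists_coatom_ge (centralizer_singleton_ne_top hG hS hbA hb)
  have hu : ∀ {u : G} {H : Subgroup G}, Line p A₁ M q u H → b ∈ H → u ∈ L := fun {u H} hl hbH =>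
    hbL (Subgroup.mem_centralizer_singleton_iff.2
      (Subgroup.mem_centralizer_singleton_iff.1 (hl.cent hbH)).symm)
  have h2 : q < Nat.card (wOf q M ⊓ L : Subgroup G) := by
    by_contra hle
    have heq := Subgroup.eq_of_le_of_card_ge
      (le_inf (Subgroup.zpowers_le.2 h₁.mem) (Subgroup.zpowers_le.2 (hu h₁ hb₁)))
      ((not_lt.1 hle).trans (card_zpowers_eq (Line.pow_eq_one hG hS hC h₁) h₁.ne_one).ge)
    exact hne (heq ▸ Subgroup.mem_inf.2 ⟨h₂.mem, hu h₂ hb₂⟩)
  have hLM : L = M := by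
    by_contra hLM
    exact h2.not_ge (card_inf_wOf_le hG hC.coatom hC.rank hL hLM)
  exact (Subgroup.centralizer_le (Set.singleton_subset_iff.2 hbA)).trans (hbL.trans_eq hLM)

/-- All `A`-invariant `q`-subgroups lie in `M`. -/
theorem le_of_invariant {Y : Subgroup G} (hY : IsPGroup q Y) (hYA : A ≤ normalizer (Y : Set G)) :
    Y ≤ M := by
  have hq : q.Prime := Fact.out
  obtain ⟨R₀, hR₀, hDR⟩ := exists_maxInv_ge (isPGroup_pOf M) (hC.le.trans (le_normalizer_pOf (r := q) M))
  obtain ⟨R, hR, hYR⟩ := exists_maxInv_ge hY hYA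
  have hR₀M : R₀ ≤ M := by
    obtain ⟨E, hED, hE, hE3⟩ := exists_elementary_cube hC.rank
    obtain ⟨M', -, hu⟩ := S1401.elementary_unique hG hC.coatom (fitting_rank hG hC.coatom hC.rank) hE hE3
    refine le_of_forall_coatom (ne_top_of_isPGroup hG (isPGroup_of_maxInv hR₀)) fun L hL hle => ?_
    exact (hu L ⟨hL, (hED.trans hDR).trans hle⟩).trans (hu M ⟨hC.coatom, hED.trans (pOf_le M)⟩).symm
  obtain ⟨k, hk, hkR⟩ := S1393.result hG A hS.trans hS.rank q hq (not_dvd_card hS hq hC.ne) R₀ hR₀ R hR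
  refine hYR.trans (hkR ▸ (Subgroup.map_mono hR₀M).trans (le_of_eq ?_))
  exact Subgroup.mem_normalizer_iff_map_conj_eq.1
    (Subgroup.le_normalizer ((piCoreOf_le _ _).trans (centralizer_le hG hS hC) hk))

theorem eq_of_config (hC' : Config p A L q) : L = M := by
  obtain ⟨E, hED, hE, hE3⟩ := exists_elementary_cube hC'.rank
  obtain ⟨M', -, hu⟩ := S1401.elementary_unique hG hC'.coatom (fitting_rank hG hC'.coatom hC'.rank) hE hE3
  exact (hu L ⟨hC'.coatom, hED.trans (pOf_le L)⟩).trans (hu M ⟨hC.coatom, hED.trans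
    (le_of_invariant hG hS hC (isPGroup_pOf L) (hC'.le.trans (le_normalizer_pOf L)))⟩).symm

/-- A second configuration. -/
theorem exists_second : ∃ L s, Config p A L s ∧ L ≠ M := by
  have hq : q.Prime := Fact.out
  obtain ⟨u₁, H₁, u₂, H₂, h₁, h₂, hne⟩ := exists_lines hG hS hC
  have hH₁A : H₁ ≤ A := h₁.le.trans hS.le
  have hH₁e : IsElementaryAbelian p H₁ := PGroup.isElementaryAbelian_of_forall
    (fun a ha b hb => PGroup.mul_comm_of_elementaryAbelian hS.el (h₁.le ha) (h₁.le hb))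
    fun a ha => hS.el.2 a (h₁.le ha)
  obtain ⟨b, hb, hb1, hbM⟩ : ∃ b ∈ H₁, b ≠ 1 ∧ ¬ centralizer ({b} : Set G) ≤ M := by
    by_contra hcon
    push Not at hcon
    refine hS.nu H₁ h₁.le (h₁.sq_le hS) (S1398.result hG M hC.coatom p H₁ (hH₁A.trans hC.le) hH₁e
      (fun hcyc => absurd (card_le_of_isCyclic hcyc hH₁e le_rfl) ?_) (Or.inl hcon))
    intro hle
    exact absurd ((h₁.sq_le hS).trans hle) (by
      have := (Fact.out : p.Prime).two_le
      nlinarith)
  obtain ⟨L, hL, hbL⟩ := exists_coatom_ge (centralizer_singleton_ne_top hG hS (hH₁A hb) hb1)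
  have hLM : L ≠ M := fun e => hbM (e ▸ hbL)
  have hAL : A ≤ L := (le_centralizer_singleton hS (hH₁A hb)).trans hbL
  by_cases hex : ∃ r, r.Prime ∧ ¬ PRankLE r 2 (pOf r L)
  · obtain ⟨r, hr, hrk⟩ := hex
    refine ⟨L, r, ⟨hL, hAL, hr, ?_, hrk⟩, hLM⟩
    rintro rfl
    exact hrk (pRankLE_of_le (pOf_le_fittingOf L hr) (hS.fit L hL))
  exfalso
  push Not at hex
  haveI := isSolvable_of_coatom hG hL
  have hder : commutator L ≤ fittingSubgroup L := commutator_le_fittingSubgroup (odd_subgroup hG.1 L)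
    fun r hr => pRankLE_of_injective
      (f := ((pCore r L).equivMapOfInjective _ L.subtype_injective).toMonoidHom)
      (MulEquiv.injective _) (hex r hr)
  have hu₁L : u₁ ∈ L := hbL (Subgroup.mem_centralizer_singleton_iff.2
    (Subgroup.mem_centralizer_singleton_iff.1 (h₁.cent hb)).symm)
  obtain ⟨a, ha, hau⟩ : ∃ a ∈ A, a * u₁ ≠ u₁ * a := by
    by_contra hcon
    push Not at hcon
    refine hne ?_
    have h' : Line p A₁ M q u₁ H₂ := ⟨h₁.mem, h₁.ne_one, h₂.le, h₂.index, fun h hh =>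
      Subgroup.mem_centralizer_singleton_iff.2 (hcon h (hS.le (h₂.le hh)))⟩
    rw [Line.zpowers_eq hG hS hC h', ← Line.zpowers_eq hG hS hC h₂]
    exact Subgroup.mem_zpowers u₂
  set t := ⁅a, u₁⁆ with ht
  have htu : t ∈ zpowers u₁ := by
    rw [ht, commutatorElement_def]
    exact mul_mem ((Subgroup.mem_normalizer_iff.1 (Line.le_normalizer hG hS hC h₁ ha) u₁).1
      (Subgroup.mem_zpowers u₁)) (Subgroup.inv_mem _ (Subgroup.mem_zpowers u₁))
  have ht1 : t ≠ 1 := fun e => hau (commutatorElement_eq_one_iff_mul_comm.1 e)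
  have hu1q := Line.pow_eq_one hG hS hC h₁
  set Q' := pOf q L with hQ'
  have htQ : t ∈ Q' := mem_pOf (k := 1)
    ⟨⁅(⟨a, hAL ha⟩ : L), ⟨u₁, hu₁L⟩⁆, hder (by
      rw [commutator_def]
      exact Subgroup.commutator_mem_commutator trivial trivial), rfl⟩
    (by rw [pow_one]; exact (isElementaryAbelian_zpowers hu1q).2 t htu)
  have huQ : zpowers u₁ ≤ Q' := zpowers_eq_of_mem hu1q htu ht1 ▸ Subgroup.zpowers_le.2 htQ
  have hQ'1 : Q' ≠ ⊥ := ne_bot_of_le_ne_bot (fun e => h₁.ne_one (Subgroup.zpowers_eq_bot.1 e)) huQ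
  have hQW : Q' ≤ normalizer (wOf q M : Set G) :=
    (le_of_invariant hG hS hC (isPGroup_pOf L) (hAL.trans (le_normalizer_pOf L))).trans (le_normalizer_wOf M)
  set T := Q' ⊔ wOf q M with hT
  have hTp : IsPGroup q T := (isPGroup_pOf L).to_sup_of_normal_right' (isPGroup_wOf M) hQW
  have hWL : Nat.card (wOf q M ⊓ L : Subgroup G) ≤ q := card_inf_wOf_le hG hC.coatom hC.rank hL hLM
  have hQT : Q' < T := by
    refine lt_of_le_of_ne le_sup_left fun e => ?_
    have hW : wOf q M ≤ wOf q M ⊓ L := le_inf le_rfl ((le_sup_right.trans e.ge).trans (pOf_le L))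
    have := (sq_le_card_wOf hG hC.coatom hC.rank).trans ((Subgroup.card_le_of_le hW).trans hWL)
    have := hq.two_le
    nlinarith
  have hlt := lt_inf_normalizer hTp.isNilpotent hQT
  obtain ⟨x, hx, hxQ⟩ := SetLike.exists_of_lt hlt
  refine hxQ ?_
  obtain ⟨c, hc, w, hw, rfl⟩ := (Coprime.mem_sup_iff_of_le_normalizer hQW).1 hx.1
  have hNQ : normalizer (Q' : Set G) = L :=
    normalizer_eq_of_normal hG hL (pOf_le L) (le_normalizer_pOf L) hQ'1
  have hwL : w ∈ L := by
    have hcw : c * w ∈ L := hNQ.le hx.2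
    have := L.mul_mem (L.inv_mem (pOf_le L hc)) hcw
    rwa [inv_mul_cancel_left] at this
  refine mul_mem hc (huQ ?_)
  have heq : zpowers u₁ = wOf q M ⊓ L := Subgroup.eq_of_le_of_card_ge
    (le_inf (Subgroup.zpowers_le.2 h₁.mem) (Subgroup.zpowers_le.2 hu₁L))
    (hWL.trans (card_zpowers_eq hu1q h₁.ne_one).ge)
  exact heq ▸ Subgroup.mem_inf.2 ⟨hw, hwL⟩

/-- An `A`-invariant `q`-subgroup of `C(b)` containing a line fixed by `b` is cyclic. -/
theorem isCyclic_of_line {u b : G} {H S : Subgroup G} (hl : Line p A₁ M q u H) (hb : b ∈ H) (hb1 : b ≠ 1)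
    (hbM : ¬ centralizer ({b} : Set G) ≤ M) (hSq : IsPGroup q S) (hSA : A ≤ normalizer (S : Set G))
    (huS : u ∈ S) (hSb : S ≤ centralizer ({b} : Set G)) : IsCyclic S := by
  have hq : q.Prime := Fact.out
  have hq2 := ne_two_of_rank hG hC.coatom hC.rank
  have huq := Line.pow_eq_one hG hS hC hl
  have hu1 := hl.ne_one
  have hbA : b ∈ A := hS.le (hl.le hb)
  obtain ⟨L, hL, hbL⟩ := exists_coatom_ge (centralizer_singleton_ne_top hG hS hbA hb1)
  have hLM : L ≠ M := fun e => hbM (e ▸ hbL)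
  have hSM : S ≤ M := le_of_invariant hG hS hC hSq hSA
  have hub : b * u = u * b := Subgroup.mem_centralizer_singleton_iff.1 (hl.cent hb)
  set W := wOf q M with hW
  -- `u` spans `C_W(b)`
  have hWb : W ⊓ centralizer ({b} : Set G) = zpowers u :=
    (Subgroup.eq_of_le_of_card_ge (le_inf (Subgroup.zpowers_le.2 hl.mem)
      (Subgroup.zpowers_le.2 (Subgroup.mem_centralizer_singleton_iff.2 hub.symm)))
      ((Subgroup.card_le_of_le (inf_le_inf_left W hbL)).trans
        ((card_inf_wOf_le hG hC.coatom hC.rank hL hLM).trans (card_zpowers_eq huq hu1).ge))).symm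
  -- `u` is central in `S`
  have hucent : ∀ x ∈ S, Commute x u := by
    intro x hx
    have hN : (zpowers u : Subgroup G) = S ⊓ W := le_antisymm
      (le_inf (Subgroup.zpowers_le.2 huS) (Subgroup.zpowers_le.2 hl.mem))
      (fun y hy => hWb.le ⟨hy.2, hSb hy.1⟩)
    have hxN : x ∈ normalizer (zpowers u : Set G) := by
      rw [hN]
      exact Coprime.le_normalizer_inf_of_le Subgroup.le_normalizer (hSM.trans (le_normalizer_wOf M)) hx
    have hlt := Coprime.commutator_lt_of_isPGroup (U := zpowers u) (hSq.to_le (Subgroup.zpowers_le.2 hx))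
      (PGroup.isPGroup_of_elementaryAbelian (isElementaryAbelian_zpowers huq)) (Subgroup.zpowers_le.2 hxN)
      (fun e => hu1 (Subgroup.zpowers_eq_bot.1 e))
    have h1 : ⁅u, x⁆ ∈ ⁅zpowers u, zpowers x⁆ :=
      Subgroup.commutator_mem_commutator (Subgroup.mem_zpowers u) (Subgroup.mem_zpowers x)
    by_contra hne
    refine hlt.not_ge ((zpowers_eq_of_mem huq (hlt.le h1) ?_).ge.trans (Subgroup.zpowers_le.2 h1))
    exact fun e => hne (commutatorElement_eq_one_iff_mul_comm.1 e).symm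
  refine IsolatedP.isCyclic_of_pRankLE_one hq2 hSq fun E₀ hE₀ hE₀q => ?_
  rw [← Subgroup.card_map_of_injective S.subtype_injective, pow_one]
  set E := E₀.map S.subtype with hEdef
  have hE : IsElementaryAbelian q E := PGroup.isElementaryAbelian_map ⟨hE₀, hE₀q⟩ _
  by_contra hgt
  obtain ⟨w, hwE, hwu⟩ : ∃ w ∈ E, w ∉ zpowers u := by
    by_contra hcon
    push Not at hcon
    exact hgt ((Subgroup.card_le_of_le (hcon : E ≤ zpowers u)).trans (card_zpowers_eq huq hu1).le)
  have hwS : w ∈ S := Subgroup.map_subtype_le _ hwE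
  have hwq : w ^ q = 1 := hE.2 w hwE
  have hwu' : Commute w u := hucent w hwS
  set W₀ := W ⊓ centralizer ({u} : Set G) with hW₀
  have hnorm : ∀ y ∈ M, Commute y u → y ∈ normalizer (W₀ : Set G) := fun y hy hyu =>
    Subgroup.inf_normalizer_le_normalizer_inf
      ⟨le_normalizer_wOf M hy, Subgroup.le_normalizer (Subgroup.mem_centralizer_singleton_iff.2 hyu.eq)⟩
  have huW₀ : u ∈ W₀ := ⟨hl.mem, Subgroup.mem_centralizer_singleton_iff.2 rfl⟩
  -- `W₀` is larger than `⟨u⟩`
  have hW₀gt : ¬ W₀ ≤ zpowers u := by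
    intro hle
    haveI : Nontrivial W := (Subgroup.nontrivial_iff_ne_bot _).2 fun e => hu1 (Subgroup.mem_bot.1 (e ▸ hl.mem))
    haveI := (isPGroup_wOf (q := q) M).center_nontrivial
    obtain ⟨z, hz⟩ := exists_ne (1 : Subgroup.center W)
    have hzc : ∀ y ∈ W, ((z : W) : G) * y = y * (z : W) := fun y hy =>
      (congrArg Subtype.val (Subgroup.mem_center_iff.1 z.2 ⟨y, hy⟩)).symm
    have hzu : ((z : W) : G) ∈ zpowers u :=
      hle ⟨(z : W).2, Subgroup.mem_centralizer_singleton_iff.2 (hzc u hl.mem)⟩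
    have huz : u ∈ zpowers ((z : W) : G) :=
      (zpowers_eq_of_mem huq hzu fun e => hz (Subtype.ext (Subtype.ext e))).ge (Subgroup.mem_zpowers u)
    obtain ⟨i, hi⟩ := huz
    have hWle : W ≤ zpowers u := fun y hy => hle ⟨hy, Subgroup.mem_centralizer_singleton_iff.2 (by
      rw [← hi]; exact ((show Commute ((z : W) : G) y from hzc y hy).zpow_left i).eq.symm)⟩
    have h3 := (sq_le_card_wOf hG hC.coatom hC.rank).trans
      ((Subgroup.card_le_of_le hWle).trans (card_zpowers_eq huq hu1).le)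
    have := hq.two_le
    nlinarith
  -- `w` fixes nothing in `W₀` outside `⟨u⟩`
  have hfix : ∀ y ∈ W₀, Commute w y → y ∈ zpowers u := by
    intro y hy hwy
    by_contra hyu
    have hyq : y ^ q = 1 := ((mem_wOf hq2).1 hy.1).2.1
    have hpair : ∀ {z : G}, z ^ q = 1 → Commute u z → z ∉ zpowers u →
        IsElementaryAbelian q (zpowers u ⊔ zpowers z : Subgroup G) ∧
          q ^ 2 ≤ Nat.card (zpowers u ⊔ zpowers z : Subgroup G) := by
      intro z hzq hzu hnz
      have hz1 : z ≠ 1 := fun e => hnz (e ▸ one_mem _)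
      have hle : zpowers z ≤ centralizer (zpowers u : Set G) :=
        Subgroup.zpowers_le.2 (Subgroup.mem_centralizer_iff.2 fun a ha => by
          obtain ⟨i, rfl⟩ := ha; exact (hzu.zpow_left i).eq)
      refine ⟨isElementaryAbelian_sup (isElementaryAbelian_zpowers huq) (isElementaryAbelian_zpowers hzq) hle, ?_⟩
      rw [sup_comm, Coprime.card_sup_of_le_normalizer (hle.trans (Subgroup.centralizer_le_normalizer _))
        ((Subgroup.eq_bot_iff_forall _).2 fun y hy => by
          by_contra hy1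
          exact hnz (Subgroup.zpowers_le.2 hy.2
            ((zpowers_eq_of_mem hzq hy.1 hy1).ge (Subgroup.mem_zpowers z)))),
        card_zpowers_eq hzq hz1, card_zpowers_eq huq hu1, pow_two]
    have huy : Commute u y := (Subgroup.mem_centralizer_singleton_iff.1 hy.2).symm
    obtain ⟨hF, hF2⟩ := hpair hyq huy hyu
    obtain ⟨hX, hX2⟩ := hpair hwq hwu'.symm hwu
    have hFW : zpowers u ⊔ zpowers y ≤ W :=
      sup_le (Subgroup.zpowers_le.2 hl.mem) (Subgroup.zpowers_le.2 hy.1)
    have hFu : InUniqueMaximal (zpowers u ⊔ zpowers y : Subgroup G) :=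
      ⟨M, ⟨hC.coatom, hFW.trans (wOf_le M)⟩, fun L' hL' =>
        eq_of_wOf_le hG hC.coatom hC.rank hFW hF2 hL'.1 hL'.2⟩
    have hXc : zpowers u ⊔ zpowers w ≤ centralizer ((zpowers u ⊔ zpowers y : Subgroup G) : Set G) := by
      rw [Subgroup.le_centralizer_iff]
      refine sup_le (Subgroup.zpowers_le.2 ?_) (Subgroup.zpowers_le.2 ?_) <;>
        rw [Subgroup.mem_centralizer_iff] <;> intro e he
      · exact PGroup.mul_comm_of_elementaryAbelian hX he (Subgroup.mem_sup_left (Subgroup.mem_zpowers u))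
      · obtain ⟨e₁, he₁, e₂, he₂, rfl⟩ := (Coprime.mem_sup_iff_of_le_normalizer
          ((Subgroup.zpowers_le.2 (Subgroup.le_normalizer (Subgroup.mem_zpowers u))).trans' le_rfl |> fun _ =>
            (Subgroup.zpowers_le.2 (Subgroup.centralizer_le_normalizer _ (Subgroup.mem_centralizer_iff.2
              fun a ha => by obtain ⟨i, rfl⟩ := ha; exact (hwu'.zpow_left i).eq)) :
              zpowers u ≤ normalizer (zpowers w : Set G)))).1 he
        obtain ⟨i, rfl⟩ := he₁
        obtain ⟨j, rfl⟩ := he₂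
        exact ((huy.zpow_left i).mul_left (hwy.zpow_left j)).eq
    obtain ⟨M', -, hu'⟩ := inUniqueMaximal_of_commute hG hFu hX hX2 hXc
    have hXL : zpowers u ⊔ zpowers w ≤ L :=
      sup_le (Subgroup.zpowers_le.2 (hbL (hSb huS))) (Subgroup.zpowers_le.2 (hbL (hSb hwS)))
    exact hLM ((hu' L ⟨hL, hXL⟩).trans (hu' M ⟨hC.coatom, sup_le (Subgroup.zpowers_le.2 (hSM huS))
      (Subgroup.zpowers_le.2 (hSM hwS))⟩).symm)
  -- an element of `W₀` moved by `w` into `⟨u⟩` only
  have hT : IsPGroup q (zpowers w ⊔ W₀ : Subgroup G) :=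
    (hSq.to_le (Subgroup.zpowers_le.2 hwS)).to_sup_of_normal_right' ((isPGroup_wOf M).to_le inf_le_left)
      (Subgroup.zpowers_le.2 (hnorm w (hSM hwS) hwu'))
  obtain ⟨y, hy, hyu, hyT⟩ := exists_commutator_mem (Z := zpowers u) hT le_sup_right
    (sup_le (Subgroup.zpowers_le.2 (hnorm w (hSM hwS) hwu')) Subgroup.le_normalizer) hW₀gt
  have he := hyT w (Subgroup.mem_sup_left (Subgroup.mem_zpowers w))
  have hbw : Commute b w := (Subgroup.mem_centralizer_singleton_iff.1 (hSb hwS)).symm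
  have huc : ∀ e ∈ zpowers u, Commute b e ∧ Commute y e := fun e he => by
    obtain ⟨i, rfl⟩ := he
    exact ⟨(show Commute b u from hub).zpow_right i,
      (show Commute y u from Subgroup.mem_centralizer_singleton_iff.1 hy.2).zpow_right i⟩
  set z := y⁻¹ * (b * y * b⁻¹) with hz
  have hzW : z ∈ W₀ := mul_mem (Subgroup.inv_mem _ hy)
    ((Subgroup.mem_normalizer_iff.1 (hnorm b (hC.le hbA) hub) y).1 hy)
  have hwz : Commute w z := by
    have h1 := (huc _ he).1
    refine mul_inv_eq_iff_eq_mul.1 ?_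
    calc w * z * w⁻¹ = (w * y * w⁻¹)⁻¹ * ((w * b) * y * (w * b)⁻¹) := by rw [hz]; group
      _ = (w * y * w⁻¹)⁻¹ * ((b * w) * y * (b * w)⁻¹) := by rw [hbw.eq]
      _ = (w * y * w⁻¹)⁻¹ * (b * (w * y * w⁻¹) * b⁻¹) := by group
      _ = (⁅y, w⁆⁻¹ * y)⁻¹ * (b * (⁅y, w⁆⁻¹ * y) * b⁻¹) := by
          simp only [commutatorElement_def]; group
      _ = y⁻¹ * ⁅y, w⁆ * (b * ⁅y, w⁆⁻¹) * y * b⁻¹ := by group
      _ = y⁻¹ * ⁅y, w⁆ * (⁅y, w⁆⁻¹ * b) * y * b⁻¹ := by rw [h1.inv_right.eq]
      _ = z := by rw [hz]; group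
  have hzu : z ∈ zpowers u := hfix z hzW hwz
  have hby : Commute b y := by
    refine Coprime.commute_of_translate (z := z) ?_ (huc z hzu).1 ?_
    · rw [← (huc z hzu).2.eq, hz]; group
    · exact (coprime_card_of_ne hS hC.ne (PGroup.isPGroup_of_elementaryAbelian
        (isElementaryAbelian_zpowers huq))).coprime_dvd_left (Subgroup.orderOf_dvd_natCard _ hbA)
        |>.coprime_dvd_right (Subgroup.orderOf_dvd_natCard _ hzu)
  exact hyu (hWb.le ⟨hy.1, Subgroup.mem_centralizer_singleton_iff.2 hby.eq.symm⟩)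

omit hC in
/-- Of two lines, one lies in the other maximal subgroup. -/
theorem mem_or_mem (hC : Config p A M q) [Fact s.Prime] (hC' : Config p A L s) (hqs : q ≠ s)
    {u v : G} {H H' : Subgroup G} (hu : Line p A₁ M q u H) (hv : Line p A₁ L s v H') :
    u ∈ L ∨ v ∈ M := by
  obtain ⟨b, hbH, hbH', hb1⟩ := exists_mem_inf hS hu.le hv.le hu.index hv.index
  have hbA : b ∈ A := hS.le (hu.le hbH)
  set X := centralizer ({b} : Set G) with hX
  have huX : u ∈ X :=
    Subgroup.mem_centralizer_singleton_iff.2 (Subgroup.mem_centralizer_singleton_iff.1 (hu.cent hbH)).symm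
  have hvX : v ∈ X :=
    Subgroup.mem_centralizer_singleton_iff.2 (Subgroup.mem_centralizer_singleton_iff.1 (hv.cent hbH')).symm
  by_cases hXM : X ≤ M
  · exact Or.inr (hXM hvX)
  by_cases hXL : X ≤ L
  · exact Or.inl (hXL huX)
  have hAX : A ≤ X := le_centralizer_singleton hS hbA
  have hXtop : X ≠ ⊤ := centralizer_singleton_ne_top hG hS hbA hb1
  set T := piCoreOf (primesNotDvd (Nat.card A)) X with hT
  have hTX : T ≤ X := piCoreOf_le _ _
  haveI : Group.IsSolvable T := Coprime.isSolvable_of_le hTX (hG.2.2.2 X hXtop)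
  have hAT : A ≤ normalizer (T : Set G) := hAX.trans (le_normalizer_piCoreOf _ _)
  have hcop : (Nat.card A).Coprime (Nat.card T) := (coprime_of_primesNotDvd (isPiGrp_piCoreOf _ _)).symm
  have hin : ∀ {r : ℕ} [Fact r.Prime], r ≠ p → ∀ {x : G}, x ^ r = 1 →
      A ≤ normalizer (zpowers x : Set G) → x ∈ X → x ∈ T := by
    intro r hr hrp x hx hAx hxX
    have hle : zpowers x ≤ T := by
      rw [hT, ← hS.trans.2.2 X hXtop hAX]
      refine le_sSup ⟨Subgroup.zpowers_le.2 hxX, fun l hl hd => ⟨hl, fun hlA => ?_⟩, hAx⟩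
      exact hl.ne_one (Nat.eq_one_of_dvd_coprimes (coprime_card_of_ne hS hrp
        (PGroup.isPGroup_of_elementaryAbelian (isElementaryAbelian_zpowers hx))) hlA hd)
    exact hle (Subgroup.mem_zpowers x)
  have huq := Line.pow_eq_one hG hS hC hu
  have hvs := Line.pow_eq_one hG hS hC' hv
  have hAu := Line.le_normalizer hG hS hC hu
  have hAv := Line.le_normalizer hG hS hC' hv
  obtain ⟨c, hc, h⟩ := exists_conj_mem_normalizer (q := q) (s := s) (odd_subgroup hG.1 T) hqs hAT hcop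
    (hin hC.ne huq hAu huX) hu.ne_one huq hAu (hin hC'.ne hvs hAv hvX) hv.ne_one hvs hAv
    (fun S huS hSA => isCyclic_of_line hG hS hC hu hbH hb1 hXM (S.2.map _) hSA huS
      ((Subgroup.map_subtype_le _).trans hTX))
    (fun S hvS hSA => isCyclic_of_line hG hS hC' hv hbH' hb1 hXL (S.2.map _) hSA hvS
      ((Subgroup.map_subtype_le _).trans hTX))
  rcases h with h | h
  · right
    have hcM : c ∈ M := centralizer_le hG hS hC hc.2
    have h' := M.mul_mem (M.mul_mem (M.inv_mem hcM) (normalizer_le_of_mem_wOf hG hC.coatom hC.rank hu.mem hu.ne_one h)) hcM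
    rwa [show c⁻¹ * (c * v * c⁻¹) * c = v by group] at h'
  · left
    have hcL : c ∈ L := centralizer_le hG hS hC' hc.2
    have h' := L.mul_mem (L.mul_mem (L.inv_mem hcL) (normalizer_le_of_mem_wOf hG hC'.coatom hC'.rank hv.mem hv.ne_one h)) hcL
    rwa [show c⁻¹ * (c * u * c⁻¹) * c = u by group] at h'

omit [Fact q.Prime] hC in
/-- There is a configuration. -/
theorem exists_config (P : Sylow p G) (hAP : A ≤ (P : Subgroup G)) : ∃ M q, Config p A M q := by
  have hp : p.Prime := Fact.out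
  haveI := hG.2.1
  have hA1 : A ≠ ⊥ := hS.trans.1
  have hp2 : p ≠ 2 := ne_two_of_minSimple hG hS.pgroup hA1
  have hperf : commutator G = ⊤ := by
    rcases hG.2.1.eq_bot_or_eq_top_of_normal (commutator G) inferInstance with h | h
    · exact absurd ⟨⟨fun a c => commutatorElement_eq_one_iff_mul_comm.1 (Subgroup.mem_bot.1 (h ▸ by
        rw [commutator_def]; exact Subgroup.commutator_mem_commutator trivial trivial))⟩⟩ hG.2.2.1
    · exact h
  have hz := ZJControl.isZJLike_A (p := p) hp2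
  have hcomm := CN.sylow_le_commutator hG.1 hperf hp2 P
  set Z := ZJControl.zjA G (P : Subgroup G) with hZ
  have hPN : (P : Subgroup G) ≤ normalizer (Z : Set G) :=
    hz.sylow_le_normalizer (Replacement.isStronglyClosed_self _)
  obtain ⟨M, hM, hNM⟩ := exists_coatom_ge (normalizer_ne_top_of_pgroup hG
    (P.2.to_le (hz.le G (P : Subgroup G))) (hz.ne_bot G _ P.2 (ne_bot_of_le_ne_bot hA1 hAP)))
  by_cases hex : ∃ r, r.Prime ∧ ¬ PRankLE r 2 (pOf r M)
  · obtain ⟨r, hr, hrk⟩ := hex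
    refine ⟨M, r, hM, (hAP.trans hPN).trans hNM, hr, ?_, hrk⟩
    rintro rfl
    exact hrk (pRankLE_of_le (pOf_le_fittingOf M hr) (hS.fit M hM))
  exfalso
  push Not at hex
  haveI := isSolvable_of_coatom hG hM
  have hder : commutator M ≤ fittingSubgroup M := commutator_le_fittingSubgroup (odd_subgroup hG.1 M)
    fun r hr => pRankLE_of_injective
      (f := ((pCore r M).equivMapOfInjective _ M.subtype_injective).toMonoidHom)
      (MulEquiv.injective _) (hex r hr)
  have hA₁F : A₁ ≤ fittingOf M := by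
    refine ((hS.le.trans hAP).trans (hcomm.trans (Subgroup.commutator_mono hNM hNM))).trans ?_
    have h := Subgroup.map_mono (f := M.subtype) hder
    rwa [commutator_def, Subgroup.map_commutator, ← MonoidHom.range_eq_map, Subgroup.range_subtype] at h
  haveI := hS.el.1
  have h := pRankLE_of_le hA₁F (hS.fit M hM) ⊤ inferInstance fun x _ => Subtype.ext (hS.el.2 x x.2)
  rw [Subgroup.card_top] at h
  exact absurd (hS.cube.trans h) (Nat.pow_lt_pow_right hp.one_lt (by norm_num)).not_ge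

omit [Fact q.Prime] hC in
/-- No such setup exists. -/
theorem false_of_setup (P : Sylow p G) (hAP : A ≤ (P : Subgroup G)) : False := by
  obtain ⟨M, q, hC⟩ := exists_config hG hS P hAP
  haveI := Fact.mk hC.prime
  obtain ⟨L, s, hC', hLM⟩ := exists_second hG hS hC
  haveI := Fact.mk hC'.prime
  have hqs : q ≠ s := by
    rintro rfl
    exact hLM (eq_of_config hG hS hC hC')
  obtain ⟨u₁, H₁, u₂, H₂, h₁, h₂, hne⟩ := exists_lines hG hS hC
  obtain ⟨v₁, K₁, v₂, K₂, k₁, k₂, kne⟩ := exists_lines hG hS hC'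
  -- some line of `M` is outside `L`
  obtain ⟨u, H, hu, huL⟩ : ∃ u H, Line p A₁ M q u H ∧ u ∉ L := by
    by_contra hcon
    push Not at hcon
    have heq := Subgroup.eq_of_le_of_card_ge
      (le_inf (Subgroup.zpowers_le.2 h₁.mem) (Subgroup.zpowers_le.2 (hcon u₁ H₁ h₁)))
      ((card_inf_wOf_le hG hC.coatom hC.rank hC'.coatom hLM).trans
        (card_zpowers_eq (Line.pow_eq_one hG hS hC h₁) h₁.ne_one).ge)
    exact hne (heq ▸ Subgroup.mem_inf.2 ⟨h₂.mem, hcon u₂ H₂ h₂⟩)
  have hvM : ∀ {v : G} {K : Subgroup G}, Line p A₁ L s v K → v ∈ M := fun {v K} hv =>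
    (mem_or_mem hG hS hC hC' hqs hu hv).resolve_left huL
  have heq := Subgroup.eq_of_le_of_card_ge
    (le_inf (Subgroup.zpowers_le.2 k₁.mem) (Subgroup.zpowers_le.2 (hvM k₁)))
    ((card_inf_wOf_le hG hC'.coatom hC'.rank hC.coatom hLM.symm).trans
      (card_zpowers_eq (Line.pow_eq_one hG hS hC' k₁) k₁.ne_one).ge)
  exact kne (heq ▸ Subgroup.mem_inf.2 ⟨k₂.mem, hvM k₂⟩)

end Cfsg.Agent.OddOrder
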