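import Cfsg.Agent.S1392
import Cfsg.Agent.S1396
import Cfsg.Agent.S1403
import Cfsg.Agent.S1451
import Cfsg.Agent.Lib.OddOrder.SigmaCore
import Cfsg.Agent.Lib.OddOrder.PLengthMaximal
import Cfsg.Agent.Lib.OddOrder.UniqueMaximal

/-!
# Invariant Sylow subgroups in maximal subgroups of a minimal simple group of odd order
-/

set_option autoImplicit false
set_option linter.unusedSectionVars false

namespace Cfsg.Agent.OddOrder

open Cfsg
open Subgroup (centralizer normalizer zpowers)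
open scoped Pointwise commutatorElement

universe u
variable {G : Type u} [Group G] [Finite G]

/-- Conjugates of `C_G(x)`. -/
theorem conj_smul_centralizer (g x : G) :
    MulAut.conj g • centralizer ({x} : Set G) = centralizer ({g * x * g⁻¹} : Set G) := by
  ext y
  rw [Coprime.mem_conj_smul_iff, Subgroup.mem_centralizer_singleton_iff,
    Subgroup.mem_centralizer_singleton_iff]
  constructor
  · intro h
    calc y * (g * x * g⁻¹) = g * (g⁻¹ * y * g * x) * g⁻¹ := by group
      _ = _ := by rw [h]; group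
  · intro h
    calc g⁻¹ * y * g * x = g⁻¹ * (y * (g * x * g⁻¹)) * g := by group
      _ = _ := by rw [h]; group

theorem le_conj_smul {X Y : Subgroup G} {g : G} (h : MulAut.conj g⁻¹ • X ≤ Y) :
    X ≤ MulAut.conj g • Y := by
  have := Subgroup.pointwise_smul_le_pointwise_smul_iff (a := MulAut.conj g).mpr h
  rwa [Coprime.conj_smul_smul, mul_inv_cancel, map_one, one_smul] at this

theorem conj_smul_le {X Y : Subgroup G} {g : G} (h : X ≤ MulAut.conj g • Y) :
    MulAut.conj g⁻¹ • X ≤ Y := by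
  have := Subgroup.pointwise_smul_le_pointwise_smul_iff (a := MulAut.conj g⁻¹).mpr h
  rwa [Coprime.conj_smul_smul, inv_mul_cancel, map_one, one_smul] at this

theorem le_normalizer_conj_smul {X Y : Subgroup G} (h : X ≤ normalizer (Y : Set G)) (g : G) :
    MulAut.conj g • X ≤ normalizer ((MulAut.conj g • Y : Subgroup G) : Set G) :=
  (Subgroup.pointwise_smul_le_pointwise_smul_iff.2 h).trans (Subgroup.le_normalizer_map _)

theorem coprime_of_isPGroup {p : ℕ} [Fact p.Prime] {X Y : Subgroup G} (hX : IsPGroup p X)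
    (h : ¬ p ∣ Nat.card Y) : (Nat.card X).Coprime (Nat.card Y) := by
  obtain ⟨k, hk⟩ := hX.exists_card_eq
  rw [hk]
  exact ((Fact.out : p.Prime).coprime_iff_not_dvd.2 h).pow_left k

/-- An invariant Sylow subgroup of `G` inside a subgroup `K` of index prime to `q`. -/
theorem exists_sylow_invariant_ge {q : ℕ} [Fact q.Prime] {K A U : Subgroup G}
    (hK : Group.IsSolvable K) (hAK : A ≤ normalizer (K : Set G))
    (hcop : (Nat.card A).Coprime (Nat.card K)) (hind : ¬ q ∣ K.index) (hUK : U ≤ K)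
    (hU : IsPGroup q U) (hUA : A ≤ normalizer (U : Set G)) :
    ∃ Q : Sylow q G, U ≤ Q ∧ (Q : Subgroup G) ≤ K ∧ A ≤ normalizer ((Q : Subgroup G) : Set G) := by
  obtain ⟨P, hUP, hPA⟩ := Coprime.exists_invariant_sylow_ge hAK hcop (Or.inr hK) hUK hU hUA
  have h : ¬ q ∣ ((P : Subgroup K).map K.subtype).index := by
    rw [Subgroup.index_map_subtype]
    exact (Fact.out : q.Prime).not_dvd_mul P.not_dvd_index hind
  exact ⟨(P.2.map K.subtype).toSylow h, hUP, Subgroup.map_subtype_le _, hPA⟩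

theorem exists_conj_sylow {q : ℕ} [Fact q.Prime] {M : Subgroup G} (Q₁ Q₂ : Sylow q G)
    (h₁ : (Q₁ : Subgroup G) ≤ M) (h₂ : (Q₂ : Subgroup G) ≤ M) :
    ∃ m ∈ M, (Q₂ : Subgroup G) = MulAut.conj m • (Q₁ : Subgroup G) := by
  obtain ⟨m, hm⟩ := MulAction.exists_smul_eq M (Q₁.subtype h₁) (Q₂.subtype h₂)
  refine ⟨m, m.2, ?_⟩
  have h := congrArg (fun S : Sylow q M => (S : Subgroup M).map M.subtype) hm
  rw [Sylow.coe_subgroup_smul, Coprime.map_conj_smul, Sylow.coe_subtype, Sylow.coe_subtype,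
    Subgroup.map_subgroupOf_eq_of_le h₁, Subgroup.map_subgroupOf_eq_of_le h₂] at h
  exact h.symm

theorem normalizer_sylow_le {q : ℕ} [Fact q.Prime] {M : Subgroup G} (hq : q ∈ sigma M)
    (Q : Sylow q G) (hQ : (Q : Subgroup G) ≤ M) : normalizer ((Q : Subgroup G) : Set G) ≤ M := by
  have := sigma_normalizer_le hq (Q.subtype hQ)
  rwa [Sylow.coe_subtype, Subgroup.map_subgroupOf_eq_of_le hQ] at this

theorem mem_maxInv_sylow {q : ℕ} [Fact q.Prime] (Q : Sylow q G) {A : Subgroup G}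
    (hA : A ≤ normalizer ((Q : Subgroup G) : Set G)) : (Q : Subgroup G) ∈ maxInvSubgroups ⊤ A {q} :=
  ⟨mem_invSubgroups_iff.2 ⟨Q.isPGroup', hA⟩, fun _ hR h => Q.is_maximal' (mem_invSubgroups_iff.1 hR).1 h⟩

variable (hG : IsMinSimpleOddOrder G) {p : ℕ} [Fact p.Prime]

section Elementary

variable {A : Subgroup G} (hA : IsElementaryAbelian p A) (hc : Nat.card A = p ^ 2)
include hA hc

theorem square_ne_bot : A ≠ ⊥ := fun h => by
  rw [h, Subgroup.card_bot] at hc
  exact absurd hc (Nat.one_lt_pow (by norm_num) (Fact.out : p.Prime).one_lt).ne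

theorem square_dvd_card : p ∣ Nat.card A := hc ▸ dvd_pow_self p (by norm_num)

theorem square_not_cyclic : ¬ IsCyclic A := fun h => by
  obtain ⟨a, ha⟩ := (isCyclic_iff_exists_zpowers_eq_top (α := A)).1 h
  have h1 : Nat.card A = orderOf a := by rw [← Nat.card_zpowers, ha, Subgroup.card_top]
  have h2 : orderOf a ∣ p := orderOf_dvd_of_pow_eq_one (Subtype.ext (hA.2 a a.2))
  exact absurd (h1.symm.trans hc ▸ Nat.le_of_dvd (Fact.out : p.Prime).pos h2)
    (lt_self_pow₀ (Fact.out : p.Prime).one_lt (by norm_num)).not_ge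

/-- An element of order `p` commuting with `A` and outside `A` gives an elementary group of order `p³`. -/
theorem exists_cube_of_not_mem {x : G} (hx : x ∈ centralizer (A : Set G)) (hxp : x ^ p = 1)
    (hxA : x ∉ A) : IsElementaryAbelian p (A ⊔ zpowers x : Subgroup G) ∧
      p ^ 3 ≤ Nat.card ↥(A ⊔ zpowers x) := by
  have hE : IsElementaryAbelian p (A ⊔ zpowers x : Subgroup G) :=
    PGroup.isElementaryAbelian_sup hA (PGroup.isElementaryAbelian_zpowers hxp) (fun a ha b hb => by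
      obtain ⟨i, rfl⟩ := hb
      exact (Commute.zpow_right (show Commute a x from Subgroup.mem_centralizer_iff.1 hx a ha) i).eq)
  refine ⟨hE, ?_⟩
  obtain ⟨k, hk⟩ := (PGroup.isPGroup_of_elementaryAbelian hE).exists_card_eq
  have hlt : A < A ⊔ zpowers x := lt_of_le_of_ne le_sup_left fun h =>
    hxA (h.symm ▸ Subgroup.mem_sup_right (Subgroup.mem_zpowers x))
  have h2 : p ^ 2 < p ^ k := by
    rw [← hc, ← hk]
    exact lt_of_le_of_ne (Subgroup.card_le_of_le hlt.le) fun h =>
      hlt.ne (Subgroup.eq_of_le_of_card_ge hlt.le h.ge)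
  rw [hk]
  exact Nat.pow_le_pow_right (Fact.out : p.Prime).pos ((Nat.pow_lt_pow_iff_right (Fact.out : p.Prime).one_lt).1 h2)

theorem mem_of_pow_eq_one_of_rank {H : Subgroup G} (hr : PRankLE p 2 H) (hAH : A ≤ H) {x : G}
    (hxH : x ∈ H) (hx : x ∈ centralizer (A : Set G)) (hxp : x ^ p = 1) : x ∈ A := by
  by_contra hxA
  obtain ⟨hE, h3⟩ := exists_cube_of_not_mem hA hc hx hxp hxA
  exact not_pRankLE_of_elementary hE (sup_le hAH (Subgroup.zpowers_le.2 hxH))
    h3 hr

include hG in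
theorem transitivity_of_square
    (hmax : ∀ x ∈ centralizer (A : Set G), x ^ p = 1 → x ∈ A) : TransitivityHypothesis A :=
  S1396.result hG p ((square_dvd_card hA hc).trans A.card_subgroup_dvd_card) A
    (PGroup.isPGroup_of_elementaryAbelian hA) hA.1
    (Or.inl ⟨fun x hx => ⟨hmax x hx, fun h => hA.2 x h⟩, fun _ hH => pLengthLE_one_of_ne_top hG hH⟩)

theorem not_ideal_of_square
    (hmax : ∀ x ∈ centralizer (A : Set G), x ^ p = 1 → x ∈ A) : ¬ IsIdealPrime p G := fun hid => by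
  obtain ⟨P, hP⟩ := (PGroup.isPGroup_of_elementaryAbelian hA).exists_le_sylow
  obtain ⟨B, -, hB, hlt⟩ := hid.2.2 P A hP hA hc
  obtain ⟨b, hb, hbA⟩ := SetLike.exists_of_lt hlt
  exact hbA (hmax b (Subgroup.mem_centralizer_iff.2 fun a ha =>
    PGroup.mul_comm_of_elementaryAbelian hB (hlt.le ha) hb) (hB.2 b hb))

include hG in
/-- Two invariant Sylow subgroups meeting a proper subgroup over `A` are conjugate under `C(A)`. -/
theorem exists_centralizer_conj (hmax : ∀ x ∈ centralizer (A : Set G), x ^ p = 1 → x ∈ A)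
    {q : ℕ} [Fact q.Prime] (hqp : q ≠ p) (Q₁ Q₂ : Sylow q G)
    (h₁ : A ≤ normalizer ((Q₁ : Subgroup G) : Set G)) (h₂ : A ≤ normalizer ((Q₂ : Subgroup G) : Set G))
    {L : Subgroup G} (hL : L ≠ ⊤) (hAL : A ≤ L) (m₁ : L ⊓ (Q₁ : Subgroup G) ≠ ⊥)
    (m₂ : L ⊓ (Q₂ : Subgroup G) ≠ ⊥) :
    ∃ k ∈ centralizer (A : Set G), (Q₂ : Subgroup G) = MulAut.conj k • (Q₁ : Subgroup G) := by
  have hqA : ¬ q ∣ Nat.card A := fun h => hqp
    ((Nat.prime_dvd_prime_iff_eq Fact.out Fact.out).1 ((Fact.out : q.Prime).dvd_of_dvd_pow (hc ▸ h)))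
  obtain ⟨k, hk, he⟩ := S1392.result hG A (transitivity_of_square hG hA hc hmax) q Fact.out hqA _ _
    (mem_maxInv_sylow Q₁ h₁) (mem_maxInv_sylow Q₂ h₂) L hL hAL m₁ m₂
  exact ⟨k, piCoreOf_le _ _ hk, he⟩

end Elementary

include hG

/-- A rank-three subgroup of a maximal subgroup determines it. -/
theorem eq_of_rank_three {M K L : Subgroup G} (hM : IsCoatom M) (hKM : K ≤ M) {r : ℕ} [Fact r.Prime]
    (hK : ¬ PRankLE r 2 K) (hL : IsCoatom L) (hKL : K ≤ L) : L = M :=
  have h2 : ¬ RankLE 2 K := fun h => hK (h r Fact.out)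
  have h1 : ¬ RankLE 1 K := fun h => hK fun B hB hBp =>
    (h r Fact.out B hB hBp).trans (Nat.pow_le_pow_right (Fact.out : r.Prime).pos (by norm_num))
  (S1403.result hG K (fun h => hM.1 (top_unique (h ▸ hKM))) h1 (Or.inl h2)).unique ⟨hL, hKL⟩ ⟨hM, hKM⟩

/-- Without rank three, the largest prime divisor of `|M|` lies in `σ(M)` and has a normal Sylow subgroup. -/
theorem normal_sylow_of_max {M : Subgroup G} (hM : IsCoatom M) (hr : RankLE 2 M) {q : ℕ}
    [Fact q.Prime] (hq : q ∣ Nat.card M) (hmax : ∀ l : ℕ, l.Prime → l ∣ Nat.card M → l ≤ q) :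
    q ∈ sigma M ∧ ∃ Q : Sylow q G, (Q : Subgroup G) ≤ M ∧ M ≤ normalizer ((Q : Subgroup G) : Set G) := by
  haveI := isSolvable_of_coatom hG hM
  obtain ⟨-, -, h3⟩ := S1451.result (odd_subgroup hG.1 M) (Or.inl hr)
  obtain ⟨N, hN, hNπ, hNi⟩ := h3 (q - 1)
  have hq2 := (Fact.out : q.Prime).two_le
  have hNp : IsPGroup q N := by
    have : IsPiGrp {q} N := fun l hl hd => by
      have h1 : q - 1 < l := (hNπ l hl hd).2
      have h2 := hmax l hl (hd.trans N.card_subgroup_dvd_card)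
      exact Set.mem_singleton_iff.2 (by omega)
    exact isPiGrp_singleton_iff.1 this
  let S : Sylow q M := hNp.toSylow (hNi q Fact.out ⟨Fact.out, by omega⟩)
  have hne : N.map M.subtype ≠ ⊥ := fun h => by
    rw [Subgroup.map_eq_bot_iff_of_injective _ M.subtype_injective] at h
    exact S.ne_bot_of_dvd_card hq h
  haveI := hN
  have hn : M ≤ normalizer ((N.map M.subtype : Subgroup G) : Set G) := le_normalizer_map_of_normal N
  have hN' := normalizer_eq_of_normal hG hM (Subgroup.map_subtype_le _) hn hne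
  have hs : q ∈ sigma M := ⟨Fact.out, hq, S, hN'.le⟩
  obtain ⟨Q, hQ⟩ := sigma_sylow_eq hs S
  exact ⟨hs, Q, hQ.trans_le (Subgroup.map_subtype_le _), hQ ▸ hn⟩

theorem sigmaCore_ne_bot {M : Subgroup G} (hM : IsCoatom M) : sigmaCore M ≠ ⊥ := by
  have hex : ∃ q : ℕ, q.Prime ∧ q ∣ Nat.card M ∧ q ∈ sigma M := by
    by_cases hr : RankLE 2 M
    · have hM1 : M ≠ ⊥ := by
        rintro rfl
        obtain ⟨x, hx⟩ : ∃ x : G, x ≠ 1 := by
          haveI := hG.2.1
          exact exists_ne 1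
        have hb := hM.le_iff.1 (bot_le (a := zpowers x))
        rcases hb with h | h
        · exact hG.2.2.1 (⟨⟨fun a b => by
            obtain ⟨i, rfl⟩ := (h ▸ Subgroup.mem_top a : a ∈ zpowers x)
            obtain ⟨j, rfl⟩ := (h ▸ Subgroup.mem_top b : b ∈ zpowers x)
            exact zpow_mul_comm x i j⟩⟩)
        · exact hx (Subgroup.zpowers_eq_bot.1 h)
      have hne : (Nat.card M).primeFactors.Nonempty := by
        rw [Nat.nonempty_primeFactors]
        exact (Subgroup.one_lt_card_iff_ne_bot M).2 hM1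
      set q := (Nat.card M).primeFactors.max' hne
      have hq := Nat.mem_primeFactors.1 ((Nat.card M).primeFactors.max'_mem hne)
      haveI := Fact.mk hq.1
      exact ⟨q, hq.1, hq.2.1, (normal_sylow_of_max hG hM hr hq.2.1 fun l hl hd =>
        Finset.le_max' _ _ (Nat.mem_primeFactors.2 ⟨hl, hd, Nat.card_pos.ne'⟩)).1⟩
    · simp only [RankLE, not_forall] at hr
      obtain ⟨q, hq, h⟩ := hr
      have hs := alpha_subset_sigma hG hM (show q ∈ alpha M from ⟨hq, h⟩)
      exact ⟨q, hq, hs.2.1, hs⟩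
  obtain ⟨q, hq, hd, hs⟩ := hex
  haveI := Fact.mk hq
  obtain ⟨S⟩ : Nonempty (Sylow q M) := inferInstance
  intro h
  have := sylow_le_sigmaCore hG hM hs S
  rw [h, le_bot_iff, Subgroup.map_eq_bot_iff_of_injective _ M.subtype_injective] at this
  exact S.ne_bot_of_dvd_card hd this

/-- An invariant Sylow subgroup of `G` inside `M_σ`. -/
theorem exists_sylow_sigmaCore_ge {M : Subgroup G} (hM : IsCoatom M) {q : ℕ} [Fact q.Prime]
    (hq : q ∈ sigma M) {A U : Subgroup G} (hAM : A ≤ normalizer (sigmaCore M : Set G))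
    (hcop : (Nat.card A).Coprime (Nat.card (sigmaCore M))) (hUK : U ≤ sigmaCore M)
    (hU : IsPGroup q U) (hUA : A ≤ normalizer (U : Set G)) :
    ∃ Q : Sylow q G, U ≤ Q ∧ (Q : Subgroup G) ≤ sigmaCore M ∧
      A ≤ normalizer ((Q : Subgroup G) : Set G) :=
  exists_sylow_invariant_ge (Coprime.isSolvable_of_le (piCoreOf_le _ M) (isSolvable_of_coatom hG hM))
    hAM hcop ((sigmaCore_isPiHall hG hM).2 q Fact.out hq) hUK hU hUA

end Cfsg.Agent.OddOrder
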