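import Cfsg.Agent.S1411
import Cfsg.Agent.Lib.OddOrder.InvariantSylow
import Cfsg.Agent.Lib.PGroup.RankTwoOperators
import Cfsg.Agent.Lib.OddOrder.SylowSetting

/-!
# Sylow subgroups of rank two in a minimal simple group of odd order (BG 10.7)
-/

set_option autoImplicit false

namespace Cfsg.Agent.OddOrder

open Cfsg
open Subgroup (centralizer normalizer zpowers)
open scoped Pointwise commutatorElement

universe u
variable {G : Type u} [Group G] [Finite G] {p : ℕ} [Fact p.Prime]

/-- A Sylow subgroup of rank two is abelian or the central product of `p^(1+2)` and a cyclic group. -/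
theorem sylow_rankTwo_structure (hG : IsMinSimpleOddOrder G) (P : Sylow p G)
    (hr : PRankLE p 2 (P : Subgroup G)) :
    IsMulCommutative (P : Subgroup G) ∨ ∃ P₁ P₂ : Subgroup G, P₁ ⊔ P₂ = (P : Subgroup G) ∧
      (∀ a ∈ P₁, ∀ b ∈ P₂, a * b = b * a) ∧ ¬ IsMulCommutative P₁ ∧ Nat.card P₁ = p ^ 3 ∧
      Monoid.exponent P₁ = p ∧ IsCyclic P₂ ∧
      Subgroup.closure {x : G | x ∈ P₂ ∧ x ^ p = 1} = P₁ ⊓ centralizer (P₁ : Set G) := by
  rcases eq_or_ne (P : Subgroup G) ⊥ with h | hP
  · exact Or.inl (PGroup.isMulCommutative_of_forall fun a ha b hb => by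
      rw [h, Subgroup.mem_bot] at ha hb
      rw [ha, hb])
  have hp := ne_two_of_minSimple hG P.2 hP
  set N := normalizer ((P : Subgroup G) : Set G) with hN
  haveI : ((P.subtype Subgroup.le_normalizer : Sylow p N) : Subgroup N).Normal := by
    rw [Sylow.coe_subtype]
    exact Subgroup.normal_in_normalizer
  obtain ⟨V, hV⟩ := Subgroup.exists_right_complement'_of_coprime
    (P.subtype Subgroup.le_normalizer : Sylow p N).card_coprime_index
  have hcompl : IsComplIn (P : Subgroup G) (V.map N.subtype) N := by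
    refine ⟨Subgroup.le_normalizer, Subgroup.map_subtype_le _, ?_, fun m hm => ?_⟩
    · rw [eq_bot_iff]
      rintro _ ⟨hx, ⟨v, hv, rfl⟩⟩
      have h2 := hV.disjoint.le_bot ⟨hx, hv⟩
      rw [Subgroup.mem_bot] at h2 ⊢
      rw [h2]
      rfl
    · obtain ⟨⟨x, y⟩, hxy⟩ := hV.2 ⟨m, hm⟩
      exact ⟨(x : N), x.2, (y : N), ⟨y, y.2, rfl⟩, congrArg Subtype.val hxy.symm⟩
  obtain ⟨hPV, -⟩ := S1411.result hG p P _ hcompl
  have hcop : (Nat.card (V.map N.subtype)).Coprime p := by
    rw [Subgroup.card_map_of_injective N.subtype_injective, ← hV.symm.index_eq_card]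
    exact ((Fact.out : p.Prime).coprime_iff_not_dvd.2
      (P.subtype Subgroup.le_normalizer : Sylow p N).not_dvd_index).symm
  rcases RankTwoOperators.structure_rankTwo hp P.2 hP hr (Subgroup.map_subtype_le V) hcop
      (hG.1.of_dvd_nat (Subgroup.card_subgroup_dvd_card _)) hPV.symm with h | h
  · exact Or.inl h
  obtain ⟨E, C, hsup, hcomm, hnc, hc3, hexp, hcyc, hcl⟩ := h
  refine Or.inr ⟨E, C, hsup, hcomm, hnc, hc3, hexp, hcyc, ?_⟩
  have hEp : IsPGroup p E := IsPGroup.of_card hc3
  set Z := E ⊓ centralizer (E : Set G) with hZ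
  have hZC : Nat.card Z ≤ p := by
    obtain ⟨i, hi, hi'⟩ := (Nat.dvd_prime_pow (Fact.out : p.Prime)).1
      (hc3 ▸ Subgroup.card_dvd_of_le (inf_le_left : Z ≤ E))
    rw [hi']
    rcases Nat.lt_or_ge i 2 with hlt | hge
    · exact (Nat.pow_le_pow_right (Fact.out : p.Prime).pos (by omega : i ≤ 1)).trans_eq (pow_one p)
    exfalso
    rcases (show i = 2 ∨ i = 3 by omega) with rfl | rfl
    · obtain ⟨e, he, heZ⟩ : ∃ e ∈ E, e ∉ Z := SetLike.not_le_iff_exists.1 fun h => by
        have h5 := Subgroup.card_le_of_le h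
        rw [hc3, hi'] at h5
        exact absurd h5 (Nat.pow_lt_pow_right (Fact.out : p.Prime).one_lt (by norm_num)).not_ge
      have hep : ∀ y ∈ E, y ^ p = 1 := fun y hy => by
        have := Monoid.pow_exponent_eq_one (⟨y, hy⟩ : E)
        rw [hexp] at this
        exact congrArg Subtype.val this
      have hZel : IsElementaryAbelian p Z := PGroup.isElementaryAbelian_of_forall
        (fun a ha b hb => (Subgroup.mem_centralizer_iff.1 ha.2 b hb.1).symm) fun a ha => hep a ha.1
      obtain ⟨hel, h3'⟩ := exists_cube_of_not_mem hZel hi'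
        (Subgroup.mem_centralizer_iff.2 fun a ha => (Subgroup.mem_centralizer_iff.1 ha.2 e he).symm) (hep e he) heZ
      refine hnc (PGroup.isMulCommutative_of_forall fun a ha b hb => ?_)
      have hEeq : Z ⊔ zpowers e = E :=
        Subgroup.eq_of_le_of_card_ge (sup_le inf_le_left (Subgroup.zpowers_le.2 he)) (hc3.le.trans h3')
      exact PGroup.mul_comm_of_elementaryAbelian hel (hEeq.ge ha) (hEeq.ge hb)
    · refine hnc (PGroup.isMulCommutative_of_forall fun a ha b hb => ?_)
      have hEeq : Z = E := Subgroup.eq_of_le_of_card_ge inf_le_left (by rw [hc3, hi'])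
      exact (Subgroup.mem_centralizer_iff.1 (hEeq.ge ha).2 b hb).symm
  rw [hcl]
  refine Subgroup.eq_of_le_of_card_ge (Subgroup.commutator_le.2 fun a ha b hb => ?_) (hZC.trans ?_)
  · haveI : Fact p.Prime := inferInstance
    have hE' : ⁅E, E⁆ ≤ Z := by
      obtain ⟨i, hi, hi'⟩ := (Nat.dvd_prime_pow (Fact.out : p.Prime)).1
        (hc3 ▸ Subgroup.card_dvd_of_le (Subgroup.commutator_le_self E))
      have hlt : ⁅E, E⁆ < E := Coprime.commutator_lt_of_isPGroup hEp hEp Subgroup.le_normalizer
        (fun e => by rw [e, Subgroup.card_bot] at hc3; exact absurd hc3 (Nat.one_lt_pow (by norm_num) (Fact.out : p.Prime).one_lt).ne)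
      refine le_inf hlt.le fun y hy => ?_
      have hy' : y ∈ C := by
        have : y ∈ Subgroup.closure {x : G | x ∈ C ∧ x ^ p = 1} := hcl.ge hy
        exact (Subgroup.closure_le C).2 (fun _ hx => hx.1) this
      exact Subgroup.mem_centralizer_iff.2 fun e he => hcomm e he y hy'
    exact hE' (Subgroup.commutator_mem_commutator ha hb)
  · obtain ⟨j, hj⟩ := (hEp.to_le (Subgroup.commutator_le_self E)).exists_card_eq
    have hj0 : j ≠ 0 := fun e => hnc (PGroup.isMulCommutative_of_forall fun a ha b hb => by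
      have h7 : ⁅a, b⁆ ∈ ⁅E, E⁆ := Subgroup.commutator_mem_commutator ha hb
      rw [Subgroup.card_eq_one.1 (show Nat.card ↥⁅E, E⁆ = 1 by rw [hj, e, pow_zero]), Subgroup.mem_bot] at h7
      exact commutatorElement_eq_one_iff_mul_comm.1 h7)
    rw [hj]
    exact Nat.le_self_pow hj0 p

end Cfsg.Agent.OddOrder
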