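import Cfsg.Agent.Lib.OddOrder.InvariantSylow
import Cfsg.Agent.Lib.OddOrder.ExceptionalCore
import Cfsg.Agent.Lib.Coprime.Quotient
import Cfsg.Agent.S1412

/-!
# A nonabelian Sylow subgroup of rank two (Bender–Glauberman 10.6)

* `exists_center_data`: its subgroup `Z` of order `p`, with `S' ≤ Z` and an `S`-conjugacy of the
  other lines of a square;
* `le_of_forall_centralizer_le_mod`: generation by centralisers modulo a central subgroup.
-/

set_option autoImplicit false
set_option linter.style.haveILetI false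
set_option linter.unusedSectionVars false

namespace Cfsg.Agent.OddOrder

open Cfsg
open Subgroup (centralizer normalizer zpowers)
open scoped Pointwise commutatorElement

universe u
variable {G : Type u} [Group G] [Finite G] {p : ℕ} [Fact p.Prime]

omit [Fact p.Prime] in
theorem le_centralizer_zpowers_iff {z : G} {S : Subgroup G} :
    S ≤ centralizer ({z} : Set G) ↔ zpowers z ≤ centralizer (S : Set G) := by
  rw [Subgroup.zpowers_le, Subgroup.mem_centralizer_iff]
  exact ⟨fun h s hs => Subgroup.mem_centralizer_singleton_iff.1 (h hs),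
    fun h s hs => Subgroup.mem_centralizer_singleton_iff.2 (h s hs)⟩

omit [Finite G] [Fact p.Prime] in
theorem centralizer_singleton_le_normalizer_zpowers (a : G) :
    centralizer ({a} : Set G) ≤ normalizer (zpowers a : Set G) := by
  refine le_trans (fun x hx => ?_) (Subgroup.centralizer_le_normalizer _)
  refine Subgroup.mem_centralizer_iff.2 fun y hy => ?_
  obtain ⟨i, rfl⟩ := hy
  exact (Commute.zpow_left (Subgroup.mem_centralizer_singleton_iff.1 hx).symm i).eq

theorem square_of_line {z a : G} (hz : z ^ p = 1) (hz1 : z ≠ 1) (ha : a ^ p = 1) (haz : a ∉ zpowers z)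
    (hc : Commute a z) : IsElementaryAbelian p (zpowers z ⊔ zpowers a : Subgroup G) ∧
      Nat.card ↥(zpowers z ⊔ zpowers a) = p ^ 2 := by
  have hp := (Fact.out : p.Prime)
  refine ⟨PGroup.isElementaryAbelian_sup (PGroup.isElementaryAbelian_zpowers hz)
    (PGroup.isElementaryAbelian_zpowers ha) ?_, ?_⟩
  · rintro _ ⟨i, rfl⟩ _ ⟨j, rfl⟩
    exact ((hc.symm.zpow_left i).zpow_right j).eq
  have hza : zpowers z ≤ normalizer (zpowers a : Set G) :=
    (Subgroup.zpowers_le.2 (Subgroup.mem_centralizer_singleton_iff.2 hc.eq.symm)).trans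
      (centralizer_singleton_le_normalizer_zpowers a)
  have hd : zpowers z ⊓ zpowers a = ⊥ := by
    have hd' : Nat.card ↥(zpowers z ⊓ zpowers a) ∣ p := by
      have := Subgroup.card_dvd_of_le (inf_le_left : zpowers z ⊓ zpowers a ≤ zpowers z)
      rwa [Nat.card_zpowers, orderOf_eq_prime hz hz1] at this
    rcases (Nat.dvd_prime hp).1 hd' with h | h
    · exact Subgroup.card_eq_one.1 h
    · exfalso
      have e : zpowers z ⊓ zpowers a = zpowers a := Subgroup.eq_of_le_of_card_ge inf_le_right (by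
        rw [h, Nat.card_zpowers]
        exact Nat.le_of_dvd hp.pos (orderOf_dvd_of_pow_eq_one ha))
      exact haz ((inf_le_left : zpowers z ⊓ zpowers a ≤ zpowers z) (e.ge (Subgroup.mem_zpowers a)))
  have ha1 : a ≠ 1 := fun e => haz (e ▸ one_mem _)
  rw [Coprime.card_sup_of_le_normalizer hza hd, Nat.card_zpowers, Nat.card_zpowers,
    orderOf_eq_prime hz hz1, orderOf_eq_prime ha ha1, sq]

/-- The subgroup of order `p` of a nonabelian Sylow subgroup of rank two. -/
theorem exists_center_data (hG : IsMinSimpleOddOrder G) (S : Sylow p G)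
    (hr : PRankLE p 2 (S : Subgroup G)) (hna : ¬ IsMulCommutative (S : Subgroup G)) :
    ∃ (z : G) (P₁ : Subgroup G), z ∈ P₁ ∧ z ^ p = 1 ∧ z ≠ 1 ∧
      (S : Subgroup G) ≤ centralizer ({z} : Set G) ∧ P₁ ≤ S ∧ (∀ x ∈ P₁, x ^ p = 1) ∧
      (∀ a ∈ P₁, zpowers z ⊔ zpowers a ≠ P₁) ∧
      (∀ s ∈ (S : Subgroup G), ∀ t ∈ (S : Subgroup G), ⁅s, t⁆ ∈ zpowers z) ∧
      (∀ a ∈ (S : Subgroup G), a ^ p = 1 → a ∈ centralizer ((S : Subgroup G) : Set G) → a ∈ zpowers z) := by
  have hp := (Fact.out : p.Prime)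
  rcases S1412.result hG p S hr with h | ⟨P₁, P₂, hsup, hcomm, hna₁, hcard, hexp, hcyc, -⟩
  · exact absurd h hna
  have hP₁S : P₁ ≤ (S : Subgroup G) := le_sup_left.trans hsup.le
  have hP₂S : P₂ ≤ (S : Subgroup G) := le_sup_right.trans hsup.le
  have hexp' : ∀ x ∈ P₁, x ^ p = 1 := fun x hx => by
    have h := Monoid.pow_exponent_eq_one (⟨x, hx⟩ : P₁)
    rw [hexp] at h
    exact congrArg Subtype.val h
  have hdec : ∀ s ∈ (S : Subgroup G), ∃ x ∈ P₁, ∃ y ∈ P₂, x * y = s := fun s hs =>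
    (Coprime.mem_sup_iff_of_le_normalizer (H := P₁) (N := P₂)
      ((show P₁ ≤ centralizer (P₂ : Set G) from fun x hx =>
        Subgroup.mem_centralizer_iff.2 fun y hy => (hcomm x hx y hy).symm).trans
        (Subgroup.centralizer_le_normalizer _))).1 (hsup.ge hs)
  haveI := hcyc
  have hP₂c : ∀ y ∈ P₂, ∀ s ∈ (S : Subgroup G), Commute y s := fun y hy s hs => by
    obtain ⟨x, hx, y', hy', rfl⟩ := hdec s hs
    exact (show Commute y x from (hcomm x hx y hy).symm).mul_right
      (congrArg Subtype.val (IsCyclic.commGroup.mul_comm (⟨y, hy⟩ : P₂) ⟨y', hy'⟩))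
  have hP₁c : ∀ x ∈ P₁, x ∈ centralizer (P₁ : Set G) → x ∈ centralizer ((S : Subgroup G) : Set G) := by
    intro x hx hxc
    refine Subgroup.mem_centralizer_iff.2 fun s hs => ?_
    obtain ⟨x', hx', y', hy', rfl⟩ := hdec s hs
    exact ((show Commute x' x from Subgroup.mem_centralizer_iff.1 hxc x' hx').mul_left
      (show Commute y' x from (hcomm x hx y' hy').symm)).eq
  have hP₁p : IsPGroup p P₁ := S.2.to_le hP₁S
  have hP₁1 : P₁ ≠ ⊥ := fun e => hna₁ (e ▸ inferInstance)
  obtain ⟨z, hz, hz1, hzp, hzc⟩ := exists_central_pow_eq_one hP₁p hP₁1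
  have hzC : z ∈ centralizer (P₁ : Set G) := Subgroup.mem_centralizer_iff.2 fun y hy =>
    Subgroup.mem_centralizer_singleton_iff.1 (hzc hy)
  have hzS := hP₁c z hz hzC
  have hnc : ∀ a ∈ P₁, zpowers z ⊔ zpowers a ≠ P₁ := fun a ha e => by
    by_cases haz : a ∈ zpowers z
    · exact hna₁ (by
        rw [← e, sup_eq_left.2 (Subgroup.zpowers_le.2 haz)]; infer_instance)
    · exact hna₁ (e ▸ (square_of_line hzp hz1 (hexp' a ha) haz
        (Subgroup.mem_centralizer_iff.1 hzC a ha)).1.1)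
  have hmem : ∀ a ∈ (S : Subgroup G), a ^ p = 1 → a ∈ centralizer ((S : Subgroup G) : Set G) →
      a ∈ zpowers z := fun a ha hap hac => by
    by_contra haz
    obtain ⟨hA, hAc⟩ := square_of_line hzp hz1 hap haz
      (Subgroup.mem_centralizer_iff.1 hac z (hP₁S hz)).symm
    have hle : P₁ ≤ zpowers z ⊔ zpowers a := fun x hx => by
      refine mem_of_pow_eq_one_of_rank hA hAc hr
        (sup_le (Subgroup.zpowers_le.2 (hP₁S hz)) (Subgroup.zpowers_le.2 ha)) (hP₁S hx) ?_ (hexp' x hx)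
      refine (sup_le ?_ ?_ : zpowers z ⊔ zpowers a ≤ centralizer ({x} : Set G)) |> fun h =>
        Subgroup.mem_centralizer_iff.2 fun w hw => Subgroup.mem_centralizer_singleton_iff.1 (h hw)
      · exact Subgroup.zpowers_le.2 (Subgroup.mem_centralizer_singleton_iff.2
          (Subgroup.mem_centralizer_iff.1 hzC x hx).symm)
      · exact Subgroup.zpowers_le.2 (Subgroup.mem_centralizer_singleton_iff.2
          (Subgroup.mem_centralizer_iff.1 hac x (hP₁S hx)).symm)
    exact absurd (Subgroup.card_le_of_le hle) (by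
      rw [hcard, hAc, not_le]; exact Nat.pow_lt_pow_right hp.one_lt (by norm_num))
  have hcomm₁ : ∀ x ∈ P₁, ∀ y ∈ P₁, ⁅x, y⁆ ∈ centralizer (P₁ : Set G) := by
    intro x hx y hy
    haveI : Nontrivial P₁ := (Subgroup.nontrivial_iff_ne_bot _).2 hP₁1
    obtain ⟨n, hn0, hn⟩ := IsPGroup.card_center_eq_prime_pow hcard (by norm_num)
    have hq : Nat.card (↥P₁ ⧸ Subgroup.center P₁) * p ^ n = p ^ 3 := by
      rw [← hn, ← Subgroup.card_eq_card_quotient_mul_card_subgroup, hcard]
    have hn1 : n = 1 := by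
      by_contra hne
      refine hna₁ ?_
      haveI : IsCyclic (↥P₁ ⧸ Subgroup.center P₁) := by
        have hd : Nat.card (↥P₁ ⧸ Subgroup.center P₁) ∣ p := by
          refine Nat.dvd_of_mul_dvd_mul_right (pow_pos hp.pos 2) ?_
          rw [show p * p ^ 2 = p ^ 3 by ring, ← hq]
          exact mul_dvd_mul_left _ (pow_dvd_pow p (by omega))
        rcases (Nat.dvd_prime hp).1 hd with h | h
        · haveI := (Nat.card_eq_one_iff_unique.1 h).1
          infer_instance
        · exact isCyclic_of_prime_card h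
      exact MonoidHom.isMulCommutative_of_isCyclic_of_ker_le_center (QuotientGroup.mk' (Subgroup.center P₁))
        (QuotientGroup.ker_mk' _).le
    subst hn1
    have hq2 : Nat.card (↥P₁ ⧸ Subgroup.center P₁) = p ^ 2 :=
      Nat.eq_of_mul_eq_mul_right hp.pos (by rw [← pow_succ]; simpa using hq)
    have hqc : ∀ a b : ↥P₁ ⧸ Subgroup.center P₁, a * b = b * a :=
      (IsPGroup.isMulCommutative_of_card_eq_prime_sq hq2).is_comm.comm
    have h1 : ⁅(⟨x, hx⟩ : P₁), ⟨y, hy⟩⁆ ∈ Subgroup.center P₁ := by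
      rw [← QuotientGroup.eq_one_iff, ← QuotientGroup.mk'_apply, map_commutatorElement]
      exact commutatorElement_eq_one_iff_mul_comm.2 (hqc _ _)
    exact Subgroup.mem_centralizer_iff.2 fun w hw =>
      congrArg Subtype.val (Subgroup.mem_center_iff.1 h1 ⟨w, hw⟩)
  refine ⟨z, P₁, hz, hzp, hz1, le_centralizer_zpowers_iff.2 (Subgroup.zpowers_le.2 hzS), hP₁S, hexp',
    hnc, fun s hs t ht => ?_, hmem⟩
  obtain ⟨x, hx, a, ha, rfl⟩ := hdec s hs
  obtain ⟨y, hy, b, hb, rfl⟩ := hdec t ht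
  have e : ⁅x * a, y * b⁆ = ⁅x, y⁆ := by
    have h1 : Commute a (y * b * a⁻¹) :=
      (hP₂c a ha _ (mul_mem (hP₁S hy) (hP₂S hb))).mul_right (Commute.refl a).inv_right
    have h2 : Commute b (x⁻¹) := hP₂c b hb _ (inv_mem (hP₁S hx))
    simp only [commutatorElement_def, mul_inv_rev]
    calc x * a * (y * b) * (a⁻¹ * x⁻¹) * (b⁻¹ * y⁻¹)
        = x * (a * (y * b * a⁻¹)) * x⁻¹ * b⁻¹ * y⁻¹ := by group
      _ = x * y * (b * x⁻¹) * b⁻¹ * y⁻¹ := by rw [h1.eq]; group
      _ = x * y * x⁻¹ * y⁻¹ := by rw [h2.eq]; group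
  rw [e]
  have hc : ⁅x, y⁆ ∈ P₁ := by
    rw [commutatorElement_def]
    exact mul_mem (mul_mem (mul_mem hx hy) (inv_mem hx)) (inv_mem hy)
  exact hmem _ (hP₁S hc) (hexp' _ hc) (hP₁c _ hc (hcomm₁ x hx y hy))

/-- The lines of a square other than the central one are conjugate. -/
theorem exists_conj_line {S : Subgroup G} {z a : G} (hz : z ^ p = 1) (hz1 : z ≠ 1)
    (hSz : S ≤ centralizer ({z} : Set G))
    (hcomm : ∀ s ∈ S, ∀ t ∈ S, ⁅s, t⁆ ∈ zpowers z) (haS : a ∈ S) (ha : a ^ p = 1)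
    (hac : a ∉ centralizer (S : Set G)) {A₀ : Subgroup G} (h0 : A₀ ≤ zpowers z ⊔ zpowers a)
    (h0c : Nat.card A₀ = p) (hne : A₀ ≠ zpowers z) :
    ∃ g ∈ S, MulAut.conj g • A₀ = zpowers a := by
  have hp := (Fact.out : p.Prime)
  have hca : Commute z a := (Subgroup.mem_centralizer_singleton_iff.1 (hSz haS)).symm
  have hn : zpowers z ≤ normalizer (zpowers a : Set G) :=
    (Subgroup.zpowers_le.2 (Subgroup.mem_centralizer_singleton_iff.2 hca.eq)).trans
      (centralizer_singleton_le_normalizer_zpowers a)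
  obtain ⟨b, hb, hbz⟩ : ∃ b ∈ A₀, b ∉ zpowers z := by
    by_contra h
    push Not at h
    exact hne (Subgroup.eq_of_le_of_card_ge h (by
      rw [h0c, Nat.card_zpowers, orderOf_eq_prime hz hz1]))
  obtain ⟨w, hw, v, hv, hwv⟩ := (Coprime.mem_sup_iff_of_le_normalizer hn).1 (h0 hb)
  have hv1 : v ≠ 1 := fun e => hbz (by rw [← hwv, e, mul_one]; exact hw)
  have hva : zpowers v = zpowers a := Subgroup.eq_of_le_of_card_ge (Subgroup.zpowers_le.2 hv) (by
    have hvp : v ^ p = 1 := by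
      obtain ⟨i, rfl⟩ := hv
      rw [← zpow_natCast, ← zpow_mul, mul_comm, zpow_mul, zpow_natCast, ha, one_zpow]
    rw [Nat.card_zpowers, Nat.card_zpowers, orderOf_eq_prime hvp hv1]
    exact Nat.le_of_dvd hp.pos (orderOf_dvd_of_pow_eq_one ha))
  have hvc : ∀ s : G, Commute s v → Commute s a := fun s h => by
    obtain ⟨i, hi⟩ := hva.ge (Subgroup.mem_zpowers a)
    rw [← hi]
    exact h.zpow_right i
  obtain ⟨s, hs, hsv⟩ : ∃ s ∈ S, ¬ Commute s v := by
    by_contra h
    push Not at h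
    exact hac (Subgroup.mem_centralizer_iff.2 fun s hs => (hvc s (h s hs)).eq)
  have hvS : v ∈ S := (Subgroup.zpowers_le.2 haS) hv
  set c := ⁅s, v⁆ with hc
  have hcz : c ∈ zpowers z := hcomm s hs v hvS
  have hc1 : c ≠ 1 := fun e => hsv (commutatorElement_eq_one_iff_mul_comm.1 e)
  have hgen : zpowers c = zpowers z := by
    refine Subgroup.eq_of_le_of_card_ge (Subgroup.zpowers_le.2 hcz) ?_
    have hd := Subgroup.orderOf_dvd_natCard _ hcz
    rw [Nat.card_zpowers, orderOf_eq_prime hz hz1] at hd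
    rw [Nat.card_zpowers, Nat.card_zpowers, orderOf_eq_prime hz hz1,
      ((Nat.dvd_prime hp).1 hd).resolve_left fun e => hc1 (orderOf_eq_one_iff.1 e)]
  obtain ⟨n, hn'⟩ : ∃ n : ℕ, c ^ n = w⁻¹ := by
    have h1 := hgen.ge (inv_mem hw)
    rw [← mem_powers_iff_mem_zpowers] at h1
    exact h1
  have hcs : Commute s c := by
    obtain ⟨i, hi⟩ := hcz
    rw [← hi]
    exact (Commute.zpow_right (Subgroup.mem_centralizer_singleton_iff.1 (hSz hs)) i)
  have hpow : ∀ m : ℕ, s ^ m * v * (s ^ m)⁻¹ = c ^ m * v := by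
    intro m
    induction m with
    | zero => simp
    | succ m ih =>
      calc s ^ (m + 1) * v * (s ^ (m + 1))⁻¹ = s * (s ^ m * v * (s ^ m)⁻¹) * s⁻¹ := by
            rw [pow_succ']; group
        _ = s * c ^ m * (v * s⁻¹) := by rw [ih]; group
        _ = c ^ m * (s * v * s⁻¹) := by rw [(hcs.pow_right m).eq]; group
        _ = c ^ m * (c * v) := by rw [hc, commutatorElement_def]; group
        _ = c ^ (m + 1) * v := by rw [pow_succ, mul_assoc]
  refine ⟨s ^ n, pow_mem hs n, ?_⟩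
  have hsw : Commute (s ^ n) w := by
    obtain ⟨i, hi⟩ := hw
    rw [← hi]
    exact (Commute.zpow_right (Subgroup.mem_centralizer_singleton_iff.1 (hSz (pow_mem hs n))) i)
  have hbv : s ^ n * b * (s ^ n)⁻¹ = v := by
    calc s ^ n * b * (s ^ n)⁻¹ = (s ^ n * w) * v * (s ^ n)⁻¹ := by rw [← hwv]; group
      _ = w * (s ^ n * v * (s ^ n)⁻¹) := by rw [hsw.eq]; group
      _ = v := by rw [hpow, hn', mul_inv_cancel_left]
  rw [← hva]
  refine (Subgroup.eq_of_le_of_card_ge (Subgroup.zpowers_le.2 ?_) ?_).symm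
  · rw [← hbv]
    exact Subgroup.smul_mem_pointwise_smul b (MulAut.conj (s ^ n)) _ hb
  · rw [Coprime.card_conj_smul, h0c, Nat.card_zpowers]
    refine (orderOf_eq_prime ?_ hv1).ge
    obtain ⟨i, rfl⟩ := hv
    rw [← zpow_natCast, ← zpow_mul, mul_comm, zpow_mul, zpow_natCast, ha, one_zpow]

omit [Fact p.Prime] in
/-- Generation by centralisers, modulo a central subgroup. -/
theorem le_of_forall_centralizer_le_mod {z : G} {P K T : Subgroup G}
    (hPz : P ≤ centralizer ({z} : Set G)) (hKz : K ≤ centralizer ({z} : Set G)) (hzP : z ∈ P)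
    (hcomm : ∀ a ∈ P, ∀ b ∈ P, ⁅a, b⁆ ∈ zpowers z) (hnc : ∀ a ∈ P, zpowers z ⊔ zpowers a ≠ P)
    (hPK : P ≤ normalizer (K : Set G)) (hcop : (Nat.card P).Coprime (Nat.card K))
    (h : ∀ a ∈ P, a ∉ zpowers z → K ⊓ centralizer ({a} : Set G) ≤ T) : K ≤ T := by
  set C := centralizer ({z} : Set G)
  set N := (zpowers z).subgroupOf C
  haveI : N.Normal := (Subgroup.normal_subgroupOf_iff_le_normalizer
    (Subgroup.zpowers_le.2 (Subgroup.mem_centralizer_singleton_iff.2 rfl))).2
      (centralizer_singleton_le_normalizer_zpowers z)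
  set π := QuotientGroup.mk' N
  set A := (P.subgroupOf C).map π
  set K' := (K.subgroupOf C).map π
  set S' := ((T ⊓ K).subgroupOf C).map π
  haveI : IsMulCommutative A := ⟨⟨by
    rintro ⟨_, x, hx, rfl⟩ ⟨_, y, hy, rfl⟩
    refine Subtype.ext ?_
    show π x * π y = π y * π x
    refine commutatorElement_eq_one_iff_mul_comm.1 ?_
    rw [← map_commutatorElement]
    exact (QuotientGroup.eq_one_iff _).2 (hcomm x hx y hy)⟩⟩
  have hAc : ¬ IsCyclic A := fun hA => by
    obtain ⟨g, hg⟩ := (isCyclic_iff_exists_zpowers_eq_top (α := A)).1 hA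
    obtain ⟨a, ha, hag⟩ := g.2
    refine hnc a ha (le_antisymm (sup_le (Subgroup.zpowers_le.2 hzP) (Subgroup.zpowers_le.2 ha))
      fun x hx => ?_)
    obtain ⟨i, hi⟩ := hg.ge (Subgroup.mem_top (⟨π ⟨x, hPz hx⟩, ⟨x, hPz hx⟩, hx, rfl⟩ : A))
    have hi' : π (a ^ i) = π ⟨x, hPz hx⟩ := by
      rw [map_zpow, hag]; exact congrArg Subtype.val hi
    rw [QuotientGroup.mk'_apply, QuotientGroup.mk'_apply, QuotientGroup.eq] at hi'
    have h1 : ((a : G) ^ i)⁻¹ * x ∈ zpowers z := by simpa [N, Subgroup.mem_subgroupOf] using hi'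
    have := mul_mem (Subgroup.mem_sup_right (zpow_mem (Subgroup.mem_zpowers (a : G)) i) :
      (a : G) ^ i ∈ zpowers z ⊔ zpowers (a : G)) (Subgroup.mem_sup_left h1)
    simpa using this
  have hAK : A ≤ normalizer (K' : Set (C ⧸ N)) :=
    (Subgroup.map_mono (Coprime.coe_normalizer_subgroupOf_le (N := K) hKz hPK)).trans
      (Subgroup.le_normalizer_map π)
  have hcop' : (Nat.card (P.subgroupOf C)).Coprime (Nat.card (K.subgroupOf C)) := by
    rwa [Coprime.card_subgroupOf hPz, Coprime.card_subgroupOf hKz]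
  have e := Coprime.eq_of_forall_centralizer_le (S := S') hAc hAK
    ((hcop'.coprime_dvd_left (Subgroup.card_map_dvd _ π)).coprime_dvd_right (Subgroup.card_map_dvd _ π))
    (Subgroup.map_mono fun x hx => hx.2) fun a' ha' ha1 => by
      obtain ⟨a, ha, rfl⟩ := ha'
      have haz : (a : G) ∉ zpowers z := fun h => ha1 ((QuotientGroup.eq_one_iff a).2 h)
      have hz' : zpowers a ≤ P.subgroupOf C := Subgroup.zpowers_le.2 ha
      have hm := Coprime.map_inf_centralizer π (A := zpowers a) (K := K.subgroupOf C)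
        (hz'.trans (Coprime.coe_normalizer_subgroupOf_le (N := K) hKz hPK))
        (hcop'.coprime_dvd_left (Subgroup.card_dvd_of_le hz'))
        (Or.inl (Group.isSolvable_of_comm fun x y => mul_comm' x y))
      refine le_trans (le_of_eq ?_) ((hm.ge).trans (Subgroup.map_mono fun x hx => ⟨?_, hx.1⟩))
      · congr 1
        rw [MonoidHom.map_zpowers]
        refine le_antisymm (fun y hy => Subgroup.mem_centralizer_iff.2 ?_) ?_
        · rintro _ ⟨i, rfl⟩
          exact (Commute.zpow_left (Subgroup.mem_centralizer_singleton_iff.1 hy).symm i).eq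
        · exact Subgroup.centralizer_le (Set.singleton_subset_iff.2 (Subgroup.mem_zpowers _))
      · exact h a ha haz ⟨hx.1, Subgroup.mem_centralizer_singleton_iff.2
          (congrArg Subtype.val (Subgroup.mem_centralizer_iff.1 hx.2 a (Subgroup.mem_zpowers a))).symm⟩
  intro k hk
  obtain ⟨t, ht, htk⟩ := e.ge (Subgroup.mem_map_of_mem π (show (⟨k, hKz hk⟩ : C) ∈ K.subgroupOf C from hk))
  rw [QuotientGroup.mk'_apply, QuotientGroup.mk'_apply, QuotientGroup.eq] at htk
  have h1 : (t : G)⁻¹ * k ∈ zpowers z ⊓ K := ⟨by simpa [N, Subgroup.mem_subgroupOf] using htk,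
    K.mul_mem (K.inv_mem ht.2) hk⟩
  rw [Coprime.disjoint_of_coprime_card
    (hcop.coprime_dvd_left (Subgroup.card_dvd_of_le (Subgroup.zpowers_le.2 hzP))), Subgroup.mem_bot,
    inv_mul_eq_one] at h1
  exact h1 ▸ ht.1

end Cfsg.Agent.OddOrder
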