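import Cfsg.Agent.S1401
import Cfsg.Agent.Lib.OddOrder.UniqueMaximal
import Cfsg.Agent.Lib.Coprime.Commutator
import Cfsg.Agent.Lib.PGroup.Class2

/-!
# The layer `W = {w ∈ Ω₁ | [w, D] ≤ Ω₁Z(D)}` of `D = O_q(M)` for a maximal subgroup `M`

If `O_q(M)` has rank at least 3 then every subgroup of `W` of order at least `q²` lies in `M` alone, and
`M` contains the centralizers and normalizers of the subgroups of order `q` of `W`.
-/

set_option linter.style.haveILetI false
set_option linter.unusedSectionVars false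

namespace Cfsg.Agent.OddOrder

open Cfsg
open Subgroup (centralizer normalizer zpowers)
open scoped commutatorElement

universe u
variable {G : Type u} [Group G] [Finite G] {q : ℕ} [Fact q.Prime]

theorem isElementaryAbelian_sup {E F : Subgroup G} (hE : IsElementaryAbelian q E)
    (hF : IsElementaryAbelian q F) (hc : F ≤ centralizer (E : Set G)) :
    IsElementaryAbelian q (E ⊔ F : Subgroup G) := by
  have hn : E ≤ normalizer (F : Set G) :=
    (Subgroup.le_centralizer_iff.1 hc).trans (Subgroup.centralizer_le_normalizer _)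
  refine PGroup.isElementaryAbelian_of_forall (fun x hx y hy => ?_) (fun x hx => ?_)
  · obtain ⟨a, ha, b, hb, rfl⟩ := (Coprime.mem_sup_iff_of_le_normalizer hn).1 hx
    obtain ⟨c, hc', d, hd, rfl⟩ := (Coprime.mem_sup_iff_of_le_normalizer hn).1 hy
    have h1 : Commute a c := PGroup.mul_comm_of_elementaryAbelian hE ha hc'
    have h2 : Commute b d := PGroup.mul_comm_of_elementaryAbelian hF hb hd
    have h3 : Commute a d := Subgroup.mem_centralizer_iff.1 (hc hd) a ha
    have h4 : Commute b c := (Subgroup.mem_centralizer_iff.1 (hc hb) c hc').symm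
    exact ((h1.mul_right h3).mul_left (h4.mul_right h2)).eq
  · obtain ⟨a, ha, b, hb, rfl⟩ := (Coprime.mem_sup_iff_of_le_normalizer hn).1 hx
    rw [(show Commute a b from Subgroup.mem_centralizer_iff.1 (hc hb) a ha).mul_pow, hE.2 a ha, hF.2 b hb,
      one_mul]

theorem isElementaryAbelian_zpowers {x : G} (hx : x ^ q = 1) : IsElementaryAbelian q (zpowers x) :=
  PGroup.isElementaryAbelian_of_forall
    (fun a ha b hb => by
      obtain ⟨i, rfl⟩ := ha
      obtain ⟨j, rfl⟩ := hb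
      exact (Commute.zpow_zpow (Commute.refl x) i j).eq)
    (fun a ha => by
      obtain ⟨i, rfl⟩ := ha
      rw [← zpow_natCast (x ^ i), ← zpow_mul, mul_comm, zpow_mul, zpow_natCast, hx, one_zpow])

theorem card_zpowers_eq {x : G} (hx : x ^ q = 1) (h1 : x ≠ 1) : Nat.card (zpowers x) = q := by
  rw [Nat.card_zpowers, orderOf_eq_prime hx h1]

theorem zpowers_eq_of_mem {x y : G} (hx : x ^ q = 1) (hy : y ∈ zpowers x) (h1 : y ≠ 1) :
    zpowers y = zpowers x := by
  have hyq : y ^ q = 1 := (isElementaryAbelian_zpowers hx).2 y hy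
  have hx1 : x ≠ 1 := fun e => by
    rw [e, Subgroup.mem_zpowers_iff] at hy
    obtain ⟨i, hi⟩ := hy
    exact h1 (hi ▸ one_zpow i)
  exact Subgroup.eq_of_le_of_card_ge (Subgroup.zpowers_le.2 hy)
    (by rw [card_zpowers_eq hx hx1, card_zpowers_eq hyq h1])

/-- A group of exponent `q` and order at least `q²` has an elementary abelian subgroup of order at least
`q²`. -/
theorem exists_elementary_sq {S : Subgroup G} (hS : IsPGroup q S) (hexp : ∀ x ∈ S, x ^ q = 1)
    (h2 : q ^ 2 ≤ Nat.card S) :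
    ∃ E : Subgroup G, E ≤ S ∧ IsElementaryAbelian q E ∧ q ^ 2 ≤ Nat.card E := by
  have hq : q.Prime := Fact.out
  haveI : Nontrivial S := Finite.one_lt_card_iff_nontrivial.1
    (lt_of_lt_of_le (Nat.one_lt_pow (by norm_num) hq.one_lt) h2)
  haveI := hS.center_nontrivial
  obtain ⟨z, hz⟩ := exists_ne (1 : Subgroup.center S)
  set x : G := ((z : S) : G) with hx
  have hxS : x ∈ S := (z : S).2
  have hx1 : x ≠ 1 := fun e => hz (Subtype.ext (Subtype.ext e))
  obtain ⟨y, hyS, hy⟩ : ∃ y ∈ S, y ∉ zpowers x := by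
    by_contra hcon
    push Not at hcon
    have := h2.trans (Subgroup.card_le_of_le (hcon : S ≤ zpowers x))
    rw [card_zpowers_eq (hexp x hxS) hx1] at this
    exact absurd this (by nlinarith [hq.two_le])
  have hE := isElementaryAbelian_sup (isElementaryAbelian_zpowers (hexp x hxS))
    (isElementaryAbelian_zpowers (hexp y hyS)) (Subgroup.zpowers_le.2 (Subgroup.mem_centralizer_iff.2
      fun a ha => by
        obtain ⟨i, rfl⟩ := ha
        have : Commute x y := (congrArg Subtype.val (Subgroup.mem_center_iff.1 z.2 ⟨y, hyS⟩)).symm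
        exact (this.zpow_left i).eq))
  refine ⟨_, sup_le (Subgroup.zpowers_le.2 hxS) (Subgroup.zpowers_le.2 hyS), hE, ?_⟩
  obtain ⟨k, hk⟩ := (PGroup.isPGroup_of_elementaryAbelian hE).exists_card_eq
  rw [hk]
  refine Nat.pow_le_pow_right hq.pos ?_
  by_contra hk2
  have h3 : zpowers x = zpowers x ⊔ zpowers y := Subgroup.eq_of_le_of_card_ge le_sup_left (by
    rw [hk, card_zpowers_eq (hexp x hxS) hx1]
    calc q ^ k ≤ q ^ 1 := Nat.pow_le_pow_right hq.pos (by omega)
      _ = q := pow_one q)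
  exact hy (h3 ▸ Subgroup.mem_sup_right (Subgroup.mem_zpowers y))

theorem le_normalizer_commutator_self {T S : Subgroup G} (h : T ≤ normalizer (S : Set G)) :
    T ≤ normalizer ((⁅S, T⁆ : Subgroup G) : Set G) := fun t ht => by
  rw [Subgroup.mem_normalizer_iff_map_conj_eq, Subgroup.map_commutator,
    Subgroup.mem_normalizer_iff_map_conj_eq.1 (h ht),
    Subgroup.mem_normalizer_iff_map_conj_eq.1 (Subgroup.le_normalizer ht)]

/-- A normal subgroup of a p-group not inside a normal `Z` has an element outside `Z` central modulo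
`Z`. -/
theorem exists_commutator_mem {T N Z : Subgroup G} (hT : IsPGroup q T) (hNT : N ≤ T)
    (hTN : T ≤ normalizer (N : Set G)) (hNZ : ¬ N ≤ Z) :
    ∃ y ∈ N, y ∉ Z ∧ ∀ t ∈ T, ⁅y, t⁆ ∈ Z := by
  obtain ⟨S, ⟨hSN, hTS, hSZ⟩, hmin⟩ := Set.exists_min_image
    {S : Subgroup G | S ≤ N ∧ T ≤ normalizer (S : Set G) ∧ ¬ S ≤ Z} (fun S => Nat.card S)
    (Set.toFinite _) ⟨N, le_rfl, hTN, hNZ⟩
  have hS1 : S ≠ ⊥ := fun h => hSZ (h ▸ bot_le)
  have hlt := Coprime.commutator_lt_of_isPGroup hT (hT.to_le (hSN.trans hNT)) hTS hS1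
  obtain ⟨y, hyS, hy⟩ := SetLike.not_le_iff_exists.1 hSZ
  refine ⟨y, hSN hyS, hy, fun t ht => ?_⟩
  have h : ⁅S, T⁆ ≤ Z := by
    by_contra h
    exact hlt.ne (Subgroup.eq_of_le_of_card_ge hlt.le
      (hmin _ ⟨hlt.le.trans hSN, le_normalizer_commutator_self hTS, h⟩))
  exact h (Subgroup.commutator_mem_commutator hyS ht)

/-- `Ω₁Z(D)` for `D = O_q(M)`. -/
def z1Of (q : ℕ) (M : Subgroup G) : Subgroup G where
  carrier := {z | z ∈ pOf q M ∧ z ^ q = 1 ∧ ∀ d ∈ pOf q M, z * d = d * z}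
  one_mem' := ⟨one_mem _, one_pow _, fun d _ => by rw [one_mul, mul_one]⟩
  mul_mem' := fun {a b} ha hb => ⟨mul_mem ha.1 hb.1,
    by rw [(show Commute a b from ha.2.2 b hb.1).mul_pow, ha.2.1, hb.2.1, one_mul],
    fun d hd => ((show Commute a d from ha.2.2 d hd).mul_left (hb.2.2 d hd)).eq⟩
  inv_mem' := fun {a} ha => ⟨inv_mem ha.1, by rw [inv_pow, ha.2.1, inv_one],
    fun d hd => (show Commute a d from ha.2.2 d hd).inv_left.eq⟩

/-- The exponent-`q` layer of `O_q(M)` central modulo `Ω₁Z`. -/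
def wOf (q : ℕ) (M : Subgroup G) : Subgroup G :=
  Subgroup.closure {w | w ∈ pOf q M ∧ w ^ q = 1 ∧ ∀ d ∈ pOf q M, ⁅w, d⁆ ∈ z1Of q M}

theorem mem_wOf (hq : q ≠ 2) {M : Subgroup G} {w : G} :
    w ∈ wOf q M ↔ w ∈ pOf q M ∧ w ^ q = 1 ∧ ∀ d ∈ pOf q M, ⁅w, d⁆ ∈ z1Of q M := by
  refine ⟨fun h => ?_, fun h => Subgroup.subset_closure h⟩
  induction h using Subgroup.closure_induction with
  | mem x hx => exact hx
  | one => exact ⟨one_mem _, one_pow _, fun d _ => by rw [commutatorElement_one_left]; exact one_mem _⟩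
  | mul x y _ _ hx hy =>
    refine ⟨mul_mem hx.1 hy.1, ?_, fun d hd => ?_⟩
    · have h1 := hy.2.2 x hx.1
      have hc : ⁅(⟨y, hy.1⟩ : pOf q M), ⟨x, hx.1⟩⁆ ∈ Subgroup.center (pOf q M) :=
        Subgroup.mem_center_iff.2 fun d => Subtype.ext ((h1.2.2 d d.2).symm)
      have h2 := congrArg Subtype.val (PGroup.mul_pow_prime (Fact.out : q.Prime) hq
        (x := (⟨x, hx.1⟩ : pOf q M)) (y := ⟨y, hy.1⟩) hc (Subtype.ext h1.2.1))
      simp only [SubmonoidClass.coe_pow, Subgroup.coe_mul] at h2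
      rw [h2, hx.2.1, hy.2.1, one_mul]
    · have h1 := hy.2.2 d hd
      rw [show ⁅x * y, d⁆ = x * ⁅y, d⁆ * x⁻¹ * ⁅x, d⁆ by simp only [commutatorElement_def]; group,
        ← h1.2.2 x hx.1, mul_inv_cancel_right]
      exact mul_mem h1 (hx.2.2 d hd)
  | inv x _ hx =>
    refine ⟨inv_mem hx.1, by rw [inv_pow, hx.2.1, inv_one], fun d hd => ?_⟩
    have h1 := hx.2.2 d hd
    rw [show ⁅x⁻¹, d⁆ = x⁻¹ * ⁅x, d⁆⁻¹ * x by simp only [commutatorElement_def]; group,
      mul_assoc, (inv_mem h1 : ⁅x, d⁆⁻¹ ∈ z1Of q M).2.2 x hx.1, inv_mul_cancel_left]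
    exact inv_mem h1

theorem wOf_le_pOf (M : Subgroup G) : wOf q M ≤ pOf q M :=
  (Subgroup.closure_le _).2 fun _ h => h.1

theorem isPGroup_wOf (M : Subgroup G) : IsPGroup q (wOf q M) := (isPGroup_pOf M).to_le (wOf_le_pOf M)

theorem wOf_le (M : Subgroup G) : wOf q M ≤ M := (wOf_le_pOf M).trans (pOf_le M)

theorem le_normalizer_wOf (M : Subgroup G) : M ≤ normalizer (wOf q M : Set G) := by
  intro g hg
  have hD := Subgroup.mem_normalizer_iff.1 (le_normalizer_pOf (r := q) M hg)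
  have hD' : ∀ {d : G}, d ∈ pOf q M → g⁻¹ * d * g ∈ pOf q M := fun {d} hd =>
    (hD _).2 (by simpa [mul_assoc] using hd)
  have hZ : ∀ z ∈ z1Of q M, g * z * g⁻¹ ∈ z1Of q M := fun z hz =>
    ⟨(hD z).1 hz.1, by rw [conj_pow, hz.2.1, mul_one, mul_inv_cancel], fun d hd =>
      calc g * z * g⁻¹ * d = g * (z * (g⁻¹ * d * g)) * g⁻¹ := by group
        _ = g * ((g⁻¹ * d * g) * z) * g⁻¹ := by rw [hz.2.2 _ (hD' hd)]
        _ = d * (g * z * g⁻¹) := by group⟩
  rw [Subgroup.mem_normalizer_iff_map_conj_eq]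
  refine Subgroup.eq_of_le_of_card_ge ?_ (Subgroup.card_map_of_injective (MulAut.conj g).injective).ge
  rw [wOf, MonoidHom.map_closure, Subgroup.closure_le]
  rintro _ ⟨w, ⟨hw1, hw2, hw3⟩, rfl⟩
  refine Subgroup.subset_closure ⟨(hD w).1 hw1, ?_, fun d hd => ?_⟩
  · show (g * w * g⁻¹) ^ q = 1
    rw [conj_pow, hw2, mul_one, mul_inv_cancel]
  · show ⁅g * w * g⁻¹, d⁆ ∈ z1Of q M
    rw [show ⁅g * w * g⁻¹, d⁆ = g * ⁅w, g⁻¹ * d * g⁆ * g⁻¹ by simp only [commutatorElement_def]; group]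
    exact hZ _ (hw3 _ (hD' hd))

variable (hG : IsMinSimpleOddOrder G) {M : Subgroup G} (hM : IsCoatom M)
  (hr : ¬ PRankLE q 2 (pOf q M))
include hG hM hr

theorem ne_two_of_rank : q ≠ 2 := ne_two_of_minSimple hG (isPGroup_pOf M) fun h => hr fun B _ _ => by
  refine B.card_le_card_group.trans ?_
  rw [h, Subgroup.card_bot]
  exact Nat.one_le_pow _ _ (Fact.out : q.Prime).pos

theorem fitting_rank : ¬ PRankLE q 2 (fittingOf M) :=
  fun h => hr (pRankLE_of_le (pOf_le_fittingOf M Fact.out) h)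

/-- Elementary abelian subgroups of `W` lie in normal ones of order at least `q³`. -/
theorem exists_cube_ge {E : Subgroup G} (hE : IsElementaryAbelian q E) (hEW : E ≤ wOf q M) :
    ∃ U : Subgroup G, E ≤ U ∧ U ≤ M ∧ IsElementaryAbelian q U ∧ q ^ 3 ≤ Nat.card U ∧
      InUniqueMaximal U := by
  have hq2 := ne_two_of_rank hG hM hr
  set D := pOf q M with hD
  have hZ : IsElementaryAbelian q (z1Of q M) :=
    PGroup.isElementaryAbelian_of_forall (fun a ha b hb => ha.2.2 b hb.1) fun a ha => ha.2.1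
  have hZc : z1Of q M ≤ centralizer (E : Set G) := fun z hz => Subgroup.mem_centralizer_iff.2 fun e he =>
    (hz.2.2 e (((mem_wOf hq2).1 (hEW he)).1)).symm
  set E' := E ⊔ z1Of q M with hE'
  have hE'el := isElementaryAbelian_sup hE hZ hZc
  have hE'D : E' ≤ D := sup_le (hEW.trans (wOf_le_pOf M)) fun z hz => hz.1
  haveI : (E'.subgroupOf D).Normal := by
    refine (Subgroup.normal_subgroupOf_iff_le_normalizer hE'D).2 fun d hd => ?_
    rw [Subgroup.mem_normalizer_iff_map_conj_eq]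
    refine Subgroup.eq_of_le_of_card_ge ?_ (Subgroup.card_map_of_injective (MulAut.conj d).injective).ge
    rw [hE', Subgroup.map_sup]
    refine sup_le ?_ (le_sup_of_le_right ?_)
    · rintro _ ⟨e, he, rfl⟩
      show d * e * d⁻¹ ∈ E'
      rw [show d * e * d⁻¹ = e * ⁅e⁻¹, d⁆ by simp only [commutatorElement_def]; group]
      exact Subgroup.mul_mem_sup he (((mem_wOf hq2).1 (hEW (inv_mem he))).2.2 d hd)
    · rintro _ ⟨z, hz, rfl⟩
      show d * z * d⁻¹ ∈ z1Of q M
      rw [← hz.2.2 d hd, mul_inv_cancel_right]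
      exact hz
  obtain ⟨U, hEU, -, hU, hU3⟩ := PGroup.exists_normal_elementary_cube_ge (P := D) hq2 (isPGroup_pOf M) hr
    (E := E'.subgroupOf D) (PGroup.isElementaryAbelian_of_forall
      (fun a ha b hb => Subtype.ext (PGroup.mul_comm_of_elementaryAbelian hE'el ha hb))
      fun a ha => Subtype.ext (hE'el.2 a ha))
  have hUel := PGroup.isElementaryAbelian_map hU D.subtype
  have hU3' : q ^ 3 ≤ Nat.card (U.map D.subtype) := by
    rwa [Subgroup.card_map_of_injective D.subtype_injective]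
  exact ⟨U.map D.subtype, le_sup_left.trans ((Subgroup.map_subgroupOf_eq_of_le hE'D).ge.trans
    (Subgroup.map_mono hEU)), (Subgroup.map_subtype_le U).trans (pOf_le M), hUel, hU3',
    S1401.elementary_unique hG hM (fitting_rank hG hM hr) hUel hU3'⟩

/-- Subgroups of `W` of order at least `q²` lie in no maximal subgroup but `M`. -/
theorem eq_of_wOf_le {S L : Subgroup G} (hSW : S ≤ wOf q M) (h2 : q ^ 2 ≤ Nat.card S) (hL : IsCoatom L)
    (hSL : S ≤ L) : L = M := by
  have hq2 := ne_two_of_rank hG hM hr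
  obtain ⟨E, hES, hE, hE2⟩ := exists_elementary_sq ((isPGroup_wOf M).to_le hSW)
    (fun x hx => ((mem_wOf hq2).1 (hSW hx)).2.1) h2
  obtain ⟨U, hEU, -, hU, -, hUu⟩ := exists_cube_ge hG hM hr hE (hES.trans hSW)
  obtain ⟨M', -, hu⟩ := inUniqueMaximal_of_commute hG hUu hE hE2
    (hEU.trans (PGroup.le_centralizer_of_isMulCommutative hU.1) |>.trans le_rfl)
  exact (hu L ⟨hL, hES.trans hSL⟩).trans (hu M ⟨hM, hES.trans (hSW.trans (wOf_le M))⟩).symm

theorem card_inf_wOf_le {L : Subgroup G} (hL : IsCoatom L) (hne : L ≠ M) :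
    Nat.card (wOf q M ⊓ L : Subgroup G) ≤ q := by
  by_contra h
  obtain ⟨k, hk⟩ := ((isPGroup_wOf (q := q) M).to_le (inf_le_left : wOf q M ⊓ L ≤ _)).exists_card_eq
  rw [hk] at h
  refine hne (eq_of_wOf_le hG hM hr inf_le_left ?_ hL inf_le_right)
  rw [hk]
  refine Nat.pow_le_pow_right (Fact.out : q.Prime).pos ?_
  by_contra hk2
  exact h ((Nat.pow_le_pow_right (Fact.out : q.Prime).pos (by omega : k ≤ 1)).trans (pow_one q).le)

/-- Centralizers and normalizers of subgroups of order `q` of `W` lie in `M`. -/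
theorem normalizer_le_of_mem_wOf {x : G} (hx : x ∈ wOf q M) (hx1 : x ≠ 1) :
    normalizer (zpowers x : Set G) ≤ M := by
  have hq2 := ne_two_of_rank hG hM hr
  have hxel := isElementaryAbelian_zpowers ((mem_wOf hq2).1 hx).2.1
  obtain ⟨U, hxU, hUM, hU, -, M', -, hu⟩ := exists_cube_ge hG hM hr hxel (Subgroup.zpowers_le.2 hx)
  refine le_of_forall_coatom (normalizer_ne_top_of_pgroup hG (PGroup.isPGroup_of_elementaryAbelian hxel)
    fun h => hx1 (Subgroup.zpowers_eq_bot.1 h)) fun L hL hle => ?_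
  exact (hu L ⟨hL, ((hU.1 |> PGroup.le_centralizer_of_isMulCommutative).trans
    ((Subgroup.centralizer_le hxU).trans (Subgroup.centralizer_le_normalizer _))).trans hle⟩).trans
    (hu M ⟨hM, hUM⟩).symm

theorem centralizer_le_of_mem_wOf {x : G} (hx : x ∈ wOf q M) (hx1 : x ≠ 1) :
    centralizer ({x} : Set G) ≤ M := by
  refine le_trans ?_ (normalizer_le_of_mem_wOf hG hM hr hx hx1)
  refine le_trans ?_ (Subgroup.centralizer_le_normalizer _)
  intro c hc
  refine Subgroup.mem_centralizer_iff.2 fun y hy => ?_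
  obtain ⟨i, rfl⟩ := hy
  exact ((show Commute c x from Subgroup.mem_centralizer_singleton_iff.1 hc).zpow_right i).eq.symm

theorem sq_le_card_wOf : q ^ 2 ≤ Nat.card (wOf q M) := by
  have hq2 := ne_two_of_rank hG hM hr
  have hq : q.Prime := Fact.out
  set D := pOf q M with hD
  obtain ⟨U, -, hUn, hU, hU3⟩ := PGroup.exists_normal_elementary_cube_ge (P := D) hq2 (isPGroup_pOf M) hr
    (E := ⊥) PGroup.isElementaryAbelian_bot
  haveI := hUn
  have hUel := PGroup.isElementaryAbelian_map hU D.subtype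
  have hU3' : q ^ 3 ≤ Nat.card (U.map D.subtype) := by
    rwa [Subgroup.card_map_of_injective D.subtype_injective]
  have hD1 : D ≠ ⊥ := fun h => by
    have := hU3.trans (U.card_le_card_group.trans ((congrArg (fun X : Subgroup G => Nat.card X) h).le.trans
      Subgroup.card_bot.le))
    exact absurd this (Nat.one_lt_pow (by norm_num) hq.one_lt).not_ge
  haveI : Nontrivial D := (Subgroup.nontrivial_iff_ne_bot _).2 hD1
  haveI := (isPGroup_pOf (r := q) M).center_nontrivial
  obtain ⟨z, hz⟩ := exists_prime_orderOf_dvd_card' (G := Subgroup.center D) q (by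
    obtain ⟨k, hk⟩ := ((isPGroup_pOf (r := q) M).to_subgroup (Subgroup.center D)).exists_card_eq
    have h1 := Finite.one_lt_card (α := Subgroup.center D)
    rw [hk] at h1 ⊢
    exact dvd_pow_self q (fun e => by rw [e, pow_zero] at h1; omega))
  set x : G := ((z : D) : G) with hx
  have hxo : orderOf x = q := by rw [hx, Subgroup.orderOf_coe, Subgroup.orderOf_coe, hz]
  have hxZ : x ∈ z1Of q M := ⟨(z : D).2, hxo ▸ pow_orderOf_eq_one x, fun d hd =>
    (congrArg Subtype.val (Subgroup.mem_center_iff.1 z.2 ⟨d, hd⟩)).symm⟩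
  have hZW : z1Of q M ≤ wOf q M := fun w hw => (mem_wOf hq2).2 ⟨hw.1, hw.2.1, fun d hd => by
    rw [commutatorElement_eq_one_iff_mul_comm.2 (hw.2.2 d hd)]; exact one_mem _⟩
  obtain ⟨k, hk⟩ := (isPGroup_wOf (q := q) M).exists_card_eq
  rw [hk]
  refine Nat.pow_le_pow_right hq.pos ?_
  by_contra hk2
  have hWx : zpowers x = wOf q M := Subgroup.eq_of_le_of_card_ge (Subgroup.zpowers_le.2 (hZW hxZ)) (by
    rw [Nat.card_zpowers, hxo, hk]
    exact (Nat.pow_le_pow_right hq.pos (by omega : k ≤ 1)).trans (pow_one q).le)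
  obtain ⟨y, hyU, hyZ, hy⟩ := exists_commutator_mem (Z := z1Of q M) (isPGroup_pOf M)
    (Subgroup.map_subtype_le U) (le_normalizer_map_of_normal U) (fun hle => by
      have := hU3'.trans (Subgroup.card_le_of_le ((hle.trans hZW).trans hWx.ge))
      rw [Nat.card_zpowers, hxo] at this
      have hlt : q < q ^ 3 :=
        calc q = q ^ 1 := (pow_one q).symm
          _ < q ^ 3 := Nat.pow_lt_pow_right hq.one_lt (by norm_num)
      omega)
  have hyW : y ∈ wOf q M := (mem_wOf hq2).2 ⟨Subgroup.map_subtype_le U hyU, hUel.2 y hyU, hy⟩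
  exact hyZ (Subgroup.zpowers_le.2 hxZ (hWx.ge hyW))

end Cfsg.Agent.OddOrder
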