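import Cfsg.Agent.Lib.OddOrder.SigmaTools
import Cfsg.Agent.Lib.OddOrder.NonabelianSylow
import Cfsg.Agent.S1453
import Cfsg.Agent.S1414

/-!
# Centralisers of subgroups of order `p` (Bender–Glauberman 12.14, preparations)

* `centralizer_le_of_rank`: a cube of `M` inside `C(X)` makes `M` the only maximal subgroup over
  `C(X)`;
* `exists_cube_ideal`, `exists_cube_derived`: such cubes for ideal primes and for `X` inside the
  derived subgroup of a nonideal Sylow subgroup of rank three;
* `exists_sylow_derived_ge`: a subgroup of order `p` of `M_σ'` lies in `R'` for a Sylow `R`.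
-/

set_option autoImplicit false
set_option linter.style.haveILetI false
set_option linter.unusedSectionVars false

namespace Cfsg.Agent.OddOrder

open Cfsg
open Subgroup (centralizer normalizer zpowers)
open scoped Pointwise commutatorElement

universe u
variable {G : Type u} [Group G] [Finite G] {p : ℕ} [Fact p.Prime]

theorem isPGroup_of_card_prime {X : Subgroup G} (hX : Nat.card X = p) : IsPGroup p X :=
  IsPGroup.of_card (n := 1) (by rw [hX, pow_one])

theorem ne_bot_of_card_prime {X : Subgroup G} (hX : Nat.card X = p) : X ≠ ⊥ := fun h =>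
  (Fact.out : p.Prime).ne_one (by rw [← hX, h, Subgroup.card_bot])

theorem exists_eq_zpowers {X : Subgroup G} (hX : Nat.card X = p) :
    ∃ x : G, x ^ p = 1 ∧ x ≠ 1 ∧ zpowers x = X := by
  obtain ⟨x, hx, hx1⟩ := (Subgroup.ne_bot_iff_exists_ne_one.1 (ne_bot_of_card_prime hX)) |>
    fun ⟨⟨x, hx⟩, h⟩ => (⟨x, hx, fun e => h (Subtype.ext e)⟩ : ∃ x ∈ X, x ≠ 1)
  have hxp : x ^ p = 1 := hX ▸ congrArg Subtype.val (pow_card_eq_one' (x := (⟨x, hx⟩ : X)))
  exact ⟨x, hxp, hx1, Subgroup.eq_of_le_of_card_ge (Subgroup.zpowers_le.2 hx) (by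
    rw [hX, Nat.card_zpowers, orderOf_eq_prime hxp hx1])⟩

theorem le_centralizer_zpowers {x : G} {Y : Subgroup G} (h : ∀ y ∈ Y, Commute y x) :
    Y ≤ centralizer (zpowers x : Set G) := fun y hy => Subgroup.mem_centralizer_iff.2 fun w hw => by
  obtain ⟨i, rfl⟩ := hw
  exact ((h y hy).zpow_right i).eq.symm

variable (hG : IsMinSimpleOddOrder G)
include hG

/-- A cube of `M` inside `C(X)`. -/
theorem centralizer_le_of_rank {M X Y : Subgroup G} {l : ℕ} [Fact l.Prime] (hM : IsCoatom M) (hX : IsPGroup l X)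
    (hX1 : X ≠ ⊥) (hYM : Y ≤ M) (hYX : Y ≤ centralizer (X : Set G)) (hr : ¬ PRankLE p 2 Y) :
    centralizer (X : Set G) ≤ M ∧
      ∀ L : Subgroup G, IsCoatom L → centralizer (X : Set G) ≤ L → L = M := by
  have h : ∀ L : Subgroup G, IsCoatom L → centralizer (X : Set G) ≤ L → L = M := fun L hL hle =>
    eq_of_rank_three hG hM hYM hr hL (hYX.trans hle)
  exact ⟨le_of_forall_coatom (fun e => normalizer_ne_top_of_pgroup hG hX hX1
    (top_unique (e.ge.trans (Subgroup.centralizer_le_normalizer _)))) h, h⟩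

omit hG in
/-- For an ideal prime every subgroup of order `p` of a Sylow subgroup centralises a cube there. -/
theorem exists_cube_ideal (hid : IsIdealPrime p G) (R : Sylow p G) (hr : ¬ PRankLE p 2 (R : Subgroup G))
    {X : Subgroup G} (hX : Nat.card X = p) (hXR : X ≤ R) :
    ∃ Y ≤ (R : Subgroup G), Y ≤ centralizer (X : Set G) ∧ ¬ PRankLE p 2 Y := by
  obtain ⟨x, hxp, hx1, rfl⟩ := exists_eq_zpowers hX
  have hR1 : (R : Subgroup G) ≠ ⊥ := fun e => hx1 (Subgroup.mem_bot.1 (e ▸ hXR (Subgroup.mem_zpowers x)))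
  obtain ⟨z, hz, hz1, hzp, hzc⟩ := exists_central_pow_eq_one R.2 hR1
  have hxR := hXR (Subgroup.mem_zpowers x)
  by_cases hzx : z ∈ zpowers x
  · refine ⟨_, le_rfl, le_centralizer_zpowers fun y hy => ?_, hr⟩
    have e : zpowers z = zpowers x := Subgroup.eq_of_le_of_card_ge (Subgroup.zpowers_le.2 hzx) (by
      rw [Nat.card_zpowers, Nat.card_zpowers, orderOf_eq_prime hxp hx1, orderOf_eq_prime hzp hz1])
    obtain ⟨i, hi⟩ := e.ge (Subgroup.mem_zpowers x)
    rw [← hi]
    exact Commute.zpow_right (Subgroup.mem_centralizer_singleton_iff.1 (hzc hy)) i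
  · obtain ⟨hA, hAc⟩ := square_of_line hxp hx1 hzp hzx
      (Subgroup.mem_centralizer_singleton_iff.1 (hzc hxR)).symm
    obtain ⟨B, hBR, hB, hlt⟩ := hid.2.2 R _
      (sup_le (Subgroup.zpowers_le.2 hxR) (Subgroup.zpowers_le.2 hz)) hA hAc
    refine ⟨B, hBR, le_centralizer_zpowers fun b hb =>
      PGroup.mul_comm_of_elementaryAbelian hB hb (hlt.le (Subgroup.mem_sup_left (Subgroup.mem_zpowers x))),
      not_pRankLE_of_elementary hB le_rfl ?_⟩
    obtain ⟨k, hk⟩ := (PGroup.isPGroup_of_elementaryAbelian hB).exists_card_eq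
    have h2 : p ^ 2 < p ^ k := by
      rw [← hk, ← hAc]
      exact lt_of_le_of_ne (Subgroup.card_le_of_le hlt.le) fun h =>
        hlt.ne (Subgroup.eq_of_le_of_card_ge hlt.le h.ge)
    rw [hk]
    exact Nat.pow_le_pow_right (Fact.out : p.Prime).pos
      ((Nat.pow_lt_pow_iff_right (Fact.out : p.Prime).one_lt).1 h2)

/-- For a nonideal prime of rank three, a subgroup of order `p` of `R'` centralises a cube of `R`. -/
theorem exists_cube_derived (hni : ¬ IsIdealPrime p G) (R : Sylow p G)
    (hr : ¬ PRankLE p 2 (R : Subgroup G)) {X : Subgroup G} (hX : Nat.card X = p)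
    (hXR : X ≤ ⁅(R : Subgroup G), (R : Subgroup G)⁆) :
    ∃ Y ≤ (R : Subgroup G), Y ≤ centralizer (X : Set G) ∧ ¬ PRankLE p 2 Y := by
  have hp := (Fact.out : p.Prime)
  have hrG : ¬ PRankLE p 2 G := fun h =>
    hr (pRankLE_of_injective (f := (R : Subgroup G).subtype) (Subgroup.subtype_injective _) h)
  simp only [IsIdealPrime, hp, hrG, not_false_eq_true, true_and, not_forall, not_exists, not_and] at hni
  obtain ⟨P, A, hAP, hA, hAc, hmax⟩ := hni
  obtain ⟨g, hg⟩ := MulAction.exists_smul_eq G P R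
  have hgR : MulAut.conj g • (P : Subgroup G) = (R : Subgroup G) := by
    rw [← hg, Sylow.coe_subgroup_smul]
  set A' := MulAut.conj g • A
  have hA'R : A' ≤ (R : Subgroup G) := hgR ▸ Subgroup.pointwise_smul_le_pointwise_smul_iff.2 hAP
  have hA' : IsElementaryAbelian p A' := PGroup.isElementaryAbelian_map hA _
  set E := A'.subgroupOf (R : Subgroup G)
  have hE : IsElementaryAbelian p E := PGroup.isElementaryAbelian_comap hA' (Subgroup.subtype_injective _)
  have hEc : Nat.card E = p ^ 2 := by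
    rw [Coprime.card_subgroupOf hA'R, Coprime.card_conj_smul, hAc]
  have hEmax : ∀ B : Subgroup (R : Subgroup G), IsElementaryAbelian p B → E ≤ B → B = E := by
    intro B hB hEB
    by_contra hne
    set B' := MulAut.conj g⁻¹ • B.map (R : Subgroup G).subtype
    have hB'P : B' ≤ (P : Subgroup G) := conj_smul_le ((Subgroup.map_subtype_le B).trans hgR.ge)
    refine hmax B' hB'P (PGroup.isElementaryAbelian_map (PGroup.isElementaryAbelian_map hB _) _) ?_
    refine lt_of_le_of_ne ?_ fun e => hne ?_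
    · have h1 : A' ≤ B.map (R : Subgroup G).subtype :=
        (Subgroup.map_subgroupOf_eq_of_le hA'R).ge.trans (Subgroup.map_mono hEB)
      have h2 := Subgroup.pointwise_smul_le_pointwise_smul_iff (a := MulAut.conj g⁻¹).2 h1
      rwa [Coprime.conj_smul_smul, inv_mul_cancel, map_one, one_smul] at h2
    · refine (Subgroup.eq_of_le_of_card_ge hEB ?_).symm
      have h1 : Nat.card B' = Nat.card B := by
        rw [Coprime.card_conj_smul, Subgroup.card_map_of_injective (Subgroup.subtype_injective _)]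
      rw [← h1, ← e, hEc, hAc]
  have hp2 : p ≠ 2 := ne_two_of_minSimple hG (isPGroup_of_card_prime hX) (ne_bot_of_card_prime hX)
  obtain ⟨-, -, ⟨hW, hWc⟩, hTn, hTi⟩ := S1453.result p hp2 R.2 hr E hE hEc hEmax
  set W := Subgroup.closure {x : (R : Subgroup G) | x ∈ Subgroup.upperCentralSeries (R : Subgroup G) 2 ∧ x ^ p = 1}
  set T := centralizer (W : Set (R : Subgroup G))
  haveI := hTn
  haveI : IsCyclic (↥(R : Subgroup G) ⧸ T) := isCyclic_of_prime_card (p := p) hTi
  have hder : _root_.commutator (R : Subgroup G) ≤ T := fun y hy => by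
    rw [← QuotientGroup.eq_one_iff]
    have h := Subgroup.mem_map_of_mem (QuotientGroup.mk' T) hy
    rw [commutator_def, Subgroup.map_commutator] at h
    have h2 : ⁅(⊤ : Subgroup (↥(R : Subgroup G) ⧸ T)), (⊤ : Subgroup (↥(R : Subgroup G) ⧸ T))⁆ = ⊥ := by
      rw [Subgroup.commutator_eq_bot_iff_le_centralizer]
      exact fun a _ => Subgroup.mem_centralizer_iff.2 fun b _ => IsCyclic.commGroup.mul_comm b a
    exact Subgroup.mem_bot.1 (h2 ▸ Subgroup.commutator_mono le_top le_top h)
  obtain ⟨x, hxp, hx1, rfl⟩ := exists_eq_zpowers hX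
  have hxR : x ∈ (R : Subgroup G) :=
    Subgroup.commutator_le_self _ (hXR (Subgroup.mem_zpowers x))
  set x' : (R : Subgroup G) := ⟨x, hxR⟩
  have hx'p : x' ^ p = 1 := Subtype.ext hxp
  have hxT : x' ∈ T := by
    have h := hXR (Subgroup.mem_zpowers x)
    rw [← Subgroup.map_subtype_commutator] at h
    obtain ⟨y, hy, hyx⟩ := h
    exact (Subtype.ext hyx : y = x') ▸ hder hy
  suffices h : ∃ Y : Subgroup (R : Subgroup G), (∀ y ∈ Y, Commute y x') ∧ ¬ PRankLE p 2 Y by
    obtain ⟨Y, hYc, hY⟩ := h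
    refine ⟨Y.map (R : Subgroup G).subtype, Subgroup.map_subtype_le _, le_centralizer_zpowers ?_, fun hr2 => hY ?_⟩
    · rintro _ ⟨y, hy, rfl⟩
      exact congrArg Subtype.val (hYc y hy).eq
    · exact pRankLE_of_injective (f := (Y.equivMapOfInjective _ (Subgroup.subtype_injective _)).toMonoidHom)
        (MulEquiv.injective _) hr2
  have cube : ∀ b : (R : Subgroup G), b ∈ T → b ^ p = 1 → b ∉ W →
      IsElementaryAbelian p (W ⊔ zpowers b : Subgroup (R : Subgroup G)) ∧
        p ^ 3 ≤ Nat.card ↥(W ⊔ zpowers b) := fun b hb hbp hbW =>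
    exists_cube_of_not_mem hW hWc hb hbp hbW
  by_cases hxW : x' ∈ W
  · refine ⟨T, fun t ht => (Subgroup.mem_centralizer_iff.1 ht x' hxW).symm, ?_⟩
    obtain ⟨B, -, hB, hB3⟩ := exists_elementary_cube (H := (⊤ : Subgroup (R : Subgroup G))) fun h =>
      hr (pRankLE_of_injective (f := (Subgroup.topEquiv (G := (R : Subgroup G))).symm.toMonoidHom)
        (MulEquiv.injective _) h)
    have hWT : W ≤ T := fun w hw => Subgroup.mem_centralizer_iff.2 fun v hv =>
      PGroup.mul_comm_of_elementaryAbelian hW hv hw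
    by_cases hBW : B ⊓ T ≤ W
    · exfalso
      have h1 : Nat.card B ≤ Nat.card ↥(B ⊓ T) * p := by
        have h := Subgroup.relIndex_mul_relIndex ⊥ (B ⊓ T) B bot_le inf_le_left
        rw [Subgroup.relIndex_bot_left, Subgroup.relIndex_bot_left, inf_comm,
          Subgroup.inf_relIndex_right] at h
        rw [← h, inf_comm]
        refine Nat.mul_le_mul_left _ (Nat.le_of_dvd hp.pos ?_)
        exact (Subgroup.relIndex_dvd_index_of_normal T B).trans (dvd_of_eq hTi)
      have h2 : B ⊓ T = W := Subgroup.eq_of_le_of_card_ge hBW (by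
        rw [hWc]
        refine Nat.le_of_mul_le_mul_right ?_ hp.pos
        rw [← pow_succ]
        exact hB3.trans h1)
      have h3 : B ≤ T := fun b hb => Subgroup.mem_centralizer_iff.2 fun v hv =>
        PGroup.mul_comm_of_elementaryAbelian hB (h2.ge hv).1 hb
      rw [inf_eq_left.2 h3] at h2
      rw [h2, hWc] at hB3
      exact absurd hB3 (Nat.pow_lt_pow_right hp.one_lt (by norm_num)).not_ge
    · obtain ⟨b, hb, hbW⟩ := SetLike.not_le_iff_exists.1 hBW
      obtain ⟨h1, h2⟩ := cube b hb.2 (hB.2 b hb.1) hbW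
      exact not_pRankLE_of_elementary h1 (sup_le hWT (Subgroup.zpowers_le.2 hb.2)) h2
  · obtain ⟨h1, h2⟩ := cube x' hxT hx'p hxW
    exact ⟨W ⊔ zpowers x', fun y hy =>
      PGroup.mul_comm_of_elementaryAbelian h1 hy (Subgroup.mem_sup_right (Subgroup.mem_zpowers x')),
      not_pRankLE_of_elementary h1 le_rfl h2⟩

/-- A subgroup of order `p` of `M_σ'` lies in the derived subgroup of a Sylow subgroup, `p ∉ β(M)`. -/
theorem exists_sylow_derived_ge {M X : Subgroup G} (hM : IsCoatom M) (hp : p ∈ sigma M)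
    (hb : p ∉ beta M) (hX : IsPGroup p X) (hXd : X ≤ ⁅sigmaCore M, sigmaCore M⁆) :
    ∃ R : Sylow p G, (R : Subgroup G) ≤ sigmaCore M ∧ X ≤ ⁅(R : Subgroup G), (R : Subgroup G)⁆ := by
  set K := sigmaCore M
  obtain ⟨-, -, -, -, hkey⟩ := S1414.result hG M hM
  obtain ⟨-, ⟨P₀, N, hN, hNP⟩, -⟩ := hkey p Fact.out hp.2.1 hb
  set R₀ := (P₀ : Subgroup K).map K.subtype
  have hind : ¬ p ∣ R₀.index := by
    rw [Subgroup.index_map_subtype]
    exact (Fact.out : p.Prime).not_dvd_mul P₀.not_dvd_index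
      ((sigmaCore_isPiHall hG hM).2 p Fact.out hp)
  let R : Sylow p G := (P₀.2.map K.subtype).toSylow hind
  have hR : (R : Subgroup G) = R₀ := rfl
  haveI := hN
  set D := ⁅(P₀ : Subgroup K), (P₀ : Subgroup K)⁆
  have hDP : D ≤ (P₀ : Subgroup K) := Subgroup.commutator_le_self _
  have hA : _root_.commutator K ≤ N ⊔ D := fun y hy => by
    set π := QuotientGroup.mk' N
    have h := Subgroup.mem_map_of_mem π hy
    rw [commutator_def, Subgroup.map_commutator] at h
    have hπ : (⊤ : Subgroup K).map π ≤ (P₀ : Subgroup K).map π := by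
      rw [← hNP.sup_eq_top, Subgroup.map_sup, QuotientGroup.map_mk'_self, bot_sup_eq]
    have h2 := Subgroup.commutator_mono hπ hπ h
    rw [← Subgroup.map_commutator] at h2
    have h3 : y ∈ (D.map π).comap π := h2
    rwa [Subgroup.comap_map_eq, QuotientGroup.ker_mk', sup_comm] at h3
  set A := (N ⊔ D).map K.subtype
  have hXA : X ≤ A := hXd.trans ((Subgroup.map_subtype_commutator K).ge.trans (Subgroup.map_mono hA))
  have hDA : D.map K.subtype ≤ A := Subgroup.map_mono le_sup_right
  have hsyl : IsSyl p (D.map K.subtype) A := by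
    obtain ⟨T, hT, hDT⟩ := exists_isSyl_ge ((P₀.2.to_le hDP).map K.subtype) hDA
    refine (Subgroup.eq_of_le_of_card_ge hDT ?_).symm ▸ hT
    refine Nat.le_of_dvd Nat.card_pos ?_
    have hcard : Nat.card A = Nat.card D * Nat.card N := by
      rw [Subgroup.card_map_of_injective K.subtype_injective, sup_comm]
      exact Coprime.card_sup_of_le_normalizer (by rw [Subgroup.normalizer_eq_top]; exact le_top)
        (le_bot_iff.1 ((inf_le_inf_right _ hDP).trans (le_of_eq (by rw [inf_comm, hNP.disjoint.eq_bot]))))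
    have hNp : ¬ p ∣ Nat.card N := hNP.index_eq_card ▸ P₀.not_dvd_index
    have hc := hcard ▸ Subgroup.card_dvd_of_le hT.le
    rw [Subgroup.card_map_of_injective K.subtype_injective]
    exact ((hT.isPGroup.exists_card_eq).elim fun k hk => hk ▸
      ((Fact.out : p.Prime).coprime_iff_not_dvd.2 hNp).pow_left k).dvd_of_dvd_mul_right hc
  obtain ⟨a, ha, haX⟩ := hsyl.exists_conj_le hX hXA
  have haK : a ∈ K := Subgroup.map_subtype_le _ ha
  refine ⟨a⁻¹ • R, ?_, ?_⟩
  · rw [Sylow.coe_subgroup_smul, hR]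
    exact (Subgroup.pointwise_smul_le_pointwise_smul_iff.2 (Subgroup.map_subtype_le _)).trans
      (Coprime.conj_smul_eq_self_of_mem (Subgroup.le_normalizer (inv_mem haK))).le
  · rw [Sylow.coe_subgroup_smul, hR]
    refine le_trans ?_ (Subgroup.map_commutator _ _ (MulAut.conj a⁻¹).toMonoidHom).le
    refine le_conj_smul (g := a⁻¹) ?_
    rw [inv_inv]
    exact haX.trans (le_of_eq (Subgroup.map_commutator _ _ K.subtype))

end Cfsg.Agent.OddOrder
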