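import Cfsg.Prelude.Def_OddOrderLocal
import Cfsg.Agent.Lib.Coprime.Basic
import Cfsg.Agent.Lib.PCore.UpperSeries
import Mathlib

set_option autoImplicit false

/-! Fusion in a subgroup `U` supplementing a normal subgroup `K`, and groups of `p`-length one. -/

namespace Cfsg.Agent.OddOrder

open Subgroup
open scoped Pointwise

variable {G : Type*} [Group G] [Finite G]

theorem exists_mul_of_conj_le [Group.IsSolvable G] {K U H : Subgroup G} [hKn : K.Normal] (hKU : K ⊔ U = ⊤)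
    (hH : H ≤ U) (hcop : (Nat.card H).Coprime (Nat.card K)) {g : G}
    (hg : H.map (MulAut.conj g).toMonoidHom ≤ U) :
    ∃ u ∈ U, ∃ c ∈ K ⊓ centralizer (H : Set G), g = u * c := by
  have hgm : g ∈ U ⊔ K := by rw [sup_comm, hKU]; exact mem_top g
  obtain ⟨u₀, hu₀, k₀, hk₀, rfl⟩ := mem_sup_of_normal_right.1 hgm
  have hM : H ≤ normalizer ((K ⊓ U : Subgroup G) : Set G) := fun h hh =>
    inf_normalizer_le_normalizer_inf
      ⟨by rw [normalizer_eq_top]; exact mem_top h, le_normalizer (hH hh)⟩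
  have hle : MulAut.conj k₀ • H ≤ H ⊔ (K ⊓ U) := by
    intro x hx
    rw [Coprime.mem_conj_smul_iff] at hx
    set h := k₀⁻¹ * x * k₀ with hh
    have hxk : x * h⁻¹ ∈ K := by
      have h1 : k₀ * (h * k₀⁻¹ * h⁻¹) ∈ K :=
        mul_mem hk₀ (hKn.conj_mem _ (inv_mem hk₀) h)
      rwa [show k₀ * (h * k₀⁻¹ * h⁻¹) = x * h⁻¹ by simp only [hh]; group] at h1
    have hxU : x ∈ U := by
      have h2 : u₀ * x * u₀⁻¹ ∈ U :=
        hg ⟨h, hx, by simp [hh]; group⟩
      simpa [mul_assoc] using mul_mem (mul_mem (inv_mem hu₀) h2) hu₀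
    have h3 := mul_mem (mem_sup_right (mem_inf.2 ⟨hxk, mul_mem hxU (inv_mem (hH hx))⟩) :
      x * h⁻¹ ∈ H ⊔ (K ⊓ U)) (mem_sup_left hx)
    simpa using h3
  obtain ⟨n, hn, hnH⟩ := Coprime.exists_conj_eq_of_le_sup hM hle (Coprime.card_conj_smul _ _)
    (hcop.coprime_dvd_right (card_dvd_of_le inf_le_left)) (Or.inr inferInstance)
  refine ⟨u₀ * n, mul_mem hu₀ hn.2, n⁻¹ * k₀, ⟨K.mul_mem (K.inv_mem hn.1) hk₀, ?_⟩, by group⟩
  have hkK : n⁻¹ * k₀ ∈ K := K.mul_mem (K.inv_mem hn.1) hk₀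
  have hfix : MulAut.conj (n⁻¹ * k₀) • H = H := by
    rw [← Coprime.conj_smul_smul, ← hnH, Coprime.conj_smul_smul, inv_mul_cancel, map_one, one_smul]
  refine Coprime.mem_centralizer_of_conj_mem (L := K) ?_
    (inf_eq_bot_of_coprime hcop) fun h _ =>
      mul_mem (hKn.conj_mem _ hkK h) (inv_mem hkK)
  rw [mem_normalizer_iff]
  intro x
  conv_rhs => rw [← hfix, Coprime.mem_conj_smul_iff]
  exact iff_of_eq (congrArg (· ∈ H) (by group))

theorem inf_commutator_eq {K U H : Subgroup G} [hKn : K.Normal] (hKU : K ⊔ U = ⊤)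
    (hH : H ≤ U) (hcop : (Nat.card H).Coprime (Nat.card K)) :
    H ⊓ commutator G = H ⊓ ⁅U, U⁆ := by
  refine le_antisymm (fun h hh => ⟨hh.1, ?_⟩)
    (inf_le_inf le_rfl (commutator_mono le_top le_top))
  set π := QuotientGroup.mk' K
  have hUtop : U.map π = ⊤ := by
    rw [← map_top_of_surjective π (QuotientGroup.mk'_surjective K), ← hKU, Subgroup.map_sup,
      QuotientGroup.map_mk'_self, bot_sup_eq]
  have h1 : π h ∈ (⁅U, U⁆).map π := by
    rw [map_commutator, hUtop]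
    have := mem_map_of_mem π hh.2
    rw [_root_.commutator_def, map_commutator, map_top_of_surjective π (QuotientGroup.mk'_surjective K)]
      at this
    exact this
  obtain ⟨c, hc, hce⟩ := h1
  have hc' : c⁻¹ * h ∈ K := QuotientGroup.eq.1 hce
  set θ := QuotientGroup.mk' (_root_.commutator U) with hθ
  have hmap : (_root_.commutator U).map U.subtype = ⁅U, U⁆ := map_subtype_commutator U
  obtain ⟨c', hc'', rfl⟩ : c ∈ (_root_.commutator U).map U.subtype := hmap.symm ▸ hc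
  have hm : (c' : G)⁻¹ * h ∈ U := mul_mem (inv_mem c'.2) (hH hh.1)
  have he : θ ⟨h, hH hh.1⟩ = θ ⟨(c' : G)⁻¹ * h, hm⟩ := by
    have h2 : θ c' = 1 := (QuotientGroup.eq_one_iff _).2 hc''
    rw [show (⟨h, hH hh.1⟩ : U) = c' * ⟨(c' : G)⁻¹ * h, hm⟩ from Subtype.ext (by simp), map_mul, h2,
      one_mul]
  have d1 : orderOf (θ ⟨h, hH hh.1⟩) ∣ Nat.card H :=
    (orderOf_map_dvd θ _).trans (by rw [← orderOf_coe]; exact orderOf_dvd_natCard _ hh.1)
  have d2 : orderOf (θ ⟨h, hH hh.1⟩) ∣ Nat.card K := by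
    rw [he]
    exact (orderOf_map_dvd θ _).trans (by rw [← orderOf_coe]; exact orderOf_dvd_natCard _ hc')
  have h3 := Nat.eq_one_of_dvd_coprimes hcop d1 d2
  rw [orderOf_eq_one_iff] at h3
  rw [← hmap]
  exact mem_map_of_mem U.subtype ((QuotientGroup.eq_one_iff _).1 h3 : (⟨h, hH hh.1⟩ : U) ∈ _root_.commutator U)

end Cfsg.Agent.OddOrder
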