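import Cfsg.Agent.Lib.OddOrder.SigmaTools
import Cfsg.Agent.Lib.OddOrder.Supplement
import Cfsg.Agent.Lib.AbelianCent.Fpf
import Cfsg.Agent.Lib.Coprime.OmegaOne
import Cfsg.Agent.Lib.PGroup.Critical
import Cfsg.Agent.Lib.PGroup.Class2

/-!
# Tools for the primes of `τ₁` (Bender–Glauberman 13.4)

* `le_centralizer_of_fpf_cyclic`: `Q = [Q, R]` acting with `C_V(R)` inside an invariant cyclic
  subgroup centralises `V`;
* `le_centralizer_of_line`: the same when the fixed points of `R` of order `p` lie in one central line;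
* `exists_supplement_mul`, `isSyl_centralizer_supplement`: centralisers in `H = K U`;
* `not_normalizer_le_centralizer`: Burnside's criterion in a simple group.
-/

set_option autoImplicit false
set_option linter.style.haveILetI false
set_option linter.unusedSectionVars false

namespace Cfsg.Agent.OddOrder

open Cfsg
open Subgroup (centralizer normalizer zpowers)
open scoped Pointwise commutatorElement

universe u
variable {G : Type u} [Group G] [Finite G] {p : ℕ} [Fact p.Prime]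

omit [Finite G] [Fact p.Prime] in
theorem le_normalizer_sup_tau {L A B : Subgroup G} (hA : L ≤ normalizer (A : Set G))
    (hB : L ≤ normalizer (B : Set G)) : L ≤ normalizer ((A ⊔ B : Subgroup G) : Set G) := fun g hg =>
  Coprime.mem_normalizer_of_conj_smul_eq (by
    rw [Subgroup.smul_sup, Coprime.conj_smul_eq_self_of_mem (hA hg),
      Coprime.conj_smul_eq_self_of_mem (hB hg)])

omit [Finite G] [Fact p.Prime] in
/-- Operators of a cyclic group commute. -/
theorem commutator_le_centralizer_of_cyclic {C X Y : Subgroup G} (hC : IsCyclic C)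
    (hX : X ≤ normalizer (C : Set G)) (hY : Y ≤ normalizer (C : Set G)) :
    ⁅X, Y⁆ ≤ centralizer (C : Set G) := by
  obtain ⟨⟨c, hc⟩, hgen⟩ := (isCyclic_iff_exists_zpowers_eq_top (α := C)).1 hC
  have hgen' : ∀ z ∈ C, ∃ i : ℤ, c ^ i = z := fun z hz => by
    obtain ⟨i, hi⟩ := hgen.ge (Subgroup.mem_top (⟨z, hz⟩ : C))
    exact ⟨i, congrArg Subtype.val hi⟩
  refine Subgroup.commutator_le.2 fun x hx y hy => ?_
  obtain ⟨i, hi⟩ := hgen' _ ((Subgroup.mem_normalizer_iff.1 (hX hx) c).1 hc)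
  obtain ⟨j, hj⟩ := hgen' _ ((Subgroup.mem_normalizer_iff.1 (hY hy) c).1 hc)
  have e1 : x * y * c * (x * y)⁻¹ = (c ^ i) ^ j := by
    calc x * y * c * (x * y)⁻¹ = x * (y * c * y⁻¹) * x⁻¹ := by group
      _ = (x * c * x⁻¹) ^ j := by rw [← hj, conj_zpow]
      _ = (c ^ i) ^ j := by rw [hi]
  have e2 : y * x * c * (y * x)⁻¹ = (c ^ j) ^ i := by
    calc y * x * c * (y * x)⁻¹ = y * (x * c * x⁻¹) * y⁻¹ := by group
      _ = (y * c * y⁻¹) ^ i := by rw [← hi, conj_zpow]
      _ = (c ^ j) ^ i := by rw [hj]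
  have e3 : x * y * c * (x * y)⁻¹ = y * x * c * (y * x)⁻¹ := by
    rw [e1, e2, ← zpow_mul, ← zpow_mul, mul_comm]
  have hcc : Commute ⁅x, y⁆ c := by
    have h4 : (y * x)⁻¹ * (x * y) * c * ((y * x)⁻¹ * (x * y))⁻¹ = c := by
      calc (y * x)⁻¹ * (x * y) * c * ((y * x)⁻¹ * (x * y))⁻¹
          = (y * x)⁻¹ * (x * y * c * (x * y)⁻¹) * (y * x) := by group
        _ = c := by rw [e3]; group
    have h5 : Commute ((y * x)⁻¹ * (x * y)) c := mul_inv_eq_iff_eq_mul.1 h4
    -- conjugate by `y x`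
    have h6 : (y * x) * ((y * x)⁻¹ * (x * y)) * (y * x)⁻¹ = ⁅x, y⁆ := by
      rw [commutatorElement_def]; group
    obtain ⟨k, hk⟩ := hgen' _ ((Subgroup.mem_normalizer_iff.1
      (mul_mem (hY hy) (hX hx) : y * x ∈ normalizer (C : Set G)) c).1 hc)
    have h7 : Commute ⁅x, y⁆ (y * x * c * (y * x)⁻¹) := by
      rw [← h6]
      exact h5.map (MulAut.conj (y * x)).toMonoidHom
    obtain ⟨m, hm⟩ := hgen' _ ((Subgroup.mem_normalizer_iff''.1
      (mul_mem (hY hy) (hX hx) : y * x ∈ normalizer (C : Set G)) c).1 hc)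
    have h8 : c = (y * x * c * (y * x)⁻¹) ^ m := by
      rw [conj_zpow, hm]; group
    rw [h8]
    exact h7.zpow_right m
  refine Subgroup.mem_centralizer_iff.2 fun z hz => ?_
  obtain ⟨k, rfl⟩ := hgen' z hz
  exact (hcc.zpow_right k).eq.symm

omit [Fact p.Prime] in
/-- An operator group `R` of prime order is fixed-point-free on the abelian `Q = [Q, R]`. -/
theorem fpf_of_commutator_eq {Q R : Subgroup G} [IsMulCommutative Q] (hRQ : R ≤ normalizer (Q : Set G))
    (hcop : (Nat.card R).Coprime (Nat.card Q)) (hR : (Nat.card R).Prime) (hQR : ⁅Q, R⁆ = Q) :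
    ∀ l ∈ R, l ≠ 1 → ∀ u ∈ Q, l * u = u * l → u = 1 := by
  intro l hl hl1 u hu hlu
  have hlR : zpowers l = R := by
    refine Subgroup.eq_of_le_of_card_ge (Subgroup.zpowers_le.2 hl) ?_
    have hd := Subgroup.orderOf_dvd_natCard _ hl
    rw [Nat.card_zpowers, ((Nat.dvd_prime hR).1 hd).resolve_left fun e => hl1 (orderOf_eq_one_iff.1 e)]
  have hbot := Coprime.inf_centralizer_inf_commutator_eq_bot hRQ hcop
  have hmem : u ∈ (Q ⊓ centralizer (R : Set G)) ⊓ ⁅Q, R⁆ := by
    refine ⟨⟨hu, Subgroup.mem_centralizer_iff.2 ?_⟩, hQR.symm ▸ hu⟩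
    rw [← hlR]
    rintro _ ⟨i, rfl⟩
    exact (Commute.zpow_left hlu i).eq
  rw [hbot] at hmem
  exact hmem

/-- `Q = [Q, R]` centralises `V` when `C_V(R)` lies in an invariant cyclic subgroup. -/
theorem le_centralizer_of_fpf_cyclic {V C Q R : Subgroup G} (hV : IsPGroup p V) (hCV : C ≤ V)
    (hC : IsCyclic C) (hQV : Q ≤ normalizer (V : Set G)) (hRV : R ≤ normalizer (V : Set G))
    (hQC : Q ≤ normalizer (C : Set G)) (hRC : R ≤ normalizer (C : Set G))
    (hRQ : R ≤ normalizer (Q : Set G)) (hcop : (Nat.card Q).Coprime (Nat.card V))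
    (hRs : Group.IsSolvable R) (hcopRQ : (Nat.card R).Coprime (Nat.card Q))
    (hcopRV : (Nat.card R).Coprime (Nat.card V))
    (hfpf : ∀ l ∈ R, l ≠ 1 → ∀ u ∈ Q, l * u = u * l → u = 1)
    (hfix : V ⊓ centralizer (R : Set G) ≤ C) (hQR : ⁅Q, R⁆ = Q) :
    Q ≤ centralizer (V : Set G) := by
  set Φ := (frattini V).map V.subtype
  have hN : normalizer (V : Set G) ≤ normalizer (Φ : Set G) :=
    Components.normalizer_le_normalizer_map_of_characteristic V (frattini V)
  have hΦV : Φ ≤ V := Subgroup.map_subtype_le _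
  haveI := hV.isNilpotent
  have hab : ⁅V, V⁆ ≤ Φ := by
    rw [← Subgroup.map_subtype_commutator]
    exact Subgroup.map_mono (PGroup.commutator_le_frattini hV)
  have hQCc : Q ≤ centralizer (C : Set G) :=
    hQR.ge.trans (commutator_le_centralizer_of_cyclic hC hQC hRC)
  have hVS : V ≤ normalizer ((Φ ⊔ C : Subgroup G) : Set G) :=
    Subgroup.le_normalizer_iff_commutator_le_left.2
      (((Subgroup.commutator_mono (sup_le hΦV hCV) le_rfl).trans hab).trans le_sup_left)
  have h1 : ⁅V, Q⁆ ≤ Φ ⊔ C := AbelianCent.commutator_le_of_fpf hVS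
    (le_normalizer_sup_tau (hQV.trans hN) hQC) (le_normalizer_sup_tau (hRV.trans hN) hRC)
    hQV hRV hRQ hcop hRs hcopRQ hcopRV (hab.trans le_sup_left) hfpf (hfix.trans le_sup_right)
  have hs : Group.IsSolvable Q ∨ Group.IsSolvable V := Or.inr inferInstance
  have h2 : ⁅V, Q⁆ ≤ Φ := by
    rw [← Coprime.commutator_commutator_eq hQV hcop hs]
    refine (Subgroup.commutator_mono h1 le_rfl).trans (Subgroup.commutator_le.2 fun x hx a ha => ?_)
    obtain ⟨c, hc, f, hf, rfl⟩ :=
      (Coprime.mem_sup_iff_of_le_normalizer (H := C) (N := Φ) ((hCV.trans Subgroup.le_normalizer).trans hN)).1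
        (sup_comm Φ C ▸ hx)
    have hca : Commute c a := Subgroup.mem_centralizer_iff.1 (hQCc ha) c hc
    have hfa : ⁅f, a⁆ ∈ Φ := by
      rw [commutatorElement_def, mul_assoc, mul_assoc]
      refine mul_mem hf ?_
      rw [← mul_assoc]
      exact (Subgroup.mem_normalizer_iff.1 (hN (hQV ha)) _).1 (inv_mem hf)
    have e : ⁅c * f, a⁆ = c * ⁅f, a⁆ * c⁻¹ := by
      simp only [commutatorElement_def]
      calc c * f * a * (c * f)⁻¹ * a⁻¹ = c * f * a * f⁻¹ * (c⁻¹ * a⁻¹) := by group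
        _ = c * f * a * f⁻¹ * (a⁻¹ * c⁻¹) := by rw [(hca.inv_inv).eq]
        _ = c * (f * a * f⁻¹ * a⁻¹) * c⁻¹ := by group
    rw [e]
    exact (Subgroup.mem_normalizer_iff.1 (hN (Subgroup.le_normalizer (hCV hc))) _).1 hfa
  refine Coprime.le_centralizer_of_frattini hQV
    (hcop.coprime_dvd_right (Subgroup.card_subgroup_dvd_card _)) fun a ha v hv => ?_
  have h3 : ⁅a, v⁆ ∈ Φ := by
    rw [← commutatorElement_inv]
    exact inv_mem (h2 (Subgroup.commutator_mem_commutator hv ha))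
  exact h3

/-- A subgroup of exponent `p` detecting the coprime operators of a `p`-group, `p` odd. -/
theorem exists_exponent_critical (hp : p ≠ 2) {V : Subgroup G} (hV : IsPGroup p V) :
    ∃ W ≤ V, normalizer (V : Set G) ≤ normalizer (W : Set G) ∧ (∀ x ∈ W, x ^ p = 1) ∧
      ∀ A : Subgroup G, A ≤ normalizer (V : Set G) → (Nat.card A).Coprime p →
        A ≤ centralizer (W : Set G) → A ≤ centralizer (V : Set G) := by
  obtain ⟨H, hH, -, hH2, hC⟩ := PGroup.exists_critical hV
  haveI := hH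
  set H' := H.map V.subtype
  have hH'V : H' ≤ V := Subgroup.map_subtype_le _
  have hN : normalizer (V : Set G) ≤ normalizer (H' : Set G) :=
    Components.normalizer_le_normalizer_map_of_characteristic V H
  have hcl : _root_.commutator H ≤ Subgroup.center H := by
    intro x hx
    have h1 : (x : V) ∈ ⁅H, (⊤ : Subgroup V)⁆ := by
      have h := Subgroup.mem_map_of_mem H.subtype hx
      rw [Subgroup.map_subtype_commutator] at h
      exact Subgroup.commutator_mono le_rfl le_top h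
    exact Subgroup.mem_center_iff.2 fun y => Subtype.ext
      (Subgroup.mem_centralizer_iff.1 (hH2 h1).2 y y.2)
  set W := omegaOne p H'
  have hWH : W ≤ H' := Subgroup.closure_le _ |>.2 fun x hx => hx.1
  refine ⟨W, hWH.trans hH'V, hN.trans (normalizer_le_normalizer_omegaOne p H'), fun x hx => ?_, ?_⟩
  · -- exponent `p`, by class two
    set e : H →* G := V.subtype.comp H.subtype
    have he : Function.Injective e := V.subtype_injective.comp H.subtype_injective
    set s : Set H := {y | y ^ p = 1}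
    have hsub : W ≤ (Subgroup.closure s).map e := Subgroup.closure_le _ |>.2 fun y hy => by
      obtain ⟨⟨v, hv, rfl⟩, hyp⟩ := hy
      exact ⟨⟨v, hv⟩, Subgroup.subset_closure (he (by rw [map_pow, map_one]; exact hyp)), rfl⟩
    obtain ⟨y, hy, rfl⟩ := hsub hx
    rw [← map_pow, PGroup.pow_eq_one_of_mem_closure Fact.out hp hcl (fun z hz => hz) hy, map_one]
  · intro A hAV hcop hAW
    have hAH : A ≤ centralizer (H' : Set G) :=
      Coprime.le_centralizer_of_fix_pow_eq_one hp H' A (hV.to_le hH'V) (hAV.trans hN) hcop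
        fun y hy hyp a ha => Subgroup.mem_centralizer_singleton_iff.2
          (Subgroup.mem_centralizer_iff.1 (hAW ha) y (Subgroup.subset_closure ⟨hy, hyp⟩)).symm
    intro a ha
    have h1 := PGroup.aut_eq_one_of_centralizer_le hV H hC (V.normalizerMonoidHom ⟨a, hAV ha⟩)
      (Nat.Coprime.coprime_dvd_left ((orderOf_map_dvd _ _).trans
        ((Subgroup.orderOf_mk a _).dvd.trans (Subgroup.orderOf_dvd_natCard A ha))) hcop)
      fun h hh => Subtype.ext (mul_inv_eq_iff_eq_mul.2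
        (Subgroup.mem_centralizer_iff.1 (hAH ha) _ ⟨h, hh, rfl⟩).symm)
    refine Subgroup.mem_centralizer_iff.2 fun v hv => ?_
    have h2 := congrArg Subtype.val (DFunLike.congr_fun h1 (⟨v, hv⟩ : V))
    exact (mul_inv_eq_iff_eq_mul.1 h2).symm

/-- `Q = [Q, R]` centralises `S` when the line `P` contains the fixed points of `R` of order `p`. -/
theorem le_centralizer_of_line (hp : p ≠ 2) {S P Q R : Subgroup G} (hS : IsPGroup p S) (hPS : P ≤ S)
    (hP : Nat.card P = p) (hQS : Q ≤ normalizer (S : Set G)) (hRS : R ≤ normalizer (S : Set G))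
    (hQP : Q ≤ centralizer (P : Set G)) (hRP : R ≤ centralizer (P : Set G))
    (hRQ : R ≤ normalizer (Q : Set G)) (hQp : (Nat.card Q).Coprime p) (hRp : (Nat.card R).Coprime p)
    (hRs : Group.IsSolvable R) (hcopRQ : (Nat.card R).Coprime (Nat.card Q))
    (hfpf : ∀ l ∈ R, l ≠ 1 → ∀ u ∈ Q, l * u = u * l → u = 1) (hQR : ⁅Q, R⁆ = Q)
    (hfix : ∀ x ∈ S ⊓ centralizer (R : Set G), x ^ p = 1 → x ∈ P) :
    Q ≤ centralizer (S : Set G) := by
  have hPp : IsPGroup p P := hS.to_le hPS
  refine Coprime.le_centralizer_of_pq hPp hQp hS (Subgroup.le_centralizer_iff.1 hQP)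
    (hPS.trans Subgroup.le_normalizer) hQS ?_
  set V := S ⊓ centralizer (P : Set G)
  have hVp : IsPGroup p V := hS.to_le inf_le_left
  have hQV : Q ≤ normalizer (V : Set G) :=
    Coprime.le_normalizer_inf_of_le hQS (hQP.trans Subgroup.le_normalizer)
  have hRV : R ≤ normalizer (V : Set G) :=
    Coprime.le_normalizer_inf_of_le hRS (hRP.trans Subgroup.le_normalizer)
  obtain ⟨W, hWV, hN, hexp, hdet⟩ := exists_exponent_critical hp hVp
  refine Subgroup.le_centralizer_iff.1 (hdet Q hQV hQp ?_)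
  obtain ⟨i, hi⟩ := (hVp.to_le hWV).exists_card_eq
  have hcyc : IsCyclic ↥(W ⊓ P) := by
    haveI : IsCyclic P := isCyclic_of_prime_card hP
    exact isCyclic_of_injective (Subgroup.inclusion (inf_le_right : W ⊓ P ≤ P))
      (Subgroup.inclusion_injective _)
  refine le_centralizer_of_fpf_cyclic (hVp.to_le hWV) inf_le_left hcyc (hQV.trans hN) (hRV.trans hN)
    (Coprime.le_normalizer_inf_of_le (hQV.trans hN) (hQP.trans (Subgroup.centralizer_le_normalizer _)))
    (Coprime.le_normalizer_inf_of_le (hRV.trans hN) (hRP.trans (Subgroup.centralizer_le_normalizer _)))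
    hRQ (hi ▸ hQp.pow_right i) hRs hcopRQ (hi ▸ hRp.pow_right i) hfpf ?_ hQR
  exact fun x hx => ⟨hx.1, hfix x ⟨(hWV hx.1).1, hx.2⟩ (hexp x hx.1)⟩

omit [Fact p.Prime] in
/-- In `H = K U`, an element conjugating `X ≤ U` into `U` is a product. -/
theorem exists_supplement_mul {H K U X : Subgroup G} (hs : Group.IsSolvable H) (hKH : K ≤ H)
    (hKn : H ≤ normalizer (K : Set G)) (hUH : U ≤ H)
    (hprod : ∀ h ∈ H, ∃ k ∈ K, ∃ d ∈ U, h = k * d) (hXU : X ≤ U)
    (hcop : (Nat.card X).Coprime (Nat.card K)) {g : G} (hg : g ∈ H)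
    (hgX : MulAut.conj g • X ≤ U) : ∃ u ∈ U, ∃ c ∈ K, c ∈ centralizer (X : Set G) ∧ g = u * c := by
  haveI := hs
  haveI : (K.subgroupOf H).Normal := (Subgroup.normal_subgroupOf_iff_le_normalizer hKH).2 hKn
  have hsup : K.subgroupOf H ⊔ U.subgroupOf H = ⊤ := eq_top_iff.2 fun h _ => by
    obtain ⟨k, hk, d, hd, hkd⟩ := hprod h h.2
    rw [show h = (⟨k, hKH hk⟩ : H) * ⟨d, hUH hd⟩ from Subtype.ext hkd]
    exact mul_mem (Subgroup.mem_sup_left hk) (Subgroup.mem_sup_right hd)
  have hXH : X ≤ H := hXU.trans hUH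
  obtain ⟨u, hu, c, hc, huc⟩ := exists_mul_of_conj_le hsup (H := X.subgroupOf H) (fun x hx => hXU hx)
    (by rwa [Coprime.card_subgroupOf hXH, Coprime.card_subgroupOf hKH]) (g := (⟨g, hg⟩ : H)) (by
      rintro _ ⟨x, hx, rfl⟩
      exact hgX (Subgroup.smul_mem_pointwise_smul (x : G) (MulAut.conj g) _ hx))
  exact ⟨u, hu, c, hc.1, Subgroup.mem_centralizer_iff.2 fun x hx =>
    congrArg Subtype.val (Subgroup.mem_centralizer_iff.1 hc.2 ⟨x, hXH hx⟩ hx), congrArg Subtype.val huc⟩

/-- In `H = K U` with `p ∤ |K|`, a Sylow subgroup of `C_U(X)` is one of `C_H(X)`. -/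
theorem isSyl_centralizer_supplement {H K U X T : Subgroup G} (hs : Group.IsSolvable H) (hKH : K ≤ H)
    (hKn : H ≤ normalizer (K : Set G)) (hUH : U ≤ H)
    (hprod : ∀ h ∈ H, ∃ k ∈ K, ∃ d ∈ U, h = k * d) (hXU : X ≤ U)
    (hcop : (Nat.card X).Coprime (Nat.card K)) (hpK : ¬ p ∣ Nat.card K)
    (hT : IsSyl p T (U ⊓ centralizer (X : Set G))) : IsSyl p T (H ⊓ centralizer (X : Set G)) := by
  set A := H ⊓ centralizer (X : Set G)
  set B := U ⊓ centralizer (X : Set G)
  set K₀ := K ⊓ centralizer (X : Set G)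
  have hBA : B ≤ A := inf_le_inf_right _ hUH
  have hBn : B ≤ normalizer (K₀ : Set G) :=
    Coprime.le_normalizer_inf_of_le ((inf_le_left.trans hUH).trans hKn)
      (inf_le_right.trans Subgroup.le_normalizer)
  have hA : A = B ⊔ K₀ := by
    refine le_antisymm (fun g hg => ?_) (sup_le hBA (inf_le_inf_right _ hKH))
    obtain ⟨u, hu, c, hc, hcX, rfl⟩ := exists_supplement_mul hs hKH hKn hUH hprod hXU hcop hg.1
      ((Coprime.conj_smul_eq_self_of_mem (Subgroup.centralizer_le_normalizer _ hg.2)).le.trans hXU)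
    have huX : u ∈ centralizer (X : Set G) := by
      have h := (centralizer (X : Set G)).mul_mem hg.2 ((centralizer (X : Set G)).inv_mem hcX)
      rwa [mul_inv_cancel_right] at h
    exact mul_mem (Subgroup.mem_sup_left ⟨hu, huX⟩) (Subgroup.mem_sup_right ⟨hc, hcX⟩)
  have hd : Nat.card A ∣ Nat.card B * Nat.card K₀ := by
    have h1 := Subgroup.relIndex_mul_relIndex ⊥ K₀ A bot_le (hA ▸ le_sup_right)
    rw [Subgroup.relIndex_bot_left, Subgroup.relIndex_bot_left, hA,
      Coprime.relIndex_sup_right_of_le_normalizer hBn] at h1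
    rw [hA, ← h1, mul_comm (Nat.card B)]
    exact mul_dvd_mul_left _ (Subgroup.relIndex_dvd_card K₀ B)
  obtain ⟨T', hT', hTT'⟩ := exists_isSyl_ge hT.isPGroup (hT.le.trans hBA)
  refine (Subgroup.eq_of_le_of_card_ge hTT' ?_).symm ▸ hT'
  obtain ⟨k, hk⟩ := hT'.isPGroup.exists_card_eq
  obtain ⟨j, hj⟩ := hT.isPGroup.exists_card_eq
  have hpK₀ : ¬ p ∣ Nat.card K₀ := fun h =>
    hpK (h.trans (Subgroup.card_dvd_of_le (inf_le_left : K₀ ≤ K)))
  have h2 : p ^ k ∣ Nat.card B := by
    refine (Nat.Coprime.pow_left k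
      ((Fact.out : p.Prime).coprime_iff_not_dvd.2 hpK₀)).dvd_of_dvd_mul_right ?_
    exact (hk ▸ Subgroup.card_dvd_of_le hT'.le).trans hd
  obtain ⟨S₀, hS₀⟩ := hT
  rw [hk, ← hS₀, Subgroup.card_map_of_injective B.subtype_injective, S₀.card_eq_multiplicity]
  exact Nat.pow_le_pow_right (Fact.out : p.Prime).pos
    ((Fact.out : p.Prime).pow_dvd_iff_le_factorization Nat.card_pos.ne' |>.1 h2)

/-- Burnside: in a simple group no nontrivial Sylow subgroup has `N(S) ≤ C(S)`. -/
theorem not_normalizer_le_centralizer (hG : IsMinSimpleOddOrder G) (S : Sylow p G)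
    (h1 : (S : Subgroup G) ≠ ⊥) :
    ¬ normalizer ((S : Subgroup G) : Set G) ≤ centralizer ((S : Subgroup G) : Set G) := by
  intro h
  haveI := hG.2.1
  have hc := MonoidHom.ker_transferSylow_isComplement' S h
  rcases hG.2.1.eq_bot_or_eq_top_of_normal (MonoidHom.transferSylow S h).ker inferInstance with e | e
  · exact ne_top_of_isPGroup hG S.2 (by have h2 := hc.sup_eq_top; rwa [e, bot_sup_eq] at h2)
  · exact h1 (by have h2 := hc.disjoint.eq_bot; rwa [e, top_inf_eq] at h2)

end Cfsg.Agent.OddOrder
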