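import Cfsg.Agent.Lib.PGroup.MaximalElementarySquare
import Cfsg.Agent.Lib.OddOrder.CyclicSylows
import Cfsg.Agent.Lib.PGroup.Critical
import Cfsg.Agent.Lib.Coprime.OmegaOne
import Cfsg.Agent.Lib.Coprime.Stabilize
import Cfsg.Agent.Lib.Coprime.Commutator
import Cfsg.Agent.Lib.OddOrder.DerivedNilpotent

/-!
# Coprime actions on narrow p-groups of rank at least 3

`mem_centralizer_of_narrow`: let `U ⊴ G` be a p-group of rank ≥ 3 with a maximal elementary abelian subgroup
of order `p²`.  A p'-element acting trivially on every normal section of order `p` of `G` inside `U`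
centralises `U`.
-/

set_option linter.style.haveILetI false
set_option linter.unusedSectionVars false

namespace Cfsg.Agent.OddOrder

open Cfsg
open Subgroup (centralizer normalizer zpowers)
open scoped commutatorElement

variable {G : Type*} [Group G] [Finite G] {p : ℕ} [Fact p.Prime]

/-- A coprime element trivial on `N` and on `M/N` is trivial on `M`, elementwise form. -/
theorem commute_of_commutator_mem {x m : G} {N : Subgroup G} (hN : IsPGroup p N)
    (hc : (orderOf x).Coprime p) (hx : ∀ n ∈ N, Commute x n) (hm : ⁅x, m⁆ ∈ N) : Commute x m := by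
  refine Coprime.commute_of_translate (z := ⁅x, m⁆) ?_ (hx _ hm) ?_
  · simp only [commutatorElement_def]; group
  · obtain ⟨k, hk⟩ := hN.exists_card_eq
    exact (hc.pow_right k).coprime_dvd_right (hk ▸ Subgroup.orderOf_dvd_natCard N hm)

theorem mem_centralizer_of_narrow (hp : p ≠ 2) (U : Subgroup G) [hUn : U.Normal] (hU : IsPGroup p U)
    (hr : ¬ PRankLE p 2 U) {E : Subgroup U} (hE : IsElementaryAbelian p E) (hE2 : Nat.card E = p ^ 2)
    (hEmax : ∀ B : Subgroup U, IsElementaryAbelian p B → E ≤ B → B = E) {x : G}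
    (hxp : (orderOf x).Coprime p)
    (hx : ∀ M N : Subgroup G, M.Normal → N.Normal → N ≤ M → M ≤ U → N.relIndex M = p →
      ∀ m ∈ M, ⁅x, m⁆ ∈ N) :
    x ∈ centralizer (U : Set G) := by
  have hpp : p.Prime := Fact.out
  obtain ⟨hZp, -, -, hTi, -, e, -, hep, heT, hfix⟩ := MaxElementarySquare.exists_data hp hU hr hE hE2 hEmax
  haveI := MaxElementarySquare.centralizer_omegaTwo_characteristic (p := p) (R := U)
  set T₀ := centralizer ((MaxElementarySquare.omegaTwo p U : Subgroup U) : Set U) with hT₀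
  set Z₀ := MaxElementarySquare.omegaCenter p U with hZ₀
  set T := T₀.map U.subtype with hT
  haveI hTn : T.Normal := inferInstanceAs (T₀.map U.subtype).Normal
  have hTU : T ≤ U := Subgroup.map_subtype_le _
  have hTrel : T.relIndex U = p := by
    rw [Subgroup.relIndex, hT, show (T₀.map U.subtype).subgroupOf U = T₀ from
      Subgroup.comap_map_eq_self_of_injective U.subtype_injective _, hTi]
  -- induction inside `T`
  have hT' : ∀ n : ℕ, ∀ X : Subgroup G, X.Normal → X ≤ T → (∀ v ∈ X, v ^ p = 1) → Nat.card X = n →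
      ∀ v ∈ X, Commute x v := by
    intro n
    induction n using Nat.strong_induction_on with
    | _ n ih =>
    intro X hXn hXT hexp hn v hv
    subst hn
    rcases eq_or_ne X ⊥ with rfl | hX1
    · rw [Subgroup.mem_bot.1 hv]
      exact Commute.one_right x
    haveI := hXn
    set N := ⁅X, U⁆ with hN
    haveI hNn : N.Normal := Subgroup.commutator_normal X U
    have hlt : N < X := Coprime.commutator_lt_of_isPGroup hU (hU.to_le (hXT.trans hTU))
      (by rw [Subgroup.normalizer_eq_top_iff.2 hXn]; exact le_top) hX1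
    have hcardlt : Nat.card N < Nat.card X :=
      lt_of_le_of_ne (Subgroup.card_le_of_le hlt.le) fun h => hlt.ne (Subgroup.eq_of_le_of_card_ge hlt.le h.ge)
    have hNc : ∀ w ∈ N, Commute x w :=
      ih _ hcardlt N hNn (hlt.le.trans hXT) (fun w hw => hexp w (hlt.le hw)) rfl
    have hind : Nat.card X ≤ p * Nat.card N := by
      set C := (centralizer ({(e : G)} : Set G)).subgroupOf X with hC
      let f : X ⧸ C → N := fun q => Quotient.liftOn' q
        (fun w => (⟨⁅(w : G), (e : G)⁆, Subgroup.commutator_mem_commutator w.2 e.2⟩ : N)) fun a b hab => by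
          rw [QuotientGroup.leftRel_apply] at hab
          have h := Subgroup.mem_centralizer_singleton_iff.1 (Subgroup.mem_subgroupOf.1 hab)
          simp only [Subgroup.coe_mul, Subgroup.coe_inv] at h
          refine Subtype.ext ?_
          show ⁅(a : G), (e : G)⁆ = ⁅(b : G), (e : G)⁆
          simp only [commutatorElement_def]
          calc (a : G) * e * (a : G)⁻¹ * (e : G)⁻¹
              = a * (e * ((a : G)⁻¹ * b)) * (b : G)⁻¹ * (e : G)⁻¹ := by group
            _ = a * (((a : G)⁻¹ * b) * e) * (b : G)⁻¹ * (e : G)⁻¹ := by rw [← h]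
            _ = (b : G) * e * (b : G)⁻¹ * (e : G)⁻¹ := by group
      have hinj : Function.Injective f := by
        intro q₁ q₂
        obtain ⟨a, rfl⟩ := QuotientGroup.mk_surjective q₁
        obtain ⟨b, rfl⟩ := QuotientGroup.mk_surjective q₂
        intro h
        have h' : ⁅(a : G), (e : G)⁆ = ⁅(b : G), (e : G)⁆ := congrArg Subtype.val h
        simp only [commutatorElement_def] at h'
        rw [mul_left_inj] at h'
        refine QuotientGroup.eq.2 (Subgroup.mem_subgroupOf.2 (Subgroup.mem_centralizer_singleton_iff.2 ?_))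
        rw [Subgroup.coe_mul, Subgroup.coe_inv]
        calc (a : G)⁻¹ * b * e = (a : G)⁻¹ * ((b : G) * e * (b : G)⁻¹) * b := by group
          _ = (a : G)⁻¹ * ((a : G) * e * (a : G)⁻¹) * b := by rw [h']
          _ = e * ((a : G)⁻¹ * b) := by group
      have hC' : Nat.card C ≤ p := by
        let g : C → Z₀ := fun c => ⟨⟨c.1.1, hTU (hXT c.1.2)⟩, by
          obtain ⟨⟨w, hw⟩, hwT, hwe⟩ := hXT c.1.2
          change w = c.1.1 at hwe
          subst hwe
          exact hfix _ hwT (Subtype.ext (hexp _ c.1.2)) (Subtype.ext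
            (Subgroup.mem_centralizer_singleton_iff.1 (Subgroup.mem_subgroupOf.1 c.2)))⟩
        calc Nat.card C ≤ Nat.card Z₀ := Nat.card_le_card_of_injective g fun a b h =>
              Subtype.ext (Subtype.ext (congrArg (fun z => ((z.1 : U) : G)) h))
          _ = p := hZp
      rw [Subgroup.card_eq_card_quotient_mul_card_subgroup C, mul_comm]
      exact Nat.mul_le_mul hC' (Nat.card_le_card_of_injective f hinj)
    have hrel : N.relIndex X = p := by
      obtain ⟨k, hk⟩ := (hU.to_le (hXT.trans hTU) : IsPGroup p X).exists_card_eq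
      have hmul := Subgroup.relIndex_mul_relIndex ⊥ N X bot_le hlt.le
      rw [Subgroup.relIndex_bot_left, Subgroup.relIndex_bot_left] at hmul
      obtain ⟨j, -, hj⟩ := (Nat.dvd_prime_pow hpp).1 (hk ▸ hmul ▸ dvd_mul_left (N.relIndex X) (Nat.card N))
      have h1 : N.relIndex X ≤ p := Nat.le_of_mul_le_mul_left
        (by rw [hmul, mul_comm]; exact hind) Nat.card_pos
      have h2 : N.relIndex X ≠ 1 := fun h => hlt.ne (le_antisymm hlt.le (Subgroup.relIndex_eq_one.1 h))
      rw [hj] at h1 h2 ⊢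
      have : j ≤ 1 := (Nat.pow_le_pow_iff_right hpp.one_lt).1 (h1.trans (pow_one p).ge)
      interval_cases j
      · exact absurd (pow_zero p) h2
      · exact pow_one p
    exact commute_of_commutator_mem (hU.to_le (hlt.le.trans (hXT.trans hTU))) hxp hNc
      (hx X N hXn hNn hlt.le (hXT.trans hTU) hrel v hv)
  -- normal subgroups of exponent p
  have hexpo : ∀ X : Subgroup G, X.Normal → X ≤ U → (∀ v ∈ X, v ^ p = 1) → ∀ v ∈ X, Commute x v := by
    intro X hXn hXU hexp v hv
    haveI := hXn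
    exact commute_of_commutator_mem (N := X ⊓ T) (hU.to_le (inf_le_left.trans hXU)) hxp
      (fun n hn => hT' _ (X ⊓ T) inferInstance inf_le_right (fun w hw => hexp w hw.1) rfl n hn)
      ⟨by
        rw [commutatorElement_def]
        exact X.mul_mem (hXn.conj_mem v hv x) (X.inv_mem hv),
      hx U T hUn hTn hTU le_rfl hTrel v (hXU hv)⟩
  -- critical subgroup
  obtain ⟨H₀, hH₀, -, hH₀Z, hH₀C⟩ := PGroup.exists_critical hU
  haveI := hH₀
  set H := H₀.map U.subtype with hHdef
  haveI hHn : H.Normal := inferInstanceAs (H₀.map U.subtype).Normal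
  have hcl : ∀ a ∈ H, ∀ b ∈ H, ∀ c ∈ H, ⁅a, b⁆ * c = c * ⁅a, b⁆ := by
    rintro _ ⟨a, ha, rfl⟩ _ ⟨b, -, rfl⟩ _ ⟨c, hc, rfl⟩
    rw [← map_commutatorElement, ← map_mul, ← map_mul, Subgroup.mem_centralizer_iff.1
      (hH₀Z (Subgroup.commutator_mem_commutator ha (Subgroup.mem_top b))).2 c hc]
  have hclH : ∀ a b : H, ⁅a, b⁆ ∈ Subgroup.center H := fun a b =>
    Subgroup.mem_center_iff.mpr fun z => Subtype.ext (hcl a a.2 b b.2 z z.2).symm
  let X : Subgroup G :=
    { carrier := {v | v ∈ H ∧ v ^ p = 1}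
      one_mem' := ⟨one_mem _, one_pow _⟩
      mul_mem' := fun {a b} ha hb => ⟨mul_mem ha.1 hb.1, by
        have h1 : (⟨b, hb.1⟩ : H) ^ p = 1 := Subtype.ext hb.2
        have h2 := PGroup.mul_pow_prime hpp hp (x := (⟨a, ha.1⟩ : H)) (y := ⟨b, hb.1⟩) (hclH _ _)
          (by rw [← PGroup.commutator_pow_left (hclH _ _), h1, commutatorElement_one_left])
        have h3 := congrArg Subtype.val h2
        simp only [SubmonoidClass.coe_pow, Subgroup.coe_mul] at h3
        rw [h3, ha.2, hb.2, one_mul]⟩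
      inv_mem' := fun {a} ha => ⟨inv_mem ha.1, by rw [inv_pow, ha.2, inv_one]⟩ }
  have hXn : X.Normal := ⟨fun w hw c => ⟨hHn.conj_mem w hw.1 c, by
    rw [conj_pow, hw.2, mul_one, mul_inv_cancel]⟩⟩
  have hfixX := hexpo X hXn (fun w hw => Subgroup.map_subtype_le _ hw.1) fun w hw => hw.2
  have hcyc : (Nat.card (zpowers x)).Coprime p := by rwa [Nat.card_zpowers]
  have hxH := Coprime.le_centralizer_of_fix_pow_eq_one hp H (zpowers x)
    (hU.to_le (Subgroup.map_subtype_le _)) (by rw [Subgroup.normalizer_eq_top_iff.2 hHn]; exact le_top)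
    hcyc fun w hw hwp => Subgroup.zpowers_le.2
      (Subgroup.mem_centralizer_singleton_iff.2 (hfixX w ⟨hw, hwp⟩).eq)
  have hφ := PGroup.aut_eq_one_of_centralizer_le hU H₀ hH₀C (MulAut.conjNormal x)
    (hxp.coprime_dvd_left (orderOf_map_dvd _ x)) (fun h hh => Subtype.ext (by
      rw [MulAut.conjNormal_apply, mul_inv_eq_iff_eq_mul]
      exact (Subgroup.mem_centralizer_iff.1 (hxH (Subgroup.mem_zpowers x)) _ ⟨h, hh, rfl⟩).symm))
  refine Subgroup.mem_centralizer_iff.2 fun u hu => ?_
  have := congrArg Subtype.val (DFunLike.congr_fun hφ ⟨u, hu⟩)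
  rw [MulAut.conjNormal_apply, MulAut.one_apply, mul_inv_eq_iff_eq_mul] at this
  exact this.symm

/-- A p'-element centralising a maximal elementary abelian subgroup of order `p²` of `U` centralises `U`. -/
theorem mem_centralizer_of_fixed (hp : p ≠ 2) (U : Subgroup G) [hUn : U.Normal] (hU : IsPGroup p U)
    (hr : ¬ PRankLE p 2 U) {E : Subgroup U} (hE : IsElementaryAbelian p E) (hE2 : Nat.card E = p ^ 2)
    (hEmax : ∀ B : Subgroup U, IsElementaryAbelian p B → E ≤ B → B = E) {x : G}
    (hxp : (orderOf x).Coprime p)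
    (hxE : ∀ a ∈ E, Commute x (a : G)) :
    x ∈ centralizer (U : Set G) := by
  have hpp : p.Prime := Fact.out
  obtain ⟨-, -, -, hTi, hZE, e, heE, hep, heT, hfix⟩ := MaxElementarySquare.exists_data hp hU hr hE hE2 hEmax
  haveI := MaxElementarySquare.centralizer_omegaTwo_characteristic (p := p) (R := U)
  set T₀ := centralizer ((MaxElementarySquare.omegaTwo p U : Subgroup U) : Set U) with hT₀
  set Z₀ := MaxElementarySquare.omegaCenter p U with hZ₀
  set T := T₀.map U.subtype with hT
  haveI hTn : T.Normal := inferInstanceAs (T₀.map U.subtype).Normal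
  have hTU : T ≤ U := Subgroup.map_subtype_le _
  have hTrel : T.relIndex U = p := by
    rw [Subgroup.relIndex, hT, show (T₀.map U.subtype).subgroupOf U = T₀ from
      Subgroup.comap_map_eq_self_of_injective U.subtype_injective _, hTi]
  -- `x` is trivial on `U / T`
  have hUT : ∀ v ∈ U, ⁅x, v⁆ ∈ T := by
    intro v hv
    set π := QuotientGroup.mk' T
    have heT' : (e : G) ∉ T := fun ⟨w, hw, hwe⟩ => heT ((Subtype.ext hwe : w = e) ▸ hw)
    have hcard : Nat.card (U.map π) = p := by rw [← Subgroup.relIndex_ker, QuotientGroup.ker_mk', hTrel]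
    have hgen : zpowers (π e) = U.map π := by
      refine Subgroup.eq_of_le_of_card_ge (Subgroup.zpowers_le.2 ⟨e, e.2, rfl⟩) ?_
      rw [hcard, Nat.card_zpowers, orderOf_eq_prime (p := p)]
      · rw [← map_pow, ← Subgroup.coe_pow, hep, Subgroup.coe_one, map_one]
      · exact fun h => heT' ((QuotientGroup.eq_one_iff _).1 h)
    obtain ⟨i, hi⟩ := hgen.ge ⟨v, hv, rfl⟩
    rw [← QuotientGroup.eq_one_iff (N := T)]
    show π ⁅x, v⁆ = 1
    rw [map_commutatorElement, commutatorElement_eq_one_iff_mul_comm, ← hi]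
    exact (((hxE e heE).map π).zpow_right i).eq
  -- induction inside `T`
  have hT' : ∀ n : ℕ, ∀ X : Subgroup G, X.Normal → X ≤ T → (∀ v ∈ X, v ^ p = 1) → Nat.card X = n →
      ∀ v ∈ X, Commute x v := by
    intro n
    induction n using Nat.strong_induction_on with
    | _ n ih =>
    intro X hXn hXT hexp hn v hv
    subst hn
    rcases eq_or_ne X ⊥ with rfl | hX1
    · rw [Subgroup.mem_bot.1 hv]
      exact Commute.one_right x
    haveI := hXn
    set N := ⁅X, U⁆ with hN
    haveI hNn : N.Normal := Subgroup.commutator_normal X U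
    have hlt : N < X := Coprime.commutator_lt_of_isPGroup hU (hU.to_le (hXT.trans hTU))
      (by rw [Subgroup.normalizer_eq_top_iff.2 hXn]; exact le_top) hX1
    have hcardlt : Nat.card N < Nat.card X :=
      lt_of_le_of_ne (Subgroup.card_le_of_le hlt.le) fun h => hlt.ne (Subgroup.eq_of_le_of_card_ge hlt.le h.ge)
    have hNc : ∀ w ∈ N, Commute x w :=
      ih _ hcardlt N hNn (hlt.le.trans hXT) (fun w hw => hexp w (hlt.le hw)) rfl
    -- `⁅v, e⁆ ∈ N` is fixed by `x`, so `x v x⁻¹ ∈ v C_X(e)`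
    have hxe : Commute x (e : G) := hxE e heE
    have hve : ⁅v, (e : G)⁆ ∈ N := Subgroup.commutator_mem_commutator hv e.2
    set v' := x * v * x⁻¹ with hv'
    have hv'X : v' ∈ X := hXn.conj_mem v hv x
    have hcomm : ⁅v', (e : G)⁆ = ⁅v, (e : G)⁆ := by
      calc ⁅v', (e : G)⁆ = x * (v * (x⁻¹ * e * x) * v⁻¹ * (x⁻¹ * (e : G)⁻¹ * x)) * x⁻¹ := by
            rw [hv', commutatorElement_def]; group
        _ = x * ⁅v, (e : G)⁆ * x⁻¹ := by
            rw [show x⁻¹ * e * x = (e : G) by rw [mul_assoc, ← hxe.eq, inv_mul_cancel_left],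
              show x⁻¹ * (e : G)⁻¹ * x = (e : G)⁻¹ by rw [mul_assoc, ← hxe.inv_right.eq, inv_mul_cancel_left],
              commutatorElement_def]
        _ = ⁅v, (e : G)⁆ := by rw [(hNc _ hve).eq, mul_inv_cancel_right]
    have hc : Commute (v⁻¹ * v') (e : G) := by
      have h : v' * e * v'⁻¹ = v * e * v⁻¹ := by
        simpa only [commutatorElement_def, mul_left_inj] using hcomm
      calc v⁻¹ * v' * e = v⁻¹ * (v' * e * v'⁻¹) * v' := by group
        _ = v⁻¹ * (v * e * v⁻¹) * v' := by rw [h]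
        _ = e * (v⁻¹ * v') := by group
    have hcX : v⁻¹ * v' ∈ X := X.mul_mem (X.inv_mem hv) hv'X
    set z : U := ⟨v⁻¹ * v', hTU (hXT hcX)⟩ with hz
    have hzZ : z ∈ Z₀ := by
      obtain ⟨w, hw, hwe⟩ := hXT hcX
      have hwz : w = z := Subtype.ext hwe
      subst hwz
      exact hfix z hw (Subtype.ext (hexp _ hcX)) (Subtype.ext hc.eq)
    have hzv : Commute v (z : G) := congrArg Subtype.val
      (Subgroup.mem_center_iff.1 (MaxElementarySquare.mem_omegaCenter.1 hzZ).1 ⟨v, hTU (hXT hv)⟩)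
    refine Coprime.commute_of_translate (z := (z : G)) ?_ (hxE z (hZE hzZ)) ?_
    · rw [← hzv.eq]
      show x * v * x⁻¹ = v * (v⁻¹ * v')
      rw [mul_inv_cancel_left]
    · exact (hxp.coprime_dvd_right (orderOf_dvd_of_pow_eq_one (hexp _ hcX)))
  -- normal subgroups of exponent p
  have hexpo : ∀ X : Subgroup G, X.Normal → X ≤ U → (∀ v ∈ X, v ^ p = 1) → ∀ v ∈ X, Commute x v := by
    intro X hXn hXU hexp v hv
    haveI := hXn
    exact commute_of_commutator_mem (N := X ⊓ T) (hU.to_le (inf_le_left.trans hXU)) hxp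
      (fun n hn => hT' _ (X ⊓ T) inferInstance inf_le_right (fun w hw => hexp w hw.1) rfl n hn)
      ⟨by
        rw [commutatorElement_def]
        exact X.mul_mem (hXn.conj_mem v hv x) (X.inv_mem hv),
      hUT v (hXU hv)⟩
  -- critical subgroup
  obtain ⟨H₀, hH₀, -, hH₀Z, hH₀C⟩ := PGroup.exists_critical hU
  haveI := hH₀
  set H := H₀.map U.subtype with hHdef
  haveI hHn : H.Normal := inferInstanceAs (H₀.map U.subtype).Normal
  have hcl : ∀ a ∈ H, ∀ b ∈ H, ∀ c ∈ H, ⁅a, b⁆ * c = c * ⁅a, b⁆ := by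
    rintro _ ⟨a, ha, rfl⟩ _ ⟨b, -, rfl⟩ _ ⟨c, hc, rfl⟩
    rw [← map_commutatorElement, ← map_mul, ← map_mul, Subgroup.mem_centralizer_iff.1
      (hH₀Z (Subgroup.commutator_mem_commutator ha (Subgroup.mem_top b))).2 c hc]
  have hclH : ∀ a b : H, ⁅a, b⁆ ∈ Subgroup.center H := fun a b =>
    Subgroup.mem_center_iff.mpr fun z => Subtype.ext (hcl a a.2 b b.2 z z.2).symm
  let X : Subgroup G :=
    { carrier := {v | v ∈ H ∧ v ^ p = 1}
      one_mem' := ⟨one_mem _, one_pow _⟩
      mul_mem' := fun {a b} ha hb => ⟨mul_mem ha.1 hb.1, by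
        have h1 : (⟨b, hb.1⟩ : H) ^ p = 1 := Subtype.ext hb.2
        have h2 := PGroup.mul_pow_prime hpp hp (x := (⟨a, ha.1⟩ : H)) (y := ⟨b, hb.1⟩) (hclH _ _)
          (by rw [← PGroup.commutator_pow_left (hclH _ _), h1, commutatorElement_one_left])
        have h3 := congrArg Subtype.val h2
        simp only [SubmonoidClass.coe_pow, Subgroup.coe_mul] at h3
        rw [h3, ha.2, hb.2, one_mul]⟩
      inv_mem' := fun {a} ha => ⟨inv_mem ha.1, by rw [inv_pow, ha.2, inv_one]⟩ }
  have hXn : X.Normal := ⟨fun w hw c => ⟨hHn.conj_mem w hw.1 c, by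
    rw [conj_pow, hw.2, mul_one, mul_inv_cancel]⟩⟩
  have hfixX := hexpo X hXn (fun w hw => Subgroup.map_subtype_le _ hw.1) fun w hw => hw.2
  have hcyc : (Nat.card (zpowers x)).Coprime p := by rwa [Nat.card_zpowers]
  have hxH := Coprime.le_centralizer_of_fix_pow_eq_one hp H (zpowers x)
    (hU.to_le (Subgroup.map_subtype_le _)) (by rw [Subgroup.normalizer_eq_top_iff.2 hHn]; exact le_top)
    hcyc fun w hw hwp => Subgroup.zpowers_le.2
      (Subgroup.mem_centralizer_singleton_iff.2 (hfixX w ⟨hw, hwp⟩).eq)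
  have hφ := PGroup.aut_eq_one_of_centralizer_le hU H₀ hH₀C (MulAut.conjNormal x)
    (hxp.coprime_dvd_left (orderOf_map_dvd _ x)) (fun h hh => Subtype.ext (by
      rw [MulAut.conjNormal_apply, mul_inv_eq_iff_eq_mul]
      exact (Subgroup.mem_centralizer_iff.1 (hxH (Subgroup.mem_zpowers x)) _ ⟨h, hh, rfl⟩).symm))
  refine Subgroup.mem_centralizer_iff.2 fun u hu => ?_
  have := congrArg Subtype.val (DFunLike.congr_fun hφ ⟨u, hu⟩)
  rw [MulAut.conjNormal_apply, MulAut.one_apply, mul_inv_eq_iff_eq_mul] at this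
  exact this.symm

/-- Sections of order `p` are centralised by `G'`. -/
theorem commutator_mem_of_relIndex_eq {M N : Subgroup G} [hMn : M.Normal] [hNn : N.Normal]
    (h : N.relIndex M = p) {x : G} (hx : x ∈ commutator G) {m : G} (hm : m ∈ M) : ⁅x, m⁆ ∈ N := by
  set π := QuotientGroup.mk' N
  haveI : (M.map π).Normal := hMn.map π (QuotientGroup.mk'_surjective N)
  haveI : IsCyclic (M.map π) := isCyclic_of_prime_card (p := p)
    (by rw [← Subgroup.relIndex_ker, QuotientGroup.ker_mk', h])
  have hxc : π x ∈ centralizer ((M.map π : Subgroup (G ⧸ N)) : Set (G ⧸ N)) := by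
    refine commutator_le_centralizer_of_isCyclic _ ?_
    have := Subgroup.mem_map_of_mem π hx
    rw [commutator_def, Subgroup.map_commutator] at this
    exact Subgroup.commutator_mono le_top le_top this
  rw [← QuotientGroup.eq_one_iff (N := N)]
  show π ⁅x, m⁆ = 1
  rw [map_commutatorElement, commutatorElement_eq_one_iff_mul_comm]
  exact (Subgroup.mem_centralizer_iff.1 hxc _ ⟨m, hm, rfl⟩).symm

/-- Any element's `(p-1)`-st power is trivial on sections of order `p`. -/
theorem pow_pred_commutator_mem {M N : Subgroup G} [hMn : M.Normal] [hNn : N.Normal]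
    (h : N.relIndex M = p) (a : G) {m : G} (hm : m ∈ M) : ⁅a ^ (p - 1), m⁆ ∈ N := by
  set π := QuotientGroup.mk' N
  haveI : (M.map π).Normal := hMn.map π (QuotientGroup.mk'_surjective N)
  have hc : Nat.card (M.map π) = p := by rw [← Subgroup.relIndex_ker, QuotientGroup.ker_mk', h]
  haveI : IsCyclic (M.map π) := isCyclic_of_prime_card hc
  have h1 : MulAut.conjNormal (H := M.map π) (π a ^ (p - 1)) = 1 := by
    rw [map_pow, ← orderOf_dvd_iff_pow_eq_one, ← Nat.totient_prime (Fact.out : p.Prime), ← hc,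
      ← IsCyclic.card_mulAut]
    exact orderOf_dvd_natCard _
  rw [← QuotientGroup.eq_one_iff (N := N)]
  show π ⁅a ^ (p - 1), m⁆ = 1
  rw [map_commutatorElement, map_pow, commutatorElement_eq_one_iff_mul_comm]
  have := congrArg Subtype.val (DFunLike.congr_fun h1 ⟨π m, ⟨m, hm, rfl⟩⟩)
  rw [MulAut.conjNormal_apply, MulAut.one_apply, mul_inv_eq_iff_eq_mul] at this
  exact this

/-- An elementary abelian subgroup with centraliser of rank ≤ 2 gives a maximal one of order `p²`. -/
theorem exists_maximal_square {R : Type*} [Group R] [Finite R] (hR : IsPGroup p R) (hr : ¬ PRankLE p 2 R)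
    {E₁ : Subgroup R} (hE₁ : IsElementaryAbelian p E₁) (hc : PRankLE p 2 (centralizer (E₁ : Set R))) :
    ∃ E : Subgroup R, IsElementaryAbelian p E ∧ Nat.card E = p ^ 2 ∧
      ∀ B : Subgroup R, IsElementaryAbelian p B → E ≤ B → B = E := by
  have hpp : p.Prime := Fact.out
  obtain ⟨E, ⟨hE, hle⟩, hmax⟩ := Set.exists_max_image
    {X : Subgroup R | IsElementaryAbelian p X ∧ E₁ ≤ X} (fun X => Nat.card X) (Set.toFinite _) ⟨E₁, hE₁, le_rfl⟩
  have hEmax : ∀ B : Subgroup R, IsElementaryAbelian p B → E ≤ B → B = E := fun B hB hEB =>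
    (Subgroup.eq_of_le_of_card_ge hEB (hmax B ⟨hB, hle.trans hEB⟩)).symm
  refine ⟨E, hE, le_antisymm ?_ ?_, hEmax⟩
  · have hEC : E ≤ centralizer (E₁ : Set R) :=
      (PGroup.le_centralizer_of_isMulCommutative hE.1).trans (Subgroup.centralizer_le hle)
    rw [← Coprime.card_subgroupOf hEC]
    exact hc _ ⟨⟨fun a b => Subtype.ext (Subtype.ext (PGroup.mul_comm_of_elementaryAbelian hE a.2 b.2))⟩⟩
      fun a ha => Subtype.ext (hE.2 _ ha)
  · by_contra hlt
    obtain ⟨k, hk⟩ := (PGroup.isPGroup_of_elementaryAbelian hE).exists_card_eq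
    have hkp : Nat.card E ≤ p := by
      rw [hk]
      refine (Nat.pow_le_pow_right hpp.pos (?_ : k ≤ 1)).trans (pow_one p).le
      by_contra hk1
      exact hlt (hk ▸ Nat.pow_le_pow_right hpp.pos (by omega))
    haveI : Nontrivial R := by
      by_contra hnt
      rw [not_nontrivial_iff_subsingleton] at hnt
      exact hr fun B _ _ => le_trans (Finite.card_le_one_iff_subsingleton.2 inferInstance) (Nat.one_le_pow _ _ hpp.pos)
    haveI := hR.center_nontrivial
    obtain ⟨j, hj⟩ := (hR.to_subgroup (Subgroup.center R)).exists_card_eq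
    have h1 := Finite.one_lt_card (α := Subgroup.center R)
    have hj0 : j ≠ 0 := fun h => by rw [hj, h, pow_zero] at h1; omega
    obtain ⟨z, hz⟩ := exists_prime_orderOf_dvd_card' p (hj ▸ dvd_pow_self p hj0)
    have hzo : orderOf (z : R) = p := (Subgroup.orderOf_coe z).trans hz
    have hzE : (z : R) ∈ E := by
      have h2 := isElementaryAbelian_sup hE (isElementaryAbelian_zpowers (hzo ▸ pow_orderOf_eq_one (z : R)))
        (Subgroup.zpowers_le.2 (Subgroup.mem_centralizer_iff.2 fun a _ => Subgroup.mem_center_iff.1 z.2 a))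
      exact (hEmax _ h2 le_sup_left).le (Subgroup.mem_sup_right (Subgroup.mem_zpowers _))
    have hEz : E ≤ Subgroup.center R := by
      rw [← Subgroup.eq_of_le_of_card_ge (Subgroup.zpowers_le.2 hzE)
        (by rw [Nat.card_zpowers, hzo]; exact hkp)]
      exact Subgroup.zpowers_le.2 z.2
    refine hr fun B hB hBp => ?_
    have hBC : B ≤ centralizer (E₁ : Set R) := fun b _ =>
      Subgroup.mem_centralizer_iff.2 fun a ha => (Subgroup.mem_center_iff.1 (hEz (hle ha)) b).symm
    rw [← Coprime.card_subgroupOf hBC]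
    exact hc _ ⟨⟨fun a b => Subtype.ext (Subtype.ext (PGroup.mul_comm_of_isMulCommutative hB a.2 b.2))⟩⟩
      fun a ha => Subtype.ext (hBp _ ha)

/-- A narrow group of rank at least 3 has a maximal elementary abelian subgroup of order `p²`. -/
theorem exists_maximal_square_of_narrow {R : Type*} [Group R] [Finite R] (hR : IsPGroup p R)
    (hr : ¬ PRankLE p 2 R) (hn : IsNarrow p R) :
    ∃ E : Subgroup R, IsElementaryAbelian p E ∧ Nat.card E = p ^ 2 ∧
      ∀ B : Subgroup R, IsElementaryAbelian p B → E ≤ B → B = E := by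
  obtain ⟨R₀, R₁, h0, hcyc, -, hcomm, hC⟩ := hn.resolve_left hr
  haveI : IsCyclic R₀ := isCyclic_of_prime_card h0
  have hel : IsElementaryAbelian p R₀ := PGroup.isElementaryAbelian_of_forall
    (fun a ha b hb => congrArg Subtype.val (IsCyclic.commGroup.mul_comm (⟨a, ha⟩ : R₀) ⟨b, hb⟩))
    fun a ha => by
      have := Subgroup.orderOf_dvd_natCard R₀ ha
      rw [h0] at this
      exact orderOf_dvd_iff_pow_eq_one.1 this
  refine exists_maximal_square hR hr hel fun B hB hBp => ?_
  rw [← Subgroup.card_map_of_injective (centralizer (R₀ : Set R)).subtype_injective]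
  set B' := B.map (centralizer (R₀ : Set R)).subtype
  have hB' : IsElementaryAbelian p B' := PGroup.isElementaryAbelian_map ⟨hB, hBp⟩ _
  have h1 : Nat.card (R₁ ⊓ B' : Subgroup R) ≤ p := card_le_of_isCyclic hcyc
    (PGroup.isElementaryAbelian_of_forall (fun a ha b hb => PGroup.mul_comm_of_elementaryAbelian hB' ha.2 hb.2)
      fun a ha => hB'.2 a ha.2) inf_le_left
  have hn' : R₀ ≤ normalizer (R₁ : Set R) := fun a ha =>
    Subgroup.centralizer_le_normalizer _ (Subgroup.mem_centralizer_iff.2 fun b hb => (hcomm a ha b hb).symm)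
  have h2 : R₁.relIndex B' ≤ p :=
    calc R₁.relIndex B' ≤ R₁.relIndex (R₀ ⊔ R₁) :=
          Subgroup.relIndex_le_of_le_right ((Subgroup.map_subtype_le _).trans hC.ge) Subgroup.index_ne_zero_of_finite
      _ = R₁.relIndex R₀ := Coprime.relIndex_sup_right_of_le_normalizer hn'
      _ ≤ p := h0 ▸ Nat.le_of_dvd Nat.card_pos (R₁.relIndex_dvd_card R₀)
  have h3 := Subgroup.relIndex_mul_relIndex ⊥ (R₁ ⊓ B') B' bot_le inf_le_right
  rw [Subgroup.relIndex_bot_left, Subgroup.relIndex_bot_left, Subgroup.inf_relIndex_right] at h3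
  rw [← h3, pow_two]
  exact Nat.mul_le_mul h1 h2

end Cfsg.Agent.OddOrder
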