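import Mathlib
import Cfsg.Prelude.Def_OddOrderLocal

/-! `fittingHall M` is a Hall subgroup; consequences for complements. -/

namespace Cfsg.Agent.OddOrder

open Cfsg

universe u
variable {G : Type u} [Group G]

/-- The property of being a normal subgroup with order coprime to index, closed under `⊔`. -/
theorem normalHall_sup [Finite G] {A B : Subgroup G} [A.Normal] (hA : (Nat.card A).Coprime A.index)
    (hB : (Nat.card B).Coprime B.index) : (Nat.card ↥(A ⊔ B)).Coprime (A ⊔ B).index := by
  have h : Nat.card ↥(A ⊔ B) ∣ Nat.card A * Nat.card B := by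
    have h1 := Subgroup.relIndex_mul_relIndex ⊥ A (A ⊔ B) bot_le le_sup_left
    rw [Subgroup.relIndex_bot_left, Subgroup.relIndex_bot_left, Subgroup.relIndex_sup_left] at h1
    rw [← h1]
    exact mul_dvd_mul_left _ (Subgroup.relIndex_dvd_card A B)
  refine Nat.Coprime.coprime_dvd_left h (Nat.Coprime.mul_left ?_ ?_)
  · exact hA.coprime_dvd_right (Subgroup.index_dvd_of_le le_sup_left)
  · exact hB.coprime_dvd_right (Subgroup.index_dvd_of_le le_sup_right)

theorem fittingHall_coprime_index (M : Type u) [Group M] [Finite M] :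
    (Nat.card (fittingHall M)).Coprime (fittingHall M).index := by
  suffices h : ∀ s : Set (Subgroup M), s ⊆ {N | N.Normal ∧ (Nat.card N).Coprime N.index} →
      (sSup s).Normal ∧ (Nat.card ↥(sSup s)).Coprime (sSup s).index from
    (h _ (fun N hN => ⟨hN.1, hN.2.2⟩)).2
  intro s
  refine Set.Finite.induction_on (motive := fun s _ => s ⊆ {N : Subgroup M | N.Normal ∧
    (Nat.card N).Coprime N.index} → (sSup s).Normal ∧ (Nat.card ↥(sSup s)).Coprime (sSup s).index)
    s (Set.toFinite s) ?_ ?_
  · intro _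
    rw [sSup_empty]
    exact ⟨inferInstance, by simp⟩
  · intro a s _ _ ih hsub
    obtain ⟨h1, h2⟩ := ih ((Set.subset_insert _ _).trans hsub)
    obtain ⟨h3, h4⟩ := hsub (Set.mem_insert _ _)
    rw [sSup_insert]
    haveI : a.Normal := h3
    haveI : (sSup s).Normal := h1
    exact ⟨inferInstance, normalHall_sup h4 h2⟩

theorem fittingHallOf_le (M : Subgroup G) : fittingHallOf M ≤ M := Subgroup.map_subtype_le _

theorem subgroupOf_fittingHallOf (M : Subgroup G) : (fittingHallOf M).subgroupOf M = fittingHall M :=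
  Subgroup.comap_map_eq_self_of_injective M.subtype_injective _

theorem card_fittingHallOf (M : Subgroup G) : Nat.card (fittingHallOf M) = Nat.card (fittingHall M) :=
  Nat.card_congr ((fittingHall M).equivMapOfInjective _ M.subtype_injective).toEquiv.symm

theorem card_eq_of_isComplIn {A B M : Subgroup G} (h : IsComplIn A B M) :
    Nat.card A * Nat.card B = Nat.card M := by
  obtain ⟨hA, hB, hAB, hmul⟩ := h
  rw [← Nat.card_prod]
  refine Nat.card_eq_of_bijective (fun p : A × B => (⟨p.1 * p.2, M.mul_mem (hA p.1.2) (hB p.2.2)⟩ : M)) ⟨?_, ?_⟩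
  · intro p q hpq
    have e : (p.1 : G) * p.2 = q.1 * q.2 := congrArg Subtype.val hpq
    exact Subgroup.mul_injective_of_disjoint (disjoint_iff.mpr hAB) e
  · rintro ⟨m, hm⟩
    obtain ⟨a, ha, b, hb, rfl⟩ := hmul m hm
    exact ⟨(⟨a, ha⟩, ⟨b, hb⟩), rfl⟩

/-- A subgroup of `M` meeting `M_F` trivially has order coprime to that of `M_F`. -/
theorem coprime_fittingHallOf_of_inf_eq_bot [Finite G] {M U : Subgroup G} (hU : U ≤ M)
    (h : fittingHallOf M ⊓ U = ⊥) : (Nat.card (fittingHallOf M)).Coprime (Nat.card U) := by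
  have h1 : (fittingHallOf M).relIndex U = Nat.card U := by
    rw [← Subgroup.inf_relIndex_right, h, Subgroup.relIndex_bot_left]
  have h2 : (fittingHallOf M).relIndex U ∣ (fittingHall M).index := by
    rw [← Subgroup.relIndex_subgroupOf hU, subgroupOf_fittingHallOf]
    exact Subgroup.relIndex_dvd_index_of_normal _ _
  rw [card_fittingHallOf]
  exact (fittingHall_coprime_index M).coprime_dvd_right (h1 ▸ h2)

/-- If `c = h * u` centralizes `H`, with `h ∈ H`, `u ∈ U` and coprime orders, then `u` centralizes `H`. -/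
theorem mem_centralizer_of_mul_coprime {H U : Subgroup G} {h u : G} (hh : h ∈ H) (hu : u ∈ U)
    (hcop : (Nat.card H).Coprime (Nat.card U)) (hc : h * u ∈ Subgroup.centralizer (H : Set G)) :
    u ∈ Subgroup.centralizer (H : Set G) := by
  have hcomm : Commute h⁻¹ (h * u) :=
    Subgroup.mem_centralizer_iff.mp hc h⁻¹ (H.inv_mem hh)
  have hun : u ^ orderOf h ∈ Subgroup.centralizer (H : Set G) := by
    have e : u ^ orderOf h = (h⁻¹) ^ orderOf h * (h * u) ^ orderOf h := by
      rw [← hcomm.mul_pow, inv_mul_cancel_left]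
    rw [e, inv_pow, pow_orderOf_eq_one, inv_one, one_mul]
    exact Subgroup.pow_mem _ hc _
  obtain ⟨m, hm⟩ := exists_pow_eq_self_of_coprime
    (Nat.Coprime.coprime_dvd_left (Subgroup.orderOf_dvd_natCard H hh)
      (Nat.Coprime.coprime_dvd_right (Subgroup.orderOf_dvd_natCard U hu) hcop))
  rw [← hm]
  exact Subgroup.pow_mem _ hun _

/-- For type-P data, `M ∩ C(M_F) ≤ M_F (U ∩ C(M_F))`. -/
theorem typeP_centralizer_le [Finite G] {M W₁ U W₂ : Subgroup G} (hP : IsTypePWith M W₁ U W₂) :
    M ⊓ Subgroup.centralizer (fittingHallOf M : Set G) ≤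
      fittingHallOf M ⊔ (U ⊓ Subgroup.centralizer (fittingHallOf M : Set G)) := by
  intro c hc
  have hcD : c ∈ ⁅M, M⁆ := hP.fitting_le (hP.fitting_eq ▸ Subgroup.mem_sup_right hc)
  obtain ⟨-, hUD, hHU, hmul⟩ := hP.U_compl
  obtain ⟨h, hh, u, hu, rfl⟩ := hmul c hcD
  have hUM : U ≤ M := hUD.trans M.commutator_le_self
  exact Subgroup.mul_mem _ (Subgroup.mem_sup_left hh) (Subgroup.mem_sup_right ⟨hu,
    mem_centralizer_of_mul_coprime hh hu (coprime_fittingHallOf_of_inf_eq_bot hUM hHU) hc.2⟩)

theorem typeP_fitting_eq [Finite G] {M W₁ U W₂ : Subgroup G} (hP : IsTypePWith M W₁ U W₂) :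
    fittingOf M = fittingHallOf M ⊔ (U ⊓ Subgroup.centralizer (fittingHallOf M : Set G)) := by
  rw [← hP.fitting_eq]
  refine le_antisymm (sup_le le_sup_left (typeP_centralizer_le hP)) (sup_le_sup le_rfl ?_)
  exact inf_le_inf_right _ (hP.U_compl.2.1.trans M.commutator_le_self)

end Cfsg.Agent.OddOrder
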