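import Cfsg.Agent.S1416
import Cfsg.Agent.Lib.OddOrder.RankTwoSylow
import Cfsg.Agent.Lib.PGroup.MaximalElementarySquare
import Cfsg.Agent.Lib.OddOrder.FittingHall

/-!
# Bender–Glauberman 12.5: the structure of `M` at a prime of `τ₂(M)`
-/

set_option autoImplicit false
set_option linter.unusedSectionVars false

namespace Cfsg.Agent.OddOrder

open Cfsg
open Subgroup (centralizer normalizer zpowers)
open scoped Pointwise commutatorElement

universe u
variable {G : Type u} [Group G] [Finite G] {p : ℕ} [Fact p.Prime]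

/-- A square in `M` at a prime outside `σ(M)` makes `M` exceptional. -/
theorem exists_exc (hG : IsMinSimpleOddOrder G) {M A : Subgroup G} (hM : IsCoatom M) (hp : p ∉ sigma M)
    (hAM : A ≤ M) (hA : IsElementaryAbelian p A) (hc : Nat.card A = p ^ 2) :
    ∃ A₀ : Subgroup G, Exc p M A A₀ := by
  by_contra h
  refine hp ((S1416.result hG M hM p A ⟨hAM, hA, hc⟩).2 fun A₀ h0 h0c hN => h ?_).1
  exact ⟨A₀, hG, hM, hAM, hA, hc, h0, h0c, hN.1, hp⟩

/-- An invariant subgroup without fixed points is its own commutator. -/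
theorem commutator_eq_of_fpf {U A : Subgroup G} (hUA : A ≤ normalizer (U : Set G))
    (hcop : (Nat.card A).Coprime (Nat.card U)) (hs : Group.IsSolvable A)
    (h : U ⊓ centralizer (A : Set G) = ⊥) : ⁅U, A⁆ = U := by
  have h1 := Coprime.commutator_sup_centralizer hUA hcop (Or.inl hs)
  rwa [h, sup_bot_eq] at h1

theorem square_solvable {A : Subgroup G} (hA : IsElementaryAbelian p A) : Group.IsSolvable A := by
  haveI := hA.1
  exact Group.isSolvable_of_comm fun x y => mul_comm' x y

theorem square_inf_centralizer_le_normalizer {U A : Subgroup G} (hA : IsElementaryAbelian p A)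
    (hUA : A ≤ normalizer (U : Set G)) {a : G} (ha : a ∈ A) :
    A ≤ normalizer ((U ⊓ centralizer ({a} : Set G) : Subgroup G) : Set G) :=
  Coprime.le_normalizer_inf_of_le hUA fun b hb => Subgroup.le_normalizer
    (Subgroup.mem_centralizer_singleton_iff.2 (PGroup.mul_comm_of_elementaryAbelian hA hb ha))

theorem coprime_square {A U : Subgroup G} {q : ℕ} [Fact q.Prime] (hA : IsElementaryAbelian p A)
    (hU : IsPGroup q U) (hqp : q ≠ p) : (Nat.card A).Coprime (Nat.card U) :=
  coprime_of_isPGroup (PGroup.isPGroup_of_elementaryAbelian hA) fun hd => by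
    obtain ⟨k, hk⟩ := hU.exists_card_eq
    exact hqp ((Nat.prime_dvd_prime_iff_eq Fact.out Fact.out).1
      ((Fact.out : p.Prime).dvd_of_dvd_pow (hk ▸ hd))).symm

/-- `A` cannot be a `σ`-subgroup of `L` if it moves a `q`-subgroup, `q ∉ β(L)`. -/
theorem not_sigma_of_commutator (hG : IsMinSimpleOddOrder G) {L A W : Subgroup G} (hL : IsCoatom L)
    {q : ℕ} [Fact q.Prime] (hqp : q ≠ p) (hA : IsElementaryAbelian p A) (hAL : A ≤ L)
    (hW : IsPGroup q W) (hWL : W ≤ L) (hWc : ⁅W, A⁆ = W) (hW1 : W ≠ ⊥) (hqb : q ∉ beta L) :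
    p ∉ sigma L := by
  intro hps
  have hAp := PGroup.isPGroup_of_elementaryAbelian hA
  have hqL : q ∣ Nat.card L := by
    obtain ⟨k, hk⟩ := hW.exists_card_eq
    exact (dvd_pow_self q fun e => hW1 (Subgroup.card_eq_one.1 (by rw [hk, e, pow_zero]))).trans
      (hk ▸ Subgroup.card_dvd_of_le hWL)
  obtain ⟨S, hS⟩ := exists_sylow_map_ge hAp hAL
  have hAL' : A ≤ ⁅L, L⁆ := hS.trans ((sylow_le_sigmaCore hG hL hps S).trans (sigmaCore_le_commutator hG hL))
  obtain ⟨-, -, -, -, hkey⟩ := S1414.result hG L hL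
  obtain ⟨⟨P, N, hNn, hNP⟩, -, -⟩ := hkey q Fact.out hqL hqb
  have hAN : A ≤ N.map (⁅L, L⁆).subtype := le_map_of_not_dvd_index hAL' hAp fun hd => by
    obtain ⟨j, hj⟩ := P.2.exists_card_eq
    rw [hNP.symm.index_eq_card, hj] at hd
    exact hqp ((Nat.prime_dvd_prime_iff_eq Fact.out Fact.out).1 ((Fact.out : p.Prime).dvd_of_dvd_pow hd)).symm
  have hWL' : W ≤ ⁅L, L⁆ := hWc ▸ Subgroup.commutator_mono hWL hAL
  have hWN : W ≤ N.map (⁅L, L⁆).subtype := hWc ▸ (Subgroup.commutator_mono hWL' hAN).trans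
    (Subgroup.le_normalizer_iff_commutator_le_right.1 (le_normalizer_map_of_normal N))
  refine hW1 (le_bot_iff.1 ((le_inf le_rfl hWN).trans (le_of_eq ?_)))
  obtain ⟨k, hk⟩ := hW.exists_card_eq
  refine Coprime.disjoint_of_coprime_card (hk ▸ ?_)
  rw [Subgroup.card_map_of_injective (⁅L, L⁆).subtype_injective, ← hNP.index_eq_card]
  exact ((Fact.out : q.Prime).coprime_iff_not_dvd.2 P.not_dvd_index).pow_left k

namespace Exc

variable {M A A₀ : Subgroup G} (h : Exc p M A A₀)
include h

/-- BG 12.5 (e): `M_σ` meets every other maximal subgroup over `A` trivially. -/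
theorem sigmaCore_inf_eq_bot {L : Subgroup G} (hL : IsCoatom L) (hne : L ≠ M) (hAL : A ≤ L) :
    sigmaCore M ⊓ L = ⊥ := by
  have hG := h.minSimple
  have hAp := PGroup.isPGroup_of_elementaryAbelian h.elem
  haveI := h.elem.1
  have hmax := h.setting.hmax
  have hAK : A ≤ normalizer (sigmaCore M : Set G) := h.le.trans (le_normalizer_sigmaCore M)
  by_contra hbot
  set X := sigmaCore M ⊓ L with hX
  obtain ⟨q, hq, hd⟩ := Nat.exists_prime_and_dvd (n := Nat.card X) (fun e => hbot (Subgroup.card_eq_one.1 e))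
  haveI := Fact.mk hq
  have hqs : q ∈ Cfsg.sigma M :=
    isPiGrp_piCoreOf (Cfsg.sigma M) M q hq (hd.trans (Subgroup.card_dvd_of_le inf_le_left))
  have hqp : q ≠ p := fun e => h.sigma (e ▸ hqs)
  have hcop := h.setting.coprime_sigmaCore hAp
  obtain ⟨W₀, hW₀A⟩ := Coprime.exists_invariant_sylow (A := A) (K := X)
    (Coprime.le_normalizer_inf_of_le hAK (hAL.trans Subgroup.le_normalizer))
    (hcop.coprime_dvd_right (Subgroup.card_dvd_of_le inf_le_left)) (Or.inl (square_solvable h.elem)) q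
  set W := (W₀ : Subgroup X).map X.subtype with hWdef
  have hWX : W ≤ X := Subgroup.map_subtype_le _
  have hWp : IsPGroup q W := W₀.2.map _
  have hW1 : W ≠ ⊥ := fun e =>
    W₀.ne_bot_of_dvd_card hd ((Subgroup.map_eq_bot_iff_of_injective _ X.subtype_injective).1 e)
  obtain ⟨Q, hWQ, hQ, hAQ⟩ := exists_sylow_sigmaCore_ge hG h.coatom hqs hAK hcop (hWX.trans inf_le_left) hWp hW₀A
  have hWL : W ≤ L := hWX.trans inf_le_right
  have hfpf : ∀ {U : Subgroup G}, U ≤ sigmaCore M → U ⊓ centralizer (A : Set G) = ⊥ := fun {U} hU =>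
    le_bot_iff.1 ((inf_le_inf_right _ hU).trans h.sigmaCore_inf_centralizer.le)
  have hWc : ⁅W, A⁆ = W := commutator_eq_of_fpf hW₀A (coprime_square h.elem hWp hqp)
    (square_solvable h.elem) (hfpf (hWX.trans inf_le_left))
  have hCAL : centralizer (A : Set G) ≤ L := (S1416.result hG L hL p A ⟨hAL, h.elem, h.card⟩).1
  have hQM : (Q : Subgroup G) ≤ M := hQ.trans (sigmaCore_le M)
  have link : ∀ Q' : Sylow q G, W ≤ (Q' : Subgroup G) → A ≤ normalizer ((Q' : Subgroup G) : Set G) →
      ∃ k ∈ L, (Q' : Subgroup G) = MulAut.conj k • (Q : Subgroup G) := by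
    intro Q' hW' hn
    obtain ⟨k, hk, hk'⟩ := exists_centralizer_conj hG h.elem h.card hmax hqp Q Q' hAQ hn hL.1 hAL
      (fun e => hW1 (le_bot_iff.1 (e ▸ le_inf hWL hWQ))) (fun e => hW1 (le_bot_iff.1 (e ▸ le_inf hWL hW')))
    exact ⟨k, hCAL hk, hk'⟩
  have hps : p ∉ Cfsg.sigma L := by
    by_cases hqb : q ∈ beta L
    · intro _
      haveI := isSolvable_of_coatom hG hL
      obtain ⟨hhall, hhall', -⟩ := S1414.result hG L hL
      have hpb : p ∉ beta L := fun hb => not_ideal_of_square h.elem h.card hmax hb.2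
      have hWK : W ≤ piCoreOf (beta L) L := le_map_of_not_dvd_index hWL hWp fun hd => hhall.2.2 q Fact.out hqb (by
        rwa [Subgroup.relIndex, show (piCoreOf (beta L) L).subgroupOf L = piCore (beta L) ↥L from
          Subgroup.comap_map_eq_self_of_injective L.subtype_injective _])
      obtain ⟨Q', hW', hQ', hn⟩ := exists_sylow_invariant_ge (q := q)
        (Coprime.isSolvable_of_le (piCoreOf_le _ L) inferInstance) (hAL.trans (le_normalizer_piCoreOf _ L))
        (coprime_of_isPGroup hAp fun hd => hpb (isPiGrp_piCoreOf (beta L) L p Fact.out hd))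
        (hhall'.2 q Fact.out hqb) hWK hWp hW₀A
      obtain ⟨k, hk, hk'⟩ := link Q' hW' hn
      have hQL : (Q : Subgroup G) ≤ L := by
        intro y hy
        have h2 := piCoreOf_le _ L (hQ' (hk'.ge (Subgroup.smul_mem_pointwise_smul y (MulAut.conj k) _ hy)))
        rw [MulAut.smul_def, MulAut.conj_apply] at h2
        have h3 := L.mul_mem (L.mul_mem (L.inv_mem hk) h2) hk
        rwa [show k⁻¹ * (k * y * k⁻¹) * k = y by group] at h3
      refine hne (eq_of_rank_three hG (r := q) h.coatom hQM (fun hr => ?_) hL hQL)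
      refine not_pRankLE_sylow hqb.1.2 (Q.subtype hQL) ?_
      rw [Sylow.coe_subtype, Subgroup.map_subgroupOf_eq_of_le hQL]
      exact hr
    · exact not_sigma_of_commutator hG hL hqp h.elem hAL hWp hWL hWc hW1 hqb
  obtain ⟨A₁, hE⟩ := exists_exc hG hL hps hAL h.elem h.card
  by_cases hqL : q ∈ Cfsg.sigma L
  · obtain ⟨Q', hW', hQ', hn⟩ := exists_sylow_sigmaCore_ge hG hL hqL (hAL.trans (le_normalizer_sigmaCore L))
      (hE.setting.coprime_sigmaCore hAp) (le_sigmaCore_of_isPiGrp hG hL hWL fun r hr hd => by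
        obtain ⟨k, hk⟩ := hWp.exists_card_eq
        exact (Nat.prime_dvd_prime_iff_eq hr Fact.out).1 (hr.dvd_of_dvd_pow (hk ▸ hd)) ▸ hqL) hWp hW₀A
    obtain ⟨D, -, hD, hQD, hDn⟩ := exists_normal_pgroup_ge (M := L) (C := sigmaCore L)
      hE.isNilpotent_sigmaCore (le_normalizer_sigmaCore L) hQ' Q'.2
    rw [Q'.is_maximal' hD hQD] at hDn
    obtain ⟨k, hk, hk'⟩ := link Q' hW' hn
    have hQQ : (Q : Subgroup G) = (Q' : Subgroup G) := by
      rw [← Coprime.conj_smul_eq_self_of_mem (inv_mem (hDn hk) : k⁻¹ ∈ normalizer ((Q' : Subgroup G) : Set G)),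
        hk', Coprime.conj_smul_smul, inv_mul_cancel, map_one, one_smul]
    exact hne (eq_of_coatom_le hL h.coatom (hDn.trans (hQQ ▸ normalizer_sylow_le hqs Q hQM)))
  -- `q ∉ σ(L)`
  set U := (Q : Subgroup G) ⊓ L with hU
  have hUA : A ≤ normalizer (U : Set G) := Coprime.le_normalizer_inf_of_le hAQ (hAL.trans Subgroup.le_normalizer)
  have hUp : IsPGroup q U := Q.2.to_le inf_le_left
  have hUf : U ≤ fixedPart q L := by
    refine inf_eq_left.1 (Coprime.eq_of_forall_centralizer_le (square_not_cyclic h.elem h.card) hUA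
      (coprime_square h.elem hUp hqp) (inf_le_left : U ⊓ fixedPart q L ≤ U) fun a ha ha1 => le_inf inf_le_left ?_)
    set V := U ⊓ centralizer ({a} : Set G)
    have hVA := square_inf_centralizer_le_normalizer h.elem hUA ha
    exact hE.le_fixedPart hqp hqL (hUp.to_le inf_le_left) hVA (inf_le_left.trans inf_le_right) ha ha1 inf_le_right
      (commutator_eq_of_fpf hVA (coprime_square h.elem (hUp.to_le inf_le_left) hqp) (square_solvable h.elem)
        (hfpf (inf_le_left.trans (inf_le_left.trans hQ))))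
  have hU1 : U ≠ ⊥ := fun e => hW1 (le_bot_iff.1 (e ▸ le_inf hWQ hWL))
  have hUc : ⁅U, A⁆ = U := commutator_eq_of_fpf hUA (coprime_square h.elem hUp hqp) (square_solvable h.elem)
    (hfpf (inf_le_left.trans hQ))
  obtain ⟨hLU, -, -, -⟩ := hE.core' hqp hqL hUp hUA inf_le_right hUf hUc hU1
  have hNU : normalizer (U : Set G) = L := normalizer_eq_of_normal hG hL inf_le_right hLU hU1
  have hQU : U = (Q : Subgroup G) := by
    by_contra e
    have hlt := lt_inf_normalizer Q.2.isNilpotent (lt_of_le_of_ne inf_le_left e : U < (Q : Subgroup G))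
    rw [hNU] at hlt
    exact hlt.ne rfl
  rw [hQU] at hLU
  exact hne (eq_of_coatom_le hL h.coatom (hLU.trans (normalizer_sylow_le hqs Q hQM)))

/-- BG 12.5 (c): `A` centralises every invariant `q`-subgroup, `q ∉ σ(M)`, `q ≠ p`. -/
theorem le_centralizer_invariant {q : ℕ} [Fact q.Prime] (hqp : q ≠ p) (hq : q ∉ Cfsg.sigma M)
    {U : Subgroup G} (hU : IsPGroup q U) (hUM : U ≤ M) (hUA : A ≤ normalizer (U : Set G)) :
    U ≤ centralizer (A : Set G) := by
  have hG := h.minSimple
  haveI := h.elem.1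
  refine inf_eq_left.1 (Coprime.eq_of_forall_centralizer_le (square_not_cyclic h.elem h.card) hUA
    (coprime_square h.elem hU hqp) inf_le_left fun a ha ha1 => le_inf inf_le_left ?_)
  by_contra hnot
  set V := U ⊓ centralizer ({a} : Set G) with hV
  have hVA : A ≤ normalizer (V : Set G) := square_inf_centralizer_le_normalizer h.elem hUA ha
  have hVp : IsPGroup q V := hU.to_le inf_le_left
  set W := ⁅V, A⁆ with hWdef
  have hW1 : W ≠ ⊥ := fun e =>
    hnot (Subgroup.le_centralizer_iff.1 (Coprime.le_centralizer_iff_commutator_eq_bot.2 e))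
  have hWA : A ≤ normalizer (W : Set G) := Subgroup.normalizer_commutator_ge_right V A
  have hWV : W ≤ V := Coprime.commutator_le_left_of_le_normalizer hVA
  have hWp : IsPGroup q W := hVp.to_le hWV
  have hWc : ⁅W, A⁆ = W := Coprime.commutator_commutator_eq hVA (coprime_square h.elem hVp hqp)
    (Or.inl (square_solvable h.elem))
  have hWM : W ≤ M := hWV.trans (inf_le_left.trans hUM)
  have hWa : W ≤ centralizer ({a} : Set G) := hWV.trans inf_le_right
  obtain ⟨hMW, hWC, -, B₀, hB0, -, -, hS⟩ :=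
    h.core' hqp hq hWp hWA hWM (h.le_fixedPart hqp hq hWp hWA hWM ha ha1 hWa hWc) hWc hW1
  obtain ⟨S, hUS, hAS⟩ := h.exists_invariant_sylow_compl hqp hq hWp hWM hWc hW1 hU hUM hUA
  obtain ⟨B, hB, hBT, hmem, hcen⟩ := hS S
  set T := (S : Subgroup M).map M.subtype with hT
  have hTp : IsPGroup q T := S.2.map _
  have hTM : T ≤ M := Subgroup.map_subtype_le _
  have hWT : W ≤ T := (hWV.trans inf_le_left).trans hUS
  -- `A` has a fixed point on `T`
  have hCT : T ⊓ centralizer (A : Set G) ≠ ⊥ := by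
    intro hbot
    have hTf : T ≤ fixedPart q M := by
      refine inf_eq_left.1 (Coprime.eq_of_forall_centralizer_le (square_not_cyclic h.elem h.card) hAS
        (coprime_square h.elem hTp hqp) inf_le_left fun b hb hb1 => le_inf inf_le_left ?_)
      have hA' := square_inf_centralizer_le_normalizer h.elem hAS hb
      exact h.le_fixedPart hqp hq (hTp.to_le inf_le_left) hA' (inf_le_left.trans hTM) hb hb1 inf_le_right
        (commutator_eq_of_fpf hA' (coprime_square h.elem (hTp.to_le inf_le_left) hqp) (square_solvable h.elem)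
          (le_bot_iff.1 ((inf_le_inf_right _ inf_le_left).trans hbot.le)))
    obtain ⟨-, -, hTc, -⟩ := h.core' hqp hq hTp hAS hTM hTf
      (commutator_eq_of_fpf hAS (coprime_square h.elem hTp hqp) (square_solvable h.elem) hbot)
      (fun e => hW1 (le_bot_iff.1 (e ▸ hWT)))
    exact square_not_cyclic hB.elem hB.card
      (isCyclic_of_injective (Subgroup.inclusion hBT) (Subgroup.inclusion_injective hBT))
  obtain ⟨z, ⟨hzT, hzA⟩, hz1, hzq, -⟩ := exists_central_pow_eq_one (hTp.to_le inf_le_left) hCT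
  have hzW : z ∉ W := fun hz => hz1 (Subgroup.mem_bot.1 (hWC ▸ ⟨hz, hzA⟩ : z ∈ (⊥ : Subgroup G)))
  obtain ⟨b, hb, hb1, hbgen⟩ := hB.exists_gen
  have hBeq : zpowers b ⊔ zpowers z = B :=
    square_eq_sup hB.elem hB.card (hB.line_le hb) hb1 (hmem z hzT hzq) fun e => hzW (hB0 (hbgen ▸ e))
  have haB : B ≤ centralizer (zpowers a : Set G) := by
    rw [Subgroup.zpowers_eq_closure a, Subgroup.centralizer_closure, ← hBeq]
    exact sup_le (hbgen ▸ hB0.trans hWa)
      (Subgroup.zpowers_le.2 (Subgroup.centralizer_le (Set.singleton_subset_iff.2 ha) hzA))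
  have haT : zpowers a ≤ centralizer (T : Set G) := by
    refine Coprime.le_centralizer_of_fix_pow_eq_one hB.setting.ne_two _ _ hTp
      ((Subgroup.zpowers_le.2 ha).trans hAS) ?_ fun y hy hyq => ?_
    · rw [Nat.card_zpowers, orderOf_eq_prime (h.elem.2 a ha) ha1]
      exact (Nat.coprime_primes Fact.out Fact.out).2 (Ne.symm hqp)
    · exact Subgroup.zpowers_le.2 (Subgroup.mem_centralizer_singleton_iff.2
        (Subgroup.mem_centralizer_iff.1 (haB (hmem y hy hyq)) a (Subgroup.mem_zpowers a)))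
  have hac : Nat.card (zpowers a) = p := by rw [Nat.card_zpowers, orderOf_eq_prime (h.elem.2 a ha) ha1]
  by_cases hNa : normalizer (zpowers a : Set G) ≤ M
  · have hE' : Exc p M A (zpowers a) :=
      ⟨hG, h.coatom, h.le, h.elem, h.card, Subgroup.zpowers_le.2 ha, hac, hNa, h.sigma⟩
    refine hq ⟨Fact.out, hB.setting.dvd_card, S, hE'.normalizer_le_of_centralizer T hAS haT ?_
      ((Subgroup.centralizer_le hBT).trans hB.centralizer_le)⟩
    intro hAC
    refine hW1 ?_
    rw [← hWc, ← Coprime.le_centralizer_iff_commutator_eq_bot]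
    exact hAC.trans (Subgroup.centralizer_le hWT)
  have hCaN : centralizer ({a} : Set G) ≤ normalizer (zpowers a : Set G) := by
    rw [← Subgroup.centralizer_closure, ← Subgroup.zpowers_eq_closure]
    exact Subgroup.centralizer_le_normalizer _
  have hNtop : normalizer (zpowers a : Set G) ≠ ⊤ := normalizer_ne_top_of_pgroup hG
    (IsPGroup.of_card (n := 1) (by rw [hac, pow_one])) fun e => ha1 (Subgroup.zpowers_eq_bot.1 e)
  obtain ⟨L, hL, hNL⟩ := exists_coatom_ge hNtop
  have hne : L ≠ M := fun e => hNa (e ▸ hNL)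
  have hAL : A ≤ L := fun b hb => hNL (hCaN (Subgroup.mem_centralizer_singleton_iff.2
    (PGroup.mul_comm_of_elementaryAbelian h.elem hb ha)))
  have hWL : W ≤ L := hWa.trans (hCaN.trans hNL)
  have hzL : z ∈ L := hNL (hCaN (Subgroup.centralizer_le (Set.singleton_subset_iff.2 ha) hzA))
  have hpL : p ∉ Cfsg.sigma L := not_sigma_of_commutator hG hL hqp h.elem hAL hWp hWL hWc hW1
    fun hb => not_ideal_of_square hB.elem hB.card hB.setting.hmax hb.2
  obtain ⟨A₁, hE⟩ := exists_exc hG hL hpL hAL h.elem h.card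
  by_cases hqL : q ∈ Cfsg.sigma L
  · refine hz1 (Subgroup.mem_bot.1 (hE.sigmaCore_inf_centralizer ▸ (⟨?_, hzA⟩ :
      z ∈ sigmaCore L ⊓ centralizer (A : Set G))))
    refine le_sigmaCore_of_isPiGrp hG hL (Subgroup.zpowers_le.2 hzL) (fun r hr hd => ?_) (Subgroup.mem_zpowers z)
    rw [Nat.card_zpowers, orderOf_eq_prime hzq hz1] at hd
    exact (Nat.prime_dvd_prime_iff_eq hr Fact.out).1 hd ▸ hqL
  · obtain ⟨hLW, -, -, -⟩ := hE.core' hqp hqL hWp hWA hWL
      (hE.le_fixedPart hqp hqL hWp hWA hWL ha ha1 hWa hWc) hWc hW1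
    exact hne ((normalizer_eq_of_normal hG hL hWL hLW hW1).symm.trans
      (normalizer_eq_of_normal hG h.coatom hWM hMW hW1))

/-- `A` is normal in every complement of `M_σ` that contains it. -/
theorem complement_le_normalizer {E : Subgroup G} (hE : IsComplIn E (sigmaCore M) M) (hAE : A ≤ E) :
    E ≤ normalizer (A : Set G) := by
  have hAp := PGroup.isPGroup_of_elementaryAbelian h.elem
  have hAC : A ≤ centralizer (fittingOf E : Set G) := by
    refine Subgroup.le_centralizer_iff.1 (fittingOf_le_of_forall fun r hr => ?_)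
    haveI := Fact.mk hr
    have hrM : pOf r E ≤ M := (pOf_le E).trans hE.1
    have hrA : A ≤ normalizer (pOf r E : Set G) := hAE.trans (le_normalizer_pOf E)
    rcases eq_or_ne r p with rfl | hne
    · obtain ⟨S, hS⟩ := exists_sylow_map_ge (X := pOf r E ⊔ A)
        ((isPGroup_pOf E).to_sup_of_normal_left' hAp hrA) (sup_le hrM h.le)
      exact le_sup_left.trans (hS.trans (h.le_centralizer_of_sylow S (le_sup_right.trans hS)))
    · rcases eq_or_ne (pOf r E) ⊥ with e | e
      · rw [e]; exact bot_le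
      · refine h.le_centralizer_invariant hne ?_ (isPGroup_pOf E) hrM hrA
        refine not_mem_sigma_of_compl h.minSimple h.coatom hE hr ?_
        obtain ⟨k, hk⟩ := (isPGroup_pOf (r := r) E).exists_card_eq
        exact ((dvd_pow_self r fun e' => e (Subgroup.card_eq_one.1 (by rw [hk, e', pow_zero]))).trans
          (hk ▸ Subgroup.card_dvd_of_le (pOf_le E)))
  haveI : Group.IsSolvable E := Coprime.isSolvable_of_le hE.1 (isSolvable_of_coatom h.minSimple h.coatom)
  have hAF : A ≤ pOf p E := fun a ha => mem_pOf (k := 1)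
    (inf_centralizer_fittingOf_le E ⟨hAE ha, hAC ha⟩) (by rw [pow_one]; exact h.elem.2 a ha)
  obtain ⟨S, hS⟩ := exists_sylow_map_ge (isPGroup_pOf (r := p) E) ((pOf_le E).trans hE.1)
  have e : omegaOne p (pOf p E) = A := le_antisymm
    (PGroup.omegaOne_le_iff.2 fun x hx hxp => h.mem_of_sylow S (hAF.trans hS) (hS hx) hxp)
    fun a ha => PGroup.mem_omegaOne_of_pow_eq_one (hAF ha) (h.elem.2 a ha)
  have h1 := (le_normalizer_pOf (r := p) E).trans (normalizer_le_normalizer_omegaOne p (pOf p E))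
  rwa [e] at h1

/-- `C_R(A) = A X` with `X` abelian centralising `A`, the elements of order `p` of `X` central in `R`. -/
theorem exists_decomp (R : Sylow p G) (hAR : A ≤ (R : Subgroup G)) :
    ∃ X : Subgroup G, (∀ t ∈ X, ∀ s ∈ X, Commute t s) ∧ (∀ t ∈ X, ∀ a ∈ A, Commute a t) ∧
      (∀ g ∈ (R : Subgroup G) ⊓ centralizer (A : Set G), ∃ a ∈ A, ∃ t ∈ X, a * t = g) ∧
      ∀ t ∈ X, t ^ p = 1 → ∀ r ∈ (R : Subgroup G), Commute r t := by
  have hmax := h.setting.hmax
  by_cases hr : PRankLE p 2 (R : Subgroup G)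
  · rcases sylow_rankTwo_structure h.minSimple R hr with hab | ⟨E, C, hsup, hcomm, -, -, hexp, hcyc, hcl⟩
    · have hc : ∀ t ∈ (R : Subgroup G), ∀ s ∈ (R : Subgroup G), Commute t s := fun t ht s hs =>
        PGroup.mul_comm_of_isMulCommutative hab ht hs
      exact ⟨R, hc, fun t ht a ha => hc a (hAR ha) t ht, fun g hg => ⟨1, one_mem _, g, hg.1, one_mul g⟩,
        fun t ht _ r hr => hc r hr t ht⟩
    · have hCn : C ≤ normalizer (E : Set G) := fun c hc => Subgroup.centralizer_le_normalizer _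
        (Subgroup.mem_centralizer_iff.2 fun e he => hcomm e he c hc)
      have hep : ∀ e ∈ E, e ^ p = 1 := fun e he => by
        have h1 := Monoid.pow_exponent_eq_one (⟨e, he⟩ : E)
        rw [hexp] at h1
        exact congrArg Subtype.val h1
      have hdec : ∀ g ∈ (R : Subgroup G), ∃ c ∈ C, ∃ e ∈ E, c * e = g := fun g hg =>
        (Coprime.mem_sup_iff_of_le_normalizer hCn).1 (by rw [sup_comm, hsup]; exact hg)
      have hAE : A ≤ E := by
        intro a ha
        obtain ⟨c, hc, e, he, rfl⟩ := hdec a (hAR ha)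
        refine E.mul_mem ?_ he
        have h1 : c ^ p = 1 := by
          have h2 := h.elem.2 _ ha
          rwa [Commute.mul_pow (hcomm e he c hc).symm, hep e he, mul_one] at h2
        exact (hcl.le (Subgroup.subset_closure ⟨hc, h1⟩)).1
      have hCc : ∀ t ∈ C, ∀ s ∈ C, Commute t s := fun t ht s hs =>
        congrArg Subtype.val (hcyc.commGroup.mul_comm (⟨t, ht⟩ : C) ⟨s, hs⟩)
      refine ⟨C, hCc, fun t ht a ha => hcomm a (hAE ha) t ht, fun g hg => ?_, fun t ht htp r hr => ?_⟩
      · obtain ⟨c, hc, e, he, rfl⟩ := hdec g hg.1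
        have hcc : c ∈ centralizer (A : Set G) :=
          Subgroup.mem_centralizer_iff.2 fun a ha => hcomm a (hAE ha) c hc
        refine ⟨e, hmax e ?_ (hep e he), c, hc, hcomm e he c hc⟩
        simpa using Subgroup.mul_mem _ (Subgroup.inv_mem _ hcc) hg.2
      · obtain ⟨c, hc, e, he, rfl⟩ := hdec r hr
        exact (hCc c hc t ht).mul_left
          (Subgroup.mem_centralizer_iff.1 (hcl.le (Subgroup.subset_closure ⟨ht, htp⟩)).2 e he)
  · set R' := (R : Subgroup G)
    have hp := h.setting.ne_two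
    have hE' : IsElementaryAbelian p (A.subgroupOf R') :=
      PGroup.isElementaryAbelian_of_forall
        (fun a ha b hb => Subtype.ext (PGroup.mul_comm_of_elementaryAbelian h.elem ha hb))
        fun a ha => Subtype.ext (h.elem.2 _ ha)
    obtain ⟨-, -, -, hidx, -, e, heE, hep, heT, hfix⟩ := MaxElementarySquare.exists_data hp R.2 hr hE'
      (by rw [Coprime.card_subgroupOf hAR, h.card]) fun B hB hle => le_antisymm (fun (b : R') hb => show (b : G) ∈ A from hmax (b : G)
        (Subgroup.mem_centralizer_iff.2 fun a ha => congrArg Subtype.val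
          (PGroup.mul_comm_of_elementaryAbelian hB (hle (show (⟨a, hAR ha⟩ : R') ∈ A.subgroupOf R' from ha)) hb))
        (congrArg Subtype.val (hB.2 b hb))) hle
    haveI := MaxElementarySquare.centralizer_omegaTwo_characteristic (p := p) (R := R')
    set T := centralizer ((MaxElementarySquare.omegaTwo p R' : Subgroup R') : Set R') with hT
    have htop : T ⊔ zpowers e = ⊤ := (PGroup.isCoatom_of_index_eq hidx).2 _ (lt_of_le_of_ne le_sup_left fun e' =>
      heT (e'.symm ▸ Subgroup.mem_sup_right (Subgroup.mem_zpowers e)))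
    set CA := centralizer ((A.subgroupOf R' : Subgroup R') : Set R') with hCA
    set X := T ⊓ CA with hX
    have hcen : ∀ x ∈ X, x ^ p = 1 → x ∈ Subgroup.center R' := fun x hx hxp =>
      (MaxElementarySquare.mem_omegaCenter.1 (hfix x hx.1 hxp
        (Subgroup.mem_centralizer_iff.1 hx.2 e heE).symm)).1
    have hXc : IsCyclic X := IsolatedP.isCyclic_of_pRankLE_one hp (R.2.to_subgroup X) fun H hH hHp => by
      obtain ⟨hZ, -⟩ := MaxElementarySquare.exists_data hp R.2 hr hE'
        (by rw [Coprime.card_subgroupOf hAR, h.card]) fun B hB hle => le_antisymm (fun (b : R') hb => show (b : G) ∈ A from hmax (b : G)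
          (Subgroup.mem_centralizer_iff.2 fun a ha => congrArg Subtype.val
            (PGroup.mul_comm_of_elementaryAbelian hB (hle (show (⟨a, hAR ha⟩ : R') ∈ A.subgroupOf R' from ha)) hb))
          (congrArg Subtype.val (hB.2 b hb))) hle
      rw [pow_one, ← hZ, ← Subgroup.card_map_of_injective X.subtype_injective]
      refine Subgroup.card_le_of_le ?_
      rintro _ ⟨w, hw, rfl⟩
      exact hfix w w.2.1 (congrArg Subtype.val (hHp w hw)) (Subgroup.mem_centralizer_iff.1 w.2.2 e heE).symm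
    refine ⟨X.map R'.subtype, ?_, ?_, fun g hg => ?_, ?_⟩
    · rintro _ ⟨t, ht, rfl⟩ _ ⟨s, hs, rfl⟩
      exact congrArg (fun w : X => ((w : R') : G)) (hXc.commGroup.mul_comm (⟨t, ht⟩ : X) ⟨s, hs⟩)
    · rintro _ ⟨t, ht, rfl⟩ a ha
      exact congrArg Subtype.val (Subgroup.mem_centralizer_iff.1 ht.2 ⟨a, hAR ha⟩ ha)
    · have hgC : (⟨g, hg.1⟩ : R') ∈ CA := Subgroup.mem_centralizer_iff.2 fun a ha =>
        Subtype.ext (Subgroup.mem_centralizer_iff.1 hg.2 a ha)
      obtain ⟨_, ⟨i, rfl⟩, t, ht, htg⟩ := (Coprime.mem_sup_iff_of_le_normalizer (H := zpowers e) (N := T)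
        PLengthCommutator.le_normalizer_of_normal).1
        (show (⟨g, hg.1⟩ : R') ∈ zpowers e ⊔ T by rw [sup_comm, htop]; exact Subgroup.mem_top _)
      have hei : e ^ i ∈ CA := Subgroup.mem_centralizer_iff.2 fun a ha =>
        PGroup.mul_comm_of_elementaryAbelian hE' ha (Subgroup.zpow_mem _ heE i)
      have htC : t ∈ CA := by
        have := CA.mul_mem (CA.inv_mem hei) hgC
        rwa [← htg, inv_mul_cancel_left] at this
      exact ⟨((e ^ i : R') : G), Subgroup.zpow_mem _ heE i, t, ⟨t, ⟨ht, htC⟩, rfl⟩, congrArg Subtype.val htg⟩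
    · rintro _ ⟨t, ht, rfl⟩ htp r hr'
      exact congrArg Subtype.val (Subgroup.mem_center_iff.1 (hcen t ht (Subtype.ext htp)) ⟨r, hr'⟩)

/-- BG 12.5 (b): the Sylow `p`-subgroups of `M` are abelian. -/
theorem sylow_comm (S : Sylow p M) (hAS : A ≤ (S : Subgroup M).map M.subtype) :
    ∀ x ∈ (S : Subgroup M).map M.subtype, ∀ y ∈ (S : Subgroup M).map M.subtype, x * y = y * x := by
  set P := (S : Subgroup M).map M.subtype with hP
  obtain ⟨R, hPR⟩ := (S.2.map M.subtype : IsPGroup p P).exists_le_sylow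
  have hPC : P ≤ (R : Subgroup G) ⊓ centralizer (A : Set G) := le_inf hPR (h.le_centralizer_of_sylow S hAS)
  obtain ⟨X, hXX, hXA, hdec, -⟩ := h.exists_decomp R (hAS.trans hPR)
  intro x hx y hy
  obtain ⟨a, ha, t, ht, rfl⟩ := hdec x (hPC hx)
  obtain ⟨b, hb, s, hs, rfl⟩ := hdec y (hPC hy)
  exact (((show Commute a b from PGroup.mul_comm_of_elementaryAbelian h.elem ha hb).mul_right (hXA s hs a ha)).mul_left
    ((hXA t ht b hb).symm.mul_right (hXX t ht s hs))).eq

/-- A set centralised by `A` and fixing an element of `M_σ#` has its centraliser only in `M`. -/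
theorem unique_of_fixed {X : Set G} (hX : centralizer X ≠ ⊤) (hAX : A ≤ centralizer X) {y : G}
    (hy : y ∈ sigmaCore M) (hy1 : y ≠ 1) (hyX : y ∈ centralizer X) :
    centralizer X ≤ M ∧ ∀ L : Subgroup G, IsCoatom L → centralizer X ≤ L → L = M := by
  have key : ∀ L : Subgroup G, IsCoatom L → centralizer X ≤ L → L = M := fun L hL hle => by
    by_contra hne
    refine hy1 (Subgroup.mem_bot.1 ?_)
    rw [← h.sigmaCore_inf_eq_bot hL hne (hAX.trans hle)]
    exact ⟨hy, hle hyX⟩
  exact ⟨le_of_forall_coatom hX key, key⟩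

/-- The normalizer of `A` is not contained in `M`. -/
theorem not_normalizer_le : ¬ normalizer (A : Set G) ≤ M := by
  intro hle
  obtain ⟨S, hAS⟩ := h.exists_sylow
  obtain ⟨g, hgP, hg⟩ := h.exists_mem_normalizer S
  set P := (S : Subgroup M).map M.subtype
  have e : omegaOne p P = A := le_antisymm
    (PGroup.omegaOne_le_iff.2 fun x hx hxp => h.mem_of_sylow S hAS hx hxp)
    fun a ha => PGroup.mem_omegaOne_of_pow_eq_one (hAS ha) (h.elem.2 a ha)
  have h1 := normalizer_le_normalizer_omegaOne p P hgP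
  rw [e] at h1
  exact hg (hle h1)

/-- A complement of `M_σ` containing `A` is the normalizer of `A` in `M`. -/
theorem inf_normalizer_eq {E : Subgroup G} (hE : IsComplIn E (sigmaCore M) M) (hAE : A ≤ E) :
    M ⊓ normalizer (A : Set G) = E := by
  refine le_antisymm ?_ (le_inf hE.1 (h.complement_le_normalizer hE hAE))
  rintro m ⟨hm, hmA⟩
  obtain ⟨e, he, k, hk, rfl⟩ := hE.2.2.2 m hm
  have hkA : k ∈ normalizer (A : Set G) := by
    have := Subgroup.mul_mem _ (Subgroup.inv_mem _ (h.complement_le_normalizer hE hAE he)) hmA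
    rwa [inv_mul_cancel_left] at this
  have hdis : A ⊓ sigmaCore M = ⊥ := Coprime.disjoint_of_coprime_card
    (h.setting.coprime_sigmaCore (PGroup.isPGroup_of_elementaryAbelian h.elem))
  have hkc : k ∈ sigmaCore M ⊓ centralizer (A : Set G) := by
    refine ⟨hk, Subgroup.mem_centralizer_iff.2 fun a ha => ?_⟩
    have h1 : k * a * k⁻¹ * a⁻¹ ∈ A ⊓ sigmaCore M := by
      refine ⟨A.mul_mem ((Subgroup.mem_normalizer_iff.1 hkA a).1 ha) (A.inv_mem ha), ?_⟩
      have h2 : a * k⁻¹ * a⁻¹ ∈ sigmaCore M :=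
        (Subgroup.mem_normalizer_iff.1 (le_normalizer_sigmaCore M (h.le ha)) k⁻¹).1 (inv_mem hk)
      simpa [mul_assoc] using mul_mem hk h2
    rw [hdis, Subgroup.mem_bot, mul_inv_eq_one, mul_inv_eq_iff_eq_mul] at h1
    exact h1.symm
  rw [h.sigmaCore_inf_centralizer, Subgroup.mem_bot] at hkc
  rwa [hkc, mul_one]

end Exc

theorem exists_compl (hG : IsMinSimpleOddOrder G) {M : Subgroup G} (hM : IsCoatom M) {X : Subgroup G}
    (hXM : X ≤ M) (hX : (Nat.card X).Coprime (Nat.card (sigmaCore M))) :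
    ∃ E : Subgroup G, IsComplIn E (sigmaCore M) M ∧ X ≤ E := by
  haveI := isSolvable_of_coatom hG hM
  set K := piCore (Cfsg.sigma M) ↥M with hK
  have hcop : (Nat.card K).Coprime K.index := by
    refine Nat.coprime_of_dvd fun l hl h1 h2 => ?_
    haveI := Fact.mk hl
    obtain ⟨T⟩ : Nonempty (Sylow l M) := inferInstance
    exact T.not_dvd_index (h2.trans (Subgroup.index_dvd_of_le
      (sylow_le_piCore_sigma hG hM (isPiGrp_piCore (Cfsg.sigma M) ↥M l hl h1) T)))
  obtain ⟨E₀, hE₀⟩ := Subgroup.exists_right_complement'_of_coprime hcop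
  have hE₀c : (Nat.card E₀).Coprime (Nat.card K) := by rw [← hE₀.symm.index_eq_card]; exact hcop.symm
  have hXc : (Nat.card (X.subgroupOf M)).Coprime (Nat.card K) := by
    rw [Coprime.card_subgroupOf hXM]
    have : Nat.card (sigmaCore M) = Nat.card K := Subgroup.card_map_of_injective M.subtype_injective
    rwa [this] at hX
  obtain ⟨n, -, hn⟩ := Coprime.exists_le_conj_of_le_sup (A := E₀) (N := K) (B := X.subgroupOf M)
    PLengthCommutator.le_normalizer_of_normal (by rw [sup_comm, hE₀.sup_eq_top]; exact le_top)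
    hE₀c hXc (Or.inr inferInstance)
  set E := MulAut.conj n • E₀ with hE
  have hEc : Nat.card E = Nat.card E₀ := Coprime.card_conj_smul _ _
  have hcompl : Subgroup.IsComplement' K E := Subgroup.isComplement'_of_coprime
    (by rw [hEc, hE₀.card_mul]) (by rw [hEc]; exact hE₀c.symm)
  refine ⟨E.map M.subtype, ⟨Subgroup.map_subtype_le _, sigmaCore_le M, ?_, fun m hm => ?_⟩,
    (Subgroup.map_subgroupOf_eq_of_le hXM).ge.trans (Subgroup.map_mono hn)⟩
  · show E.map M.subtype ⊓ K.map M.subtype = ⊥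
    rw [← Subgroup.map_inf _ _ _ M.subtype_injective, inf_comm, hcompl.disjoint.eq_bot, Subgroup.map_bot]
  · obtain ⟨e, he, k, hk, hek⟩ := (Coprime.mem_sup_iff_of_le_normalizer (H := E) (N := K)
      PLengthCommutator.le_normalizer_of_normal).1
      (show (⟨m, hm⟩ : M) ∈ E ⊔ K by rw [sup_comm, hcompl.sup_eq_top]; exact Subgroup.mem_top _)
    exact ⟨e, ⟨e, he, rfl⟩, k, ⟨k, hk, rfl⟩, congrArg Subtype.val hek.symm⟩

/-- BG 12.5 (b): for a Sylow subgroup containing `A`, and hence for every one. -/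
theorem sylow_isMulCommutative (hG : IsMinSimpleOddOrder G) {M : Subgroup G} (hM : IsCoatom M)
    (hp : p ∉ sigma M) (hr : ¬ PRankLE p 1 M) (S : Sylow p M) :
    IsMulCommutative ((S : Subgroup M).map M.subtype : Subgroup G) := by
  obtain ⟨A, hAS, hA, hc⟩ := exists_square_le hr S
  obtain ⟨A₀, h⟩ := exists_exc hG hM hp (hAS.trans (Subgroup.map_subtype_le _)) hA hc
  exact PGroup.isMulCommutative_of_forall (h.sylow_comm S hAS)

/-- The `p`-subgroups of `M` are abelian, `p ∉ σ(M)`. -/
theorem pgroup_comm (hG : IsMinSimpleOddOrder G) {M : Subgroup G} (hM : IsCoatom M) (hp : p ∉ sigma M)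
    {X : Subgroup G} (hXM : X ≤ M) (hX : IsPGroup p X) : ∀ x ∈ X, ∀ y ∈ X, x * y = y * x := by
  rcases eq_or_ne X ⊥ with rfl | hX1
  · intro x hx y hy
    rw [Subgroup.mem_bot.1 hx, Subgroup.mem_bot.1 hy]
  obtain ⟨S, hS⟩ := exists_sylow_map_ge hX hXM
  intro x hx y hy
  by_cases hr : PRankLE p 1 M
  · have hc : IsCyclic ((S : Subgroup M).map M.subtype : Subgroup G) :=
      IsolatedP.isCyclic_of_pRankLE_one (ne_two_of_minSimple hG hX hX1) (S.2.map _)
        (pRankLE_of_le (Subgroup.map_subtype_le _) hr)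
    exact congrArg Subtype.val (hc.commGroup.mul_comm (⟨x, hS hx⟩ : ((S : Subgroup M).map M.subtype : Subgroup G)) ⟨y, hS hy⟩)
  · exact PGroup.mul_comm_of_isMulCommutative (sylow_isMulCommutative hG hM hp hr S) (hS hx) (hS hy)

/-- A complement of `M_σ` contains a square at each prime outside `σ(M)` where `M` has rank two. -/
theorem exists_square_le_compl {M : Subgroup G} {E : Subgroup G}
    (hE : IsComplIn E (sigmaCore M) M) (hp : p ∉ sigma M) (hr : ¬ PRankLE p 1 M) :
    ∃ A : Subgroup G, A ≤ E ∧ IsElementaryAbelian p A ∧ Nat.card A = p ^ 2 := by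
  obtain ⟨T⟩ : Nonempty (Sylow p E) := inferInstance
  obtain ⟨S, hS⟩ := exists_sylow_map_ge (T.2.map E.subtype) ((Subgroup.map_subtype_le _).trans hE.1)
  have e : (T : Subgroup E).map E.subtype = (S : Subgroup M).map M.subtype := by
    refine Subgroup.eq_of_le_of_card_ge hS (le_of_eq ?_)
    rw [Subgroup.card_map_of_injective M.subtype_injective, Subgroup.card_map_of_injective E.subtype_injective,
      T.card_eq_multiplicity, S.card_eq_multiplicity, ← card_eq_of_isComplIn hE,
      Nat.factorization_mul Nat.card_pos.ne' Nat.card_pos.ne', Finsupp.add_apply,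
      Nat.factorization_eq_zero_of_not_dvd (not_dvd_sigmaCore hp), add_zero]
  obtain ⟨A, hA, hA'⟩ := exists_square_le hr S
  exact ⟨A, hA.trans (e.ge.trans (Subgroup.map_subtype_le _)), hA'⟩

end Cfsg.Agent.OddOrder
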