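import Cfsg.Agent.Lib.OddOrder.SigmaTools
import Cfsg.Agent.S1409
import Cfsg.Agent.S1417
import Cfsg.Agent.S1418
import Cfsg.Agent.S1420

/-!
# Bender–Glauberman 12.15 and 13.1/13.2

* `notConj_of_normalizer_le`, `normalizer_sylow_inter_le`, `isSyl_inter`: `M ∩ M*` for `N(X) ≤ M*`,
  `X` a `q`-subgroup of `M`, `q ∈ σ(M)`;
* `exists_supplement`: `M* = K (M ∩ M*)` with `K = M*_α` or `K = M*_σ`, of order prime to `σ(M)`;
* `le_centralizer_inter`: an `r`-subgroup of `M ∩ L` centralises `M_σ ∩ L` unless `r ∈ τ₁(L)`;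
* `centralizer_norm_tau13`: 13.2.
-/

set_option autoImplicit false
set_option linter.style.haveILetI false
set_option linter.unusedSectionVars false

namespace Cfsg.Agent.OddOrder

open Cfsg
open Subgroup (centralizer normalizer zpowers)
open scoped Pointwise commutatorElement

universe u
variable {G : Type u} [Group G] [Finite G] (hG : IsMinSimpleOddOrder G)
include hG

/-- The primes outside `σ(M)` of rank two form `τ₂(M)`. -/
theorem mem_tau2 {M : Subgroup G} (hM : IsCoatom M) {p : ℕ} (hp : p.Prime) (hs : p ∉ sigma M)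
    (h1 : ¬ PRankLE p 1 M) : p ∈ tau2 M :=
  ⟨hp, hs, by_contra fun h => hs (alpha_subset_sigma hG hM ⟨hp, h⟩), h1⟩

theorem compl_le_normalizer {M E : Subgroup G} (hE : IsComplIn E (sigmaCore M) M) :
    E ≤ normalizer ((sigmaCore M : Subgroup G) : Set G) :=
  hE.1.trans (le_normalizer_piCoreOf _ M)

/-- A Sylow subgroup of a complement is one of `M`, for the primes outside `σ(M)`. -/
theorem isSyl_of_compl {M E S : Subgroup G} {p : ℕ} [Fact p.Prime] (hps : p ∉ sigma M)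
    (hE : IsComplIn E (sigmaCore M) M) (hS : IsSyl p S E) : IsSyl p S M := by
  obtain ⟨T, hT, hST⟩ := exists_isSyl_ge hS.isPGroup (hS.le.trans hE.1)
  -- `p` divides `|M : E| = |M_σ|` at most trivially
  have hcard : Nat.card T ∣ Nat.card S := by
    obtain ⟨S₀, hS₀⟩ := id hS
    obtain ⟨T₀, hT₀⟩ := id hT
    rw [← hS₀, ← hT₀, Subgroup.card_map_of_injective E.subtype_injective,
      Subgroup.card_map_of_injective M.subtype_injective, S₀.card_eq_multiplicity, T₀.card_eq_multiplicity]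
    have hsup : E ⊔ sigmaCore M = M := le_antisymm (sup_le hE.1 hE.2.1) fun m hm => by
      obtain ⟨e, he, k, hk, rfl⟩ := hE.2.2.2 m hm
      exact mul_mem (Subgroup.mem_sup_left he) (Subgroup.mem_sup_right hk)
    have hc := Coprime.card_sup_of_le_normalizer (compl_le_normalizer hG hE) hE.2.2.1
    rw [hsup] at hc
    have h0 : (Nat.card (sigmaCore M)).factorization p = 0 :=
      Nat.factorization_eq_zero_of_not_dvd (not_dvd_sigmaCore hps)
    rw [hc, Nat.factorization_mul Nat.card_pos.ne' Nat.card_pos.ne', Finsupp.add_apply, h0, add_zero]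
  exact (Subgroup.eq_of_le_of_card_ge hST (Nat.le_of_dvd Nat.card_pos hcard)).symm ▸ hT

/-- A Sylow subgroup of a complement is one of `M`, and contains a square when the rank is two. -/
theorem exists_square_compl {M E U : Subgroup G} {p : ℕ} [Fact p.Prime]
    (hp : p ∈ tau2 M) (hE : IsComplIn E (sigmaCore M) M) (hU : IsPGroup p U) (hUE : U ≤ E) :
    ∃ S A : Subgroup G, IsSyl p S M ∧ S ≤ E ∧ U ≤ S ∧ A ≤ S ∧ IsElementaryAbelian p A ∧
      Nat.card A = p ^ 2 := by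
  obtain ⟨S, hS, hUS⟩ := exists_isSyl_ge hU hUE
  obtain ⟨-, hps, -, h1⟩ := hp
  have hT := isSyl_of_compl hG hps hE hS
  obtain ⟨T₀, hT₀⟩ := id hT
  obtain ⟨A, hA, hAe, hAc⟩ := exists_square_le h1 T₀
  exact ⟨S, A, hT, hS.le, hUS, hA.trans hT₀.le, hAe, hAc⟩

/-- For `N(X) ≤ M* ≠ M` the subgroup `M*` is not a conjugate of `M`. -/
theorem notConj_of_normalizer_le {M H X : Subgroup G} (hM : IsCoatom M) (hne : H ≠ M)
    {q : ℕ} [Fact q.Prime] (hq : q ∈ sigma M) (hX : IsPGroup q X) (hX1 : X ≠ ⊥) (hXM : X ≤ M)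
    (hNX : normalizer (X : Set G) ≤ H) : NotConj M H := by
  intro g hg
  have hXg : MulAut.conj g⁻¹ • X ≤ M := conj_smul_le (hg ▸ (Subgroup.le_normalizer.trans hNX))
  obtain ⟨m, hm, c, hc, hgmc⟩ := exists_mul_centralizer hG hM hq hX hX1 hXM hXg
  have hcH : c ∈ H := hNX (Subgroup.centralizer_le_normalizer _ hc)
  apply hne
  have hg' : g = c⁻¹ * m⁻¹ := by rw [← mul_inv_rev, ← hgmc, inv_inv]
  have hmM : MulAut.conj m⁻¹ • M = M :=
    Coprime.conj_smul_eq_self_of_mem (Subgroup.le_normalizer (inv_mem hm))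
  rw [hg', ← Coprime.conj_smul_smul, hmM] at hg
  have h2 : MulAut.conj c • H = M := by
    rw [hg, Coprime.conj_smul_smul, mul_inv_cancel, map_one, one_smul]
  rwa [Coprime.conj_smul_eq_self_of_mem (Subgroup.le_normalizer hcH)] at h2

/-- 12.15 (b). -/
theorem normalizer_sylow_inter_le {M H X T : Subgroup G} (hM : IsCoatom M)
    {q : ℕ} [Fact q.Prime] (hq : q ∈ sigma M) (hNX : normalizer (X : Set G) ≤ H)
    (hT : IsSyl q T (M ⊓ H)) (hXT : X ≤ T) : normalizer (T : Set G) ≤ M := by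
  obtain ⟨E, hE⟩ := exists_complIn hG hM
  by_cases hc : IsCyclic T
  · have hTH : normalizer (T : Set G) ≤ H := (normalizer_le_of_cyclic hc hXT).trans hNX
    have hTM : IsSyl q T M := hT.of_normalizer_le (hT.le.trans inf_le_left) (inf_le_inf_left _ hTH)
    exact hTM.sigma_normalizer_le hq
  · exact (S1420.result hG M hM E hE).2.2.1 q T hq hT.isPGroup (hT.le.trans inf_le_left) hc

/-- 12.15 (c). -/
theorem isSyl_inter {M H X T : Subgroup G} (hM : IsCoatom M)
    {q : ℕ} [Fact q.Prime] (hq : q ∈ sigma M) (hNX : normalizer (X : Set G) ≤ H)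
    (hT : IsSyl q T (M ⊓ H)) (hXT : X ≤ T) : IsSyl q T H :=
  hT.of_normalizer_le (hT.le.trans inf_le_right)
    (le_inf (inf_le_right.trans (normalizer_sylow_inter_le hG hM hq hNX hT hXT)) inf_le_left)

/-- `M* = K (M ∩ M*)` with `|K|` prime to `σ(M)`. -/
theorem exists_supplement {M H X T : Subgroup G} (hM : IsCoatom M) (hH : IsCoatom H) (hne : H ≠ M)
    {q : ℕ} [Fact q.Prime] (hq : q ∈ sigma M) (hX : IsPGroup q X) (hX1 : X ≠ ⊥) (hXM : X ≤ M)
    (hNX : normalizer (X : Set G) ≤ H) (hT : IsSyl q T (M ⊓ H)) (hXT : X ≤ T) :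
    ∃ K : Subgroup G, K ≤ H ∧ H ≤ normalizer (K : Set G) ∧
      (∀ h ∈ H, ∃ k ∈ K, ∃ d ∈ M ⊓ H, h = k * d) ∧
      (∀ r : ℕ, r.Prime → r ∣ Nat.card K → r ∉ sigma M) ∧
      ((q ∈ sigma H ∧ K = alphaCore H) ∨
        (q ∈ tau2 H ∧ K = sigmaCore H ∧ IsComplIn (M ⊓ H) (sigmaCore H) H)) := by
  have hnc := notConj_of_normalizer_le hG hM hne hq hX hX1 hXM hNX
  have hTH : IsSyl q T H := isSyl_inter hG hM hq hNX hT hXT
  have hNT : normalizer (T : Set G) ≤ M := normalizer_sylow_inter_le hG hM hq hNX hT hXT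
  by_cases hqH : q ∈ sigma H
  · refine ⟨alphaCore H, piCoreOf_le _ H, le_normalizer_piCoreOf _ H, fun h hh => ?_,
      fun r hr hd => disjoint_alpha_sigma hG hM hH hnc (isPiGrp_piCoreOf (alpha H) H r hr hd),
      Or.inl ⟨hqH, rfl⟩⟩
    obtain ⟨S, hS⟩ := id hTH
    set N := piCore (alpha H) ↥H
    set π := QuotientGroup.mk' N
    have hSle : (S : Subgroup H).map π ≤ pCore q (↥H ⧸ N) := by
      rintro _ ⟨x, hx, rfl⟩
      obtain ⟨k, hk⟩ := S.2 ⟨x, hx⟩
      refine Subnormal.mem_pCore_of_mem_fittingSubgroup (k := k) (commutator_quotient_le_fitting hG hH ?_)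
        (by rw [← map_pow, show x ^ q ^ k = 1 from congrArg Subtype.val hk, map_one])
      have h1 := le_derived_of_sigma hG hH hqH (S.2.map H.subtype) (Subgroup.map_subtype_le _) ⟨x, hx, rfl⟩
      obtain ⟨x', hx', e⟩ :=
        (Subgroup.map_subtype_commutator H ▸ h1 : (H.subtype x) ∈ (_root_.commutator H).map H.subtype)
      have h2 := Subgroup.mem_map_of_mem π ((Subtype.ext e : x' = x) ▸ hx')
      rw [commutator_def, Subgroup.map_commutator] at h2
      exact Subgroup.commutator_mono le_top le_top h2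
    haveI hnor : ((S : Subgroup H).map π).Normal := by
      have e1 := (S.mapSurjective (QuotientGroup.mk'_surjective N)).3 (PCore.isPGroup_pCore (p := q))
        (by rw [Sylow.coe_mapSurjective]; exact hSle)
      rw [Sylow.coe_mapSurjective] at e1
      rw [← e1]; infer_instance
    haveI : (((S : Subgroup H).map π).comap π).Normal := inferInstance
    have hfr := Sylow.normalizer_sup_eq_top' S (Subgroup.le_comap_map π (S : Subgroup H))
    rw [Subgroup.comap_map_eq, QuotientGroup.ker_mk'] at hfr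
    have hmem : (⟨h, hh⟩ : H) ∈ normalizer ((S : Subgroup H) : Set H) ⊔ N := by
      have hle : normalizer ((S : Subgroup H) : Set H) ⊔ ((S : Subgroup H) ⊔ N) ≤
          normalizer ((S : Subgroup H) : Set H) ⊔ N :=
        sup_le le_sup_left (sup_le (Subgroup.le_normalizer.trans le_sup_left) le_sup_right)
      refine hle ?_
      exact hfr.ge (Subgroup.mem_top _)
    rw [sup_comm, Subgroup.mem_sup_of_normal_left] at hmem
    obtain ⟨k, hk, d, hd, hkd⟩ := hmem
    refine ⟨k, ⟨k, hk, rfl⟩, d, ⟨hNT ?_, d.2⟩, (congrArg Subtype.val hkd).symm⟩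
    rw [← hS]
    exact Subgroup.le_normalizer_map _ ⟨d, hd, rfl⟩
  · have hncyc : ¬ IsCyclic T := fun hc => hqH (hTH.mem_sigma
      (dvd_card_of_ne_bot hX hX1 (Subgroup.le_normalizer.trans hNX))
      ((normalizer_le_of_cyclic hc hXT).trans hNX))
    have hq2 : q ≠ 2 := ne_two_of_minSimple hG hX hX1
    have htau : q ∈ tau2 H := mem_tau2 hG hH Fact.out hqH fun h =>
      hncyc (hTH.isCyclic_of_pRankLE_one hq2 h)
    obtain ⟨E, hE, hTE⟩ := exists_compl_ge hG hH hTH.le fun r hr hd => by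
      obtain ⟨k, hk⟩ := hTH.isPGroup.exists_card_eq
      rw [(Nat.prime_dvd_prime_iff_eq hr Fact.out).1 (hr.dvd_of_dvd_pow (hk ▸ hd))]
      exact hqH
    obtain ⟨S, hS⟩ := id hTH
    obtain ⟨A, hA, hAe, hAc⟩ := exists_square_le htau.2.2.2 S
    rw [hS] at hA
    obtain ⟨⟨hEA, -⟩, ⟨-, hEeq, -⟩, -⟩ := S1418.result hG H hH E hE q htau A ⟨hA.trans hTE, hAe, hAc⟩
    have hAM : A ≤ M := hA.trans (hT.le.trans inf_le_left)
    obtain ⟨E₀, hE₀⟩ := exists_complIn hG hM
    have hNA : normalizer (A : Set G) ≤ M :=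
      (S1420.result hG M hM E₀ hE₀).2.2.1 q A hq (PGroup.isPGroup_of_elementaryAbelian hAe) hAM
        (square_not_cyclic hAe hAc)
    have hEM : E ≤ M ⊓ H := le_inf (hEA.trans hNA) hE.1
    obtain ⟨hnil, -, -, -, he, -⟩ := S1417.result hG H hH q htau A ⟨hA.trans hTH.le, hAe, hAc⟩
    have hσM : sigmaCore H ⊓ M = ⊥ := he M hM hne.symm hAM
    have hEq : M ⊓ H = E := le_antisymm (fun m hm => by
      obtain ⟨e, he', k, hk, rfl⟩ := hE.2.2.2 m hm.2
      have hkM : k ∈ sigmaCore H ⊓ M :=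
        ⟨hk, by simpa using M.mul_mem (M.inv_mem (hEM he').1) hm.1⟩
      rw [hσM, Subgroup.mem_bot] at hkM
      rw [hkM, mul_one]; exact he') hEM
    refine ⟨sigmaCore H, piCoreOf_le _ H, le_normalizer_piCoreOf _ H, fun h hh => ?_,
      fun r hr hd => not_mem_sigma_of_nilpotent hG hM hH hnc hnil (isPiGrp_piCoreOf (sigma H) H r hr hd),
      Or.inr ⟨htau, rfl, hEq ▸ hE⟩⟩
    obtain ⟨e, he', k, hk, rfl⟩ := hE.2.2.2 h hh
    exact ⟨e * k * e⁻¹, (Subgroup.mem_normalizer_iff.1 (compl_le_normalizer hG hE he') k).1 hk, e, hEM he',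
      by group⟩

/-- An `r`-subgroup of `M ∩ L` inside `L'`, or with `r ∈ τ₂(L)`, centralises `M_σ ∩ L`. -/
theorem le_centralizer_inter_aux {M L R : Subgroup G} (hM : IsCoatom M) (hL : IsCoatom L)
    (hn : NotConj M L) {r : ℕ} [Fact r.Prime] (hrM : r ∉ sigma M) (hR : IsPGroup r R) (hRM : R ≤ M)
    (hRL : R ≤ L) (h : R ≤ ⁅L, L⁆ ∨ r ∈ tau2 L) :
    R ≤ centralizer ((sigmaCore M ⊓ L : Subgroup G) : Set G) := by
  have hRn : R ≤ normalizer ((sigmaCore M ⊓ L : Subgroup G) : Set G) :=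
    Coprime.le_normalizer_inf_of_le (hRM.trans (le_normalizer_piCoreOf _ M)) (hRL.trans Subgroup.le_normalizer)
  have hcop : (Nat.card R).Coprime (Nat.card ↥(sigmaCore M ⊓ L)) :=
    coprime_of_isPGroup hR fun hd => hrM (isPiGrp_piCoreOf (sigma M) M r Fact.out
      (hd.trans (Subgroup.card_dvd_of_le inf_le_left)))
  by_contra hc
  obtain ⟨q, Q, hq, hQ, hQK, hRQ, hQ1, hQR⟩ := exists_commutator_eq hG hRn hcop
    (fun e => hL.1 (top_unique (e ▸ inf_le_right))) hc
  haveI := Fact.mk hq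
  have hqσ : q ∈ sigma M :=
    isPiGrp_piCoreOf (sigma M) M q hq (dvd_card_of_ne_bot hQ hQ1 (hQK.trans inf_le_left))
  have hqr : q ≠ r := fun e => hrM (e ▸ hqσ)
  have hQL : Q ≤ L := hQK.trans inf_le_right
  -- the derived case, for any maximal subgroup
  have key : ∀ L₁ : Subgroup G, IsCoatom L₁ → NotConj M L₁ → Q ≤ L₁ → R ≤ ⁅L₁, L₁⁆ → False := by
    intro L₁ hL₁ hn₁ hQL₁ hRL₁
    have h1 := le_centralizer_of_le_derived (p := r) hG hL₁ hqr hR hRL₁ hQ hQL₁ hRQ
      fun ha => disjoint_alpha_sigma hG hM hL₁ hn₁ ha hqσ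
    rw [Coprime.le_centralizer_iff_commutator_eq_bot, hQR] at h1
    exact hQ1 h1
  rcases h with h | h
  · exact key L hL hn hQL h
  obtain ⟨Eh, hEh⟩ := exists_complIn hG hL
  obtain ⟨_, A', -, hSE', -, hAS', hAe', hAc'⟩ :=
    exists_square_compl hG h hEh (IsPGroup.of_bot) bot_le
  obtain ⟨hnil, -⟩ := S1417.result hG L hL r h A' ⟨hAS'.trans (hSE'.trans hEh.1), hAe', hAc'⟩
  have hqL : q ∉ sigma L := fun hs => not_mem_sigma_of_nilpotent hG hM hL hn hnil hs hqσ
  have hQRc : Nat.card ↥(R ⊔ Q) = Nat.card R * Nat.card Q :=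
    Coprime.card_sup_of_le_normalizer hRQ
      (Coprime.disjoint_of_coprime_card (hcop.coprime_dvd_right (Subgroup.card_dvd_of_le hQK)))
  obtain ⟨E, hE, hYE⟩ := exists_compl_ge hG hL (sup_le hRL hQL) fun l hl hd => by
    rw [hQRc] at hd
    obtain ⟨i, hi⟩ := hR.exists_card_eq
    obtain ⟨j, hj⟩ := hQ.exists_card_eq
    rcases hl.dvd_mul.1 hd with h' | h'
    · rw [(Nat.prime_dvd_prime_iff_eq hl Fact.out).1 (hl.dvd_of_dvd_pow (hi ▸ h'))]
      exact h.2.1
    · rw [(Nat.prime_dvd_prime_iff_eq hl Fact.out).1 (hl.dvd_of_dvd_pow (hj ▸ h'))]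
      exact hqL
  obtain ⟨S, A, hS, hSE, hRS, hAS, hAe, hAc⟩ :=
    exists_square_compl hG h hE hR (le_sup_left.trans hYE)
  obtain ⟨S₀, hS₀⟩ := id hS
  obtain ⟨hab, -⟩ := (S1417.result hG L hL r h A ⟨hAS.trans hS.le, hAe, hAc⟩).2.1 S₀
  obtain ⟨⟨hEA, -⟩, ⟨-, -, hNL⟩, -⟩ := S1418.result hG L hL E hE r h A ⟨hAS.trans hSE, hAe, hAc⟩
  have hRA : R ≤ centralizer (A : Set G) := by
    have hSab : IsMulCommutative S := by
      rw [← hS₀]; exact Subgroup.map_isMulCommutative _ _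
    exact fun x hx => Subgroup.mem_centralizer_iff.2 fun a ha =>
      setLike_mul_comm (hAS ha) (hRS hx)
  have hQA : Q ≤ centralizer (A : Set G) := by
    rw [← hQR]
    refine Subgroup.commutator_le.2 fun x hx y hy => ?_
    have hxA : x ∈ normalizer (A : Set G) := hEA (hYE (Subgroup.mem_sup_right hx))
    rw [commutatorElement_def]
    refine mul_mem (Subgroup.mem_centralizer_iff.2 fun a ha => ?_) (inv_mem (hRA hy))
    have ha' : x⁻¹ * a * x ∈ A := by
      have := (Subgroup.mem_normalizer_iff.1 (inv_mem hxA) a).1 ha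
      rwa [inv_inv] at this
    have h2 := Subgroup.mem_centralizer_iff.1 (hRA hy) _ ha'
    calc a * (x * y * x⁻¹) = x * ((x⁻¹ * a * x) * y) * x⁻¹ := by group
      _ = x * (y * (x⁻¹ * a * x)) * x⁻¹ := by rw [h2]
      _ = x * y * x⁻¹ * a := by group
  have hA1 : A ≠ ⊥ := square_ne_bot hAe hAc
  have hAp : IsPGroup r A := PGroup.isPGroup_of_elementaryAbelian hAe
  obtain ⟨L₂, hL₂, hNL₂⟩ := exists_coatom_ge (normalizer_ne_top_of_pgroup hG hAp hA1)
  have hAL₂ : A ≤ L₂ := Subgroup.le_normalizer.trans hNL₂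
  have hr2 : r ∈ sigma L₂ := by
    by_contra hs
    have ht : r ∈ tau2 L₂ := mem_tau2 hG hL₂ Fact.out hs
      (not_pRankLE_of_elementary hAe hAL₂ hAc.ge)
    obtain ⟨E₂, hE₂, hAE₂⟩ := exists_compl_ge hG hL₂ hAL₂ fun l hl hd => by
      rw [hAc] at hd
      rw [(Nat.prime_dvd_prime_iff_eq hl Fact.out).1 (hl.dvd_of_dvd_pow hd)]
      exact hs
    exact (S1418.result hG L₂ hL₂ E₂ hE₂ r ht A ⟨hAE₂, hAe, hAc⟩).2.1.2.2 hNL₂
  have hRL₂ : R ≤ L₂ := (hRA.trans (Subgroup.centralizer_le_normalizer _)).trans hNL₂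
  exact key L₂ hL₂ (notConj_of_mem_sigma hr2 hrM)
    ((hQA.trans (Subgroup.centralizer_le_normalizer _)).trans hNL₂)
    (le_derived_of_sigma hG hL₂ hr2 hR hRL₂)

/-- An `r`-subgroup of `M ∩ L` centralises `M_σ ∩ L` unless `r ∈ τ₁(L)`. -/
theorem le_centralizer_inter {M L R : Subgroup G} (hM : IsCoatom M) (hL : IsCoatom L)
    (hn : NotConj M L) {r : ℕ} [Fact r.Prime] (hrM : r ∉ sigma M) (hR : IsPGroup r R) (hRM : R ≤ M)
    (hRL : R ≤ L) (h : r ∉ tau1 L) : R ≤ centralizer ((sigmaCore M ⊓ L : Subgroup G) : Set G) := by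
  rcases eq_or_ne R ⊥ with rfl | hR1
  · exact bot_le
  refine le_centralizer_inter_aux hG hM hL hn hrM hR hRM hRL ?_
  by_cases hs : r ∈ sigma L
  · exact Or.inl (le_derived_of_sigma hG hL hs hR hRL)
  by_cases h1 : PRankLE r 1 L
  · by_cases hd : r ∣ Nat.card ↥⁅L, L⁆
    · exact Or.inl (le_derived_of_dvd hG hd h1 hR hRL)
    · exact absurd ⟨Fact.out, hs, dvd_card_of_ne_bot hR hR1 hRL, hd, h1⟩ h
  · exact Or.inr (mem_tau2 hG hL Fact.out hs h1)

/-- BG 13.2. -/
theorem centralizer_norm_tau13 {M L X : Subgroup G} (hM : IsCoatom M) (hL : IsCoatom L) {p : ℕ}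
    [Fact p.Prime] (hpM : p ∉ sigma M) (hr : PRankLE p 1 M) (hX : Nat.card X = p)
    (hNX : normalizer (X : Set G) ≤ L) :
    NotConj M L ∧ p ∉ tau1 L ∧
      ∀ U : Subgroup G, IsPGroup p U → U ≤ M → U ≤ L →
        U ≤ centralizer ((sigmaCore M ⊓ L : Subgroup G) : Set G) := by
  have hXp : IsPGroup p X := IsPGroup.of_card (n := 1) (by rw [hX, pow_one])
  have hn : NotConj M L := by
    by_cases hs : p ∈ sigma L
    · exact notConj_of_mem_sigma hs hpM
    · exact notConj_of_rank (S1409.result hG L hL p hs X hX hNX).1.2 hr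
  have ht : p ∉ tau1 L := fun ht => (S1409.result hG L hL p ht.2.1 X hX hNX).1.2 ht.2.2.2.2
  exact ⟨hn, ht, fun U hU hUM hUL => le_centralizer_inter hG hM hL hn hpM hU hUM hUL ht⟩

end Cfsg.Agent.OddOrder
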