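import Cfsg.Agent.Lib.OddOrder.ExceptionalCore
import Cfsg.Agent.Lib.Coprime.OmegaOne

/-!
# Bender–Glauberman 12.3: `A` centralises invariant Sylow `σ(M)`-subgroups when no line of `A` is
exceptional for `M`
-/

set_option autoImplicit false
set_option linter.unusedSectionVars false

namespace Cfsg.Agent.OddOrder

open Cfsg
open Subgroup (centralizer normalizer zpowers)
open scoped Pointwise commutatorElement

universe u
variable {G : Type u} [Group G] [Finite G] {p : ℕ} [Fact p.Prime] {q : ℕ} [Fact q.Prime]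

/-- A `q`-element normalising a Sylow `q`-subgroup lies in it. -/
theorem mem_sylow_of_normalizer (Q : Sylow q G) {u : G} (hu : u ∈ normalizer ((Q : Subgroup G) : Set G))
    {k : ℕ} (hk : u ^ q ^ k = 1) : u ∈ (Q : Subgroup G) := by
  obtain ⟨i, -, hi⟩ := (Nat.dvd_prime_pow (Fact.out : q.Prime)).1 (orderOf_dvd_of_pow_eq_one hk)
  have hp : IsPGroup q (zpowers u) := IsPGroup.of_card (n := i) (by rw [Nat.card_zpowers, hi])
  have := Q.is_maximal' (hp.to_sup_of_normal_right' Q.2 (Subgroup.zpowers_le.2 hu)) le_sup_right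
  exact this.le (Subgroup.mem_sup_left (Subgroup.mem_zpowers u))

namespace Exc

variable {M A A₀ : Subgroup G} (h : Exc p M A A₀)
include h

/-- `N(T) ≤ M` when `A₀`, but not `A`, centralises the invariant `T` and `C(T) ≤ M`. -/
theorem normalizer_le_of_centralizer (T : Subgroup G) (hAT : A ≤ normalizer (T : Set G))
    (h0 : A₀ ≤ centralizer (T : Set G)) (hA : ¬ A ≤ centralizer (T : Set G))
    (hC : centralizer (T : Set G) ≤ M) : normalizer (T : Set G) ≤ M := by
  set C := centralizer (T : Set G) with hCdef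
  have hAC : A ≤ normalizer (C : Set G) := Coprime.le_normalizer_centralizer hAT
  set X := A ⊔ C with hX
  have hXM : X ≤ M := sup_le h.le hC
  have hXC : X ≤ normalizer (C : Set G) := sup_le hAC Subgroup.le_normalizer
  obtain ⟨Tx, hTx⟩ := exists_sylow_map_ge (p := p) (PGroup.isPGroup_of_elementaryAbelian h.elem)
    (le_sup_left : A ≤ X)
  set P := (Tx : Subgroup X).map X.subtype with hP
  have hPp : IsPGroup p P := Tx.2.map _
  have hPX : P ≤ X := Subgroup.map_subtype_le _
  obtain ⟨S, hS⟩ := exists_sylow_map_ge hPp (hPX.trans hXM)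
  have hmem : ∀ x ∈ P, x ^ p = 1 → x ∈ A := fun x hx => h.mem_of_sylow S (hTx.trans hS) (hS hx)
  set Pc := P ⊓ C with hPc
  have hPcp : IsPGroup p Pc := hPp.to_le inf_le_left
  -- `Pc` is a Sylow subgroup of `C`
  obtain ⟨Sc, hSc⟩ := exists_sylow_map_ge hPcp (inf_le_right : Pc ≤ C)
  have hScX : (Sc : Subgroup C).map C.subtype ≤ X := (Subgroup.map_subtype_le _).trans le_sup_right
  obtain ⟨Tx', hTx'⟩ := exists_sylow_map_ge (Sc.2.map C.subtype) hScX
  obtain ⟨x, hx⟩ := MulAction.exists_smul_eq X Tx' Tx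
  have hconj : MulAut.conj (x : G) • (Sc : Subgroup C).map C.subtype ≤ Pc := by
    refine le_inf ?_ ((Subgroup.pointwise_smul_le_pointwise_smul_iff.2 (Subgroup.map_subtype_le _)).trans
      (Coprime.conj_smul_eq_self_of_mem (hXC x.2)).le)
    rw [hP, ← hx, Sylow.coe_subgroup_smul, Coprime.map_conj_smul]
    exact Subgroup.pointwise_smul_le_pointwise_smul_iff.2 hTx'
  have hPcS : Pc = (Sc : Subgroup C).map C.subtype :=
    Subgroup.eq_of_le_of_card_ge hSc (by
      rw [← Coprime.card_conj_smul (x : G) ((Sc : Subgroup C).map C.subtype)]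
      exact Subgroup.card_le_of_le hconj)
  -- its elements of order `p` form `A₀`
  have hAC0 : A ⊓ C = A₀ := by
    refine (Subgroup.eq_of_le_of_card_ge (le_inf h.line_le h0) ?_).symm
    have hd : Nat.card ↥(A ⊓ C) ∣ p ^ 2 := h.card ▸ Subgroup.card_dvd_of_le inf_le_left
    obtain ⟨i, hi, hi'⟩ := (Nat.dvd_prime_pow Fact.out).1 hd
    rw [h.card_line, hi']
    rcases (show i ≤ 1 ∨ i = 2 by omega) with e | e
    · exact (Nat.pow_le_pow_right (Fact.out : p.Prime).pos e).trans_eq (pow_one p)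
    · exfalso
      exact hA (inf_eq_left.1 (Subgroup.eq_of_le_of_card_ge (inf_le_left : A ⊓ C ≤ A) (by rw [h.card, hi', e])))
  have hΩ : omegaOne p Pc = A₀ := le_antisymm
    (PGroup.omegaOne_le_iff.2 fun y hy hyp => hAC0 ▸ ⟨hmem y hy.1 hyp, hy.2⟩)
    fun a ha => PGroup.mem_omegaOne_of_pow_eq_one ⟨hTx (h.line_le ha), h0 ha⟩ (h.elem.2 a (h.line_le ha))
  have hNPc : normalizer (Pc : Set G) ≤ M :=
    (normalizer_le_normalizer_omegaOne p Pc).trans (hΩ ▸ h.normalizer_le)
  intro n hn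
  have hnC : MulAut.conj n • C = C :=
    Coprime.conj_smul_eq_self_of_mem (Coprime.le_normalizer_centralizer le_rfl hn)
  have hle : MulAut.conj n • Pc ≤ C :=
    (Subgroup.pointwise_smul_le_pointwise_smul_iff.2 inf_le_right).trans hnC.le
  obtain ⟨Sn, hSn⟩ := exists_sylow_map_ge (p := p) (hPcp.map (MulAut.conj n).toMonoidHom) hle
  obtain ⟨c, hc⟩ := MulAction.exists_smul_eq C Sc Sn
  have hSn' : (Sn : Subgroup C).map C.subtype = MulAut.conj (c : G) • Pc := by
    rw [← hc, Sylow.coe_subgroup_smul, Coprime.map_conj_smul, hPcS]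
    rfl
  have he : MulAut.conj n • Pc = MulAut.conj (c : G) • Pc := by
    rw [← hSn']
    exact Subgroup.eq_of_le_of_card_ge hSn (by
      rw [hSn', Coprime.card_conj_smul]; exact (Coprime.card_conj_smul n Pc).ge)
  have h2 : ((c : G)⁻¹ * n) ∈ M := hNPc (Coprime.mem_normalizer_of_conj_smul_eq (by
    rw [← Coprime.conj_smul_smul, he, Coprime.conj_smul_smul, inv_mul_cancel, map_one, one_smul]))
  simpa using M.mul_mem (hC c.2) h2

/-- A configuration of `core` in which the invariant Sylow subgroup is one of `G` is impossible. -/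
theorem false_of_sylow {B B₀ : Subgroup G} (hB : Exc q M B B₀) (hqp : q ≠ p)
    (hB0 : B₀ ≤ centralizer (A₀ : Set G)) (Q : Sylow q G) (hQM : (Q : Subgroup G) ≤ M)
    (hBQ : B ≤ Q) (hmem : ∀ x ∈ (Q : Subgroup G), x ^ q = 1 → x ∈ B)
    (hcen : (Q : Subgroup G) ≤ centralizer (B : Set G))
    (hAQ : A ≤ normalizer ((Q : Subgroup G) : Set G))
    (hA : ¬ A ≤ centralizer ((Q : Subgroup G) : Set G)) : False := by
  have hCQ : centralizer ((Q : Subgroup G) : Set G) ≤ M :=
    (Subgroup.centralizer_le hBQ).trans hB.centralizer_le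
  suffices hN : normalizer ((Q : Subgroup G) : Set G) ≤ M from hB.sigma ⟨Fact.out, hB.setting.dvd_card,
    Q.subtype hQM, by rwa [Sylow.coe_subtype, Subgroup.map_subgroupOf_eq_of_le hQM]⟩
  have hA0Q := h.line_le.trans hAQ
  have hΩ : omegaOne q (Q : Subgroup G) = B := le_antisymm (PGroup.omegaOne_le_iff.2 hmem)
    fun b hb => PGroup.mem_omegaOne_of_pow_eq_one (hBQ hb) (hB.elem.2 b hb)
  have hNB : normalizer ((Q : Subgroup G) : Set G) ≤ normalizer (B : Set G) :=
    hΩ ▸ normalizer_le_normalizer_omegaOne q _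
  obtain ⟨x, hx0, hx1, hx⟩ := h.exists_gen
  by_cases hxB : B ≤ centralizer ({x} : Set G)
  · refine h.normalizer_le_of_centralizer _ hAQ ?_ hA hCQ
    refine Coprime.le_centralizer_of_fix_pow_eq_one hB.setting.ne_two _ _ Q.2 hA0Q ?_ fun y hy hyq => ?_
    · rw [h.card_line]
      exact (Nat.coprime_primes Fact.out Fact.out).2 (Ne.symm hqp)
    · rw [← hx, Subgroup.zpowers_le]
      exact Subgroup.mem_centralizer_singleton_iff.2
        (Subgroup.mem_centralizer_singleton_iff.1 (hxB (hmem y hy hyq))).symm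
  intro n hn
  have hBx : B ⊓ centralizer ({x} : Set G) = B₀ := by
    refine (Subgroup.eq_of_le_of_card_ge (le_inf hB.line_le (hB0.trans (Subgroup.centralizer_le
      (Set.singleton_subset_iff.2 hx0)))) ?_).symm
    obtain ⟨i, hi, hi'⟩ := (Nat.dvd_prime_pow (Fact.out : q.Prime)).1
      (hB.card ▸ Subgroup.card_dvd_of_le (inf_le_left : B ⊓ centralizer ({x} : Set G) ≤ B))
    rw [hB.card_line, hi']
    rcases (show i ≤ 1 ∨ i = 2 by omega) with e | e
    · exact (Nat.pow_le_pow_right (Fact.out : q.Prime).pos e).trans_eq (pow_one q)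
    · exfalso
      exact hxB (inf_eq_left.1 (Subgroup.eq_of_le_of_card_ge inf_le_left (by rw [hB.card, hi', e])))
  set X := normalizer ((Q : Subgroup G) : Set G) with hX
  have hXtop : X ≠ ⊤ := normalizer_ne_top_of_pgroup h.minSimple Q.2 fun e =>
    square_ne_bot hB.elem hB.card (le_bot_iff.1 (e ▸ hBQ))
  haveI : Group.IsSolvable X := h.minSimple.2.2.2 X hXtop
  haveI : (B.subgroupOf X).Normal := Coprime.normal_subgroupOf_of_le_normalizer hNB
  have hBX : B ≤ X := hBQ.trans Subgroup.le_normalizer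
  set x' : X := ⟨x, hA0Q hx0⟩
  set n' : X := ⟨n, hn⟩
  have hc : ⁅x', n'⁆ ∈ centralizer ((B.subgroupOf X : Subgroup X) : Set X) :=
    mem_of_forall_primePart fun r hr _ u hu ⟨k, hk⟩ => by
      have hu' : u ∈ _root_.commutator X := Subgroup.zpowers_le.2
        (Subgroup.commutator_mem_commutator (Subgroup.mem_top x') (Subgroup.mem_top n')) hu
      haveI := Fact.mk hr
      rcases eq_or_ne r q with rfl | hne
      · refine Subgroup.mem_centralizer_iff.2 fun b hb => Subtype.ext ?_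
        exact Subgroup.mem_centralizer_iff.1 (hcen (mem_sylow_of_normalizer Q u.2 (k := k)
          (congrArg Subtype.val hk))) (b : G) hb
      · obtain ⟨i, -, hi⟩ := (Nat.dvd_prime_pow hr).1 (orderOf_dvd_of_pow_eq_one hk)
        refine mem_centralizer_of_card_le (odd_subgroup h.minSimple.1 X) hB.setting.ne_two (B.subgroupOf X)
          (PGroup.isPGroup_of_elementaryAbelian hB.elem).comap_subtype
          (by rw [Coprime.card_subgroupOf hBX, hB.card]) hu' ?_
        rw [hi]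
        exact ((Nat.coprime_primes hr Fact.out).2 hne).pow_left i
  refine hB.normalizer_le (Coprime.mem_normalizer_of_conj_smul_eq
    (Subgroup.eq_of_le_of_card_ge ?_ (Coprime.card_conj_smul n B₀).ge))
  intro y hy
  rw [Coprime.mem_conj_smul_iff] at hy
  set b := n⁻¹ * y * n
  have hbB : b ∈ B := hB.line_le hy
  have hyB : y ∈ B := by
    have := (Subgroup.mem_normalizer_iff.1 (hNB hn) b).1 hbB
    rwa [show n * b * n⁻¹ = y by simp [b, mul_assoc]] at this
  rw [← hBx]
  refine ⟨hyB, Subgroup.mem_centralizer_singleton_iff.2 ?_⟩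
  have h1 : Commute y (⁅x, n⁆) :=
    congrArg Subtype.val (Subgroup.mem_centralizer_iff.1 hc (⟨y, hBX hyB⟩ : X) hyB)
  have h2 : Commute b x := Subgroup.mem_centralizer_singleton_iff.1 (hBx.ge hy).2
  have e1 : x * y * x⁻¹ = ⁅x, n⁆ * y * ⁅x, n⁆⁻¹ := by
    calc x * y * x⁻¹ = x * (n * b * n⁻¹) * x⁻¹ := by simp [b, mul_assoc]
      _ = ⁅x, n⁆ * (n * (x * b * x⁻¹) * n⁻¹) * ⁅x, n⁆⁻¹ := by simp only [commutatorElement_def]; group
      _ = _ := by rw [← h2.eq, mul_inv_cancel_right]; simp [b, mul_assoc]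
  rw [← h1.eq, mul_inv_cancel_right] at e1
  exact (mul_inv_eq_iff_eq_mul.1 e1).symm

end Exc

section Fixed

variable (hG : IsMinSimpleOddOrder G) {M A : Subgroup G} (hM : IsCoatom M) (hAM : A ≤ M)
  (hA : IsElementaryAbelian p A) (hc : Nat.card A = p ^ 2)
  (hmax : ∀ x ∈ centralizer (A : Set G), x ^ p = 1 → x ∈ A)
include hG hM hAM hA hc hmax

theorem exc_of_fixed {L A₀ : Subgroup G} (hL : IsCoatom L) (hne : L ≠ M) (h0 : A₀ ≤ A)
    (h0c : Nat.card A₀ = p) (hN : normalizer (A₀ : Set G) ≤ L) (hqp : q ≠ p) (hq : q ∈ sigma M)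
    (Q : Sylow q G) (hQM : (Q : Subgroup G) ≤ M) (hAQ : A ≤ normalizer ((Q : Subgroup G) : Set G))
    {W : Subgroup G} (hWQ : W ≤ Q) (hWA : A ≤ normalizer (W : Set G))
    (hW0 : W ≤ centralizer (A₀ : Set G)) (hWc : ⁅W, A⁆ = W) (hW1 : W ≠ ⊥) :
    Exc p L A A₀ ∧ q ∉ sigma L := by
  have hCL : centralizer (A₀ : Set G) ≤ L := (Subgroup.centralizer_le_normalizer _).trans hN
  have hAL : A ≤ L := fun a ha => hCL (Subgroup.mem_centralizer_iff.2 fun b hb =>
    PGroup.mul_comm_of_elementaryAbelian hA (h0 hb) ha)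
  have hWL : W ≤ L := hW0.trans hCL
  have hWp : IsPGroup q W := Q.2.to_le hWQ
  have hAp := PGroup.isPGroup_of_elementaryAbelian hA
  have hqL : q ∣ Nat.card L := by
    obtain ⟨k, hk⟩ := hWp.exists_card_eq
    exact (dvd_pow_self q fun e => hW1 (Subgroup.card_eq_one.1 (by rw [hk, e, pow_zero]))).trans
      (hk ▸ Subgroup.card_dvd_of_le hWL)
  have link : ∀ Q' : Sylow q G, W ≤ (Q' : Subgroup G) → (Q' : Subgroup G) ≤ L →
      A ≤ normalizer ((Q' : Subgroup G) : Set G) →
      ∃ k ∈ L, (Q' : Subgroup G) = MulAut.conj k • (Q : Subgroup G) := by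
    intro Q' hW' hQ'L hn
    obtain ⟨k, hk, hk'⟩ := exists_centralizer_conj hG hA hc hmax hqp Q Q' hAQ hn hL.1 hAL
      (fun e => hW1 (le_bot_iff.1 (e ▸ le_inf hWL hWQ))) (fun e => hW1 (le_bot_iff.1 (e ▸ le_inf hWL hW')))
    exact ⟨k, hCL (Subgroup.centralizer_le h0 hk), hk'⟩
  have hps : p ∉ sigma L := by
    intro hps
    obtain ⟨S, hS⟩ := exists_sylow_map_ge hAp hAL
    have hAL' : A ≤ ⁅L, L⁆ := hS.trans ((sylow_le_sigmaCore hG hL hps S).trans (sigmaCore_le_commutator hG hL))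
    have hpb : p ∉ beta L := fun h => not_ideal_of_square hA hc hmax h.2
    by_cases hqb : q ∈ beta L
    · obtain ⟨hhall, hhall', -⟩ := S1414.result hG L hL
      haveI := isSolvable_of_coatom hG hL
      have hKn : A ≤ normalizer (piCoreOf (beta L) L : Set G) := hAL.trans (le_normalizer_piCoreOf _ L)
      have hWK : W ≤ piCoreOf (beta L) L := le_map_of_not_dvd_index hWL hWp fun hd => hhall.2.2 q Fact.out hqb (by
        rwa [Subgroup.relIndex, show (piCoreOf (beta L) L).subgroupOf L = piCore (beta L) ↥L from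
          Subgroup.comap_map_eq_self_of_injective L.subtype_injective _])
      obtain ⟨Q', hW', hQ', hn⟩ := exists_sylow_invariant_ge (q := q)
        (Coprime.isSolvable_of_le (piCoreOf_le _ L) inferInstance) hKn
        (coprime_of_isPGroup hAp fun hd => hpb (isPiGrp_piCoreOf (beta L) L p Fact.out hd))
        (hhall'.2 q Fact.out hqb) hWK hWp hWA
      obtain ⟨k, hk, hk'⟩ := link Q' hW' (hQ'.trans (piCoreOf_le _ L)) hn
      have hQL : (Q : Subgroup G) ≤ L := by
        intro y hy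
        have h2 := piCoreOf_le _ L (hQ' (hk'.ge (Subgroup.smul_mem_pointwise_smul y (MulAut.conj k) _ hy)))
        rw [MulAut.smul_def, MulAut.conj_apply] at h2
        have h3 := L.mul_mem (L.mul_mem (L.inv_mem hk) h2) hk
        rwa [show k⁻¹ * (k * y * k⁻¹) * k = y by group] at h3
      refine hne (eq_of_rank_three hG (r := q) hM hQM (fun hr => ?_) hL hQL)
      refine not_pRankLE_sylow hqb.1.2 (Q.subtype hQL) ?_
      rw [Sylow.coe_subtype, Subgroup.map_subgroupOf_eq_of_le hQL]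
      exact hr
    · obtain ⟨-, -, -, -, hkey⟩ := S1414.result hG L hL
      obtain ⟨⟨P, N, hNn, hNP⟩, -, -⟩ := hkey q Fact.out hqL hqb
      have hAN : A ≤ N.map (⁅L, L⁆).subtype := le_map_of_not_dvd_index hAL' hAp fun hd => by
        obtain ⟨j, hj⟩ := P.2.exists_card_eq
        rw [hNP.symm.index_eq_card, hj] at hd
        exact hqp ((Nat.prime_dvd_prime_iff_eq Fact.out Fact.out).1 ((Fact.out : p.Prime).dvd_of_dvd_pow hd)).symm
      have hWL' : W ≤ ⁅L, L⁆ := hWc ▸ Subgroup.commutator_mono hWL hAL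
      have hWN : W ≤ N.map (⁅L, L⁆).subtype := hWc ▸ (Subgroup.commutator_mono hWL' hAN).trans
        (Subgroup.le_normalizer_iff_commutator_le_right.1 (le_normalizer_map_of_normal N))
      refine hW1 (le_bot_iff.1 ((le_inf le_rfl hWN).trans (le_of_eq ?_)))
      obtain ⟨k, hk⟩ := hWp.exists_card_eq
      refine Coprime.disjoint_of_coprime_card (hk ▸ ?_)
      rw [Subgroup.card_map_of_injective (⁅L, L⁆).subtype_injective, ← hNP.index_eq_card]
      exact ((Fact.out : q.Prime).coprime_iff_not_dvd.2 P.not_dvd_index).pow_left k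
  have hE : Exc p L A A₀ := ⟨hG, hL, hAL, hA, hc, h0, h0c, hN, hps⟩
  refine ⟨hE, fun hqs => ?_⟩
  obtain ⟨Q', hW', hQ', hn⟩ := exists_sylow_sigmaCore_ge hG hL hqs (hAL.trans (le_normalizer_sigmaCore L))
    (hE.setting.coprime_sigmaCore hAp) (le_sigmaCore_of_isPiGrp hG hL hWL fun r hr hd => by
      obtain ⟨k, hk⟩ := hWp.exists_card_eq
      exact (Nat.prime_dvd_prime_iff_eq hr Fact.out).1 (hr.dvd_of_dvd_pow (hk ▸ hd)) ▸ hqs) hWp hWA
  obtain ⟨D, -, hD, hQD, hDn⟩ := exists_normal_pgroup_ge (M := L) (C := sigmaCore L)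
    hE.isNilpotent_sigmaCore (le_normalizer_sigmaCore L) hQ' Q'.2
  rw [Q'.is_maximal' hD hQD] at hDn
  obtain ⟨k, hk, hk'⟩ := link Q' hW' (hQ'.trans (sigmaCore_le L)) hn
  have hQQ : (Q : Subgroup G) = (Q' : Subgroup G) := by
    rw [← Coprime.conj_smul_eq_self_of_mem (inv_mem (hDn hk) : k⁻¹ ∈ normalizer ((Q' : Subgroup G) : Set G)), hk',
      Coprime.conj_smul_smul, inv_mul_cancel, map_one, one_smul]
  exact hne (eq_of_coatom_le hL hM (hDn.trans (hQQ ▸ normalizer_sylow_le hq Q hQM)))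

/-- BG 12.3: if no line of `A` has its normalizer only in `M`, then `A` centralises every invariant
Sylow `q`-subgroup for `q ∈ σ(M)`, `q ≠ p`. -/
theorem sigma_sylow_le_centralizer
    (hlines : ∀ A₀ : Subgroup G, A₀ ≤ A → Nat.card A₀ = p →
      ∃ L : Subgroup G, IsCoatom L ∧ L ≠ M ∧ normalizer (A₀ : Set G) ≤ L)
    (hqp : q ≠ p) (hq : q ∈ sigma M) (Q : Sylow q G) (hQM : (Q : Subgroup G) ≤ M)
    (hAQ : A ≤ normalizer ((Q : Subgroup G) : Set G)) :
    (Q : Subgroup G) ≤ centralizer (A : Set G) := by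
  have hAp := PGroup.isPGroup_of_elementaryAbelian hA
  haveI := hA.1
  have hcop : ∀ {U : Subgroup G}, U ≤ (Q : Subgroup G) → (Nat.card A).Coprime (Nat.card U) := fun {U} hU =>
    coprime_of_isPGroup hAp fun hd => by
      obtain ⟨k, hk⟩ := (Q.2.to_le hU).exists_card_eq
      exact hqp ((Nat.prime_dvd_prime_iff_eq Fact.out Fact.out).1
        ((Fact.out : p.Prime).dvd_of_dvd_pow (hk ▸ hd))).symm
  have hQ1 : (Q : Subgroup G) ≠ ⊥ :=
    Q.ne_bot_of_dvd_card (hq.2.1.trans M.card_subgroup_dvd_card)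
  -- a non-centralised invariant subgroup of `C_Q(a)` yields an exceptional configuration
  have conf : ∀ U : Subgroup G, U ≤ (Q : Subgroup G) → A ≤ normalizer (U : Set G) → ∀ a ∈ A, a ≠ 1 →
      ¬ U ⊓ centralizer ({a} : Set G) ≤ centralizer (A : Set G) →
      ∃ (L : Subgroup G) (W : Subgroup G), Exc p L A (zpowers a) ∧ q ∉ sigma L ∧
        W ≤ U ⊓ centralizer ({a} : Set G) ∧ W ≠ ⊥ ∧ ⁅W, A⁆ = W ∧ A ≤ normalizer (W : Set G) := by
    intro U hUQ hUA a ha ha1 hnot
    set V := U ⊓ centralizer ({a} : Set G) with hV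
    have hVA : A ≤ normalizer (V : Set G) :=
      Coprime.le_normalizer_inf_of_le hUA (fun b hb => Subgroup.le_normalizer (Subgroup.mem_centralizer_singleton_iff.2
        (PGroup.mul_comm_of_elementaryAbelian hA hb ha)))
    have hcV := hcop (inf_le_left.trans hUQ : V ≤ _)
    have hs : Group.IsSolvable A ∨ Group.IsSolvable V :=
      Or.inl (Group.isSolvable_of_comm fun x y => mul_comm' x y)
    set W := ⁅V, A⁆
    have hW1 : W ≠ ⊥ := fun e => hnot (Subgroup.le_centralizer_iff.1 (Coprime.le_centralizer_iff_commutator_eq_bot.2 e))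
    have hWA : A ≤ normalizer (W : Set G) := Subgroup.normalizer_commutator_ge_right V A
    have hWV : W ≤ V := Coprime.commutator_le_left_of_le_normalizer hVA
    have hWc : ⁅W, A⁆ = W := Coprime.commutator_commutator_eq hVA hcV hs
    have h0c : Nat.card (zpowers a) = p := by rw [Nat.card_zpowers, orderOf_eq_prime (hA.2 a ha) ha1]
    obtain ⟨L, hL, hne, hN⟩ := hlines _ (Subgroup.zpowers_le.2 ha) h0c
    have hW0 : W ≤ centralizer (zpowers a : Set G) := by
      rw [Subgroup.zpowers_eq_closure, Subgroup.centralizer_closure]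
      exact hWV.trans inf_le_right
    obtain ⟨hE, hqL⟩ := exc_of_fixed hG hM hAM hA hc hmax hL hne (Subgroup.zpowers_le.2 ha) h0c hN hqp hq Q
      hQM hAQ (hWV.trans (inf_le_left.trans hUQ)) hWA hW0 hWc hW1
    exact ⟨L, W, hE, hqL, hWV, hW1, hWc, hWA⟩
  have hW0' : ∀ {a : G} {W U : Subgroup G}, W ≤ U ⊓ centralizer ({a} : Set G) →
      W ≤ centralizer (zpowers a : Set G) := fun {a W U} hW => by
    rw [Subgroup.zpowers_eq_closure, Subgroup.centralizer_closure]
    exact hW.trans inf_le_right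
  -- `A` centralises `Ω₁(Z(Q))`
  set Z := (Q : Subgroup G) ⊓ centralizer ((Q : Subgroup G) : Set G) with hZ
  set Ω := omegaOne q Z with hΩ
  have hΩQ : Ω ≤ (Q : Subgroup G) := (PGroup.omegaOne_le Z).trans inf_le_left
  have hΩA : A ≤ normalizer (Ω : Set G) := (Coprime.le_normalizer_inf_of_le hAQ
    (Coprime.le_normalizer_centralizer hAQ)).trans (normalizer_le_normalizer_omegaOne q Z)
  have hΩc : Ω ⊓ centralizer (A : Set G) = Ω := by
    refine Coprime.eq_of_forall_centralizer_le (square_not_cyclic hA hc) hΩA (hcop hΩQ) inf_le_left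
      fun a ha ha1 => le_inf inf_le_left ?_
    by_contra hnot
    obtain ⟨L, W, hE, hqL, hW, hW1, hWc, hWA⟩ := conf Ω hΩQ hΩA a ha ha1 hnot
    have hWp : IsPGroup q W := Q.2.to_le (hW.trans (inf_le_left.trans hΩQ))
    obtain ⟨hLW, hWC, B₀, hB0, -, -, hS⟩ := hE.core hqp hqL hWp hWA (hW0' hW) hWc hW1
    have hWL : W ≤ L := (hW0' hW).trans hE.centralizer_line_le
    have hQL : (Q : Subgroup G) ≤ L := by
      rw [← normalizer_eq_of_normal hG hE.coatom hWL hLW hW1]
      refine le_trans ?_ (Subgroup.centralizer_le_normalizer _)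
      rw [Subgroup.le_centralizer_iff]
      exact ((hW.trans inf_le_left).trans (PGroup.omegaOne_le Z)).trans inf_le_right
    obtain ⟨B, hB, hBT, hmem, hcen⟩ := hS (Q.subtype hQL)
    have hT : ((Q.subtype hQL : Sylow q L) : Subgroup L).map L.subtype = (Q : Subgroup G) := by
      rw [Sylow.coe_subtype, Subgroup.map_subgroupOf_eq_of_le hQL]
    rw [hT] at hBT hmem hcen
    refine hE.false_of_sylow hB hqp (hB0.trans (hW0' hW)) Q hQL hBT hmem hcen hAQ fun hAC => hW1 ?_
    rw [← hWc, ← Coprime.le_centralizer_iff_commutator_eq_bot]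
    exact hAC.trans (Subgroup.centralizer_le (hW.trans (inf_le_left.trans hΩQ)))
  obtain ⟨z, hzQ, hz1, hzq, hzc⟩ := exists_central_pow_eq_one Q.2 hQ1
  have hzA : z ∈ centralizer (A : Set G) := (hΩc.ge (PGroup.mem_omegaOne_of_pow_eq_one
    (show z ∈ Z from ⟨hzQ, Subgroup.mem_centralizer_iff.2 fun y hy =>
      Subgroup.mem_centralizer_singleton_iff.1 (hzc hy)⟩) hzq)).2
  -- generation
  refine inf_eq_left.1 (Coprime.eq_of_forall_centralizer_le (square_not_cyclic hA hc) hAQ (hcop le_rfl)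
    inf_le_left fun a ha ha1 => le_inf inf_le_left ?_)
  by_contra hnot
  obtain ⟨L, W, hE, hqL, hW, hW1, hWc, hWA⟩ := conf Q le_rfl hAQ a ha ha1 hnot
  have hWQ : W ≤ (Q : Subgroup G) := hW.trans inf_le_left
  have hWp : IsPGroup q W := Q.2.to_le hWQ
  obtain ⟨-, hWC, B₀, hB0, hB0c, hB0N, hS⟩ := hE.core hqp hqL hWp hWA (hW0' hW) hWc hW1
  have hzL : z ∈ L := hE.centralizer_le hzA
  have hWL : W ≤ L := (hW0' hW).trans hE.centralizer_line_le
  have hzn : A ≤ normalizer (zpowers z : Set G) := (Subgroup.le_centralizer_iff.1 (Subgroup.zpowers_le.2 hzA)).trans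
    (Subgroup.centralizer_le_normalizer _)
  obtain ⟨S, hUS, hAS⟩ := hE.exists_invariant_sylow_compl hqp hqL hWp hWL hWc hW1
    (U := W ⊔ zpowers z) (Q.2.to_le (sup_le hWQ (Subgroup.zpowers_le.2 hzQ)))
    (sup_le hWL (Subgroup.zpowers_le.2 hzL))
    (fun b hb => Coprime.mem_normalizer_of_conj_smul_eq (by
      rw [Subgroup.smul_sup, Coprime.conj_smul_eq_self_of_mem (hWA hb), Coprime.conj_smul_eq_self_of_mem (hzn hb)]))
  obtain ⟨B, hB, hBT, hmem, hcen⟩ := hS S
  set T := (S : Subgroup L).map L.subtype with hT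
  have hzT : z ∈ T := hUS (Subgroup.mem_sup_right (Subgroup.mem_zpowers z))
  have hzW : z ∉ W := fun h => hz1 (Subgroup.mem_bot.1 (hWC ▸ ⟨h, hzA⟩ : z ∈ (⊥ : Subgroup G)))
  obtain ⟨b, hb, hb1, hbgen⟩ := hB.exists_gen
  have hBeq : zpowers b ⊔ zpowers z = B :=
    square_eq_sup hB.elem hB.card (hB.line_le hb) hb1 (hmem z hzT hzq) fun e => hzW (hB0 (hbgen ▸ e))
  have hA0B : ∀ y ∈ B, y ∈ centralizer (zpowers a : Set G) := by
    rw [← hBeq]
    exact sup_le (hbgen ▸ hB0.trans (hW0' hW))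
      (Subgroup.zpowers_le.2 (Subgroup.centralizer_le (Subgroup.zpowers_le.2 ha) hzA))
  have h0T : zpowers a ≤ centralizer (T : Set G) := by
    refine Coprime.le_centralizer_of_fix_pow_eq_one hB.setting.ne_two _ _ (S.2.map _)
      ((Subgroup.zpowers_le.2 ha).trans hAS) ?_ fun y hy hyq => ?_
    · rw [hE.card_line]
      exact (Nat.coprime_primes Fact.out Fact.out).2 (Ne.symm hqp)
    · exact Subgroup.zpowers_le.2 (Subgroup.mem_centralizer_singleton_iff.2
        (Subgroup.mem_centralizer_iff.1 (hA0B y (hmem y hy hyq)) a (Subgroup.mem_zpowers a)))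
  have hnA : ¬ A ≤ centralizer (T : Set G) := fun hAC => hW1 (by
    rw [← hWc, ← Coprime.le_centralizer_iff_commutator_eq_bot]
    exact hAC.trans (Subgroup.centralizer_le ((le_sup_left.trans hUS : W ≤ T))))
  have hN := hE.normalizer_le_of_centralizer T hAS h0T hnA ((Subgroup.centralizer_le hBT).trans hB.centralizer_le)
  exact hqL ⟨Fact.out, hB.setting.dvd_card, S, hN⟩

end Fixed

end Cfsg.Agent.OddOrder
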