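import Cfsg.Agent.Lib.OddOrder.SigmaEmbed
import Cfsg.Agent.Lib.OddOrder.SigmaLine
import Cfsg.Agent.Lib.OddOrder.TauOneTools
import Cfsg.Agent.S1406
import Cfsg.Agent.S1422

/-!
# Bender–Glauberman 13.4: centralisers of subgroups of order `p ∈ τ₁(M)`

For `P` of order `p`, `R` of order `r` centralising it and a witness `Q = [Q, R]` inside
`M_σ ∩ C(P)`:

* `exists_coatom_sigma`: `P`, `Q`, `R` lie in a nonconjugate `L` with `p ∈ σ(L)`, `r ∈ τ₁(L)`;
* `mem_alpha_of_witness`: then `p ∈ α(L)`;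
* `exists_witness_data`: `L` contains `N(T)` for an invariant Sylow `q`-subgroup `T ⊇ Q` of `G`;
* `false_of_witness`: no witness exists.
-/

set_option autoImplicit false
set_option linter.style.haveILetI false
set_option linter.unusedSectionVars false

namespace Cfsg.Agent.OddOrder

open Cfsg
open Subgroup (centralizer normalizer zpowers)
open scoped Pointwise commutatorElement

universe u
variable {G : Type u} [Group G] [Finite G]

/-- The data of BG 13.4. -/
structure TauOneWitness (M P R Q : Subgroup G) (p r q : ℕ) : Prop where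
  minSimple : IsMinSimpleOddOrder G
  coatom : IsCoatom M
  prime_p : p.Prime
  prime_r : r.Prime
  prime_q : q.Prime
  ne : p ≠ r
  notMem_p : p ∉ sigma M
  rank_p : PRankLE p 1 M
  not_dvd : ¬ p ∣ Nat.card ↥⁅M, M⁆
  notMem_r : r ∉ sigma M
  card_P : Nat.card P = p
  card_R : Nat.card R = r
  P_le : P ≤ M
  R_le : R ≤ M
  R_comm : R ≤ centralizer (P : Set G)
  isPGroup : IsPGroup q Q
  Q_le : Q ≤ sigmaCore M
  Q_comm : Q ≤ centralizer (P : Set G)
  R_norm : R ≤ normalizer (Q : Set G)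
  ne_bot : Q ≠ ⊥
  eq : ⁅Q, R⁆ = Q

namespace TauOneWitness

variable {M P R Q : Subgroup G} {p r q : ℕ} (h : TauOneWitness M P R Q p r q)
include h

theorem mem_sigma : q ∈ sigma M := by
  haveI := Fact.mk h.prime_q
  exact isPiGrp_piCoreOf (sigma M) M q h.prime_q (dvd_card_of_ne_bot h.isPGroup h.ne_bot h.Q_le)

theorem ne_qp : q ≠ p := fun e => h.notMem_p (e ▸ h.mem_sigma)

theorem ne_qr : q ≠ r := fun e => h.notMem_r (e ▸ h.mem_sigma)

theorem Q_le_M : Q ≤ M := h.Q_le.trans (piCoreOf_le _ M)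

theorem coprime_Q {l : ℕ} (hl : l.Prime) (hne : q ≠ l) : (Nat.card Q).Coprime l := by
  haveI := Fact.mk h.prime_q
  obtain ⟨k, hk⟩ := h.isPGroup.exists_card_eq
  rw [hk]
  exact ((Nat.coprime_primes h.prime_q hl).2 hne).pow_left k

theorem card_mul : Nat.card ↥((P ⊔ R) ⊔ Q) = p * r * Nat.card Q := by
  have hPR : Nat.card ↥(P ⊔ R) = p * r := by
    rw [Coprime.card_sup_of_le_normalizer
      ((Subgroup.le_centralizer_iff.1 h.R_comm).trans (Subgroup.centralizer_le_normalizer _))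
      (Coprime.disjoint_of_coprime_card (by
        rw [h.card_P, h.card_R]; exact (Nat.coprime_primes h.prime_p h.prime_r).2 h.ne)),
      h.card_P, h.card_R]
  rw [Coprime.card_sup_of_le_normalizer
    (sup_le ((Subgroup.le_centralizer_iff.1 h.Q_comm).trans (Subgroup.centralizer_le_normalizer _)) h.R_norm)
    (Coprime.disjoint_of_coprime_card (by
      rw [hPR]
      exact Nat.Coprime.mul_left (h.coprime_Q h.prime_p h.ne_qp).symm (h.coprime_Q h.prime_r h.ne_qr).symm)),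
    hPR]

/-- The primes of `P R Q`. -/
theorem prime_dvd {l : ℕ} (hl : l.Prime) (hd : l ∣ Nat.card ↥((P ⊔ R) ⊔ Q)) : l = p ∨ l = r ∨ l = q := by
  haveI := Fact.mk h.prime_q
  obtain ⟨k, hk⟩ := h.isPGroup.exists_card_eq
  rw [h.card_mul, hk] at hd
  rcases hl.dvd_mul.1 hd with hd' | hd'
  · rcases hl.dvd_mul.1 hd' with hd'' | hd''
    · exact Or.inl ((Nat.prime_dvd_prime_iff_eq hl h.prime_p).1 hd'')
    · exact Or.inr (Or.inl ((Nat.prime_dvd_prime_iff_eq hl h.prime_r).1 hd''))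
  · exact Or.inr (Or.inr ((Nat.prime_dvd_prime_iff_eq hl h.prime_q).1 (hl.dvd_of_dvd_pow hd')))

/-- `r ∈ τ₁(L)` for every nonconjugate `L` containing `Q` and `R`. -/
theorem mem_tau1 {L : Subgroup G} (hL : IsCoatom L) (hn : NotConj M L) (hQ : Q ≤ L) (hR : R ≤ L) :
    r ∈ tau1 L := by
  haveI := Fact.mk h.prime_r
  by_contra ht
  have h1 := le_centralizer_inter h.minSimple h.coatom hL hn h.notMem_r
    (isPGroup_of_card_prime h.card_R) h.R_le hR ht
  have h2 : R ≤ centralizer (Q : Set G) := h1.trans (Subgroup.centralizer_le (le_inf h.Q_le hQ))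
  rw [Coprime.le_centralizer_iff_commutator_eq_bot, h.eq] at h2
  exact h.ne_bot h2

/-- There is a nonconjugate `L` with `p ∈ σ(L)` containing `P`, `Q`, `R`. -/
theorem exists_coatom_sigma : ∃ L : Subgroup G, IsCoatom L ∧ NotConj M L ∧ P ≤ L ∧ Q ≤ L ∧ R ≤ L ∧
    p ∈ sigma L := by
  have hG := h.minSimple
  haveI := Fact.mk h.prime_p
  haveI := Fact.mk h.prime_q
  have hPp := isPGroup_of_card_prime h.card_P
  obtain ⟨L₀, hL₀, hNL₀⟩ := exists_coatom_ge
    (normalizer_ne_top_of_pgroup hG hPp (ne_bot_of_card_prime h.card_P))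
  obtain ⟨hn₀, -, -⟩ := centralizer_norm_tau13 hG h.coatom hL₀ h.notMem_p h.rank_p h.card_P hNL₀
  have hCL₀ : centralizer (P : Set G) ≤ L₀ := (Subgroup.centralizer_le_normalizer _).trans hNL₀
  have hP₀ : P ≤ L₀ := Subgroup.le_normalizer.trans hNL₀
  have hQ₀ : Q ≤ L₀ := h.Q_comm.trans hCL₀
  have hR₀ : R ≤ L₀ := h.R_comm.trans hCL₀
  by_cases hs : p ∈ sigma L₀
  · exact ⟨L₀, hL₀, hn₀, hP₀, hQ₀, hR₀, hs⟩
  have ht : p ∈ tau2 L₀ :=
    mem_tau2 hG hL₀ h.prime_p hs (S1409.result hG L₀ hL₀ p hs P h.card_P hNL₀).1.2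
  obtain ⟨E₀, hE₀⟩ := exists_complIn hG hL₀
  obtain ⟨_, A', -, hSE', -, hAS', hAe', hAc'⟩ := exists_square_compl hG ht hE₀ IsPGroup.of_bot bot_le
  obtain ⟨hnil, -⟩ :=
    S1417.result hG L₀ hL₀ p ht A' ⟨hAS'.trans (hSE'.trans hE₀.1), hAe', hAc'⟩
  have hr₀ : r ∉ sigma L₀ := (h.mem_tau1 hL₀ hn₀ hQ₀ hR₀).2.1
  have hq₀ : q ∉ sigma L₀ := fun hq =>
    not_mem_sigma_of_nilpotent hG h.coatom hL₀ hn₀ hnil hq h.mem_sigma
  obtain ⟨E, hE, hYE⟩ := exists_compl_ge hG hL₀ (sup_le (sup_le hP₀ hR₀) hQ₀) fun l hl hd => by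
    rcases h.prime_dvd hl hd with rfl | rfl | rfl
    exacts [hs, hr₀, hq₀]
  obtain ⟨S, A, hS, hSE, -, hAS, hAe, hAc⟩ :=
    exists_square_compl hG ht hE hPp ((le_sup_left.trans le_sup_left).trans hYE)
  obtain ⟨⟨hEA, -⟩, -⟩ := S1418.result hG L₀ hL₀ E hE p ht A ⟨hAS.trans hSE, hAe, hAc⟩
  have hA1 : A ≠ ⊥ := square_ne_bot hAe hAc
  obtain ⟨L, hL, hNL⟩ := exists_coatom_ge
    (normalizer_ne_top_of_pgroup hG (PGroup.isPGroup_of_elementaryAbelian hAe) hA1)
  have hAL : A ≤ L := Subgroup.le_normalizer.trans hNL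
  have hpL : p ∈ sigma L := by
    by_contra hs'
    have ht' : p ∈ tau2 L := mem_tau2 hG hL h.prime_p hs' (not_pRankLE_of_elementary hAe hAL hAc.ge)
    obtain ⟨E₂, hE₂, hAE₂⟩ := exists_compl_ge hG hL hAL fun l hl hd => by
      rw [hAc] at hd
      rw [(Nat.prime_dvd_prime_iff_eq hl h.prime_p).1 (hl.dvd_of_dvd_pow hd)]
      exact hs'
    exact (S1418.result hG L hL E₂ hE₂ p ht' A ⟨hAE₂, hAe, hAc⟩).2.1.2.2 hNL
  have hYL : (P ⊔ R) ⊔ Q ≤ L := (hYE.trans hEA).trans hNL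
  exact ⟨L, hL, notConj_of_mem_sigma hpL h.notMem_p, (le_sup_left.trans le_sup_left).trans hYL,
    le_sup_right.trans hYL, (le_sup_right.trans le_sup_left).trans hYL, hpL⟩

end TauOneWitness

/-- An invariant Sylow subgroup for a prime of `σ(L)`. -/
theorem exists_sylow_invariant_sigma (hG : IsMinSimpleOddOrder G) {L : Subgroup G} (hL : IsCoatom L)
    {p : ℕ} [Fact p.Prime] (hp : p ∈ sigma L) {Y U : Subgroup G} (hYL : Y ≤ L)
    (hY : ∀ l : ℕ, l.Prime → l ∣ Nat.card Y → l ≠ p ∧ l ∉ alpha L) (hU : IsPGroup p U) (hUL : U ≤ L)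
    (hYU : Y ≤ normalizer (U : Set G)) :
    ∃ S : Subgroup G, IsSyl p S L ∧ U ≤ S ∧ Y ≤ normalizer (S : Set G) := by
  haveI := isSolvable_of_coatom hG hL
  set N := piCore (alpha L) ↥L
  set π := QuotientGroup.mk' N
  set D₀ := (pCore p (↥L ⧸ N)).comap π
  set D := D₀.map L.subtype
  have hDL : D ≤ L := Subgroup.map_subtype_le _
  have hLD : L ≤ normalizer (D : Set G) := le_normalizer_map_of_normal _
  have hsylD : ∀ S : Sylow p L, (S : Subgroup L).map L.subtype ≤ D := by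
    intro S
    refine Subgroup.map_mono fun x hx => ?_
    obtain ⟨k, hk⟩ := S.2 ⟨x, hx⟩
    refine Subnormal.mem_pCore_of_mem_fittingSubgroup (k := k) (commutator_quotient_le_fitting hG hL ?_)
      (by rw [← map_pow, show x ^ p ^ k = 1 from congrArg Subtype.val hk, map_one])
    have h := sylow_le_commutator_of_sigma hG hL hp S ⟨x, hx, rfl⟩
    rw [← Subgroup.map_subtype_commutator] at h
    obtain ⟨x', hx', e⟩ := h
    have h2 := Subgroup.mem_map_of_mem π ((Subtype.ext e : x' = x) ▸ hx')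
    rw [commutator_def, Subgroup.map_commutator] at h2
    exact Subgroup.commutator_mono le_top le_top h2
  have hle : ∀ V : Subgroup G, IsPGroup p V → V ≤ L → V ≤ D := fun V hV hVL => by
    obtain ⟨S, hS⟩ := exists_sylow_map_ge hV hVL
    exact hS.trans (hsylD S)
  have hcop : (Nat.card Y).Coprime (Nat.card D) := Nat.coprime_of_dvd fun l hl h1 h2 => by
    obtain ⟨hlp, hla⟩ := hY l hl h1
    rw [Subgroup.card_map_of_injective L.subtype_injective] at h2
    have h3 := h2.trans (PCore.card_comap_dvd π (pCore p (↥L ⧸ N)))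
    rw [QuotientGroup.ker_mk'] at h3
    rcases hl.dvd_mul.1 h3 with h4 | h4
    · exact hla (isPiGrp_piCore (alpha L) ↥L l hl h4)
    · obtain ⟨j, hj⟩ := (PCore.isPGroup_pCore (p := p) (G := ↥L ⧸ N)).exists_card_eq
      exact hlp ((Nat.prime_dvd_prime_iff_eq hl Fact.out).1 (hl.dvd_of_dvd_pow (hj ▸ h4)))
  obtain ⟨S₀, hUS, hYS⟩ := Coprime.exists_invariant_sylow_ge (hYL.trans hLD) hcop
    (Or.inr (Coprime.isSolvable_of_le hDL inferInstance)) (hle U hU hUL) hU hYU
  set S := (S₀ : Subgroup D).map D.subtype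
  obtain ⟨T, hT, hST⟩ := exists_isSyl_ge (S₀.2.map D.subtype) ((Subgroup.map_subtype_le _).trans hDL)
  have hTS : T = S := IsSyl.eq_of_le (A := D) ⟨S₀, rfl⟩ hT.isPGroup (hle T hT.isPGroup hT.le) hST
  exact ⟨S, hTS ▸ hT, hUS, hYS⟩

namespace TauOneWitness

variable {M P R Q : Subgroup G} {p r q : ℕ} (h : TauOneWitness M P R Q p r q)
include h

theorem exists_sylow_of_sigma {L : Subgroup G} [Fact p.Prime] (hp : p ∈ sigma L)
    {S : Subgroup G} (hS : IsSyl p S L) : ∃ S' : Sylow p G, (S' : Subgroup G) = S :=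
  hS.exists_sylow (hS.sigma_normalizer_le hp)

/-- `p ∈ α(L)`. -/
theorem mem_alpha_of_witness {L : Subgroup G} (hL : IsCoatom L) (hn : NotConj M L) (hQL : Q ≤ L)
    (hRL : R ≤ L) (hpL : p ∈ sigma L) : p ∈ alpha L := by
  have hG := h.minSimple
  have hM := h.coatom
  haveI := Fact.mk h.prime_p
  haveI := Fact.mk h.prime_q
  by_contra hα
  have hqL : q ∉ alpha L := fun ha => disjoint_alpha_sigma hG hM hL hn ha h.mem_sigma
  -- `Q` centralises a Sylow subgroup of `G`
  obtain ⟨S, hS, -, hQS⟩ := exists_sylow_invariant_sigma hG hL hpL hQL (U := ⊥) (fun l hl hd => by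
    obtain ⟨k, hk⟩ := h.isPGroup.exists_card_eq
    rw [(Nat.prime_dvd_prime_iff_eq hl h.prime_q).1 (hl.dvd_of_dvd_pow (hk ▸ hd))]
    exact ⟨h.ne_qp, hqL⟩) IsPGroup.of_bot bot_le
    (le_top.trans (Subgroup.normalizer_eq_top (H := (⊥ : Subgroup G))).ge)
  have hQd : Q ≤ ⁅L, L⁆ := h.eq.ge.trans (Subgroup.commutator_mono hQL hRL)
  have hQC : Q ≤ centralizer (S : Set G) :=
    le_centralizer_of_le_derived hG hL h.ne_qp.symm h.isPGroup hQd hS.isPGroup hS.le hQS hα
  obtain ⟨S', hS'⟩ := h.exists_sylow_of_sigma hpL hS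
  have hrS : PRankLE p 2 (S' : Subgroup G) := by
    have h2 : PRankLE p 2 L := by_contra fun e => hα ⟨h.prime_p, e⟩
    rw [hS']
    exact pRankLE_of_le hS.le h2
  have hrH : ∀ H : Subgroup G, PRankLE p 2 H := by
    intro H
    by_contra hH
    obtain ⟨E, -, hE, hE3⟩ := exists_elementary_cube hH
    obtain ⟨S₁, hS₁⟩ := (PGroup.isPGroup_of_elementaryAbelian hE).exists_le_sylow
    obtain ⟨g, hg⟩ := MulAction.exists_smul_eq G S₁ S'
    refine not_pRankLE_of_elementary (E := MulAut.conj g • E) (PGroup.isElementaryAbelian_map hE _) ?_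
      (by rw [Coprime.card_conj_smul]; exact hE3) hrS
    rw [← hg, Sylow.coe_subgroup_smul]
    exact Subgroup.pointwise_smul_le_pointwise_smul_iff.2 hS₁
  obtain ⟨X, hXQ, hX⟩ := exists_le_card_prime h.isPGroup h.ne_bot
  have hXp := isPGroup_of_card_prime hX
  have hX1 := ne_bot_of_card_prime hX
  have hXM : X ≤ M := hXQ.trans h.Q_le_M
  obtain ⟨H, hH, hNX⟩ := exists_coatom_ge (normalizer_ne_top_of_pgroup hG hXp hX1)
  have hCX : centralizer (X : Set G) ≤ H := (Subgroup.centralizer_le_normalizer _).trans hNX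
  have hXH : X ≤ H := Subgroup.le_normalizer.trans hNX
  have hSX : S ≤ centralizer (X : Set G) :=
    (Subgroup.le_centralizer_iff.1 hQC).trans (Subgroup.centralizer_le hXQ)
  have hPX : P ≤ centralizer (X : Set G) :=
    (Subgroup.le_centralizer_iff.1 h.Q_comm).trans (Subgroup.centralizer_le hXQ)
  have hPH : P ≤ M ⊓ H := le_inf h.P_le (hPX.trans hCX)
  obtain ⟨K, hKH, hKn, hprod, hpK, hqK⟩ : ∃ K : Subgroup G, K ≤ H ∧ H ≤ normalizer (K : Set G) ∧
      (∀ g ∈ H, ∃ k ∈ K, ∃ d ∈ M ⊓ H, g = k * d) ∧ ¬ p ∣ Nat.card K ∧ ¬ q ∣ Nat.card K := by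
    rcases eq_or_ne H M with rfl | hne
    · refine ⟨⊥, bot_le, le_top.trans (Subgroup.normalizer_eq_top (H := (⊥ : Subgroup G))).ge,
        fun g hg => ⟨1, one_mem _, g, ⟨hg, hg⟩, (one_mul g).symm⟩, ?_, ?_⟩ <;>
      · rw [Subgroup.card_bot, Nat.dvd_one]
        first | exact h.prime_p.ne_one | exact h.prime_q.ne_one
    obtain ⟨T, hT, hXT⟩ := exists_isSyl_ge hXp (le_inf hXM hXH)
    obtain ⟨K, hKH, hKn, hprod, hKσ, hcases⟩ :=
      exists_supplement hG hM hH hne h.mem_sigma hXp hX1 hXM hNX hT hXT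
    refine ⟨K, hKH, hKn, hprod, fun hd => ?_, fun hd => hKσ q h.prime_q hd h.mem_sigma⟩
    rcases hcases with ⟨-, rfl⟩ | ⟨-, rfl, hE⟩
    · exact (isPiGrp_piCoreOf (alpha H) H p h.prime_p hd).2 (hrH H)
    · refine not_dvd_sigmaCore ?_ hd
      exact not_mem_sigma_of_compl hG hH hE h.prime_p
        ((h.card_P ▸ Subgroup.card_dvd_of_le hPH : p ∣ Nat.card ↥(M ⊓ H)))
  have hHs := isSolvable_of_coatom hG hH
  have hXK : (Nat.card X).Coprime (Nat.card K) := coprime_of_isPGroup hXp hqK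
  -- a Sylow subgroup of `G` in `M ∩ C(X)`
  obtain ⟨S₁, hS₁, hPS₁⟩ := exists_isSyl_ge (isPGroup_of_card_prime h.card_P) (le_inf hPH hPX)
  have hS₁H := isSyl_centralizer_supplement hHs hKH hKn inf_le_right hprod (le_inf hXM hXH) hXK hpK hS₁
  obtain ⟨a, -, ha⟩ := hS₁H.exists_conj_le hS.isPGroup (le_inf (hSX.trans hCX) hSX)
  have hS₂ : ((a • S' : Sylow p G) : Subgroup G) = S₁ := by
    symm
    rw [← hS', ← Sylow.coe_subgroup_smul] at ha
    exact (a • S').is_maximal' hS₁.isPGroup ha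
  set T₀ : Sylow p G := a • S'
  have hTM : (T₀ : Subgroup G) ≤ M := hS₂.trans_le (hS₁.le.trans (inf_le_left.trans inf_le_left))
  have hTH : (T₀ : Subgroup G) ≤ H := hS₂.trans_le (hS₁.le.trans (inf_le_left.trans inf_le_right))
  have hTX : (T₀ : Subgroup G) ≤ centralizer (X : Set G) := hS₂.trans_le (hS₁.le.trans inf_le_right)
  set C := centralizer ((T₀ : Subgroup G) : Set G)
  have hXC : X ≤ C := Subgroup.le_centralizer_iff.1 hTX
  have hMC : ∀ n ∈ M, n ∈ normalizer ((T₀ : Subgroup G) : Set G) → n ∈ C := by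
    intro n hn hnN
    refine Subgroup.mem_centralizer_iff.2 fun s hs => ?_
    have h1 : ⁅n, s⁆ ∈ (T₀ : Subgroup G) ⊓ ⁅M, M⁆ := by
      refine ⟨?_, Subgroup.commutator_mem_commutator hn (hTM hs)⟩
      rw [commutatorElement_def]
      exact mul_mem ((Subgroup.mem_normalizer_iff.1 hnN s).1 hs) ((T₀ : Subgroup G).inv_mem hs)
    rw [Coprime.disjoint_of_coprime_card (coprime_of_isPGroup T₀.2 h.not_dvd), Subgroup.mem_bot,
      commutatorElement_eq_one_iff_mul_comm] at h1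
    exact h1.symm
  obtain ⟨T, hT, hXT⟩ := exists_isSyl_ge hXp (le_inf hXM hXC)
  have hS1 : (T₀ : Subgroup G) ≠ ⊥ := fun e =>
    ne_bot_of_card_prime h.card_P (le_bot_iff.1 (e ▸ hS₂.symm ▸ hPS₁))
  refine not_normalizer_le_centralizer hG T₀ hS1 fun n hn => ?_
  have key : IsSyl q T C ∧ ∀ m : G, m ∈ normalizer (T : Set G) →
      m ∈ normalizer ((T₀ : Subgroup G) : Set G) → m ∈ C := by
    by_cases hNT : normalizer (T : Set G) ≤ M
    · exact ⟨hT.of_normalizer_le (hT.le.trans inf_le_right) (le_inf (inf_le_right.trans hNT) inf_le_left),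
        fun m hm hm' => hMC m (hNT hm) hm'⟩
    have hc : IsCyclic T := by
      by_contra hc
      obtain ⟨E, hE⟩ := exists_complIn hG hM
      exact hNT ((S1420.result hG M hM E hE).2.2.1 q T h.mem_sigma hT.isPGroup
        (hT.le.trans inf_le_left) hc)
    have hNH : normalizer (T : Set G) ≤ H := (normalizer_le_of_cyclic hc hXT).trans hNX
    have hTU : T ≤ (M ⊓ H) ⊓ C :=
      le_inf (le_inf (hT.le.trans inf_le_left) (Subgroup.le_normalizer.trans hNH)) (hT.le.trans inf_le_right)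
    have hcopT : (Nat.card (T₀ : Subgroup G)).Coprime (Nat.card K) := coprime_of_isPGroup T₀.2 hpK
    have h1 := isSyl_centralizer_supplement hHs hKH hKn inf_le_right hprod (le_inf hTM hTH) hcopT hqK
      (hT.mono hTU (inf_le_inf_right _ inf_le_left))
    refine ⟨h1.of_normalizer_le (hT.le.trans inf_le_right)
      (le_inf (inf_le_right.trans hNH) inf_le_left), fun m hm hm' => ?_⟩
    obtain ⟨u, hu, c, -, hcC, rfl⟩ := exists_supplement_mul hHs hKH hKn inf_le_right hprod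
      (le_inf hTM hTH) hcopT (hNH hm) ((Coprime.conj_smul_eq_self_of_mem hm').le.trans (le_inf hTM hTH))
    have hcN : c ∈ normalizer ((T₀ : Subgroup G) : Set G) := Subgroup.centralizer_le_normalizer _ hcC
    have huN : u ∈ normalizer ((T₀ : Subgroup G) : Set G) := by
      have h2 := (normalizer ((T₀ : Subgroup G) : Set G)).mul_mem hm'
        ((normalizer ((T₀ : Subgroup G) : Set G)).inv_mem hcN)
      simpa using h2
    exact mul_mem (hMC u hu.1 huN) hcC
  obtain ⟨c, hc, hcT⟩ := key.1.exists_conj_le (U := MulAut.conj n • T)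
    (hT.isPGroup.map _) (by
      refine (Subgroup.pointwise_smul_le_pointwise_smul_iff.2 key.1.le).trans (le_of_eq ?_)
      exact Coprime.conj_smul_eq_self_of_mem (Coprime.le_normalizer_centralizer le_rfl hn))
  rw [Coprime.conj_smul_smul] at hcT
  have h1 := key.2 (c * n) (Coprime.mem_normalizer_of_conj_smul_eq
    (Subgroup.eq_of_le_of_card_ge hcT (Coprime.card_conj_smul _ _).ge))
    (mul_mem (Subgroup.centralizer_le_normalizer _ hc) hn)
  have h2 : c⁻¹ * (c * n) ∈ C := mul_mem (inv_mem hc) h1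
  rw [inv_mul_cancel_left] at h2
  exact h2

/-- `L` contains the normalizer of an invariant Sylow `q`-subgroup over `Q`. -/
theorem exists_witness_data : ∃ L : Subgroup G, IsCoatom L ∧ NotConj M L ∧ q ∈ sigma L ∧
    Q ≤ L ∧ R ≤ L ∧
    (∀ X : Subgroup G, X ≤ Q → Nat.card X = q → centralizer (X : Set G) ≤ L) ∧
    ∃ T : Subgroup G, IsSyl q T M ∧ T ≤ sigmaCore M ∧ Q ≤ T ∧ R ≤ normalizer (T : Set G) ∧
      normalizer (T : Set G) ≤ L := by
  have hG := h.minSimple
  have hM := h.coatom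
  haveI := Fact.mk h.prime_p
  haveI := Fact.mk h.prime_q
  haveI := Fact.mk h.prime_r
  obtain ⟨L, hL, hn, hPL, hQL, hRL, hpL⟩ := h.exists_coatom_sigma
  have hpα := h.mem_alpha_of_witness hL hn hQL hRL hpL
  have hrL := h.mem_tau1 hL hn hQL hRL
  have hqα : q ∉ alpha L := fun ha => disjoint_alpha_sigma hG hM hL hn ha h.mem_sigma
  have hrα : r ∉ alpha L := fun ha => hrL.2.1 (alpha_subset_sigma hG hL ha)
  have hPp := isPGroup_of_card_prime h.card_P
  have hQab : IsMulCommutative Q := by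
    by_contra hna
    exact hn.ne ((S1422.result hG q Q h.isPGroup hna).unique ⟨hL, hQL⟩ ⟨hM, h.Q_le_M⟩)
  haveI := hQab
  have hcopRQ : (Nat.card R).Coprime (Nat.card Q) :=
    h.card_R ▸ (h.coprime_Q h.prime_r h.ne_qr).symm
  have hRs : Group.IsSolvable R := hG.2.2.2 R fun e => hM.1 (top_unique (e ▸ h.R_le))
  -- `Q` centralises a Sylow `p`-subgroup of `L`
  obtain ⟨S, hS, hPS, hYS⟩ := exists_sylow_invariant_sigma hG hL hpL (sup_le hRL hQL) (U := P)
    (fun l hl hd => by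
      have hd' : l ∣ r * Nat.card Q := by
        rw [Coprime.card_sup_of_le_normalizer h.R_norm (Coprime.disjoint_of_coprime_card hcopRQ), h.card_R] at hd
        exact hd
      obtain ⟨k, hk⟩ := h.isPGroup.exists_card_eq
      rcases hl.dvd_mul.1 hd' with hd'' | hd''
      · rw [(Nat.prime_dvd_prime_iff_eq hl h.prime_r).1 hd'']
        exact ⟨h.ne.symm, hrα⟩
      · rw [(Nat.prime_dvd_prime_iff_eq hl h.prime_q).1 (hl.dvd_of_dvd_pow (hk ▸ hd''))]
        exact ⟨h.ne_qp, hqα⟩) hPp hPL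
    (sup_le (h.R_comm.trans (Subgroup.centralizer_le_normalizer _))
      (h.Q_comm.trans (Subgroup.centralizer_le_normalizer _)))
  have hrS : ¬ PRankLE p 2 S := by
    obtain ⟨S₀, rfl⟩ := id hS
    exact not_pRankLE_sylow hpα.2 S₀
  have hSα : S ≤ alphaCore L := by
    obtain ⟨S₀, rfl⟩ := id hS
    exact Subgroup.map_mono (sylow_le_piCore_alpha hG hL hpα S₀)
  have hp2 : p ≠ 2 := ne_two_of_minSimple hG hPp (ne_bot_of_card_prime h.card_P)
  have hQS : Q ≤ centralizer (S : Set G) := by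
    refine le_centralizer_of_line hp2 hS.isPGroup hPS h.card_P (le_sup_right.trans hYS)
      (le_sup_left.trans hYS) h.Q_comm h.R_comm h.R_norm (h.coprime_Q h.prime_p h.ne_qp)
      (h.card_R ▸ (Nat.coprime_primes h.prime_r h.prime_p).2 h.ne.symm) hRs hcopRQ
      (fpf_of_commutator_eq h.R_norm hcopRQ (h.card_R ▸ h.prime_r) h.eq) h.eq ?_
    -- `C_S(R)` is cyclic
    have hr1 : PRankLE p 1 ↥(alphaCore L ⊓ centralizer (R : Set G)) := by
      by_contra hr1
      obtain ⟨L₁, hL₁, hNL₁⟩ := exists_coatom_ge (normalizer_ne_top_of_pgroup hG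
        (isPGroup_of_card_prime h.card_R) (ne_bot_of_card_prime h.card_R))
      have hu := S1406.result hG L hL R hRL (fun l hl hd => by
        rw [h.card_R] at hd
        rwa [(Nat.prime_dvd_prime_iff_eq hl h.prime_r).1 hd]) fun hr' => hr1 (hr' p h.prime_p)
      have e : L₁ = L := hu.unique
        ⟨hL₁, inf_le_right.trans ((Subgroup.centralizer_le_normalizer _).trans hNL₁)⟩ ⟨hL, inf_le_left⟩
      subst e
      exact (S1409.result hG L₁ hL r hrL.2.1 R h.card_R hNL₁).1.2 hrL.2.2.2.2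
    intro x hx hxp
    rcases eq_or_ne x 1 with rfl | hx1
    · exact one_mem P
    have hW : IsCyclic ↥(S ⊓ centralizer (R : Set G)) :=
      IsolatedP.isCyclic_of_pRankLE_one hp2 (hS.isPGroup.to_le inf_le_left)
        (pRankLE_of_le (inf_le_inf_right _ hSα) hr1)
    have e := eq_of_card_eq_cyclic hW (X := zpowers x) (Y := P) (Subgroup.zpowers_le.2 hx)
      (le_inf hPS (Subgroup.le_centralizer_iff.1 h.R_comm))
      (by rw [Nat.card_zpowers, orderOf_eq_prime hxp hx1, h.card_P])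
    exact e ▸ Subgroup.mem_zpowers x
  have hCX : ∀ X : Subgroup G, X ≤ Q → Nat.card X = q → centralizer (X : Set G) ≤ L ∧
      normalizer (X : Set G) ≤ L := by
    intro X hXQ hX
    obtain ⟨h1, h2⟩ := centralizer_le_of_rank hG hL (isPGroup_of_card_prime hX) (ne_bot_of_card_prime hX)
      hS.le ((Subgroup.le_centralizer_iff.1 hQS).trans (Subgroup.centralizer_le hXQ)) hrS
    exact ⟨h1, le_of_forall_coatom (normalizer_ne_top_of_pgroup hG (isPGroup_of_card_prime hX)
      (ne_bot_of_card_prime hX)) fun L' hL' hle =>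
        h2 L' hL' ((Subgroup.centralizer_le_normalizer _).trans hle)⟩
  obtain ⟨X, hXQ, hX⟩ := exists_le_card_prime h.isPGroup h.ne_bot
  have hXp := isPGroup_of_card_prime hX
  have hX1 := ne_bot_of_card_prime hX
  have hNX := (hCX X hXQ hX).2
  have hXM : X ≤ M := hXQ.trans h.Q_le_M
  -- the invariant Sylow subgroup of `M ∩ L`
  have hRn : R ≤ normalizer ((sigmaCore M ⊓ L : Subgroup G) : Set G) :=
    Coprime.le_normalizer_inf_of_le (h.R_le.trans (le_normalizer_piCoreOf _ M)) (hRL.trans Subgroup.le_normalizer)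
  have hcopR : (Nat.card R).Coprime (Nat.card ↥(sigmaCore M ⊓ L)) :=
    coprime_of_isPGroup (isPGroup_of_card_prime h.card_R) fun hd =>
      not_dvd_sigmaCore h.notMem_r (hd.trans (Subgroup.card_dvd_of_le inf_le_left))
  obtain ⟨T₀, hQT, hRT⟩ := Coprime.exists_invariant_sylow_ge hRn hcopR (Or.inl hRs)
    (le_inf h.Q_le hQL) h.isPGroup h.R_norm
  set T := (T₀ : Subgroup ↥(sigmaCore M ⊓ L)).map (sigmaCore M ⊓ L).subtype
  have hTσ : T ≤ sigmaCore M ⊓ L := Subgroup.map_subtype_le _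
  obtain ⟨T', hT', hTT'⟩ := exists_isSyl_ge (T₀.2.map _)
    (hTσ.trans (inf_le_inf_right _ (piCoreOf_le _ M)))
  have hT'σ : T' ≤ sigmaCore M ⊓ L := le_inf (le_sigmaCore_of_isPiGrp hG hM (hT'.le.trans inf_le_left)
    fun l hl hd => by
      obtain ⟨k, hk⟩ := hT'.isPGroup.exists_card_eq
      rw [(Nat.prime_dvd_prime_iff_eq hl h.prime_q).1 (hl.dvd_of_dvd_pow (hk ▸ hd))]
      exact h.mem_sigma) (hT'.le.trans inf_le_right)
  have hTeq : T' = T := IsSyl.eq_of_le (A := sigmaCore M ⊓ L) ⟨T₀, rfl⟩ hT'.isPGroup hT'σ hTT'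
  subst hTeq
  have hXT : X ≤ T := hXQ.trans hQT
  obtain ⟨K, -, -, -, -, hcases⟩ :=
    exists_supplement hG hM hL hn.ne h.mem_sigma hXp hX1 hXM hNX hT' hXT
  have hqL : q ∈ sigma L := by
    rcases hcases with ⟨hq, -⟩ | ⟨-, -, hE⟩
    · exact hq
    exfalso
    have hPσ : P ≤ sigmaCore L := le_sigmaCore_of_isPiGrp hG hL hPL fun l hl hd => by
      rw [h.card_P] at hd
      rw [(Nat.prime_dvd_prime_iff_eq hl h.prime_p).1 hd]
      exact hpL
    exact ne_bot_of_card_prime h.card_P (le_bot_iff.1 ((le_inf (le_inf h.P_le hPL) hPσ).trans hE.2.2.1.le))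
  have hNL : normalizer (T : Set G) ≤ L :=
    (isSyl_inter hG hM h.mem_sigma hNX hT' hXT).sigma_normalizer_le hqL
  refine ⟨L, hL, hn, hqL, hQL, hRL, fun Y hY hYc => (hCX Y hY hYc).1, T, ?_, hTσ.trans inf_le_left,
    hQT, hRT, hNL⟩
  exact hT'.of_normalizer_le (hT'.le.trans inf_le_left) (le_inf inf_le_left (inf_le_right.trans hNL))

/-- The prime of a witness is not in `α(M)`. -/
theorem not_mem_alpha : q ∉ alpha M := fun hq => by
  obtain ⟨L, hL, hn, hqL, -⟩ := h.exists_witness_data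
  exact disjoint_alpha_sigma h.minSimple hL h.coatom hn.symm hq hqL

/-- There is no witness. -/
theorem false_of_witness : False := by
  have hG := h.minSimple
  have hM := h.coatom
  haveI := Fact.mk h.prime_p
  haveI := Fact.mk h.prime_q
  haveI := Fact.mk h.prime_r
  obtain ⟨L, hL, hn, hqL, hQL, hRL, hCX, T, hT, hTσ, hQT, hRT, hNT⟩ := h.exists_witness_data
  obtain ⟨S', hS'⟩ := hT.exists_sylow (hT.sigma_normalizer_le h.mem_sigma)
  have hnot : ∀ hle : M ≤ normalizer (T : Set G), False := fun hle =>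
    hn.ne (eq_of_coatom_le hM hL (hle.trans hNT)).symm
  have hqM : q ∉ alpha M := h.not_mem_alpha
  have hRp := isPGroup_of_card_prime h.card_R
  have hRne : ¬ R ≤ centralizer (T : Set G) := fun hle => h.ne_bot (by
    rw [← h.eq]
    exact Coprime.le_centralizer_iff_commutator_eq_bot.1 (hle.trans (Subgroup.centralizer_le hQT)))
  -- `r ∈ τ₁(M)`
  have hr : r ∈ tau1 M := by
    by_cases h1 : PRankLE r 1 M
    · by_cases hd : r ∣ Nat.card ↥⁅M, M⁆
      · exact absurd (le_centralizer_of_le_derived hG hM h.ne_qr hRp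
          (le_derived_of_dvd hG hd h1 hRp h.R_le) hT.isPGroup hT.le hRT hqM) hRne
      · exact ⟨h.prime_r, h.notMem_r, h.card_R ▸ Subgroup.card_dvd_of_le h.R_le, hd, h1⟩
    · exfalso
      have ht := mem_tau2 hG hM h.prime_r h.notMem_r h1
      obtain ⟨E, hE⟩ := exists_complIn hG hM
      obtain ⟨_, A, -, hSE, -, hAS, hAe, hAc⟩ := exists_square_compl hG ht hE IsPGroup.of_bot bot_le
      obtain ⟨hnil, -⟩ := S1417.result hG M hM r ht A ⟨hAS.trans (hSE.trans hE.1), hAe, hAc⟩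
      obtain ⟨D, -, hD, hTD, hDn⟩ :=
        exists_normal_pgroup_ge (M := M) hnil (le_normalizer_piCoreOf _ M) hTσ hT.isPGroup
      have hDT : D = T := by
        rw [← hS'] at hTD ⊢
        exact S'.is_maximal' hD hTD
      exact hnot (hDT ▸ hDn)
  -- a prime of `α(M)`
  have hα : alphaCore M ≠ ⊥ := fun hα => by
    obtain ⟨T₁, hT₁⟩ := id hT
    exact hnot (hT₁ ▸ S1422.le_normalizer_sylow hG hM hα h.mem_sigma T₁)
  obtain ⟨s, hs, hsd⟩ := Nat.exists_prime_and_dvd fun e => hα (Subgroup.card_eq_one.1 e)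
  haveI := Fact.mk hs
  have hsα : s ∈ alpha M := isPiGrp_piCoreOf (alpha M) M s hs hsd
  have hsσ : s ∈ sigma M := alpha_subset_sigma hG hM hsα
  have hne : ∀ l : ℕ, l.Prime → l ∣ Nat.card ↥((P ⊔ R) ⊔ Q) → l ≠ s ∧ l ∉ alpha M := fun l hl hd => by
    rcases h.prime_dvd hl hd with rfl | rfl | rfl
    · exact ⟨fun e => h.notMem_p (e ▸ hsσ), fun ha => h.notMem_p (alpha_subset_sigma hG hM ha)⟩
    · exact ⟨fun e => h.notMem_r (e ▸ hsσ), fun ha => h.notMem_r (alpha_subset_sigma hG hM ha)⟩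
    · exact ⟨fun e => hqM (e ▸ hsα), hqM⟩
  obtain ⟨U, hU, -, hYU⟩ := exists_sylow_invariant_sigma hG hM hsσ
    (sup_le (sup_le h.P_le h.R_le) h.Q_le_M) hne IsPGroup.of_bot bot_le
    (le_top.trans (Subgroup.normalizer_eq_top (H := (⊥ : Subgroup G))).ge)
  have hrU : ¬ PRankLE s 2 U := by
    obtain ⟨U₀, rfl⟩ := id hU
    exact not_pRankLE_sylow hsα.2 U₀
  have hUα : U ≤ alphaCore M := by
    obtain ⟨U₀, rfl⟩ := id hU
    exact Subgroup.map_mono (sylow_le_piCore_alpha hG hM hsα U₀)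
  have hUσ : U ≤ sigmaCore M := le_sigmaCore_of_isPiGrp hG hM hU.le fun l hl hd => by
    obtain ⟨k, hk⟩ := hU.isPGroup.exists_card_eq
    rw [(Nat.prime_dvd_prime_iff_eq hl hs).1 (hl.dvd_of_dvd_pow (hk ▸ hd))]
    exact hsσ
  have hPU : P ≤ normalizer (U : Set G) := (le_sup_left.trans le_sup_left).trans hYU
  have hRU : R ≤ normalizer (U : Set G) := (le_sup_right.trans le_sup_left).trans hYU
  have hQU : Q ≤ normalizer (U : Set G) := le_sup_right.trans hYU
  have hcop : ∀ {Y : Subgroup G}, Y ≤ (P ⊔ R) ⊔ Q → (Nat.card Y).Coprime (Nat.card U) := by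
    intro Y hY
    obtain ⟨k, hk⟩ := hU.isPGroup.exists_card_eq
    rw [hk]
    refine Nat.Coprime.pow_right k ((hs.coprime_iff_not_dvd.2 fun hd => ?_).symm)
    exact (hne s hs (hd.trans (Subgroup.card_dvd_of_le hY))).1 rfl
  -- `P` centralises `C_U(R)`
  have hPW : P ≤ centralizer ((U ⊓ centralizer (R : Set G) : Subgroup G) : Set G) := by
    by_contra hc
    obtain ⟨s', Q', hs', hQ', hQ'W, hPQ', hQ'1, hQ'P⟩ := exists_commutator_eq hG
      (Coprime.le_normalizer_inf_of_le hPU ((Subgroup.le_centralizer_iff.1 h.R_comm).trans Subgroup.le_normalizer))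
      ((hcop (le_sup_left.trans le_sup_left)).coprime_dvd_right (Subgroup.card_dvd_of_le inf_le_left))
      (fun e => hM.1 (top_unique ((e ▸ inf_le_left).trans hU.le))) hc
    haveI := Fact.mk hs'
    obtain ⟨k, hk⟩ := hU.isPGroup.exists_card_eq
    have hss : s' = s := (Nat.prime_dvd_prime_iff_eq hs' hs).1 (hs'.dvd_of_dvd_pow
      (hk ▸ dvd_card_of_ne_bot hQ' hQ'1 (hQ'W.trans inf_le_left)))
    subst hss
    exact (TauOneWitness.not_mem_alpha (M := M) (P := R) (R := P) (Q := Q') (p := r) (r := p)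
      ⟨hG, hM, h.prime_r, h.prime_p, hs, h.ne.symm, h.notMem_r, hr.2.2.2.2, hr.2.2.2.1, h.notMem_p,
        h.card_R, h.card_P, h.R_le, h.P_le, Subgroup.le_centralizer_iff.1 h.R_comm, hQ',
        (hQ'W.trans inf_le_left).trans hUσ, hQ'W.trans inf_le_right, hPQ', hQ'1, hQ'P⟩) hsα
  -- `C_U(P)` is cyclic
  set C := U ⊓ centralizer (P : Set G)
  have hC : IsCyclic C := by
    refine IsolatedP.isCyclic_of_pRankLE_one
      (ne_two_of_odd_of_dvd hG.1 (hsd.trans (Subgroup.card_subgroup_dvd_card _))) (hU.isPGroup.to_le inf_le_left) ?_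
    refine pRankLE_of_le (inf_le_inf_right _ hUα) (?_ : PRankLE s 1 ↥(alphaCore M ⊓ centralizer (P : Set G)))
    by_contra hr1
    have hu := S1406.result hG M hM P h.P_le (fun l hl hd => by
      rw [h.card_P] at hd
      rw [(Nat.prime_dvd_prime_iff_eq hl h.prime_p).1 hd]
      exact fun ha => h.notMem_p (alpha_subset_sigma hG hM ha)) fun hr' => hr1 (hr' s hs)
    obtain ⟨L₀, hL₀, hNL₀⟩ := exists_coatom_ge (normalizer_ne_top_of_pgroup hG
      (isPGroup_of_card_prime h.card_P) (ne_bot_of_card_prime h.card_P))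
    exact (centralizer_norm_tau13 hG hM hL₀ h.notMem_p h.rank_p h.card_P hNL₀).1.ne (hu.unique
      ⟨hL₀, inf_le_right.trans ((Subgroup.centralizer_le_normalizer _).trans hNL₀)⟩ ⟨hM, inf_le_left⟩)
  haveI : IsMulCommutative Q := by
    by_contra hna
    exact hn.ne ((S1422.result hG q Q h.isPGroup hna).unique ⟨hL, hQL⟩ ⟨hM, h.Q_le_M⟩)
  have hcopRQ : (Nat.card R).Coprime (Nat.card Q) := h.card_R ▸ (h.coprime_Q h.prime_r h.ne_qr).symm
  have hQC : Q ≤ centralizer (U : Set G) := le_centralizer_of_fpf_cyclic hU.isPGroup inf_le_left hC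
    hQU hRU (Coprime.le_normalizer_inf_of_le hQU (h.Q_comm.trans Subgroup.le_normalizer))
    (Coprime.le_normalizer_inf_of_le hRU (h.R_comm.trans Subgroup.le_normalizer))
    h.R_norm (hcop le_sup_right) (hG.2.2.2 R fun e => hM.1 (top_unique (e ▸ h.R_le))) hcopRQ
    (hcop (le_sup_right.trans le_sup_left))
    (fpf_of_commutator_eq h.R_norm hcopRQ (h.card_R ▸ h.prime_r) h.eq)
    (le_inf inf_le_left (Subgroup.le_centralizer_iff.1 hPW)) h.eq
  obtain ⟨X, hXQ, hX⟩ := exists_le_card_prime h.isPGroup h.ne_bot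
  exact hn.ne (eq_of_rank_three hG hM hU.le hrU hL
    ((Subgroup.le_centralizer_iff.1 hQC).trans ((Subgroup.centralizer_le hXQ).trans (hCX X hXQ hX))))

end TauOneWitness

end Cfsg.Agent.OddOrder
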