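import Cfsg.Agent.Lib.OddOrder.SigmaConj
import Cfsg.Agent.Lib.OddOrder.TauOneCentralizer
import Cfsg.Agent.S1418
import Cfsg.Agent.S1423
import Cfsg.Agent.S1426
import Cfsg.Agent.S1427
import Cfsg.Agent.S1428

/-!
# Bender–Glauberman 13.6: uniqueness above a fixed point of a `τ₁(M)` subgroup

* `derived_le_centralizer`: off `β(M)`, the derived subgroup of a `q'`-subgroup centralises the
  invariant `q`-subgroups of `M'`;
* `tau1_unique`: if `X ≤ M` has order `p ∈ τ₁(M)` and `Y ≤ C_{M_σ}(X)` has prime order, `M` is the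
  only maximal subgroup over `C(Y)`.
-/

set_option autoImplicit false
set_option linter.style.haveILetI false
set_option linter.unusedSectionVars false

namespace Cfsg.Agent.OddOrder

open Cfsg
open Subgroup (centralizer normalizer zpowers)
open scoped Pointwise commutatorElement

universe u
variable {G : Type u} [Group G] [Finite G]

/-- A subgroup is contained in `H` when its Sylow subgroups are. -/
theorem le_of_forall_sylow {A H : Subgroup G}
    (h : ∀ (r : ℕ), r.Prime → r ∣ Nat.card A → ∀ S : Sylow r A, (S : Subgroup A).map A.subtype ≤ H) :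
    A ≤ H := by
  refine inf_eq_left.1 (Subgroup.eq_of_le_of_card_ge inf_le_left (Nat.le_of_dvd Nat.card_pos ?_))
  refine (Nat.dvd_iff_prime_pow_dvd_dvd _ _).2 fun r k hr hk => ?_
  rcases Nat.eq_zero_or_pos k with rfl | hk0
  · simp
  haveI := Fact.mk hr
  obtain ⟨S⟩ : Nonempty (Sylow r A) := inferInstance
  have h1 := Subgroup.card_dvd_of_le
    (le_inf (Subgroup.map_subtype_le _) (h r hr ((dvd_pow_self r hk0.ne').trans hk) S))
  refine dvd_trans ?_ h1
  rw [Subgroup.card_map_of_injective A.subtype_injective, S.card_eq_multiplicity]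
  exact pow_dvd_pow r ((hr.pow_dvd_iff_le_factorization Nat.card_pos.ne').1 hk)

variable (hG : IsMinSimpleOddOrder G)
include hG

/-- Off `β(M)`, a `q'`-subgroup of `M'` centralises the `q`-subgroups of `M'` it normalises. -/
theorem le_centralizer_of_not_beta {M D Q : Subgroup G} (hM : IsCoatom M) {q : ℕ} [Fact q.Prime]
    (hqM : q ∣ Nat.card M) (hqb : q ∉ beta M) (hD : D ≤ ⁅M, M⁆) (hqD : ¬ q ∣ Nat.card D)
    (hQ : IsPGroup q Q) (hQM : Q ≤ ⁅M, M⁆) (hDQ : D ≤ normalizer (Q : Set G)) :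
    D ≤ centralizer (Q : Set G) := by
  obtain ⟨-, -, -, -, hkey⟩ := S1414.result hG M hM
  obtain ⟨N, hN, hNq, hmem⟩ := exists_normal_complement_mem (hkey q Fact.out hqM hqb).1
  intro e he
  have heN : (⟨e, hD he⟩ : ↥⁅M, M⁆) ∈ N := hmem _ fun hd => hqD (by
    rw [Subgroup.orderOf_mk] at hd
    exact hd.trans (Subgroup.orderOf_dvd_natCard D he))
  refine Subgroup.mem_centralizer_iff.2 fun y hy => ?_
  have hc : ⁅(⟨y, hQM hy⟩ : ↥⁅M, M⁆), ⟨e, hD he⟩⁆ ∈ N :=
    Subgroup.le_normalizer_iff_commutator_le_right.1 (by rw [Subgroup.normalizer_eq_top])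
      (Subgroup.commutator_mem_commutator (Subgroup.mem_top (⟨y, hQM hy⟩ : ↥⁅M, M⁆)) heN)
  have hcQ : ⁅y, e⁆ ∈ Q := Coprime.commutator_le_left_of_le_normalizer hDQ
    (Subgroup.commutator_mem_commutator hy he)
  obtain ⟨k, hk⟩ := hQ ⟨_, hcQ⟩
  have h1 : orderOf ⁅y, e⁆ ∣ q ^ k := orderOf_dvd_of_pow_eq_one (congrArg Subtype.val hk)
  have h2 : orderOf ⁅y, e⁆ ∣ Nat.card N :=
    (Subgroup.orderOf_coe (⁅(⟨y, hQM hy⟩ : ↥⁅M, M⁆), ⟨e, hD he⟩⁆)).dvd.trans
      (Subgroup.orderOf_dvd_natCard N hc)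
  exact commutatorElement_eq_one_iff_mul_comm.1 (orderOf_eq_one_iff.1 (Nat.eq_one_of_dvd_coprimes
    (((Fact.out : q.Prime).coprime_iff_not_dvd.2 hNq).pow_left k) h1 h2))

/-- Off `β(M)`, derived subgroups of `q'`-subgroups centralise invariant `q`-subgroups of `M'`. -/
theorem derived_le_centralizer {M E Q : Subgroup G} (hM : IsCoatom M) {q : ℕ} [Fact q.Prime]
    (hqM : q ∣ Nat.card M) (hqb : q ∉ beta M) (hEM : E ≤ M) (hqE : ¬ q ∣ Nat.card E)
    (hQ : IsPGroup q Q) (hQM : Q ≤ ⁅M, M⁆) (hEQ : E ≤ normalizer (Q : Set G)) :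
    ⁅E, E⁆ ≤ centralizer (Q : Set G) :=
  le_centralizer_of_not_beta hG hM hqM hqb (Subgroup.commutator_mono hEM hEM)
    (fun hd => hqE (hd.trans (Subgroup.card_dvd_of_le (Subgroup.commutator_le_self E)))) hQ hQM
    ((Subgroup.commutator_le_self E).trans hEQ)

/-- BG 13.6, in the form needed here: the fixed point lies in `M_σ'`. -/
theorem mem_derived_of_tau1 {M E X Q Y : Subgroup G} (hM : IsCoatom M) {p q : ℕ} [Fact q.Prime]
    (hp : p ∈ tau1 M) (hq : q ∈ sigma M) (hqb : q ∉ beta M) (hE : IsComplIn E (sigmaCore M) M)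
    (hXE : X ≤ E) (hX : Nat.card X = p) (hQ : IsPGroup q Q) (hQM : Q ≤ sigmaCore M)
    (hEQ : E ≤ normalizer (Q : Set G)) (hYQ : Y ≤ Q) (hYX : Y ≤ centralizer (X : Set G))
    (hY : Y ≠ ⊥) : Y ≤ ⁅sigmaCore M, sigmaCore M⁆ := by
  haveI := Fact.mk hp.1
  have hYσ : Y ≤ sigmaCore M := hYQ.trans hQM
  have hEM := hE.1
  have hqE : ¬ q ∣ Nat.card E := fun hd => not_mem_sigma_of_compl hG hM hE Fact.out hd hq
  have hE' : ⁅E, E⁆ ≤ centralizer (Y : Set G) :=
    (derived_le_centralizer hG hM hq.2.1 hqb hEM hqE hQ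
      (hQM.trans (sigmaCore_le_commutator hG hM)) hEQ).trans (Subgroup.centralizer_le hYQ)
  have hXY : X ≤ centralizer (Y : Set G) := Subgroup.le_centralizer_iff.1 hYX
  -- an element of prime order of `C_E(X)` centralises `Y`
  have hline : ∀ R : Subgroup G, R ≤ E ⊓ centralizer (X : Set G) → (Nat.card R).Prime →
      Y ≤ centralizer (R : Set G) := fun R hR hRp =>
    (le_inf hYσ hYX).trans ((S1428.result hG M hM E hE p hp X hXE hX R hR hRp).trans inf_le_right)
  -- every prime of `E` has rank one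
  have hrank : ∀ r : ℕ, r.Prime → r ∣ Nat.card E → PRankLE r 1 M := by
    intro r hr hd
    haveI := Fact.mk hr
    by_contra h1
    have hrs := not_mem_sigma_of_compl hG hM hE hr hd
    have hr2 : r ∈ tau2 M := ⟨hr, hrs, pRankLE_two_of_not_sigma hG hM hrs, h1⟩
    obtain ⟨A, hAE, hA, hAc⟩ := exists_square_le_compl hE hrs h1
    have hXA : X ≤ normalizer (A : Set G) :=
      hXE.trans (S1418.result hG M hM E hE r hr2 A ⟨hAE, hA, hAc⟩).1.1
    have hXAc : (Nat.card X).Coprime (Nat.card A) := by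
      rw [hX, hAc]
      refine ((Nat.coprime_primes hp.1 hr).2 fun e => h1 (e ▸ hp.2.2.2.2)).pow_right 2
    have hAY : A ≤ centralizer (Y : Set G) := by
      rw [← Coprime.commutator_sup_centralizer hXA hXAc (Or.inr (square_solvable hA))]
      refine sup_le ((Subgroup.commutator_mono hAE hXE).trans hE') fun a ha => ?_
      by_cases ha1 : a = 1
      · exact ha1 ▸ one_mem _
      · have h2 := hline (zpowers a) (Subgroup.zpowers_le.2 ⟨hAE ha.1, ha.2⟩) (by
          rwa [Nat.card_zpowers, orderOf_eq_prime (hA.2 a ha.1) ha1])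
        exact Subgroup.le_centralizer_iff.1 h2 (Subgroup.mem_zpowers a)
    obtain ⟨-, -, -, hfix, -⟩ := S1417.result hG M hM r hr2 A ⟨hAE.trans hEM, hA, hAc⟩
    exact hY (le_bot_iff.1 ((le_inf hYσ (Subgroup.le_centralizer_iff.1 hAY)).trans hfix.le))
  -- the centraliser of `X` in `E`
  have hCY : E ⊓ centralizer (X : Set G) ≤ centralizer (Y : Set G) := by
    refine le_of_forall_sylow fun r hr hd S => ?_
    haveI := Fact.mk hr
    set S₁ := (S : Subgroup ↥(E ⊓ centralizer (X : Set G))).map (E ⊓ centralizer (X : Set G)).subtype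
    have hS₁ : S₁ ≤ E ⊓ centralizer (X : Set G) := Subgroup.map_subtype_le _
    have hrE : r ∣ Nat.card E := hd.trans (Subgroup.card_dvd_of_le inf_le_left)
    have hS1 : S₁ ≠ ⊥ := fun e =>
      S.ne_bot_of_dvd_card hd ((Subgroup.map_eq_bot_iff_of_injective _ (Subgroup.subtype_injective _)).1 e)
    obtain ⟨z, hz, hzr⟩ := exists_le_card_prime (S.2.map _) hS1
    obtain ⟨T, hT, hST⟩ := exists_isSyl_ge (S.2.map _) (hS₁.trans inf_le_left)
    obtain ⟨T₀, hT₀⟩ := id hT
    have hc : IsCyclic T := (isSyl_of_compl hG (not_mem_sigma_of_compl hG hM hE hr hrE) hE hT).isCyclic_of_pRankLE_one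
      (ne_two_of_dvd (M := M) hG (hrE.trans (Subgroup.card_dvd_of_le hEM))) (hrank r hr hrE)
    have hT1 : (T₀ : Subgroup E) ≠ ⊥ := T₀.ne_bot_of_dvd_card hrE
    have hT₀c : IsCyclic (T₀ : Subgroup E) :=
      haveI : IsCyclic ↥((T₀ : Subgroup E).map E.subtype) := by rw [hT₀]; exact hc
      isCyclic_of_injective ((T₀ : Subgroup E).equivMapOfInjective _ E.subtype_injective).toMonoidHom
        (MulEquiv.injective _)
    obtain ⟨x, -, hx1, rfl⟩ := exists_eq_zpowers hzr
    have hxT : x ∈ (T₀ : Subgroup E).map E.subtype :=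
      hT₀ ▸ hST (hz (Subgroup.mem_zpowers x))
    have e := S1427.result hG M hM E hE r T₀ hT1 hT₀c x hxT hx1
    have hY1 : Y ≤ sigmaCore M ⊓ centralizer ({x} : Set G) := le_inf hYσ
      ((hline _ (hz.trans hS₁) (by rwa [hzr])).trans
        (Subgroup.centralizer_le (Set.singleton_subset_iff.2 (Subgroup.mem_zpowers x))))
    rw [e, hT₀] at hY1
    exact hST.trans (Subgroup.le_centralizer_iff.1 (hY1.trans inf_le_right))
  -- Frattini argument
  have hEY : E ≤ centralizer (Y : Set G) := by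
    intro e he
    set H := ⁅E, E⁆ ⊔ X
    have hHE : H ≤ E := sup_le (Subgroup.commutator_le_self E) hXE
    have hEH : E ≤ normalizer (H : Set G) := Subgroup.le_normalizer_iff_commutator_le_right.2
      ((Subgroup.commutator_mono le_rfl hHE).trans le_sup_left)
    have hXsyl : IsSyl p X H := by
      obtain ⟨U, hU, hXU⟩ := exists_isSyl_ge (isPGroup_of_card_prime hX) (le_sup_right : X ≤ H)
      refine (Subgroup.eq_of_le_of_card_ge hXU ?_).symm ▸ hU
      obtain ⟨k, hk⟩ := hU.isPGroup.exists_card_eq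
      have hd : Nat.card H ∣ Nat.card ↥⁅E, E⁆ * Nat.card X := by
        rw [show H = X ⊔ ⁅E, E⁆ from sup_comm _ _]
        have h1 := Subgroup.relIndex_mul_relIndex ⊥ ⁅E, E⁆ (X ⊔ ⁅E, E⁆) bot_le le_sup_right
        rw [Subgroup.relIndex_bot_left, Subgroup.relIndex_bot_left,
          Coprime.relIndex_sup_right_of_le_normalizer (hXE.trans
            (Subgroup.le_normalizer_iff_commutator_le_right.2
              (Subgroup.commutator_mono le_rfl (Subgroup.commutator_le_self E))))] at h1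
        rw [← h1]
        exact mul_dvd_mul_left _ (Subgroup.relIndex_dvd_card _ X)
      have h2 := (hk ▸ Subgroup.card_dvd_of_le hU.le).trans hd
      refine Nat.le_of_dvd Nat.card_pos ?_
      rw [hk]
      exact (((Fact.out : p.Prime).coprime_iff_not_dvd.2 fun h3 => hp.2.2.2.1
        (h3.trans (Subgroup.card_dvd_of_le (Subgroup.commutator_mono hEM hEM)))).pow_left k).dvd_of_dvd_mul_left h2
    have hXe : MulAut.conj e • X ≤ H :=
      (Subgroup.pointwise_smul_le_pointwise_smul_iff.2 le_sup_right).trans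
        (Coprime.conj_smul_eq_self_of_mem (hEH he)).le
    obtain ⟨a, ha, haX⟩ := hXsyl.exists_conj_le
      (IsPGroup.of_card (n := 1) (by rw [Coprime.card_conj_smul, hX, pow_one])) hXe
    rw [Coprime.conj_smul_smul] at haX
    have hae : a * e ∈ centralizer (X : Set G) := by
      refine Subgroup.mem_centralizer_iff.2 fun x hx => ?_
      have h1 : a * e * x * (a * e)⁻¹ * x⁻¹ ∈ X :=
        X.mul_mem (haX (Subgroup.smul_mem_pointwise_smul x (MulAut.conj (a * e)) _ hx)) (X.inv_mem hx)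
      have h2 : a * e * x * (a * e)⁻¹ * x⁻¹ ∈ ⁅M, M⁆ := Subgroup.commutator_mono hEM hEM
        (Subgroup.commutator_mem_commutator (mul_mem (hHE ha) he) (hXE hx))
      have h3 := Nat.eq_one_of_dvd_coprimes ((Nat.Prime.coprime_iff_not_dvd hp.1).2 hp.2.2.2.1)
        (hX ▸ Subgroup.orderOf_dvd_natCard X h1) (Subgroup.orderOf_dvd_natCard _ h2)
      exact (mul_inv_eq_iff_eq_mul.1 (mul_inv_eq_one.1 (orderOf_eq_one_iff.1 h3))).symm
    have h1 : a⁻¹ * (a * e) ∈ centralizer (Y : Set G) :=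
      mul_mem (inv_mem (sup_le hE' hXY ha)) (hCY ⟨mul_mem (hHE ha) he, hae⟩)
    rwa [inv_mul_cancel_left] at h1
  exact (le_inf hYσ (Subgroup.le_centralizer_iff.1 hEY)).trans (S1426.result hG M hM E hE).1

/-- BG 13.6. -/
theorem tau1_unique {M : Subgroup G} (hM : IsCoatom M) {p : ℕ} (hp : p ∈ tau1 M) {X : Subgroup G}
    (hXM : X ≤ M) (hX : Nat.card X = p) {Y : Subgroup G}
    (hY : Y ≤ sigmaCore M ⊓ centralizer (X : Set G)) (hYp : (Nat.card Y).Prime) :
    centralizer (Y : Set G) ≤ M ∧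
      ∀ L : Subgroup G, IsCoatom L → centralizer (Y : Set G) ≤ L → L = M := by
  haveI := Fact.mk hp.1
  haveI := Fact.mk hYp
  set q := Nat.card Y with hYq
  set K := sigmaCore M
  have hq : q ∈ sigma M :=
    isPiGrp_piCoreOf (sigma M) M q hYp (Subgroup.card_dvd_of_le (hY.trans inf_le_left))
  obtain ⟨P⟩ : Nonempty (Sylow q K) := inferInstance
  refine (S1423.result hG M hM q hq Y ((hY.trans inf_le_left).trans (sigmaCore_le M)) hYq.symm P ?_).1
  by_cases hqb : q ∈ beta M
  · exact Or.inl hqb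
  refine Or.inr ?_
  obtain ⟨E, hE, hXE⟩ := exists_compl_ge hG hM hXM fun r hr hd => by
    rw [hX] at hd
    exact ((Nat.prime_dvd_prime_iff_eq hr hp.1).1 hd) ▸ hp.2.1
  have hKs : Group.IsSolvable K :=
    Coprime.isSolvable_of_le (piCoreOf_le _ M) (isSolvable_of_coatom hG hM)
  have hEK : E ≤ normalizer (K : Set G) := hE.1.trans (le_normalizer_sigmaCore M)
  have hcop : (Nat.card E).Coprime (Nat.card K) := Nat.coprime_of_dvd fun l hl h1 h2 =>
    not_mem_sigma_of_compl hG hM hE hl h1 (isPiGrp_piCoreOf (sigma M) M l hl h2)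
  obtain ⟨Q₀, hQ₀⟩ := Coprime.exists_invariant_sylow hEK hcop (Or.inr hKs) q
  have hXK := hXE.trans hEK
  have hcopX := hcop.coprime_dvd_left (Subgroup.card_dvd_of_le hXE)
  obtain ⟨Q₁, hYQ₁, hQ₁⟩ := Coprime.exists_invariant_sylow_ge hXK hcopX (Or.inr hKs)
    (hY.trans inf_le_left) (isPGroup_of_card_prime hYq.symm)
    ((Subgroup.le_centralizer_iff.1 (hY.trans inf_le_right)).trans (Subgroup.centralizer_le_normalizer _))
  obtain ⟨c, hcX, hcQ⟩ := Coprime.exists_centralizer_smul_sylow hXK hcopX (Or.inr hKs) Q₁ Q₀ hQ₁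
    (hXE.trans hQ₀)
  set Y' := MulAut.conj (c : G) • Y
  have hY'Q : Y' ≤ (Q₀ : Subgroup K).map K.subtype := by
    rw [← hcQ, Sylow.coe_subgroup_smul, Coprime.map_conj_smul]
    exact Subgroup.pointwise_smul_le_pointwise_smul_iff.2 hYQ₁
  have hY'X : Y' ≤ centralizer (X : Set G) :=
    (Subgroup.pointwise_smul_le_pointwise_smul_iff.2 (hY.trans inf_le_right)).trans
      (Coprime.conj_smul_eq_self_of_mem (Subgroup.le_normalizer hcX)).le
  have h := mem_derived_of_tau1 hG hM hp hq hqb hE hXE hX (Q₀.2.map _) (Subgroup.map_subtype_le _) hQ₀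
    hY'Q hY'X (ne_bot_of_card_prime (p := q) (by rw [Coprime.card_conj_smul]))
  have hcK : (c : G) ∈ normalizer ((⁅K, K⁆ : Subgroup G) : Set G) :=
    Subgroup.le_normalizer_iff_commutator_le_right.2
      (Subgroup.commutator_mono le_rfl (Subgroup.commutator_le_self K)) c.2
  have h2 := (Coprime.conj_smul_eq_self_of_mem hcK).ge
  exact Subgroup.pointwise_smul_le_pointwise_smul_iff.1 (h.trans h2)

end Cfsg.Agent.OddOrder
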