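import Cfsg.Agent.Lib.OddOrder.SupportingPair
import Cfsg.Agent.Lib.OddOrder.TauOneUnique
import Cfsg.Agent.Lib.Components.Fitting

/-!
# Bender–Glauberman 14.11: a maximal subgroup over the normalizer of a Sylow subgroup of `U`

* `DualPair.mem_sigma_of_fpf`: over `K`, the primes of `K`-groups without fixed points are `σ`-primes;
* `sylow_normalizer_facts`: the conclusion of S1435.
-/

set_option autoImplicit false
set_option linter.unusedSectionVars false
set_option linter.style.haveILetI false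

namespace Cfsg.Agent.OddOrder

open Cfsg
open Subgroup (centralizer normalizer zpowers)
open scoped Pointwise commutatorElement

universe u
variable {G : Type u} [Group G] [Finite G]

/-- The normalizer of an abelian `U` normalises its Sylow subgroups. -/
theorem normalizer_le_normalizer_sylow {U S : Subgroup G} {s : ℕ} [Fact s.Prime] (hU : IsMulCommutative U)
    (hS : IsSyl s S U) : normalizer (U : Set G) ≤ normalizer (S : Set G) := fun g hg => by
  have hgU : MulAut.conj g • S ≤ U := (Subgroup.pointwise_smul_le_pointwise_smul_iff.2 hS.le).trans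
    (Coprime.conj_smul_eq_self_of_mem hg).le
  obtain ⟨a, haU, ha⟩ := hS.exists_conj_le (U := MulAut.conj g • S) (hS.isPGroup.map _) hgU
  rw [Coprime.conj_smul_eq_self_of_mem (g := a) (Subgroup.centralizer_le_normalizer _
    (Subgroup.mem_centralizer_iff.2 fun v hv => PGroup.mul_comm_of_isMulCommutative hU (hgU hv) haU))] at ha
  exact Coprime.mem_normalizer_of_conj_smul_eq
    (Subgroup.eq_of_le_of_card_ge ha (le_of_eq (Coprime.card_conj_smul _ _).symm))

/-- The factor `U` of a standard factorisation is abelian when `K ≠ 1`. -/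
theorem decomposition_comm (hG : IsMinSimpleOddOrder G) (h13 : BG13 G) {M K U : Subgroup G} (hM : IsCoatom M)
    (hd : IsSigmaDecomposition M K U) (hK1 : K ≠ ⊥) : IsMulCommutative U := by
  have d : PData M K (K ⊔ U) :=
    ⟨hG, h13, hM, hd.hall, hK1, isComplIn_sup_decomposition hG hM hd, le_sup_left⟩
  obtain ⟨U₀, hab, hhall, hKn, hUc, -⟩ := d.exists_U
  have hle : U ≤ U₀ := by
    intro u hu
    have hEn : K ⊔ U ≤ normalizer (U₀ : Set G) := fun e he => by
      obtain ⟨a, ha, k, hk, rfl⟩ := hUc.2.2.2 e he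
      exact Subgroup.mul_mem _ (Subgroup.le_normalizer ha) (hKn hk)
    haveI : (U₀.subgroupOf (K ⊔ U)).Normal :=
      (Subgroup.normal_subgroupOf_iff_le_normalizer hUc.1).2 hEn
    refine Subgroup.mem_subgroupOf.1 (mem_of_coprime_index (x := (⟨u, Subgroup.mem_sup_right hu⟩ : ↥(K ⊔ U)))
      (N := U₀.subgroupOf (K ⊔ U)) ?_)
    have h1 := Subgroup.relIndex_mul_relIndex ⊥ U₀ (K ⊔ U) bot_le hUc.1
    rw [Subgroup.relIndex_bot_left, Subgroup.relIndex_bot_left, ← card_eq_of_isComplIn hUc] at h1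
    have hidx : (U₀.subgroupOf (K ⊔ U)).index = Nat.card K := Nat.eq_of_mul_eq_mul_left Nat.card_pos h1
    rw [hidx, ← Subgroup.orderOf_coe]
    exact Nat.coprime_of_dvd fun l hl ha hb => (not_mem_of_dvd_decomposition hG hM hd hl
      (ha.trans (Subgroup.orderOf_dvd_natCard U hu))).2 (hd.hall.2.1 l hl hb)
  exact ⟨⟨fun a b => Subtype.ext (PGroup.mul_comm_of_isMulCommutative hab (hle a.2) (hle b.2))⟩⟩

namespace DualPair

variable {M Mstar K : Subgroup G} (P : DualPair M Mstar K)
include P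

theorem prime_card (hne : Nat.card M ≠ Nat.card (Cfsg.sigmaCore M) * Nat.card K) : (Nat.card K).Prime := by
  obtain ⟨E, d⟩ := P.mem.exists_data
  exact d.prime_card_of_ne hne

/-- In `H ⊇ K`, not conjugate to `M`, `p ∉ σ(H)`, an `s`-subgroup moved by `K` without fixed points has
`s ∈ σ(H)`. -/
theorem mem_sigma_of_fpf (hne : Nat.card M ≠ Nat.card (Cfsg.sigmaCore M) * Nat.card K) {H : Subgroup G}
    (hH : IsCoatom H) (hKH : K ≤ H) (hpH : Nat.card K ∉ Cfsg.sigma H)
    (hnc : ∀ g : G, MulAut.conj g • M ≠ H) {s : ℕ} [Fact s.Prime] (hsp : s ≠ Nat.card K) {S : Subgroup G}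
    (hS : IsPGroup s S) (hSH : S ≤ H) (hS1 : S ≠ ⊥) (hKS : K ≤ normalizer (S : Set G))
    (hfix : S ⊓ centralizer (K : Set G) = ⊥) : s ∈ Cfsg.sigma H := by
  by_contra hsH
  have hG := P.mem.minSimple
  have h13 := P.mem.h13
  obtain ⟨E, d⟩ := P.mem.exists_data
  have hp := P.prime_card hne
  haveI := Fact.mk hp
  obtain ⟨z, hz⟩ := exists_prime_orderOf_dvd_card' (G := K) (Nat.card K) dvd_rfl
  rw [← Subgroup.orderOf_coe] at hz
  have hzK : zpowers (z : G) = K := Subgroup.eq_of_le_of_card_ge (Subgroup.zpowers_le.2 z.2)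
    (le_of_eq (by rw [Nat.card_zpowers, hz]))
  have hKfix : Cfsg.sigmaCore H ⊓ centralizer (K : Set G) = ⊥ := by
    by_contra hc
    obtain ⟨g, hg⟩ := P.conj_of_fixed le_rfl rfl hH hKH hpH hc
    exact hnc g hg
  have hnil : Group.IsNilpotent (Cfsg.sigmaCore H) :=
    isNilpotent_sigmaCore_of_fpf (p := Nat.card K) hKH rfl hKfix
  haveI : Group.IsSolvable K := Coprime.isSolvable_of_le hKH (isSolvable_of_coatom hG hH)
  have hzfix : Cfsg.sigmaCore H ⊓ centralizer ({(z : G)} : Set G) = ⊥ := by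
    rw [← inf_centralizer_zpowers, hzK]; exact hKfix
  -- `K` moves an `s`-subgroup without fixed points inside `C(H_σ)`
  have key : ∀ T : Subgroup G, IsPGroup s T → T ≤ H → K ≤ normalizer (T : Set G) →
      T ⊓ centralizer (K : Set G) = ⊥ → ⁅T, K⁆ = T ∧ T ≤ centralizer (Cfsg.sigmaCore H : Set G) := by
    intro T hT hTH hKT hTfix
    have hcop : (Nat.card K).Coprime (Nat.card T) := by
      obtain ⟨k, hk⟩ := hT.exists_card_eq
      rw [hk]
      exact ((Nat.coprime_primes hp Fact.out).2 hsp.symm).pow_right k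
    have h1 : ⁅T, K⁆ = T := commutator_eq_of_fpf hKT hcop inferInstance hTfix
    have h2 := commutator_le_centralizer_sigmaCore hG hH hnil hT hTH hsH (hKH z.2) (hz.symm ▸ hp)
      (by rw [hz]; exact hsp.symm) (by rw [hz]; exact hpH) (hKT z.2) hzfix
    rw [hzK, h1] at h2
    exact ⟨h1, h2⟩
  obtain ⟨hSc, hSσ⟩ := key S hS hSH hKS hfix
  obtain ⟨X, hXS, hX⟩ := exists_le_card_prime hS hS1
  have hSd : s ∣ Nat.card ↥⁅H, H⁆ :=
    hX ▸ Subgroup.card_dvd_of_le (hXS.trans (hSc ▸ Subgroup.commutator_mono hSH hKH))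
  have hXfix : Cfsg.sigmaCore H ⊓ centralizer (X : Set G) ≠ ⊥ := by
    rw [inf_eq_left.2 (Subgroup.le_centralizer_iff.1 (hXS.trans hSσ))]
    exact sigmaCore_ne_bot hG hH
  rcases mem_tau hG hH (hX ▸ Subgroup.card_dvd_of_le (hXS.trans hSH)) hsH with h1 | h2 | h3
  · exact h1.2.2.2.1 hSd
  swap
  · exact hXfix (h13.tau3_regular H hH s h3 X (hXS.trans hSH) hX)
  have hdis : K ⊓ S = ⊥ := Coprime.disjoint_of_coprime_card (by
    obtain ⟨k, hk⟩ := hS.exists_card_eq
    rw [hk]
    exact ((Nat.coprime_primes hp Fact.out).2 hsp.symm).pow_right k)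
  obtain ⟨F, hF, hKSF⟩ := exists_compl hG hH (sup_le hKH hSH) (by
    rw [Coprime.card_sup_of_le_normalizer hKS hdis]
    obtain ⟨k, hk⟩ := hS.exists_card_eq
    rw [hk]
    exact (hp.coprime_iff_not_dvd.2 (not_dvd_sigmaCore hpH)).mul_left
      (((Fact.out : s.Prime).coprime_iff_not_dvd.2 (not_dvd_sigmaCore hsH)).pow_left k))
  obtain ⟨A, hAF, hA, hAc⟩ := exists_square_le_compl hF hsH h2.2.2.2
  obtain ⟨A₀, h⟩ := exists_exc hG hH hsH (hAF.trans hF.1) hA hAc
  have hAp := PGroup.isPGroup_of_elementaryAbelian hA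
  have hKA : K ≤ normalizer (A : Set G) :=
    (le_sup_left.trans hKSF).trans (h.complement_le_normalizer hF hAF)
  have hXA : X ≤ A := fun x hx => h.mem_of_compl hF hAF (hKSF (Subgroup.mem_sup_right (hXS hx)))
    (orderOf_dvd_iff_pow_eq_one.1 (hX ▸ Subgroup.orderOf_dvd_natCard X hx))
  obtain ⟨L, hL, hNL⟩ := exists_coatom_ge (normalizer_ne_top_of_pgroup hG hAp (square_ne_bot hA hAc))
  have hAL : A ≤ L := Subgroup.le_normalizer.trans hNL
  have hsL : s ∈ Cfsg.sigma L := by
    by_contra hr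
    obtain ⟨A₁, h'⟩ := exists_exc hG hL hr hAL hA hAc
    exact h'.not_normalizer_le hNL
  have hAσ : A ≤ Cfsg.sigmaCore L := by
    obtain ⟨T, hT⟩ := exists_sylow_map_ge hAp hAL
    exact hT.trans (sylow_le_sigmaCore hG hL hsL T)
  have hKL : K ≤ L := hKA.trans hNL
  have hX1 : X ≠ ⊥ := fun e => (Fact.out : s.Prime).ne_one (by rw [← hX, e, Subgroup.card_bot])
  have hpL : Nat.card K ∉ Cfsg.sigma L := fun hps => by
    obtain ⟨T, hT⟩ := exists_sylow_map_ge (IsPGroup.of_card (n := 1) (pow_one _).symm) hKL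
    have hzA := mem_centralizer_of_sigma hG hL
      (fun hb => not_ideal_of_square hA hAc h.setting.hmax hb.2) hAp hAσ
      (sylow_le_sigmaCore hG hL hps T (hT z.2))
      (by rw [hz]; exact fun e => hsp ((Nat.prime_dvd_prime_iff_eq Fact.out hp).1 e)) (hKA z.2)
    refine hX1 (le_bot_iff.1 (hfix ▸ le_inf hXS ?_))
    rw [Subgroup.le_centralizer_iff, ← hzK, Subgroup.zpowers_le]
    exact Subgroup.centralizer_le hXA hzA
  have hAfix : A ⊓ centralizer (K : Set G) = ⊥ := by
    by_contra hc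
    obtain ⟨g, hg⟩ := P.conj_of_fixed le_rfl rfl hL hKL hpL (ne_bot_of_le_ne_bot hc (inf_le_inf_right _ hAσ))
    refine d.not_tau2_of_mem_sigma hne ?_ hH h2
    rw [← sigma_conj g M, hg]
    exact hsL
  refine sigmaCore_ne_bot hG hH ?_
  rw [← h.sigmaCore_inf_centralizer]
  exact (inf_eq_left.2 (Subgroup.le_centralizer_iff.1 (key A hAp (hAF.trans hF.1) hKA hAfix).2)).symm

/-- `K` lies in the Fitting subgroup of a complement of `H_σ` containing it, and that complement is in `M*`. -/
theorem compl_facts (hne : Nat.card M ≠ Nat.card (Cfsg.sigmaCore M) * Nat.card K) {H : Subgroup G}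
    (hH : IsCoatom H) (hpH : Nat.card K ∉ Cfsg.sigma H) (hnc : ∀ g : G, MulAut.conj g • M ≠ H) {F : Subgroup G}
    (hF : IsComplIn F (Cfsg.sigmaCore H) H) (hKF : K ≤ F) : K ≤ fittingOf F ∧ F ≤ Mstar := by
  have hG := P.mem.minSimple
  set p := Nat.card K with hpdef
  have hp : p.Prime := P.prime_card hne
  haveI := Fact.mk hp
  haveI : Group.IsSolvable F := Coprime.isSolvable_of_le hF.1 (isSolvable_of_coatom hG hH)
  have hKp : IsPGroup p K := IsPGroup.of_card (n := 1) (pow_one _).symm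
  have hKM : K ≤ H := hKF.trans hF.1
  have hab : ∀ Q : Subgroup G, ∀ l : ℕ, l.Prime → IsPGroup l Q → Q ≤ F → IsMulCommutative Q := by
    intro Q l hl hQ hQF
    haveI := Fact.mk hl
    refine (S1420.result hG H hH F hF).1 Q (hQF.trans hF.1) hQ.isNilpotent fun r hr hd => ?_
    exact not_mem_sigma_of_compl hG hH hF hr (hd.trans (Subgroup.card_dvd_of_le hQF))
  -- `K` centralises the `l`-cores of `F`
  have hcore : ∀ l : ℕ, l.Prime → K ≤ centralizer (((pCore l F).map F.subtype : Subgroup G) : Set G) := by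
    intro l hl
    haveI := Fact.mk hl
    set Q := (pCore l F).map F.subtype with hQdef
    have hQ : IsPGroup l Q := (Components.isPGroup_pCore' l).map _
    have hQF : Q ≤ F := Subgroup.map_subtype_le _
    have hFQ : F ≤ normalizer (Q : Set G) := by
      rw [← Subgroup.normal_subgroupOf_iff_le_normalizer hQF, Subgroup.subgroupOf, hQdef,
        Subgroup.comap_map_eq_self_of_injective F.subtype_injective]
      exact Components.pCore_normal' l
    have hKQ : K ≤ normalizer (Q : Set G) := hKF.trans hFQ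
    by_cases hlp : l = p
    · subst hlp
      have hJ := hab (K ⊔ Q) p hp (hKp.to_sup_of_normal_right' hQ hKQ) (sup_le hKF hQF)
      exact fun k hk => Subgroup.mem_centralizer_iff.2 fun q hq =>
        PGroup.mul_comm_of_isMulCommutative hJ (Subgroup.mem_sup_right hq) (Subgroup.mem_sup_left hk)
    haveI := hab Q l hl hQ hQF
    have hcop : (Nat.card K).Coprime (Nat.card Q) := by
      obtain ⟨k, hk⟩ := hQ.exists_card_eq
      rw [hk, ← hpdef]
      exact ((Nat.coprime_primes hp hl).2 (Ne.symm hlp)).pow_right k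
    rw [Coprime.le_centralizer_iff_commutator_eq_bot]
    by_contra hW
    have hWQ : ⁅Q, K⁆ ≤ Q := Coprime.commutator_le_left_of_le_normalizer hKQ
    have hls := P.mem_sigma_of_fpf hne hH hKM hpH hnc hlp (hQ.to_le hWQ) (hWQ.trans (hQF.trans hF.1)) hW
      (Subgroup.normalizer_commutator_ge_right Q K) (le_bot_iff.1 (by
        rw [← Coprime.inf_centralizer_inf_commutator_eq_bot hKQ hcop]
        exact le_inf (inf_le_inf_right _ hWQ) inf_le_left))
    obtain ⟨W', hW', hW'c⟩ := exists_le_card_prime (hQ.to_le hWQ) hW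
    exact not_mem_sigma_of_compl hG hH hF hl
      (hW'c ▸ Subgroup.card_dvd_of_le (hW'.trans (hWQ.trans hQF))) hls
  have hKfit : K.subgroupOf F ≤ fittingSubgroup F := by
    refine le_trans ?_ Components.centralizer_fittingSubgroup_le
    rw [Subgroup.le_centralizer_iff, Components.fittingSubgroup_eq_iSup_pCore]
    refine iSup_le fun l q hq => Subgroup.mem_centralizer_iff.2 fun k hk => Subtype.ext ?_
    exact (Subgroup.mem_centralizer_iff.1 (hcore l (Nat.prime_of_mem_primeFactors l.2) hk) q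
      ⟨q, hq, rfl⟩).symm
  refine ⟨(Subgroup.map_subgroupOf_eq_of_le hKF).ge.trans (Subgroup.map_mono hKfit), ?_⟩
  -- `K` lies in the `p`-core
  have hKcore : K ≤ (pCore p F).map F.subtype := by
    set Fit := fittingSubgroup F with hFit
    haveI : Group.IsNilpotent Fit := Components.fittingSubgroup_isNilpotent F
    obtain ⟨T, hT⟩ := (hKp.comap_subtype (K := F) |>.comap_of_injective Fit.subtype Fit.subtype_injective).exists_le_sylow
    haveI : (T : Subgroup Fit).Normal :=
      Sylow.normal_of_normalizerCondition Group.normalizerCondition_of_isNilpotent T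
    haveI : (T : Subgroup Fit).Characteristic := T.characteristic_of_normal inferInstance
    haveI : Fit.Normal := Components.fittingSubgroup_normal F
    have hle : (T : Subgroup Fit).map Fit.subtype ≤ pCore p F :=
      le_sSup ⟨ConjAct.normal_of_characteristic_of_normal, T.isPGroup'.map Fit.subtype⟩
    intro k hk
    exact ⟨⟨k, hKF hk⟩, hle ⟨⟨⟨k, hKF hk⟩, hKfit hk⟩, hT hk, rfl⟩, rfl⟩
  set P0 := (pCore p F).map F.subtype with hP0
  have hP0F : P0 ≤ F := Subgroup.map_subtype_le _
  have hP0p : IsPGroup p P0 := (Components.isPGroup_pCore' p).map _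
  have hFn : F ≤ normalizer (P0 : Set G) := by
    rw [← Subgroup.normal_subgroupOf_iff_le_normalizer hP0F, Subgroup.subgroupOf, hP0,
      Subgroup.comap_map_eq_self_of_injective F.subtype_injective]
    exact Components.pCore_normal' p
  have hCK := P.centralizer_le_of_prime (X := K) le_rfl rfl
  refine hFn.trans ?_
  by_cases hc : IsCyclic P0
  · exact (normalizer_le_of_cyclic hc hKcore).trans hCK.2
  · have hP0M : P0 ≤ Mstar := fun q hq => hCK.1 (Subgroup.mem_centralizer_iff.2 fun k hk =>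
      (Subgroup.mem_centralizer_iff.1 (hcore p hp hk) q hq).symm)
    obtain ⟨E', d'⟩ := P.mem'.exists_data
    exact (S1420.result hG Mstar P.mem'.coatom E' d'.compl).2.2.1 p P0
      (isPiGrp_piCoreOf (Cfsg.sigma Mstar) Mstar p hp (Subgroup.card_dvd_of_le P.K_le_sigmaCore)) hP0p hP0M hc

end DualPair

/-- The conclusion of the frozen statement S1435 (BG 14.11). -/
theorem sylow_normalizer_facts (hG : IsMinSimpleOddOrder G) (h13 : BG13 G) {M : Subgroup G} (hM : IsCoatom M)
    {K U : Subgroup G} (hKU : IsSigmaDecomposition M K U) (hK1 : K ≠ ⊥) (hU1 : U ≠ ⊥) {Mstar : Subgroup G}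
    (hMstar : IsCoatom Mstar)
    (hKst : K = sigmaCore Mstar ⊓ centralizer ((sigmaCore M ⊓ centralizer (K : Set G) : Subgroup G) : Set G))
    (hKstH : IsPiHallOf (kappa Mstar) (sigmaCore M ⊓ centralizer (K : Set G)) Mstar)
    {r : ℕ} [Fact r.Prime] (hr : r ∣ Nat.card U) (R : Sylow r U) {H : Subgroup G} (hH : IsCoatom H)
    (hNR : normalizer (((R : Subgroup U).map U.subtype : Subgroup G) : Set G) ≤ H) :
    kappa H = ∅ ∧ U ≤ sigmaCore H ∧ M ⊓ H = U ⊔ K ∧ ¬ H ⊓ normalizer (U : Set G) ≤ M ∧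
      K ≤ fittingOf (H ⊓ Mstar) ∧ IsComplIn (H ⊓ Mstar) (sigmaCore H) H := by
  have P := dualPair_of_conditions hG h13 hM hKU.hall hK1 hMstar hKst hKstH
  have hUab := decomposition_comm hG h13 hM hKU hK1
  have hc := card_decomposition hKU
  have hne : Nat.card M ≠ Nat.card (sigmaCore M) * Nat.card K := fun e => hU1 (Subgroup.card_eq_one.1
    (Nat.eq_of_mul_eq_mul_right (m := Nat.card K * Nat.card (sigmaCore M))
      (Nat.mul_pos Nat.card_pos Nat.card_pos) (by rw [one_mul, ← hc, e, mul_comm])))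
  have hp := P.prime_card hne
  haveI := Fact.mk hp
  have hUfix : U ⊓ centralizer (K : Set G) = ⊥ := by
    obtain ⟨k, hk, hk1⟩ := (Subgroup.bot_or_exists_ne_one _).resolve_left hK1
    exact le_bot_iff.1 (decomposition_fpf hG h13 hM hKU k hk hk1 ▸
      inf_le_inf_left U (Subgroup.centralizer_le (Set.singleton_subset_iff.2 hk)))
  have hUp := fun {l : ℕ} => not_mem_of_dvd_decomposition hG hM hKU (l := l)
  set R' := (R : Subgroup U).map U.subtype with hR'
  have hsyl : IsSyl r R' U := ⟨R, rfl⟩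
  have hUR : U ≤ centralizer (R' : Set G) := fun u hu => Subgroup.mem_centralizer_iff.2 fun a ha =>
    PGroup.mul_comm_of_isMulCommutative hUab (hsyl.le ha) hu
  have hNU : normalizer (U : Set G) ≤ H := (normalizer_le_normalizer_sylow hUab hsyl).trans hNR
  have hUH : U ≤ H := Subgroup.le_normalizer.trans hNU
  have hKH : K ≤ H := hKU.normal.trans hNU
  have hpH : Nat.card K ∉ sigma H := fun hps => by
    have hHM : H = Mstar := P.eq_of_mem_sigma' le_rfl rfl hH hKH hps
    have hUZ : U ≤ K ⊔ (sigmaCore M ⊓ centralizer (K : Set G)) :=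
      P.inf_eq.le.trans' (le_inf hKU.compl.1 (hHM ▸ hUH))
    refine hU1 (le_bot_iff.1 ?_)
    refine (le_inf le_rfl hUZ).trans (le_of_eq (Coprime.disjoint_of_coprime_card ?_))
    rw [P.mem.card_eq]
    exact Nat.coprime_of_dvd fun l hl h1 h2 => (hl.dvd_mul.1 h2).elim
      (fun h => (hUp hl h1).2 (hKU.hall.2.1 l hl h)) (fun h => (hUp hl h1).1 (P.mem.part_primes l hl h))
  have hRM : R' ≤ M := hsyl.le.trans hKU.compl.1
  have hrU := hUp (Fact.out : r.Prime) hr
  have hRcard : (Nat.card M).factorization r = (Nat.card U).factorization r := by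
    rw [hc, Nat.factorization_mul Nat.card_pos.ne' (Nat.mul_ne_zero Nat.card_pos.ne' Nat.card_pos.ne'),
      Finsupp.add_apply, Nat.factorization_mul Nat.card_pos.ne' Nat.card_pos.ne', Finsupp.add_apply,
      Nat.factorization_eq_zero_of_not_dvd (not_dvd_sigmaCore hrU.1),
      Nat.factorization_eq_zero_of_not_dvd (fun h => hrU.2 (hKU.hall.2.1 r Fact.out h))]
    simp
  have hsylIn : ∀ W : Subgroup G, R' ≤ W → Nat.card W = Nat.card M → IsSyl r R' W := fun W hW hWc => by
    obtain ⟨T, hT, hRT⟩ := exists_isSyl_ge hsyl.isPGroup hW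
    obtain ⟨T₀, hT₀⟩ := id hT
    have he : Nat.card T ≤ Nat.card R' := by
      rw [← hT₀, hR', Subgroup.card_map_of_injective W.subtype_injective,
        Subgroup.card_map_of_injective U.subtype_injective, T₀.card_eq_multiplicity, R.card_eq_multiplicity,
        hWc, hRcard]
    exact (Subgroup.eq_of_le_of_card_ge hRT he).symm ▸ hT
  have hnc : ∀ g : G, MulAut.conj g • M ≠ H := fun g hg => by
    have h1 := hsylIn H (hsyl.le.trans hUH) (by rw [← hg, Coprime.card_conj_smul])
    have h2 := h1.mem_sigma (hr.trans (Subgroup.card_dvd_of_le hUH)) hNR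
    rw [← hg, sigma_conj] at h2
    exact hrU.1 h2
  have hUσ : U ≤ sigmaCore H := by
    refine le_of_forall_sylow fun s hs hsU S => ?_
    haveI := Fact.mk hs
    have hS : IsSyl s ((S : Subgroup U).map U.subtype) U := ⟨S, rfl⟩
    have hsH : s ∈ sigma H := P.mem_sigma_of_fpf hne hH hKH hpH hnc
      (fun e => (hUp hs hsU).2 (hKU.hall.2.1 s hs (dvd_of_eq e))) hS.isPGroup (hS.le.trans hUH)
      (fun e => S.ne_bot_of_dvd_card hsU ((Subgroup.map_eq_bot_iff_of_injective _ U.subtype_injective).1 e))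
      (hKU.normal.trans (normalizer_le_normalizer_sylow hUab hS))
      (le_bot_iff.1 (hUfix ▸ inf_le_inf_right _ hS.le))
    obtain ⟨T, hT⟩ := exists_sylow_map_ge hS.isPGroup (hS.le.trans hUH)
    exact hT.trans (sylow_le_sigmaCore hG hH hsH T)
  have hdisj : ∀ L : Subgroup G, IsCoatom L → (∀ g : G, MulAut.conj g • L ≠ H) →
      sigmaCore L ⊓ sigmaCore H = ⊥ := fun L hL hn =>
    Coprime.disjoint_of_coprime_card (Nat.coprime_of_dvd fun l hl h1 h2 => by
      obtain ⟨g, hg⟩ := h13.partition L H hL hH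
        ⟨l, isPiGrp_piCoreOf (sigma L) L l hl h1, isPiGrp_piCoreOf (sigma H) H l hl h2⟩
      exact hn g hg.symm)
  have hMR : sigmaCore M ⊓ centralizer (R' : Set G) = ⊥ := by
    obtain ⟨T, hT⟩ := hsylIn M hRM rfl
    obtain ⟨-, h2, -⟩ := S1429.result hG M hM
      (fun h => hrU.2 (h r Fact.out (hr.trans (Subgroup.card_dvd_of_le hKU.compl.1)) hrU.1))
      r (hr.trans (Subgroup.card_dvd_of_le hKU.compl.1)) (fun h => h.elim hrU.1 hrU.2) T
    refine le_bot_iff.1 (h2 ▸ inf_le_inf_left _ (Subgroup.centralizer_le ?_))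
    rw [hT]
    exact (Subgroup.closure_le _).2 fun x hx => hx.1
  have hMH : M ⊓ H = U ⊔ K := by
    refine le_antisymm (fun g hg => ?_) (sup_le (le_inf hKU.compl.1 hUH) (le_inf hKU.hall.1 hKH))
    obtain ⟨e, he, y, hy, rfl⟩ := (isComplIn_sup_decomposition hG hM hKU).2.2.2 g hg.1
    have heH : e ∈ H := sup_le hKH hUH he
    have hyH : y ∈ H := (H.mul_mem_cancel_left heH).1 hg.2
    have hy1 : y ∈ sigmaCore M ⊓ centralizer (R' : Set G) := by
      refine ⟨hy, Subgroup.mem_centralizer_iff.2 fun a ha => ?_⟩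
      have h : y * a * y⁻¹ * a⁻¹ ∈ sigmaCore M ⊓ sigmaCore H := by
        constructor
        · have h3 := (sigmaCore M).mul_mem hy ((Subgroup.mem_normalizer_iff.1
            (le_normalizer_sigmaCore M (hRM ha)) y⁻¹).1 ((sigmaCore M).inv_mem hy))
          simpa [mul_assoc] using h3
        · exact (sigmaCore H).mul_mem
            ((Subgroup.mem_normalizer_iff.1 (le_normalizer_sigmaCore H hyH) a).1 (hUσ (hsyl.le ha)))
            ((sigmaCore H).inv_mem (hUσ (hsyl.le ha)))
      rw [hdisj M hM hnc, Subgroup.mem_bot, mul_inv_eq_one, mul_inv_eq_iff_eq_mul] at h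
      exact h.symm
    rw [hMR, Subgroup.mem_bot] at hy1
    rw [hy1, mul_one, sup_comm]
    exact he
  have hKfix : sigmaCore H ⊓ centralizer (K : Set G) = ⊥ := by
    by_contra hc'
    obtain ⟨g, hg⟩ := P.conj_of_fixed le_rfl rfl hH hKH hpH hc'
    exact hnc g hg
  have hnil : Group.IsNilpotent (sigmaCore H) :=
    isNilpotent_sigmaCore_of_fpf (p := Nat.card K) hKH rfl hKfix
  have hps : Nat.card K ∈ sigma Mstar :=
    isPiGrp_piCoreOf (sigma Mstar) Mstar _ hp (Subgroup.card_dvd_of_le P.K_le_sigmaCore)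
  have hncs : ∀ g : G, MulAut.conj g • Mstar ≠ H := fun g hg => hpH (by rw [← hg, sigma_conj]; exact hps)
  refine ⟨?_, hUσ, hMH, fun hle => ?_, ?_⟩
  · rw [Set.eq_empty_iff_forall_notMem]
    intro l hl
    obtain ⟨g, h | h⟩ := P.conj_of_kappa hH ⟨l, hl⟩
    · exact hnc g h
    · exact hncs g h
  · have hle' : sigmaCore H ⊓ normalizer (U : Set G) ≤ U := by
      intro y hy
      have hyK : y ∈ U ⊔ K := hMH ▸ ⟨hle ⟨hNU hy.2, hy.2⟩, hNU hy.2⟩
      obtain ⟨k, hk, u, hu, rfl⟩ := (Coprime.mem_sup_iff_of_le_normalizer hKU.normal).1 (sup_comm U K ▸ hyK)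
      have hkσ : k ∈ sigmaCore H := ((sigmaCore H).mul_mem_cancel_right (hUσ hu)).1 hy.1
      have hk1 : k ∈ K ⊓ sigmaCore H := ⟨hk, hkσ⟩
      rw [Coprime.disjoint_of_coprime_card (hp.coprime_iff_not_dvd.2 (not_dvd_sigmaCore hpH)),
        Subgroup.mem_bot] at hk1
      rw [hk1, one_mul]
      exact hu
    rcases hUσ.eq_or_lt with e | hlt
    · have hHN : H ≤ normalizer (U : Set G) := e ▸ le_normalizer_sigmaCore H
      exact hnc 1 (by
        rw [map_one, one_smul]
        exact ((hH.le_iff.1 (le_trans (le_inf le_rfl hHN) hle)).resolve_left hM.1))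
    · exact (lt_inf_normalizer hnil hlt).not_ge hle'
  · obtain ⟨F, hF, hKF⟩ := exists_compl hG hH hKH (hp.coprime_iff_not_dvd.2 (not_dvd_sigmaCore hpH))
    obtain ⟨hfit, hFM⟩ := P.compl_facts hne hH hpH hnc hF hKF
    have hHM : H ⊓ Mstar = F := by
      refine le_antisymm (fun g hg => ?_) (le_inf hF.1 hFM)
      obtain ⟨e, he, y, hy, rfl⟩ := hF.2.2.2 g hg.1
      have hyM : y ∈ Mstar := (Mstar.mul_mem_cancel_left (hFM he)).1 hg.2
      have hy1 : y ∈ sigmaCore H ⊓ centralizer (K : Set G) := by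
        refine ⟨hy, Subgroup.mem_centralizer_iff.2 fun a ha => ?_⟩
        have h : y * a * y⁻¹ * a⁻¹ ∈ sigmaCore Mstar ⊓ sigmaCore H := by
          constructor
          · exact (sigmaCore Mstar).mul_mem
              ((Subgroup.mem_normalizer_iff.1 (le_normalizer_sigmaCore Mstar hyM) a).1 (P.K_le_sigmaCore ha))
              ((sigmaCore Mstar).inv_mem (P.K_le_sigmaCore ha))
          · have h3 := (sigmaCore H).mul_mem hy ((Subgroup.mem_normalizer_iff.1
              (le_normalizer_sigmaCore H (hKH ha)) y⁻¹).1 ((sigmaCore H).inv_mem hy))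
            simpa [mul_assoc] using h3
        rw [hdisj Mstar hMstar hncs, Subgroup.mem_bot, mul_inv_eq_one, mul_inv_eq_iff_eq_mul] at h
        exact h.symm
      rw [hKfix, Subgroup.mem_bot] at hy1
      rw [hy1, mul_one]
      exact he
    exact ⟨hHM.symm ▸ hfit, hHM.symm ▸ hF⟩

end Cfsg.Agent.OddOrder
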