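import Cfsg.Prelude.Def_OddOrderLocal
import Cfsg.Agent.Lib.PCore.Basic
import Cfsg.Agent.Lib.OddOrder.MaximalSubgroups

/-!
# Type I in the book's form

`Cfsg.IsOfTypeI` asks for a cyclic `O_{p'}(M)` in its third case; the local analysis (BG 15.7, 16.1) gives
a cyclic `O_{p'}(M_F)`. `IsOfTypeI'` is Type I with that clause, and `typeA'`, `typeA0'`, `Supports'` are
the notions derived from it, word for word.
-/

set_option autoImplicit false
set_option linter.style.haveILetI false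

namespace Cfsg.Agent.OddOrder

open Cfsg

universe u

/-- Type I with `O_{p'}(M_F)` in place of `O_{p'}(M)`. -/
def IsOfTypeI' {G : Type u} [Group G] (M : Subgroup G) : Prop :=
  IsOfTypeF M ∧
  ( IsTISubset (fittingHallOf M : Set G) ∨
    (IsMulCommutative (fittingHallOf M) ∧ RankLE 2 (fittingHallOf M) ∧ ¬ RankLE 1 (fittingHallOf M)) ∨
    ((∀ p : ℕ, p.Prime → p ∣ Nat.card (fittingHallOf M) →
        Monoid.exponent (M ⧸ fittingHall M) ∣ p - 1) ∧
      ∃ p : ℕ, p.Prime ∧ p ∣ Nat.card (fittingHallOf M) ∧ IsCyclic (pPrimeCore p (fittingHallOf M))) )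

open scoped Classical in
/-- `A(M)` relative to `IsOfTypeI'`. -/
noncomputable def typeA' {G : Type u} [Group G] (M : Subgroup G) : Set G :=
  if IsOfTypeI' M then
    {a | a ∈ M ∧ a ≠ 1 ∧ ∃ x ∈ fittingHallOf M, x ≠ 1 ∧ a * x = x * a}
  else
    {a | a ∈ ⁅M, M⁆ ∧ a ≠ 1 ∧ ∃ x ∈ typeCore M, x ≠ 1 ∧ a * x = x * a}

/-- `A₀(M)` relative to `IsOfTypeI'`. -/
noncomputable def typeA0' {G : Type u} [Group G] (M : Subgroup G) : Set G :=
  typeA' M ∪ {v | ¬ IsOfTypeI' M ∧ ∃ W₁ U W₂ : Subgroup G, IsTypePWith M W₁ U W₂ ∧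
    ∃ m ∈ M, ∃ w ∈ W₁ ⊔ W₂, w ∉ W₁ ∧ w ∉ W₂ ∧ v = m * w * m⁻¹}

/-- `L` supports `M`, relative to `IsOfTypeI'`. -/
def Supports' {G : Type u} [Group G] (L M : Subgroup G) : Prop :=
  IsCoatom L ∧ ∃ x ∈ typeA0' M, ¬ Subgroup.centralizer ({x} : Set G) ≤ M ∧
    Subgroup.centralizer ({x} : Set G) ≤ L

theorem isOfTypeI'_of_isOfTypeI {G : Type u} [Group G] [Finite G] {M : Subgroup G} (h : IsOfTypeI M) :
    IsOfTypeI' M := by
  obtain ⟨hF, h | h | ⟨hexp, p, hp, hd, hc⟩⟩ := h
  · exact ⟨hF, Or.inl h⟩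
  · exact ⟨hF, Or.inr (Or.inl h)⟩
  refine ⟨hF, Or.inr (Or.inr ⟨hexp, p, hp, hd, ?_⟩)⟩
  haveI := Fact.mk hp
  haveI := hc
  set H := fittingHallOf M
  set V := (pPrimeCore p H).map H.subtype with hV
  have hHM : H ≤ M := Subgroup.map_subtype_le _
  have hVM : V ≤ M := (Subgroup.map_subtype_le _).trans hHM
  have hMH : M ≤ Subgroup.normalizer (H : Set G) := by
    rw [← Subgroup.normal_subgroupOf_iff_le_normalizer hHM,
      show H.subgroupOf M = fittingHall M from
        Subgroup.comap_map_eq_self_of_injective M.subtype_injective _]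
    infer_instance
  haveI : (V.subgroupOf M).Normal := (Subgroup.normal_subgroupOf_iff_le_normalizer hVM).2
    (hMH.trans (Components.normalizer_le_normalizer_map_of_characteristic H (pPrimeCore p H)))
  have hle : V.subgroupOf M ≤ pPrimeCore p M := PCore.le_pPrimeCore (by
    rw [Nat.card_congr (Subgroup.subgroupOfEquivOfLe hVM).toEquiv, hV,
      Subgroup.card_map_of_injective H.subtype_injective]
    exact PCore.coprime_card_pPrimeCore)
  haveI : IsCyclic (V.subgroupOf M) :=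
    isCyclic_of_injective (Subgroup.inclusion hle) (Subgroup.inclusion_injective hle)
  haveI : IsCyclic V := (Subgroup.subgroupOfEquivOfLe hVM).isCyclic.1 inferInstance
  exact ((pPrimeCore p H).equivMapOfInjective H.subtype H.subtype_injective).isCyclic.2 inferInstance

end Cfsg.Agent.OddOrder
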