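import Cfsg.Agent.Lib.OddOrder.FittingHall
import Cfsg.Agent.Lib.OddOrder.MaximalSubgroups
import Cfsg.Agent.Lib.Coprime.Basic

/-!
# The five types of maximal subgroups exclude each other

Elementary facts about `IsTypePWith` data: the complement `W₁` is a Hall subgroup, two complements `U`
are conjugate in `M`, and a group of Frobenius type has no type P data.
-/

set_option autoImplicit false
set_option linter.unusedSectionVars false

namespace Cfsg.Agent.OddOrder.Types

open Cfsg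
open Subgroup (centralizer normalizer zpowers)
open scoped Pointwise

universe u
variable {G : Type u} [Group G] [Finite G] {M W₁ U W₂ W₁' U' W₂' : Subgroup G}

theorem fitting_le_commutator (h : IsTypePWith M W₁ U W₂) : fittingHallOf M ≤ ⁅M, M⁆ := h.U_compl.1

theorem card_derived (h : IsTypePWith M W₁ U W₂) :
    Nat.card (fittingHallOf M) * Nat.card U = Nat.card ↥⁅M, M⁆ :=
  card_eq_of_isComplIn h.U_compl

theorem card_U_eq (h : IsTypePWith M W₁ U W₂) (h' : IsTypePWith M W₁' U' W₂') :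
    Nat.card U = Nat.card U' :=
  Nat.eq_of_mul_eq_mul_left Nat.card_pos ((card_derived h).trans (card_derived h').symm)

theorem U_le (h : IsTypePWith M W₁ U W₂) : U ≤ M := h.U_compl.2.1.trans M.commutator_le_self

theorem coprime_U (h : IsTypePWith M W₁ U W₂) :
    (Nat.card (fittingHallOf M)).Coprime (Nat.card U) :=
  coprime_fittingHallOf_of_inf_eq_bot (U_le h) h.U_compl.2.2.1

theorem coprime_W₁ (h : IsTypePWith M W₁ U W₂) : (Nat.card W₁).Coprime (Nat.card ↥⁅M, M⁆) := by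
  have h1 := Subgroup.relIndex_mul_relIndex ⊥ W₁ M bot_le h.W₁_compl.2.1
  rw [Subgroup.relIndex_bot_left, Subgroup.relIndex_bot_left, ← card_eq_of_isComplIn h.W₁_compl,
    mul_comm (Nat.card ↥⁅M, M⁆)] at h1
  exact Nat.eq_of_mul_eq_mul_left Nat.card_pos h1 ▸ h.W₁_hall

theorem le_normalizer_commutator (M : Subgroup G) : M ≤ normalizer ((⁅M, M⁆ : Subgroup G) : Set G) := by
  intro m hm
  refine Coprime.mem_normalizer_of_conj_smul_eq ?_
  show (⁅M, M⁆).map (MulAut.conj m).toMonoidHom = _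
  rw [Subgroup.map_commutator]
  congr 1 <;> exact Coprime.conj_smul_eq_self_of_mem (Subgroup.le_normalizer hm)

theorem U_conj (hMs : Group.IsSolvable M) (h : IsTypePWith M W₁ U W₂) (h' : IsTypePWith M W₁' U' W₂') :
    ∃ g ∈ M, MulAut.conj g • U = U' := by
  have hn : U ≤ normalizer (fittingHallOf M : Set G) := (U_le h).trans
    ((Subgroup.normal_subgroupOf_iff_le_normalizer (fittingHallOf_le M)).1
      (by rw [subgroupOf_fittingHallOf]; infer_instance))
  have hle : U' ≤ U ⊔ fittingHallOf M := fun x hx => by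
    obtain ⟨a, ha, b, hb, rfl⟩ := h.U_compl.2.2.2 x (h'.U_compl.2.1 hx)
    exact Subgroup.mul_mem _ (Subgroup.mem_sup_right ha) (Subgroup.mem_sup_left hb)
  obtain ⟨g, hg, he⟩ := Coprime.exists_conj_eq_of_le_sup hn hle (card_U_eq h h').symm (coprime_U h).symm
    (Or.inl (Coprime.isSolvable_of_le (fittingHallOf_le M) hMs))
  exact ⟨g, fittingHallOf_le M hg, he⟩

theorem U_eq_bot_iff (h : IsTypePWith M W₁ U W₂) (h' : IsTypePWith M W₁' U' W₂') : U = ⊥ ↔ U' = ⊥ := by
  rw [← Subgroup.card_eq_one, ← Subgroup.card_eq_one, card_U_eq h h']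

theorem normalizer_le_iff (hMs : Group.IsSolvable M) (h : IsTypePWith M W₁ U W₂)
    (h' : IsTypePWith M W₁' U' W₂') :
    normalizer (U : Set G) ≤ M ↔ normalizer (U' : Set G) ≤ M := by
  obtain ⟨g, hg, rfl⟩ := U_conj hMs h h'
  have hgM : MulAut.conj g • M = M := Coprime.conj_smul_eq_self_of_mem (Subgroup.le_normalizer hg)
  rw [show normalizer ((MulAut.conj g • U : Subgroup G) : Set G) = MulAut.conj g • normalizer (U : Set G) from
    (Subgroup.map_normalizer_eq_of_bijective U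
      (f := (MulAut.conj g).toMonoidHom) (MulAut.conj g).bijective).symm]
  conv_rhs => rw [← hgM]
  exact Subgroup.pointwise_smul_le_pointwise_smul_iff.symm

/-- Frobenius type excludes type P. -/
theorem not_typeF_of_typeP (hI : IsOfTypeF M) (h : IsTypePWith M W₁ U W₂) : False := by
  obtain ⟨hMs, -, -, -, V, -, hV, -, V₀, hV₀, hexp, hfix⟩ := hI
  obtain ⟨p, hp, hpd⟩ := Nat.exists_prime_and_dvd (fun e => h.W₁_ne (Subgroup.card_eq_one.1 e))
  haveI := Fact.mk hp
  have hpH : ¬ p ∣ Nat.card (fittingHallOf M) := fun hd => hp.ne_one (Nat.eq_one_of_dvd_coprimes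
    (coprime_W₁ h) hpd (hd.trans (Subgroup.card_dvd_of_le (fitting_le_commutator h))))
  have hpV : p ∣ Nat.card V := by
    have h1 : p ∣ Nat.card (fittingHall M) * Nat.card V := by
      rw [hV.card_mul_card]; exact hpd.trans (Subgroup.card_dvd_of_le h.W₁_compl.2.1)
    exact (hp.dvd_mul.1 h1).resolve_left fun hd => hpH (by rwa [card_fittingHallOf])
  obtain ⟨v, hv⟩ := exists_prime_orderOf_dvd_card' (G := V) p hpV
  obtain ⟨u, hu⟩ := exists_prime_orderOf_dvd_card' (G := V₀) p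
    ((hv ▸ Monoid.order_dvd_exponent v).trans (hexp ▸ Group.exponent_dvd_nat_card))
  have hu1 : (u : M) ≠ 1 := fun e => hp.ne_one
    (hu.symm.trans (by rw [← Subgroup.orderOf_coe, e, orderOf_one]))
  have hop : orderOf ((u : M) : G) = p := by rw [Subgroup.orderOf_coe, Subgroup.orderOf_coe, hu]
  have hB : zpowers ((u : M) : G) ≤ W₁ ⊔ ⁅M, M⁆ := by
    refine Subgroup.zpowers_le.2 ?_
    obtain ⟨a, ha, b, hb, e⟩ := h.W₁_compl.2.2.2 _ (u : M).2
    rw [e]
    exact Subgroup.mul_mem _ (Subgroup.mem_sup_right ha) (Subgroup.mem_sup_left hb)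
  obtain ⟨n, hn, hle⟩ := Coprime.exists_le_conj_of_le_sup
    (h.W₁_compl.2.1.trans (le_normalizer_commutator M)) hB (coprime_W₁ h)
    (by rw [Nat.card_zpowers, hop]; exact (coprime_W₁ h).coprime_dvd_left hpd)
    (Or.inl (Coprime.isSolvable_of_le h.W₁_compl.2.1 hMs))
  have hw := Coprime.mem_conj_smul_iff.1 (hle (Subgroup.mem_zpowers _))
  set w := n⁻¹ * ((u : M) : G) * n with hwdef
  have hnM : n ∈ M := M.commutator_le_self hn
  obtain ⟨y, hy, hy1⟩ := (Subgroup.bot_or_exists_ne_one _).resolve_left h.selfNormalizing.2.1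
  obtain ⟨y', hy', hyy⟩ := (h.W₂_le hy).1
  subst hyy
  have hmem : (⟨n, hnM⟩ : M) * y' * (⟨n, hnM⟩ : M)⁻¹ ∈ fittingHall M :=
    (inferInstance : (fittingHall M).Normal).conj_mem _ hy' _
  have hcomm : w * (y' : G) = (y' : G) * w := h.selfNormalizing.2.2.2.1 w hw _ hy
  have h0 := hfix u u.2 hu1 _ hmem (Subtype.ext ?_)
  · refine hy1 ?_
    have : y' = 1 := by simpa using h0
    simp [this]
  · show ((u : M) : G) * (n * (y' : G) * n⁻¹) = n * (y' : G) * n⁻¹ * ((u : M) : G)
    calc ((u : M) : G) * (n * (y' : G) * n⁻¹) = n * (w * (y' : G)) * n⁻¹ := by rw [hwdef]; group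
      _ = n * ((y' : G) * w) * n⁻¹ := by rw [hcomm]
      _ = n * (y' : G) * n⁻¹ * ((u : M) : G) := by rw [hwdef]; group

/-- Type I excludes type P. -/
theorem not_typeI_of_typeP (hI : IsOfTypeI M) (h : IsTypePWith M W₁ U W₂) : False :=
  not_typeF_of_typeP hI.1 h

theorem not_typeI_of_typeP' (hI : IsOfTypeI M) (h : IsOfTypeP M) : False := by
  obtain ⟨W₁, U, W₂, h⟩ := h
  exact not_typeI_of_typeP hI h

theorem not_II_III_IV (hMs : Group.IsSolvable M) (h2 : IsOfTypeII M)
    (h34 : IsOfTypeIII M ∨ IsOfTypeIV M) : False := by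
  obtain ⟨_, _, _, hP, -, -, -, -, hn, -⟩ := h2
  rcases h34 with ⟨_, _, _, hP', -, -, -, -, hn'⟩ | ⟨_, _, _, hP', -, -, -, -, hn'⟩ <;>
    exact hn ((normalizer_le_iff hMs hP hP').2 hn')

theorem not_II_V (h2 : IsOfTypeII M) (h5 : IsOfTypeV M) : False := by
  obtain ⟨_, _, _, hP, hne, -⟩ := h2
  obtain ⟨_, _, _, hP', he, -⟩ := h5
  exact hne ((U_eq_bot_iff hP hP').2 he)

theorem not_III_IV_V (h34 : IsOfTypeIII M ∨ IsOfTypeIV M) (h5 : IsOfTypeV M) : False := by
  obtain ⟨_, _, _, hP', he, -⟩ := h5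
  rcases h34 with ⟨_, _, _, hP, hne, -⟩ | ⟨_, _, _, hP, hne, -⟩ <;>
    exact hne ((U_eq_bot_iff hP hP').2 he)

end Cfsg.Agent.OddOrder.Types
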