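import Cfsg.Agent.Lib.OddOrder.TheoremCSets
import Cfsg.Agent.Lib.OddOrder.TypeExclusive
import Cfsg.Agent.Lib.OddOrder.TypeDefs
import Cfsg.Agent.Lib.OddOrder.NonTIFittingStructure
import Cfsg.Agent.Lib.OddOrder.SylowNormalizer

/-!
# Bender–Glauberman §16: the types in terms of the standard factorisation (rows 1380–1383)

From `BG13 G`. Type I is in the book's form `IsOfTypeI'` (Lib/OddOrder/TypeDefs).
-/

set_option autoImplicit false
set_option linter.unusedSectionVars false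
set_option linter.style.haveILetI false

namespace Cfsg.Agent.OddOrder.TypesIff

open Cfsg
open Subgroup (centralizer normalizer zpowers)
open scoped Pointwise

universe u
variable {G : Type u} [Group G] [Finite G]

/-- A group of Frobenius type, described by subgroups of the ambient group. -/
theorem typeF_of_compl {X H U U₁ U₀ : Subgroup G} (hs : Group.IsSolvable X) (hodd : Odd (Nat.card X))
    (hH : fittingHallOf X = H) (hH1 : H ≠ ⊥) (hU1 : U ≠ ⊥) (hc : IsComplIn H U X)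
    (h1 : U₁ ≤ U) (hn : U ≤ normalizer (U₁ : Set G)) (hab : IsMulCommutative U₁)
    (hfix : ∀ x ∈ H, x ≠ 1 → U ⊓ centralizer ({x} : Set G) ≤ U₁) (h0 : U₀ ≤ U)
    (hexp : Monoid.exponent U₀ = Monoid.exponent U)
    (hfree : ∀ u ∈ U₀, u ≠ 1 → ∀ x ∈ H, u * x = x * u → x = 1) : IsOfTypeF X := by
  have eH : fittingHall X = H.subgroupOf X := by rw [← hH, subgroupOf_fittingHallOf]
  have hUX := hc.2.1
  have hne : U.subgroupOf X ≠ ⊥ := fun e => hU1 (by
    rw [← Subgroup.map_subgroupOf_eq_of_le hUX, e, Subgroup.map_bot])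
  refine ⟨hs, hodd, ?_, ?_, U.subgroupOf X, hne, ?_, ⟨U₁.subgroupOf X, fun a ha => h1 ha, ?_, ?_, ?_⟩,
    ⟨U₀.subgroupOf X, fun a ha => h0 ha, ?_, ?_⟩⟩
  · rw [eH]
    exact fun e => hH1 (by rw [← Subgroup.map_subgroupOf_eq_of_le hc.1, e, Subgroup.map_bot])
  · rw [eH]
    intro e
    have h : U ≤ H := fun u hu => Subgroup.mem_subgroupOf.1 (e ▸ Subgroup.mem_top (⟨u, hUX hu⟩ : X))
    exact hU1 (le_bot_iff.1 ((le_inf h le_rfl).trans hc.2.2.1.le))
  · rw [eH]
    refine Subgroup.isComplement'_of_card_mul_and_disjoint ?_ ?_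
    · rw [Coprime.card_subgroupOf hc.1, Coprime.card_subgroupOf hUX, card_eq_of_isComplIn hc]
    · rw [disjoint_iff, Subgroup.subgroupOf, Subgroup.subgroupOf, ← Subgroup.comap_inf, hc.2.2.1,
        MonoidHom.comap_bot, Subgroup.ker_subtype]
  · intro a ha
    refine Subgroup.mem_normalizer_iff.2 fun b => ?_
    exact Subgroup.mem_normalizer_iff.1 (hn ha) (b : G)
  · exact PGroup.isMulCommutative_of_forall fun a ha b hb => Subtype.ext
      (PGroup.mul_comm_of_isMulCommutative hab ha hb)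
  · rintro x hx hx1 a ⟨ha, hax⟩
    rw [eH] at hx
    refine hfix x hx (fun e => hx1 (Subtype.ext e)) ⟨ha, Subgroup.mem_centralizer_singleton_iff.2 ?_⟩
    exact congrArg Subtype.val (Subgroup.mem_centralizer_singleton_iff.1 hax)
  · rw [Monoid.exponent_eq_of_mulEquiv (Subgroup.subgroupOfEquivOfLe (h0.trans hUX)),
      Monoid.exponent_eq_of_mulEquiv (Subgroup.subgroupOfEquivOfLe hUX), hexp]
  · intro a ha ha1 x hx hax
    rw [eH] at hx
    exact Subtype.ext (hfree a ha (fun e => ha1 (Subtype.ext e)) x hx (congrArg Subtype.val hax))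

theorem isNilpotent_of_isMulCommutative {U : Subgroup G} (h : IsMulCommutative U) : Group.IsNilpotent U := by
  haveI := h
  open scoped IsMulCommutative in exact CommGroup.isNilpotent

variable {M K U : Subgroup G} (hG : IsMinSimpleOddOrder G) (h13 : BG13 G) (hM : IsCoatom M)
  (hd : IsSigmaDecomposition M K U)
include hG h13 hM hd

theorem not_both_bot : ¬ (K = ⊥ ∧ U = ⊥) := by
  rintro ⟨rfl, rfl⟩
  refine (commutator_lt_of_coatom hG hM).not_ge fun m hm => sigmaCore_le_commutator hG hM ?_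
  obtain ⟨u, hu, b, hb, rfl⟩ := hd.compl.2.2.2 m hm
  rw [Subgroup.mem_bot] at hu
  rw [bot_sup_eq] at hb
  rwa [hu, one_mul]

theorem fittingHall_eq_of_ne (hU1 : U ≠ ⊥) : fittingHallOf M = sigmaCore M := by
  by_contra hne
  exact hU1 (fittingHall_ne_sigmaCore hG (bg15Input_of_bg13 hG h13) hM hd hne).1

theorem nilpotent_of_eq (hF : fittingHallOf M = sigmaCore M) : Group.IsNilpotent (sigmaCore M) := by
  rw [← hF]
  haveI := isNilpotent_fittingOf M
  exact Group.nilpotent_of_mulEquiv (Subgroup.subgroupOfEquivOfLe (fittingHallOf_le_fittingOf M))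

/-- S1360, from `BG13 G`. -/
theorem exists_free : ∃ U₀ : Subgroup G, U₀ ≤ U ∧ Monoid.exponent U₀ = Monoid.exponent U ∧
    ∀ u ∈ U₀, u ∈ sigmaHat M → u = 1 := by
  refine TheoremB.exists_free_same_exponent hG hM hd (fun hK => ?_) (fun hK => ?_)
  · have hE := TheoremB.complIn_of_bot hd hK
    have h := fun e he he1 hπ => TheoremB.fpf_of_tau13 hG hM hd (e := e) he he1 hπ
    by_cases hna : ∃ p ∈ tau2 M, ∀ S : Sylow p G, ¬ IsMulCommutative (S : Subgroup G)
    · obtain ⟨p, hp, hS⟩ := hna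
      haveI := Fact.mk hp.1
      exact (frobenius_criterion_nonabelian hG hM hE h hp hS).2
    · push Not at hna
      exact (frobenius_criterion_abelian hG hM hE h hna).2
  · exact ⟨U, DecompP.isMulCommutative_right hG h13 hM hd hK, Decomp.isPiHallOf_right hG hM hd⟩

theorem free_apply {U₀ : Subgroup G} (h0 : U₀ ≤ U) (hfree : ∀ u ∈ U₀, u ∈ sigmaHat M → u = 1) :
    ∀ u ∈ U₀, u ≠ 1 → ∀ x ∈ sigmaCore M, u * x = x * u → x = 1 := fun u hu hu1 x hx hux => by
  by_contra hx1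
  exact hu1 (hfree u hu ⟨Decomp.le_right hd (h0 hu), x, hx, hx1, hux⟩)

theorem typeI'_of (hK : K = ⊥) (hU1 : U ≠ ⊥) : IsOfTypeI' M := by
  have hI := bg15Input_of_bg13 hG h13
  have hF := fittingHall_eq_of_ne hG h13 hM hd hU1
  have hn := nilpotent_of_eq hG h13 hM hd hF
  refine ⟨?_, ?_⟩
  · obtain ⟨U₀, h0, hexp, hfree⟩ := exists_free hG h13 hM hd
    have hc : IsComplIn (sigmaCore M) U M := by
      obtain ⟨h1, h2, h3, hmul⟩ := TheoremB.complIn_of_bot hd hK
      refine ⟨h2, h1, by rw [inf_comm]; exact h3, fun m hm => ?_⟩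
      obtain ⟨u, hu, s, hs, rfl⟩ := hmul m hm
      exact ⟨u * s * u⁻¹, (Subgroup.mem_normalizer_iff.1 (le_normalizer_sigmaCore M (h1 hu)) s).1 hs, u, hu,
        by group⟩
    set U₁ := Subgroup.closure ((U : Set G) ∩ sigmaHat M) with hU₁
    have hU₁U : U₁ ≤ U := (Subgroup.closure_le _).2 fun x hx => hx.1
    refine typeF_of_compl (U₁ := U₁) (isSolvable_of_coatom hG hM) (odd_subgroup hG.1 M) hF
      (sigmaCore_ne_bot hG hM) hU1 hc hU₁U ?_ (isMulCommutative_fixed hG hI hM hd) ?_ h0 hexp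
      (free_apply hG h13 hM hd h0 hfree)
    · intro u hu
      refine Coprime.mem_normalizer_of_conj_smul_eq (Subgroup.eq_of_le_of_card_ge ?_
        (le_of_eq (Coprime.card_conj_smul _ _).symm))
      show U₁.map (MulAut.conj u).toMonoidHom ≤ U₁
      rw [hU₁, MonoidHom.map_closure, Subgroup.closure_le]
      rintro _ ⟨x, hx, rfl⟩
      exact Subgroup.subset_closure ⟨U.mul_mem (U.mul_mem hu hx.1) (U.inv_mem hu),
        conj_mem_sigmaHat hx.2 (Decomp.le_right hd hu)⟩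
    · rintro x hx hx1 a ⟨ha, hax⟩
      exact Subgroup.subset_closure ⟨ha, Decomp.le_right hd ha, x, hx, hx1,
        Subgroup.mem_centralizer_singleton_iff.1 hax⟩
  · by_cases hti : IsTISubset (fittingHallOf M : Set G)
    · exact Or.inl hti
    simp only [IsTISubset, not_forall] at hti
    obtain ⟨g, hg, x, hx, hgx, hx1⟩ := hti
    have hgM : g ∉ M := fun h => hg (le_normalizer_fittingHallOf M h)
    have hne : fittingOf M ⊓ (fittingOf M).map (MulAut.conj g).toMonoidHom ≠ ⊥ := fun e => hx1 (by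
      have h1 : g * x * g⁻¹ ∈ fittingOf M ⊓ (fittingOf M).map (MulAut.conj g).toMonoidHom :=
        ⟨fittingHallOf_le_fittingOf M hgx, x, fittingHallOf_le_fittingOf M hx, rfl⟩
      rw [e, Subgroup.mem_bot, conj_eq_one_iff] at h1
      exact h1)
    obtain ⟨⟨hle, -⟩, -, hcase⟩ := nonTI_fitting_structure hG hI hM hd hgM hne
    rcases hcase with ⟨-, hab⟩ | ⟨p, hp, hcard, -, -, -, hY, hexp⟩ | ⟨_, -, -, -, -, -, -, -, hK1, -⟩
    · exact Or.inr (Or.inl hab)
    · exact Or.inr (Or.inr ⟨hexp, p, hp, hcard ▸ Subgroup.card_dvd_of_le hle, hY⟩)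
    · exact absurd hK hK1

theorem intersectionCases (hK1 : K ≠ ⊥) : IntersectionCases M K U := by
  intro g hg hX
  obtain ⟨h1, ⟨-, heq, hF⟩, h3⟩ := nonTI_fitting_structure hG (bg15Input_of_bg13 hG h13) hM hd hg hX
  obtain ⟨p, hp, hpd⟩ := Nat.exists_prime_and_dvd (n := Nat.card K) fun e => hK1 (Subgroup.card_eq_one.1 e)
  exact ⟨h1, ⟨heq ⟨p, hd.hall.2.1 p hp hpd⟩, hF⟩, h3⟩

theorem normalizerEscape (hK1 : K ≠ ⊥) (hU1 : U ≠ ⊥) : NormalizerEscape M K U :=
  fun Mstar hMs hKst hKH r => fun [Fact r.Prime] hr R H hH hNR =>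
    (sylow_normalizer_facts hG h13 hM hd hK1 hU1 hMs hKst hKH hr R hH hNR).2.2.2.1

section typeP

variable (hK1 : K ≠ ⊥)
include hK1

theorem isComplIn_commutator : IsComplIn ⁅M, M⁆ K M := by
  rw [DecompP.commutator_eq hG h13 hM hd hK1]
  exact DecompP.isComplIn_left hG h13 hM hd hK1

theorem card_quotient : (fittingHallOf M = ⁅M, M⁆) → (fittingHallOf M).relIndex M = Nat.card K := by
  intro e
  refine Nat.eq_of_mul_eq_mul_left (Nat.card_pos (α := fittingHallOf M)) ?_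
  conv_rhs => rw [e, card_eq_of_isComplIn (isComplIn_commutator hG h13 hM hd hK1)]
  rw [Subgroup.relIndex, ← Coprime.card_subgroupOf (fittingHallOf_le M), Subgroup.card_mul_index]

theorem isTypePWith {V : Subgroup G} (hVn : Group.IsNilpotent V) (hKV : K ≤ normalizer (V : Set G))
    (hV : IsComplIn (fittingHallOf M) V ⁅M, M⁆) :
    IsTypePWith M K V (sigmaCore M ⊓ centralizer (K : Set G)) := by
  have hI := bg15Input_of_bg13 hG h13
  set D := sigmaCore M ⊓ centralizer (K : Set G) with hDdef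
  obtain ⟨-, hD1, hDle, hnc⟩ := TheoremC.kstar_facts hG h13 hM hd hK1
  obtain ⟨hder2, hFeq, hFle⟩ := second_derived_le_fitting hG hI hM
  obtain ⟨p, hp, hpd⟩ := Nat.exists_prime_and_dvd (n := Nat.card K) fun e => hK1 (Subgroup.card_eq_one.1 e)
  have hc := isComplIn_commutator hG h13 hM hd hK1
  have hdis : K ⊓ D = ⊥ := le_bot_iff.1 ((inf_le_inf_left K inf_le_left).trans (Decomp.inf_sigmaCore hd).le)
  refine
    { W₁_ne := hK1
      W₁_cyclic := hd.cyclic
      W₁_hall := Nat.coprime_of_dvd fun q hq h1 h2 => hd.hall.2.2 q hq (hd.hall.2.1 q hq h1) h2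
      W₁_compl := hc
      U_nilpotent := hVn
      U_normal := hKV
      U_compl := hV
      H_not_cyclic := hnc
      derived_two_le := by rw [sup_comm, ← hFeq]; exact hder2
      fitting_eq := by rw [sup_comm, ← hFeq]
      fitting_le := hFle ⟨p, hd.hall.2.1 p hp hpd⟩
      W₂_le := le_inf hDle (DecompP.kstar_le_derived_two hG h13 hM hd hK1)
      W₂_centralizer := fun x hx hx1 => ?_
      selfNormalizing := ⟨hK1, hD1, hdis, fun a ha b hb => Subgroup.mem_centralizer_iff.1 hb.2 a ha,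
        TheoremC.cyclic_z hG h13 hM hd hK1, fun X hX hne => ?_⟩ }
  · have hk := (kappa_centralizer hG h13 hM hd.hall).2 hK1 x hx hx1
    have hDd : D ≤ ⁅M, M⁆ := (DecompP.kstar_le_derived_two hG h13 hM hd hK1).trans
      (Subgroup.commutator_mono M.commutator_le_self M.commutator_le_self)
    refine le_antisymm (fun y hy => ?_) (le_inf hDd ?_)
    · have hy' : y ∈ K ⊔ D := hk ▸ ⟨M.commutator_le_self hy.1, hy.2⟩
      obtain ⟨k, hk', e, he, rfl⟩ := (Coprime.mem_sup_iff_of_le_normalizer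
        ((Subgroup.le_centralizer_iff.1 (inf_le_right : D ≤ _)).trans (Subgroup.centralizer_le_normalizer _))).1 hy'
      have hk1 : k ∈ ⁅M, M⁆ ⊓ K := ⟨((⁅M, M⁆).mul_mem_cancel_right (hDd he)).1 hy.1, hk'⟩
      rw [hc.2.2.1, Subgroup.mem_bot] at hk1
      rwa [hk1, one_mul]
    · exact inf_le_right.trans (Subgroup.centralizer_le (Set.singleton_subset_iff.2 hx))
  · refine le_antisymm (fun g hg => ?_) (fun g hg => ?_)
    · obtain ⟨x, hx⟩ := hne
      exact TheoremC.zhat_of_conj hG h13 hM hd hK1 (hX hx) (hX ((hg x).1 hx)).1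
    · refine mem_normalizer_set (M := K ⊔ D) (fun m hm x hx => ?_) hg
      have e : m * x * m⁻¹ = x := by
        rw [← Subgroup.mem_centralizer_iff.1
          (mem_centralizer_of_isCyclic (TheoremC.cyclic_z hG h13 hM hd hK1) hm) x (hX hx).1]
        group
      rwa [e]

/-- The data when `U = 1` and `M_F ≠ M_σ`: a `K`-invariant complement of `M_F` in `M' = M_σ`. -/
theorem exists_compl_fittingHall (hne : fittingHallOf M ≠ sigmaCore M) :
    ∃ V : Subgroup G, Group.IsNilpotent V ∧ K ≤ normalizer (V : Set G) ∧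
      IsComplIn (fittingHallOf M) V ⁅M, M⁆ ∧ V ≠ ⊥ ∧ normalizer (V : Set G) ≤ M := by
  have hI := bg15Input_of_bg13 hG h13
  haveI := isSolvable_of_coatom hG hM
  obtain ⟨hU, -, -⟩ := fittingHall_ne_sigmaCore hG hI hM hd hne
  obtain ⟨-, hFσ, -, -, hnil⟩ := fittingHall_chain hG hI hM
  have hder : ⁅M, M⁆ = sigmaCore M := by
    rw [DecompP.commutator_eq hG h13 hM hd hK1, hU, bot_sup_eq]
  set F := fittingHallOf M with hFdef
  have hFM : F ≤ M := fittingHallOf_le M
  have hnF : M ≤ normalizer (F : Set G) := le_normalizer_fittingHallOf M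
  obtain ⟨E', hE'⟩ := Subgroup.exists_right_complement'_of_coprime (N := fittingHall M)
    (fittingHall_coprime_index M)
  have hEc : Nat.card (E'.map M.subtype) = (fittingHall M).index := by
    rw [Subgroup.card_map_of_injective M.subtype_injective, ← hE'.symm.index_eq_card]
  have hEM : E'.map M.subtype ≤ M := Subgroup.map_subtype_le _
  have hKE : K ≤ E'.map M.subtype ⊔ F := fun k hk => by
    obtain ⟨⟨a, b⟩, hab⟩ := (hE'.existsUnique (⟨k, hd.hall.1 hk⟩ : M)).exists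
    rw [← show ((a : M) : G) * ((b : M) : G) = k from congrArg Subtype.val hab]
    exact Subgroup.mul_mem _ (Subgroup.mem_sup_right ⟨a, a.2, rfl⟩) (Subgroup.mem_sup_left ⟨b, b.2, rfl⟩)
  have hcopK : (Nat.card K).Coprime (Nat.card F) := Nat.coprime_of_dvd fun l hl h1 h2 =>
    (hd.hall.2.1 l hl h1).2.2.1 (isPiGrp_piCoreOf (sigma M) M l hl (h2.trans (Subgroup.card_dvd_of_le hFσ)))
  have hcopE : (Nat.card (E'.map M.subtype)).Coprime (Nat.card F) := by
    rw [hEc, hFdef, card_fittingHallOf]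
    exact (fittingHall_coprime_index M).symm
  obtain ⟨n, hn, hKn⟩ := Coprime.exists_le_conj_of_le_sup (hEM.trans hnF) hKE hcopE hcopK
    (Or.inl (Coprime.isSolvable_of_le hEM inferInstance))
  set E := MulAut.conj n • E'.map M.subtype with hEdef
  have hEM' : E ≤ M := by
    rw [← Coprime.conj_smul_eq_self_of_mem (Subgroup.le_normalizer (hFM hn))]
    exact Subgroup.pointwise_smul_le_pointwise_smul_iff.2 hEM
  have hEF : E ⊓ F = ⊥ := Coprime.disjoint_of_coprime_card (by rw [hEdef, Coprime.card_conj_smul]; exact hcopE)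
  have hmul : ∀ m ∈ M, ∃ f ∈ F, ∃ e ∈ E, m = f * e := by
    intro m hm
    obtain ⟨⟨a, b⟩, hab⟩ := (hE'.existsUnique (⟨n⁻¹ * m * n,
      M.mul_mem (M.mul_mem (M.inv_mem (hFM hn)) hm) (hFM hn)⟩ : M)).exists
    have e1 : ((a : M) : G) * ((b : M) : G) = n⁻¹ * m * n := congrArg Subtype.val hab
    refine ⟨n * ((a : M) : G) * n⁻¹, F.mul_mem (F.mul_mem hn ⟨a, a.2, rfl⟩) (F.inv_mem hn),
      n * ((b : M) : G) * n⁻¹, Subgroup.smul_mem_pointwise_smul _ _ _ ⟨b, b.2, rfl⟩, ?_⟩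
    calc m = n * (n⁻¹ * m * n) * n⁻¹ := by group
      _ = n * (((a : M) : G) * ((b : M) : G)) * n⁻¹ := by rw [e1]
      _ = _ := by group
  set V := E ⊓ sigmaCore M with hVdef
  have hVc : IsComplIn F V ⁅M, M⁆ := by
    rw [hder]
    refine ⟨hFσ, inf_le_right, le_bot_iff.1 ?_, fun s hs => ?_⟩
    · rw [← hEF, inf_comm F]
      exact inf_le_inf_right F inf_le_left
    · obtain ⟨f, hf, e, he, rfl⟩ := hmul s (sigmaCore_le M hs)
      exact ⟨f, hf, e, ⟨he, ((sigmaCore M).mul_mem_cancel_left (hFσ hf)).1 hs⟩, rfl⟩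
  have hVM : V ≤ M := inf_le_left.trans hEM'
  have hVn : Group.IsNilpotent V := by
    set f := (QuotientGroup.mk' (fittingHall M)).comp (Subgroup.inclusion hVM) with hf
    have hfi : Function.Injective f := by
      refine (injective_iff_map_eq_one f).2 fun v hv => ?_
      have h1 : (⟨v, hVM v.2⟩ : M) ∈ fittingHall M := (QuotientGroup.eq_one_iff _).1 hv
      have h2 : (v : G) ∈ F ⊓ V := ⟨⟨_, h1, rfl⟩, v.2⟩
      rw [hVc.2.2.1, Subgroup.mem_bot] at h2
      exact Subtype.ext h2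
    have hfr : ∀ v : V, f v ∈ (_root_.commutator M).map (QuotientGroup.mk' (fittingHall M)) := fun v => by
      have h1 : (v : G) ∈ ⁅M, M⁆ := hVc.2.1 v.2
      rw [← Subgroup.map_subtype_commutator] at h1
      obtain ⟨c, hc, e⟩ := h1
      exact ⟨c, hc, congrArg (QuotientGroup.mk' (fittingHall M)) (Subtype.ext e : c = ⟨v, hVM v.2⟩)⟩
    haveI := hnil
    have hinj : Function.Injective (f.codRestrict _ hfr) := fun a b h => hfi (congrArg Subtype.val h)
    exact Group.nilpotent_of_mulEquiv (MonoidHom.ofInjective hinj).symm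
  have hKV : K ≤ normalizer (V : Set G) := fun k hk => Coprime.mem_normalizer_of_conj_smul_eq (by
    rw [hVdef, Subgroup.smul_inf, Coprime.conj_smul_eq_self_of_mem (Subgroup.le_normalizer (hKn hk)),
      Coprime.conj_smul_eq_self_of_mem (Decomp.le_normalizer_left hd hk)])
  have hV1 : V ≠ ⊥ := fun e => hne (le_antisymm hFσ fun s hs => by
    obtain ⟨f, hf, v, hv, rfl⟩ := hVc.2.2.2 s (hder.ge hs)
    rw [e, Subgroup.mem_bot] at hv
    rwa [hv, mul_one])
  refine ⟨V, hVn, hKV, hVc, hV1, ?_⟩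
  obtain ⟨s, hs, hsd⟩ := Nat.exists_prime_and_dvd (n := Nat.card V) fun e => hV1 (Subgroup.card_eq_one.1 e)
  haveI := Fact.mk hs
  have hsσ : s ∈ sigma M :=
    isPiGrp_piCoreOf (sigma M) M s hs (hsd.trans (Subgroup.card_dvd_of_le inf_le_right))
  obtain ⟨S⟩ : Nonempty (Sylow s V) := inferInstance
  have hSV : (S : Subgroup V).map V.subtype = pOf s V := by
    have hFV : fittingOf V = V := le_antisymm (fittingOf_le V) (le_fittingOf le_rfl Subgroup.le_normalizer hVn)
    refine le_antisymm ?_ (Subgroup.map_mono (PCore.pCore_le_sylow S))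
    rintro _ ⟨a, ha, rfl⟩
    obtain ⟨j, hj⟩ := S.2 ⟨a, ha⟩
    exact mem_pOf (hFV.symm ▸ a.2) (congrArg (fun b => ((b.1 : V) : G)) hj)
  have hidx : ¬ s ∣ ((S : Subgroup V).map V.subtype).index := by
    rw [Subgroup.index_map_subtype]
    intro h
    rcases hs.dvd_mul.1 h with h | h
    · exact S.not_dvd_index h
    · refine (sigmaCore_isPiHall hG hM).2 s hs hsσ ?_
      have h1 := Subgroup.relIndex_mul_index (inf_le_right : V ≤ sigmaCore M)
      rw [← h1] at h
      refine (hs.dvd_mul.1 h).resolve_left fun h2 => ?_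
      have h3 : V.relIndex (sigmaCore M) = Nat.card F := by
        refine Nat.eq_of_mul_eq_mul_left (Nat.card_pos (α := V)) ?_
        conv_rhs => rw [mul_comm, card_eq_of_isComplIn hVc, hder]
        rw [Subgroup.relIndex, ← Coprime.card_subgroupOf (inf_le_right : V ≤ sigmaCore M), Subgroup.card_mul_index]
      rw [h3] at h2
      exact hs.ne_one (Nat.eq_one_of_dvd_coprimes
        (coprime_fittingHallOf_of_inf_eq_bot hVM hVc.2.2.1) h2 hsd)
  have h := normalizer_sylow_le hsσ ((S.2.map V.subtype).toSylow hidx)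
    (by rw [IsPGroup.toSylow_coe]; exact (Subgroup.map_subtype_le _).trans hVM)
  rw [IsPGroup.toSylow_coe, hSV] at h
  exact (normalizer_le_normalizer_pOf V).trans h

theorem typeII_of (hU1 : U ≠ ⊥) : IsOfTypeII M := by
  have h35 := normalizerEscape hG h13 hM hd hK1 hU1
  have h40 := intersectionCases hG h13 hM hd hK1
  have hF := fittingHall_eq_of_ne hG h13 hM hd hU1
  have hn := nilpotent_of_eq hG h13 hM hd hF
  have hab := DecompP.isMulCommutative_right hG h13 hM hd hK1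
  have hder := DecompP.commutator_eq hG h13 hM hd hK1
  obtain ⟨hKp, hTI, -⟩ := TheoremC.prime_and_ti hG h13 hM hd hK1 hU1 h40
  have hVc : IsComplIn (fittingHallOf M) U ⁅M, M⁆ := by
    rw [hF, hder]
    refine ⟨le_sup_right, le_sup_left, by rw [inf_comm]; exact Decomp.right_inf_sigmaCore hd, fun m hm => ?_⟩
    obtain ⟨s, hs, u, hu, rfl⟩ :=
      (Coprime.mem_sup_iff_of_le_normalizer' (Decomp.le_normalizer_right hd)).1 hm
    exact ⟨s, hs, u, hu, rfl⟩
  refine ⟨K, U, _, isTypePWith hG h13 hM hd hK1 (isNilpotent_of_isMulCommutative hab) hd.normal hVc, hU1, hKp,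
    hTI, hab, (TheoremC.abelian_and_escape hG h13 hM hd hK1 h35).2, ?_⟩
  have hDM : ⁅M, M⁆ ≤ M := M.commutator_le_self
  obtain ⟨U₀, h0, hexp, hfree⟩ := exists_free hG h13 hM hd
  have hFD : fittingHallOf ⁅M, M⁆ = fittingHallOf M := by
    set D := ⁅M, M⁆ with hDdef
    set N := fittingHallOf D with hNdef
    have hND : N ≤ D := fittingHallOf_le D
    have hσD : sigmaCore M ≤ D := hder ▸ le_sup_right
    have hσN : sigmaCore M ≤ N := by
      have hnorm : ((sigmaCore M).subgroupOf D).Normal :=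
        Coprime.normal_subgroupOf_of_le_normalizer (hDM.trans (le_normalizer_sigmaCore M))
      have hcop : (Nat.card ((sigmaCore M).subgroupOf D)).Coprime ((sigmaCore M).subgroupOf D).index := by
        rw [Coprime.card_subgroupOf hσD]
        refine Nat.coprime_of_dvd fun l hl h1 h2 => (sigmaCore_hall hG hM).2.2 l hl
          (isPiGrp_piCoreOf (sigma M) M l hl h1) (h2.trans ?_)
        exact ⟨D.relIndex M, (Subgroup.relIndex_mul_relIndex _ D M hσD hDM).symm⟩
      haveI := hn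
      exact (Subgroup.map_subgroupOf_eq_of_le hσD).ge.trans (Subgroup.map_mono (le_sSup
        ⟨hnorm, Group.nilpotent_of_mulEquiv (Subgroup.subgroupOfEquivOfLe hσD).symm, hcop⟩))
    have hNn : Group.IsNilpotent N :=
      haveI := isNilpotent_fittingOf D
      Group.nilpotent_of_mulEquiv (Subgroup.subgroupOfEquivOfLe (fittingHallOf_le_fittingOf D))
    rw [hF]
    refine le_antisymm (fun x hx => mem_of_forall_primePart fun r hr hrd u hu ⟨k, hk⟩ => ?_) hσN
    haveI := Fact.mk hr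
    rcases eq_or_ne u 1 with rfl | hu1
    · exact one_mem _
    have huN : u ∈ N := Subgroup.zpowers_le.2 hx hu
    obtain ⟨i, -, hi⟩ := (Nat.dvd_prime_pow hr).1 (orderOf_dvd_of_pow_eq_one hk)
    have hrN : r ∣ Nat.card N := hrd.trans (Subgroup.orderOf_dvd_natCard N hx)
    by_cases hrσ : r ∈ sigma M
    · exact Subgroup.zpowers_le.1 (le_sigmaCore_of_isPiGrp hG hM (U := zpowers u)
        (Subgroup.zpowers_le.2 (hDM (hND huN))) (fun l hl hld => by
          rw [Nat.card_zpowers, hi] at hld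
          exact (Nat.prime_dvd_prime_iff_eq hl hr).1 (hl.dvd_of_dvd_pow hld) ▸ hrσ))
    exfalso
    have hrU : r ∣ Nat.card U := by
      have h1 : r ∣ Nat.card (fittingHallOf M) * Nat.card U := by
        rw [card_eq_of_isComplIn hVc]
        exact hrN.trans (Subgroup.card_dvd_of_le hND)
      exact (hr.dvd_mul.1 h1).resolve_left fun h => hrσ (isPiGrp_piCoreOf (sigma M) M r hr (by rwa [hF] at h))
    obtain ⟨v, hv⟩ := exists_prime_orderOf_dvd_card' (G := U) r hrU
    obtain ⟨w, hw⟩ := exists_prime_orderOf_dvd_card' (G := U₀) r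
      ((hv ▸ Monoid.order_dvd_exponent v).trans (hexp ▸ Group.exponent_dvd_nat_card))
    rw [← Subgroup.orderOf_coe] at hw
    have hwD : (w : G) ∈ D := hVc.2.1 (h0 w.2)
    have hwN : (w : G) ∈ N := le_fittingHallOf_of_dvd (M := D) hrN (Subgroup.zpowers_le.2 hwD)
      (IsPGroup.of_card (n := 1) (by rw [Nat.card_zpowers, hw, pow_one])) (Subgroup.mem_zpowers _)
    obtain ⟨y, hy, hy1⟩ := (Subgroup.bot_or_exists_ne_one _).resolve_left (sigmaCore_ne_bot hG hM)
    have hcy : (w : G) ∈ centralizer (sigmaCore M : Set G) := mem_of_commute hG hM hNn hσN hwN (by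
      rw [hw]; exact hr) (hw ▸ hrσ)
    exact hr.ne_one (by
      rw [← hw, hfree w w.2 ⟨hDM hwD, y, hy, hy1, (Subgroup.mem_centralizer_iff.1 hcy y hy).symm⟩, orderOf_one])
  refine ⟨typeF_of_compl (U₁ := U) (Coprime.isSolvable_of_le hDM (isSolvable_of_coatom hG hM))
    (odd_subgroup hG.1 _) (hFD.trans hF) (sigmaCore_ne_bot hG hM) hU1 (hF ▸ hVc) le_rfl Subgroup.le_normalizer
    hab (fun x _ _ => inf_le_left) h0 hexp (free_apply hG h13 hM hd h0 hfree), hFD⟩
where
  mem_of_commute {M N : Subgroup G} (hG : IsMinSimpleOddOrder G) (hM : IsCoatom M) (hNn : Group.IsNilpotent N)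
      (hσN : sigmaCore M ≤ N) {w : G} (hwN : w ∈ N) (hw : (orderOf w).Prime) (hws : orderOf w ∉ sigma M) :
      w ∈ centralizer (sigmaCore M : Set G) := by
    refine Subgroup.mem_centralizer_iff.2 fun y hy => ?_
    have h : y ∈ centralizer (zpowers w : Set G) := by
      haveI := Fact.mk hw
      refine Semiprime.mem_centralizer_of_nilpotent (q := orderOf w) hNn (Subgroup.zpowers_le.2 hwN)
        (IsPGroup.of_card (n := 1) (by rw [Nat.card_zpowers, pow_one])) (hσN hy) ?_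
      refine (hw.coprime_iff_not_dvd.2 fun hd => hws ?_).symm
      exact isPiGrp_piCoreOf (sigma M) M _ hw (hd.trans (Subgroup.orderOf_dvd_natCard _ hy))
    exact (Subgroup.mem_centralizer_iff.1 h w (Subgroup.mem_zpowers w)).symm

theorem typeIII_IV_of (hne : fittingHallOf M ≠ sigmaCore M) : IsOfTypeIII M ∨ IsOfTypeIV M := by
  obtain ⟨V, hVn, hKV, hVc, hV1, hN⟩ := exists_compl_fittingHall hG h13 hM hd hK1 hne
  obtain ⟨-, hTI, hKp⟩ := fittingHall_ne_sigmaCore hG (bg15Input_of_bg13 hG h13) hM hd hne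
  have hP := isTypePWith hG h13 hM hd hK1 hVn hKV hVc
  by_cases hab : IsMulCommutative V
  · exact Or.inl ⟨K, V, _, hP, hV1, hKp, hTI, hab, hN⟩
  · exact Or.inr ⟨K, V, _, hP, hV1, hKp, hTI, hab, hN⟩

theorem typeV_of (hU : U = ⊥) (hF : fittingHallOf M = sigmaCore M) : IsOfTypeV M := by
  have h40 := intersectionCases hG h13 hM hd hK1
  have hder : ⁅M, M⁆ = fittingHallOf M := by
    rw [DecompP.commutator_eq hG h13 hM hd hK1, hU, bot_sup_eq, hF]
  have hVc : IsComplIn (fittingHallOf M) ⊥ ⁅M, M⁆ :=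
    ⟨hder.ge, bot_le, inf_bot_eq _, fun m hm => ⟨m, hder.le hm, 1, one_mem _, (mul_one m).symm⟩⟩
  refine ⟨K, ⊥, _, isTypePWith hG h13 hM hd hK1 (isNilpotent_of_isMulCommutative inferInstance)
    (fun k _ => Subgroup.mem_normalizer_iff.2 fun h => by simp) hVc, rfl, ?_⟩
  by_cases hti : IsTISubset (fittingHallOf M : Set G)
  · exact Or.inl hti
  simp only [IsTISubset, not_forall] at hti
  obtain ⟨g, hg, x, hx, hgx, hx1⟩ := hti
  have hgM : g ∉ M := fun h => hg (le_normalizer_fittingHallOf M h)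
  have hne : fittingOf M ⊓ (fittingOf M).map (MulAut.conj g).toMonoidHom ≠ ⊥ := fun e => hx1 (by
    have h1 : g * x * g⁻¹ ∈ fittingOf M ⊓ (fittingOf M).map (MulAut.conj g).toMonoidHom :=
      ⟨fittingHallOf_le_fittingOf M hgx, x, fittingHallOf_le_fittingOf M hx, rfl⟩
    rw [e, Subgroup.mem_bot, conj_eq_one_iff] at h1
    exact h1)
  obtain ⟨⟨hle, -⟩, -, hcase⟩ := h40 g hgM hne
  have hidx := card_quotient hG h13 hM hd hK1 hder.symm
  rcases hcase with ⟨hK, -⟩ | ⟨p, hp, hcard, -, -, -, hY, hexp⟩ |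
    ⟨p, hp, hcard, -, -, hY, hp3, -, -, -, hdvd⟩
  · exact absurd hK hK1
  · have hpd : p ∣ Nat.card (fittingHallOf M) := hcard ▸ Subgroup.card_dvd_of_le hle
    refine Or.inr (Or.inl ⟨p, hp, hpd, ?_, hY⟩)
    have hsurj : Function.Surjective ((QuotientGroup.mk' (fittingHall M)).comp (Subgroup.inclusion hd.hall.1)) := by
      intro q
      obtain ⟨m, rfl⟩ := QuotientGroup.mk'_surjective _ q
      obtain ⟨a, ha, k, hk, hm⟩ := (isComplIn_commutator hG h13 hM hd hK1).2.2.2 (m : G) m.2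
      refine ⟨⟨k, hk⟩, ?_⟩
      obtain ⟨b, hb, hba⟩ := hder.le ha
      have e : m = b * ⟨k, hd.hall.1 hk⟩ := Subtype.ext (by
        rw [Subgroup.coe_mul]; exact hm.trans (by rw [← hba]; rfl))
      rw [e, map_mul, show QuotientGroup.mk' (fittingHall M) b = 1 from (QuotientGroup.eq_one_iff b).2 hb, one_mul]
      rfl
    haveI := hd.cyclic
    haveI := isCyclic_of_surjective _ hsurj
    have h := hexp p hp hpd
    rw [IsCyclic.exponent_eq_card] at h
    have e : Nat.card (↥M ⧸ fittingHall M) = Nat.card K := by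
      rw [← hidx, Subgroup.relIndex, subgroupOf_fittingHallOf]
      rfl
    rwa [e] at h
  · exact Or.inr (Or.inr ⟨p, hp, hcard ▸ Subgroup.card_dvd_of_le hle, hp3, hidx ▸ hdvd, hY⟩)

end typeP

theorem trichotomy :
    (K = ⊥ ∧ U ≠ ⊥ ∧ IsOfTypeI' M) ∨ (K ≠ ⊥ ∧ U ≠ ⊥ ∧ IsOfTypeII M) ∨
    (K ≠ ⊥ ∧ U = ⊥ ∧ fittingHallOf M ≠ sigmaCore M ∧ (IsOfTypeIII M ∨ IsOfTypeIV M)) ∨
    (K ≠ ⊥ ∧ U = ⊥ ∧ fittingHallOf M = sigmaCore M ∧ IsOfTypeV M) := by
  by_cases hK : K = ⊥
  · have hU : U ≠ ⊥ := fun h => not_both_bot hG h13 hM hd ⟨hK, h⟩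
    exact Or.inl ⟨hK, hU, typeI'_of hG h13 hM hd hK hU⟩
  by_cases hU : U = ⊥
  · by_cases hF : fittingHallOf M = sigmaCore M
    · exact Or.inr (Or.inr (Or.inr ⟨hK, hU, hF, typeV_of hG h13 hM hd hK hU hF⟩))
    · exact Or.inr (Or.inr (Or.inl ⟨hK, hU, hF, typeIII_IV_of hG h13 hM hd hK hF⟩))
  · exact Or.inr (Or.inl ⟨hK, hU, typeII_of hG h13 hM hd hK hU⟩)

theorem not_typeI'_of_P {P : Prop} (h : IsOfTypeI' M)
    (h' : IsOfTypeII M ∨ (IsOfTypeIII M ∨ IsOfTypeIV M) ∨ IsOfTypeV M) : P := by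
  rcases h' with ⟨_, _, _, hP, -⟩ | (⟨_, _, _, hP, -⟩ | ⟨_, _, _, hP, -⟩) | ⟨_, _, _, hP, -⟩ <;>
    exact (Types.not_typeF_of_typeP h.1 hP).elim

/-- S1380 in the book's form. -/
theorem typeI'_iff : IsOfTypeI' M ↔ (K = ⊥ ∧ U ≠ ⊥) := by
  rcases trichotomy hG h13 hM hd with ⟨hK, hU, h⟩ | ⟨hK, -, h⟩ | ⟨hK, -, -, h⟩ | ⟨hK, -, -, h⟩
  · exact ⟨fun _ => ⟨hK, hU⟩, fun _ => h⟩
  all_goals refine ⟨fun h' => not_typeI'_of_P hG h13 hM hd h' ?_, fun h' => absurd h'.1 hK⟩
  · exact Or.inl h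
  · exact Or.inr (Or.inl h)
  · exact Or.inr (Or.inr h)

/-- S1381. -/
theorem typeII_iff : IsOfTypeII M ↔ (K ≠ ⊥ ∧ U ≠ ⊥) := by
  have hs := isSolvable_of_coatom hG hM
  rcases trichotomy hG h13 hM hd with ⟨hK, -, h⟩ | ⟨hK, hU, h⟩ | ⟨-, hU, -, h⟩ | ⟨-, hU, -, h⟩
  · exact ⟨fun h' => not_typeI'_of_P hG h13 hM hd h (Or.inl h'), fun h' => absurd hK h'.1⟩
  · exact ⟨fun _ => ⟨hK, hU⟩, fun _ => h⟩
  · exact ⟨fun h' => (Types.not_II_III_IV hs h' h).elim, fun h' => absurd hU h'.2⟩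
  · exact ⟨fun h' => (Types.not_II_V h' h).elim, fun h' => absurd hU h'.2⟩

/-- S1382. -/
theorem typeIII_IV_iff :
    (IsOfTypeIII M ∨ IsOfTypeIV M) ↔ (K ≠ ⊥ ∧ U = ⊥ ∧ fittingHallOf M ≠ sigmaCore M) := by
  have hs := isSolvable_of_coatom hG hM
  rcases trichotomy hG h13 hM hd with ⟨hK, -, h⟩ | ⟨-, hU, h⟩ | ⟨hK, hU, hF, h⟩ | ⟨-, -, hF, h⟩
  · exact ⟨fun h' => not_typeI'_of_P hG h13 hM hd h (Or.inr (Or.inl h')), fun h' => absurd hK h'.1⟩
  · exact ⟨fun h' => (Types.not_II_III_IV hs h h').elim, fun h' => absurd h'.2.1 hU⟩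
  · exact ⟨fun _ => ⟨hK, hU, hF⟩, fun _ => h⟩
  · exact ⟨fun h' => (Types.not_III_IV_V h' h).elim, fun h' => absurd hF h'.2.2⟩

/-- S1383. -/
theorem typeV_iff : IsOfTypeV M ↔ (K ≠ ⊥ ∧ U = ⊥ ∧ fittingHallOf M = sigmaCore M) := by
  rcases trichotomy hG h13 hM hd with ⟨hK, -, h⟩ | ⟨-, hU, h⟩ | ⟨-, -, hF, h⟩ | ⟨hK, hU, hF, h⟩
  · exact ⟨fun h' => not_typeI'_of_P hG h13 hM hd h (Or.inr (Or.inr h')), fun h' => absurd hK h'.1⟩
  · exact ⟨fun h' => (Types.not_II_V h h').elim, fun h' => absurd h'.2.1 hU⟩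
  · exact ⟨fun h' => (Types.not_III_IV_V h h').elim, fun h' => absurd h'.2.2 hF⟩
  · exact ⟨fun _ => ⟨hK, hU, hF⟩, fun _ => h⟩

end Cfsg.Agent.OddOrder.TypesIff
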