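import Cfsg.Agent.Lib.Solvable.Hall
import Cfsg.Prelude.Def_OddOrderLocal

/-!
# Hall `π`-subgroups of solvable groups, in the vocabulary `IsPiHallOf`
-/

set_option autoImplicit false

namespace Cfsg.Agent.OddOrder

open Cfsg

universe u

theorem exists_piHall_ge {H : Type u} [Group H] [Finite H] [Group.IsSolvable H] (π : Set ℕ) {K : Subgroup H}
    (hK : ∀ p : ℕ, p.Prime → p ∣ Nat.card K → p ∈ π) :
    ∃ U : Subgroup H, K ≤ U ∧ IsPiHall π U := by
  classical
  set f := (Nat.card H).factorization with hf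
  set s := (Nat.card H).primeFactors with hs
  set m := ∏ p ∈ s.filter (· ∈ π), p ^ f p with hm
  set n := ∏ p ∈ s.filter (fun p => ¬ p ∈ π), p ^ f p with hn
  have hmn : Nat.card H = m * n := by
    rw [hm, hn, Finset.prod_filter_mul_prod_filter_not]
    exact (Nat.factorization_prod_pow_eq_self Nat.card_pos.ne').symm.trans
      (by rw [Finsupp.prod, Nat.support_factorization])
  have hmem : ∀ (t : Finset ℕ), t ⊆ s → ∀ l : ℕ, l.Prime → l ∣ ∏ p ∈ t, p ^ f p → l ∈ t := by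
    intro t ht l hl hd
    obtain ⟨p, hp, hpd⟩ := (Prime.dvd_finset_prod_iff hl.prime _).1 hd
    exact (Nat.prime_dvd_prime_iff_eq hl (Nat.prime_of_mem_primeFactors (ht hp))).1 (hl.dvd_of_dvd_pow hpd) ▸ hp
  have hm' : ∀ l : ℕ, l.Prime → l ∣ m → l ∈ π := fun l hl hd =>
    (Finset.mem_filter.1 (hmem _ (Finset.filter_subset _ _) l hl hd)).2
  have hn' : ∀ l : ℕ, l.Prime → l ∣ n → l ∉ π := fun l hl hd =>
    (Finset.mem_filter.1 (hmem _ (Finset.filter_subset _ _) l hl hd)).2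
  obtain ⟨U, hU, hKU⟩ := Solvable.exists_hall_ge hmn
    (Nat.coprime_of_dvd fun l hl h1 h2 => hn' l hl h2 (hm' l hl h1)) (K := K)
    (Nat.coprime_of_dvd fun l hl h1 h2 => hn' l hl h2 (hK l hl h1))
  refine ⟨U, hKU, fun p hp hd => hm' p hp (hU ▸ hd), fun p hp hπ hd => hn' p hp ?_ hπ⟩
  have h := U.card_mul_index
  rw [hU, hmn] at h
  exact hd.trans (dvd_of_eq (Nat.eq_of_mul_eq_mul_left (Nat.pos_of_ne_zero fun e => by
    rw [e, zero_mul] at hmn; exact Nat.card_pos.ne' hmn) h))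

theorem exists_piHallOf_ge {G : Type u} [Group G] [Finite G] (π : Set ℕ) {E X : Subgroup G}
    (hs : Group.IsSolvable E) (hXE : X ≤ E) (hX : ∀ p : ℕ, p.Prime → p ∣ Nat.card X → p ∈ π) :
    ∃ U : Subgroup G, X ≤ U ∧ IsPiHallOf π U E := by
  obtain ⟨U, hXU, hU1, hU2⟩ := exists_piHall_ge π (K := X.subgroupOf E) fun p hp hd =>
    hX p hp (by rwa [Coprime.card_subgroupOf hXE] at hd)
  refine ⟨U.map E.subtype, (Subgroup.map_subgroupOf_eq_of_le hXE).ge.trans (Subgroup.map_mono hXU),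
    Subgroup.map_subtype_le _, fun p hp hd => hU1 p hp (by rwa [Subgroup.card_map_of_injective E.subtype_injective] at hd),
    fun p hp hπ hd => hU2 p hp hπ ?_⟩
  rwa [Subgroup.relIndex, Subgroup.subgroupOf, Subgroup.comap_map_eq_self_of_injective E.subtype_injective] at hd

end Cfsg.Agent.OddOrder
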