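import Cfsg.Agent.Lib.OddOrder.TauTwo

/-!
# The standard factorisation `M = K U M_σ` of a maximal subgroup: elementary facts

* `conj_mem_sigmaHat`, `pow_mem_sigmaHat`: closure properties of `M̂_σ`;
* `mem_kappa_or_tau2`: the prime order elements of `M̂_σ` outside `σ(M)`;
* `Decomp.*`: for `IsSigmaDecomposition M K U`: orders, `E = U K` is a complement to `M_σ`, `U` is a Hall
  subgroup for the primes outside `σ(M) ∪ κ(M)`, `U M_σ ◁ M`, and the prime order parts of the
  elements of `A(M)` outside `σ(M)` are `τ₂`-elements.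
-/

set_option autoImplicit false
set_option linter.style.haveILetI false
set_option linter.unusedSectionVars false

namespace Cfsg.Agent.OddOrder

open Cfsg
open Subgroup (centralizer normalizer zpowers)
open scoped Pointwise

universe u
variable {G : Type u} [Group G] [Finite G]

theorem pow_mem_sigmaHat {M : Subgroup G} {a : G} (ha : a ∈ sigmaHat M) (n : ℕ) : a ^ n ∈ sigmaHat M := by
  obtain ⟨haM, y, hy, hy1, hay⟩ := ha
  exact ⟨M.pow_mem haM n, y, hy, hy1, (Commute.pow_left hay n).eq⟩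

theorem conj_mem_sigmaHat {M : Subgroup G} {a m : G} (ha : a ∈ sigmaHat M) (hm : m ∈ M) :
    m * a * m⁻¹ ∈ sigmaHat M := by
  obtain ⟨haM, y, hy, hy1, hay⟩ := ha
  refine ⟨M.mul_mem (M.mul_mem hm haM) (M.inv_mem hm), m * y * m⁻¹,
    (Subgroup.mem_normalizer_iff.1 (le_normalizer_sigmaCore M hm) y).1 hy,
    fun e => hy1 ?_, ?_⟩
  · rwa [conj_eq_one_iff] at e
  · calc m * a * m⁻¹ * (m * y * m⁻¹) = m * (a * y) * m⁻¹ := by group
      _ = m * (y * a) * m⁻¹ := by rw [hay]
      _ = m * y * m⁻¹ * (m * a * m⁻¹) := by group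

/-- An element outside `M_σ` has a power of prime order `r ∉ σ(M)`. -/
theorem exists_prime_not_sigma (hG : IsMinSimpleOddOrder G) {M : Subgroup G} (hM : IsCoatom M) {a : G}
    (ha : a ∈ M) (ha' : a ∉ sigmaCore M) :
    ∃ r : ℕ, r.Prime ∧ r ∉ sigma M ∧ r ∣ orderOf a ∧ orderOf (a ^ (orderOf a / r)) = r := by
  by_contra h
  refine ha' (le_sigmaCore_of_isPiGrp hG hM (Subgroup.zpowers_le.2 ha) (fun r hr hd => ?_)
    (Subgroup.mem_zpowers a))
  by_contra hrs
  rw [Nat.card_zpowers] at hd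
  exact h ⟨r, hr, hrs, hd, orderOf_pow_orderOf_div (orderOf_pos a).ne' hd⟩

/-- An element of prime order `p ∉ σ(M)` centralizing a non-identity element of `M_σ` has
`p ∈ κ(M) ∪ τ₂(M)`. -/
theorem mem_kappa_or_tau2 (hG : IsMinSimpleOddOrder G) {M : Subgroup G} (hM : IsCoatom M) {p : ℕ}
    [Fact p.Prime] (hp : p ∉ sigma M) {x : G} (hx : x ∈ sigmaHat M) (ho : orderOf x = p) :
    p ∈ kappa M ∨ p ∈ tau2 M := by
  have hpd : p ∣ Nat.card M := ho ▸ Subgroup.orderOf_dvd_natCard M hx.1
  have hr2 : PRankLE p 2 M := by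
    by_contra h
    exact hp (alpha_subset_sigma hG hM ⟨Fact.out, h⟩)
  by_cases hr1 : PRankLE p 1 M
  · refine Or.inl ⟨Fact.out, hpd, hp, fun P => ?_⟩
    have h2 : p ≠ 2 := ne_two_of_odd_of_dvd hG.1 (hpd.trans M.card_subgroup_dvd_card)
    refine ⟨IsolatedP.isCyclic_of_pRankLE_one h2 P.2
      (pRankLE_of_injective (f := (P : Subgroup M).subtype) (P : Subgroup M).subtype_injective hr1), ?_⟩
    have hxp : IsPGroup p (zpowers (⟨x, hx.1⟩ : M)) :=
      IsPGroup.of_card (n := 1) (by rw [Nat.card_zpowers, Subgroup.orderOf_mk, ho, pow_one])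
    obtain ⟨S, hS⟩ := hxp.exists_le_sylow
    obtain ⟨m, hm⟩ := MulAction.exists_smul_eq M S P
    have hmem : m * ⟨x, hx.1⟩ * m⁻¹ ∈ (P : Subgroup M) := by
      rw [← hm, Sylow.coe_subgroup_smul]
      exact Subgroup.smul_mem_pointwise_smul (⟨x, hx.1⟩ : M) (MulAut.conj m) _
        (hS (Subgroup.mem_zpowers _))
    refine ⟨m * ⟨x, hx.1⟩ * m⁻¹, hmem, fun e => ?_, ?_⟩
    · rw [conj_eq_one_iff] at e
      rw [show x = 1 from congrArg Subtype.val e, orderOf_one] at ho
      exact (Fact.out : p.Prime).ne_one ho.symm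
    · obtain ⟨-, y, hy, hy1, hxy⟩ := conj_mem_sigmaHat hx m.2
      exact ⟨y, hy, hy1, hxy⟩
  · exact Or.inr ⟨Fact.out, hp, hr2, hr1⟩

namespace Decomp

variable {M K U : Subgroup G}

theorem inf_sigmaCore (h : IsSigmaDecomposition M K U) : K ⊓ sigmaCore M = ⊥ := by
  refine Coprime.disjoint_of_coprime_card (Nat.coprime_of_dvd fun p hp h1 h2 => ?_)
  exact (h.hall.2.1 p hp h1).2.2.1 (isPiGrp_piCoreOf (sigma M) M p hp h2)

theorem le_left (h : IsSigmaDecomposition M K U) : K ≤ M := h.hall.1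

theorem le_right (h : IsSigmaDecomposition M K U) : U ≤ M := h.compl.1

theorem le_normalizer_left (h : IsSigmaDecomposition M K U) :
    K ≤ normalizer (sigmaCore M : Set G) := (le_left h).trans (le_normalizer_sigmaCore M)

theorem le_normalizer_right (h : IsSigmaDecomposition M K U) :
    U ≤ normalizer (sigmaCore M : Set G) := (le_right h).trans (le_normalizer_sigmaCore M)

theorem card_mul (h : IsSigmaDecomposition M K U) :
    Nat.card U * (Nat.card K * Nat.card (sigmaCore M)) = Nat.card M := by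
  rw [← Coprime.card_sup_of_le_normalizer (le_normalizer_left h) (inf_sigmaCore h)]
  exact card_eq_of_isComplIn h.compl

theorem not_mem_kappa (h : IsSigmaDecomposition M K U) {p : ℕ} (hp : p.Prime) (hd : p ∣ Nat.card U) :
    p ∉ kappa M := fun hk => by
  refine h.hall.2.2 p hp hk ?_
  have e : Nat.card K * K.relIndex M = Nat.card M := by
    rw [Subgroup.relIndex, ← Coprime.card_subgroupOf (le_left h), Subgroup.card_mul_index]
  have e' : K.relIndex M = Nat.card U * Nat.card (sigmaCore M) := by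
    refine Nat.eq_of_mul_eq_mul_left (Nat.card_pos (α := K)) ?_
    rw [e, ← card_mul h]
    ring
  exact e' ▸ hd.mul_right _

theorem not_mem_sigma (hG : IsMinSimpleOddOrder G) (hM : IsCoatom M) (h : IsSigmaDecomposition M K U)
    {p : ℕ} (hp : p.Prime) (hd : p ∣ Nat.card U) : p ∉ sigma M := fun hs => by
  refine (sigmaCore_hall hG hM).2.2 p hp hs ?_
  have e : Nat.card (sigmaCore M) * (sigmaCore M).relIndex M = Nat.card M := by
    rw [Subgroup.relIndex, ← Coprime.card_subgroupOf (sigmaCore_le M), Subgroup.card_mul_index]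
  have e' : (sigmaCore M).relIndex M = Nat.card U * Nat.card K := by
    refine Nat.eq_of_mul_eq_mul_left (Nat.card_pos (α := sigmaCore M)) ?_
    rw [e, ← card_mul h]
    ring
  exact e' ▸ hd.mul_right _

theorem right_inf_left (h : IsSigmaDecomposition M K U) : U ⊓ K = ⊥ :=
  le_bot_iff.1 ((inf_le_inf_left U le_sup_left).trans h.compl.2.2.1.le)

theorem right_inf_sigmaCore (h : IsSigmaDecomposition M K U) : U ⊓ sigmaCore M = ⊥ :=
  le_bot_iff.1 ((inf_le_inf_left U le_sup_right).trans h.compl.2.2.1.le)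

theorem card_sup (h : IsSigmaDecomposition M K U) :
    Nat.card ↥(U ⊔ K) = Nat.card U * Nat.card K := by
  rw [sup_comm, Coprime.card_sup_of_le_normalizer h.normal (by rw [inf_comm]; exact right_inf_left h),
    mul_comm]

/-- `E = U K` is a complement to `M_σ` in `M`. -/
theorem isComplIn_sup (hG : IsMinSimpleOddOrder G) (hM : IsCoatom M) (h : IsSigmaDecomposition M K U) :
    IsComplIn (U ⊔ K) (sigmaCore M) M := by
  refine ⟨sup_le (le_right h) (le_left h), sigmaCore_le M, ?_, fun m hm => ?_⟩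
  · refine Coprime.disjoint_of_coprime_card ?_
    rw [card_sup h]
    refine Nat.coprime_of_dvd fun p hp h1 h2 => ?_
    rcases hp.dvd_mul.1 h1 with h3 | h3
    · exact not_mem_sigma hG hM h hp h3 (isPiGrp_piCoreOf (sigma M) M p hp h2)
    · exact (h.hall.2.1 p hp h3).2.2.1 (isPiGrp_piCoreOf (sigma M) M p hp h2)
  · obtain ⟨u, hu, b, hb, rfl⟩ := h.compl.2.2.2 m hm
    obtain ⟨k, hk, s, hs, rfl⟩ := (Coprime.mem_sup_iff_of_le_normalizer (le_normalizer_left h)).1 hb
    exact ⟨u * k, Subgroup.mul_mem _ (Subgroup.mem_sup_left hu) (Subgroup.mem_sup_right hk), s, hs,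
      (mul_assoc _ _ _).symm⟩

theorem card_right_sup (h : IsSigmaDecomposition M K U) :
    Nat.card ↥(U ⊔ sigmaCore M) = Nat.card U * Nat.card (sigmaCore M) :=
  Coprime.card_sup_of_le_normalizer (le_normalizer_right h) (right_inf_sigmaCore h)

/-- `U M_σ` is normal in `M`. -/
theorem le_normalizer_sup (h : IsSigmaDecomposition M K U) :
    M ≤ normalizer ((U ⊔ sigmaCore M : Subgroup G) : Set G) := by
  intro m hm
  obtain ⟨u, hu, b, hb, rfl⟩ := h.compl.2.2.2 m hm
  refine Subgroup.mul_mem _ (Subgroup.le_normalizer (Subgroup.mem_sup_left hu)) ?_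
  refine (sup_le (fun k hk => ?_) (le_sup_right.trans Subgroup.le_normalizer) : K ⊔ sigmaCore M ≤ _) hb
  refine Coprime.mem_normalizer_of_conj_smul_eq ?_
  rw [Subgroup.smul_sup, Coprime.conj_smul_eq_self_of_mem (h.normal hk),
    Coprime.conj_smul_eq_self_of_mem (le_normalizer_left h hk)]

theorem sup_le_coatom (h : IsSigmaDecomposition M K U) : U ⊔ sigmaCore M ≤ M :=
  sup_le (le_right h) (sigmaCore_le M)

/-- `U` is a Hall subgroup of `M` for the primes outside `κ(M) ∪ σ(M)`. -/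
theorem isPiHallOf_right (hG : IsMinSimpleOddOrder G) (hM : IsCoatom M) (h : IsSigmaDecomposition M K U) :
    IsPiHallOf {q | q.Prime ∧ q ∉ kappa M ∧ q ∉ sigma M} U M := by
  refine ⟨le_right h, fun p hp hd => ⟨hp, not_mem_kappa h hp hd, not_mem_sigma hG hM h hp hd⟩,
    fun p hp hps hd => ?_⟩
  have e : Nat.card U * U.relIndex M = Nat.card M := by
    rw [Subgroup.relIndex, ← Coprime.card_subgroupOf (le_right h), Subgroup.card_mul_index]
  rw [show U.relIndex M = Nat.card K * Nat.card (sigmaCore M) from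
    Nat.eq_of_mul_eq_mul_left Nat.card_pos (e.trans (card_mul h).symm)] at hd
  rcases hp.dvd_mul.1 hd with h1 | h1
  · exact hps.2.1 (h.hall.2.1 p hp h1)
  · exact hps.2.2 (isPiGrp_piCoreOf (sigma M) M p hp h1)

/-- The parts of prime order `r ∉ σ(M)` of the elements of `A(M)` are `τ₂`-elements. -/
theorem mem_tau2_of_sigmaA (hG : IsMinSimpleOddOrder G) (hM : IsCoatom M) (h : IsSigmaDecomposition M K U)
    {a : G} (ha : a ∈ sigmaA M U) {r : ℕ} (hr : r.Prime) (hrs : r ∉ sigma M) (hd : r ∣ orderOf a) :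
    r ∈ tau2 M := by
  haveI := Fact.mk hr
  refine (mem_kappa_or_tau2 hG hM hrs (pow_mem_sigmaHat ha.1 _)
    (orderOf_pow_orderOf_div (orderOf_pos a).ne' hd)).resolve_left fun hk => ?_
  have h1 := hd.trans (Subgroup.orderOf_dvd_natCard (U ⊔ sigmaCore M) ha.2)
  rw [card_right_sup h] at h1
  rcases hr.dvd_mul.1 h1 with h2 | h2
  · exact not_mem_kappa h hr h2 hk
  · exact hrs (isPiGrp_piCoreOf (sigma M) M r hr h2)

end Decomp

end Cfsg.Agent.OddOrder
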