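import Cfsg.Agent.Lib.OddOrder.TauTwo
import Cfsg.Agent.Lib.OddOrder.CyclicSylows
import Cfsg.Agent.Lib.PComplement.FixedPointFree
import Cfsg.Agent.Lib.IsolatedP.Cyclic

/-!
# The primes of a maximal subgroup outside `σ(M)`: `τ₁`, `τ₂`, `τ₃`, `κ`
-/

set_option autoImplicit false
set_option linter.unusedSectionVars false
set_option linter.style.haveILetI false

namespace Cfsg.Agent.OddOrder

open Cfsg
open Subgroup (centralizer normalizer zpowers)

universe u
variable {G : Type u} [Group G] [Finite G] {p : ℕ} [Fact p.Prime] {M : Subgroup G}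

theorem ne_two_of_dvd (hG : IsMinSimpleOddOrder G) (hd : p ∣ Nat.card M) : p ≠ 2 :=
  ne_two_of_odd_of_dvd (odd_subgroup hG.1 M) hd

theorem pRankLE_two_of_not_sigma (hG : IsMinSimpleOddOrder G) (hM : IsCoatom M) (hp : p ∉ sigma M) :
    PRankLE p 2 M :=
  not_not.1 fun h => hp (mem_sigma_of_rank hG hM h)

/-- A prime divisor of `|M|` outside `σ(M)` is in one of `τ₁`, `τ₂`, `τ₃`. -/
theorem mem_tau (hG : IsMinSimpleOddOrder G) (hM : IsCoatom M) (hd : p ∣ Nat.card M) (hp : p ∉ sigma M) :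
    p ∈ tau1 M ∨ p ∈ tau2 M ∨ p ∈ tau3 M := by
  by_cases hr : PRankLE p 1 M
  · by_cases hd' : p ∣ Nat.card ↥⁅M, M⁆
    · exact Or.inr (Or.inr ⟨Fact.out, hp, hd', hr⟩)
    · exact Or.inl ⟨Fact.out, hp, hd, hd', hr⟩
  · exact Or.inr (Or.inl ⟨Fact.out, hp, pRankLE_two_of_not_sigma hG hM hp, hr⟩)

/-- The `p`-subgroups of a group of `p`-rank one are cyclic. -/
theorem isCyclic_of_rank_one (hG : IsMinSimpleOddOrder G) (hr : PRankLE p 1 M) {X : Subgroup G}
    (hXM : X ≤ M) (hX : IsPGroup p X) : IsCyclic X := by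
  rcases eq_or_ne X ⊥ with rfl | hX1
  · infer_instance
  exact IsolatedP.isCyclic_of_pRankLE_one (ne_two_of_minSimple hG hX hX1) hX (pRankLE_of_le hXM hr)

theorem mem_kappa_rank_one (hp : p ∈ kappa M) : PRankLE p 1 M := by
  intro E hE hEp
  haveI := hE
  obtain ⟨S, hS⟩ := (PGroup.isPGroup_of_elementaryAbelian (⟨hE, hEp⟩ : IsElementaryAbelian p E)).exists_le_sylow
  rw [pow_one]
  exact card_le_of_isCyclic (hp.2.2.2 S).1 ⟨hE, hEp⟩ hS

theorem kappa_subset_tau (hG : IsMinSimpleOddOrder G) (hM : IsCoatom M) :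
    kappa M ⊆ tau1 M ∪ tau3 M := fun q hq => by
  haveI := Fact.mk hq.1
  rcases mem_tau hG hM hq.2.1 hq.2.2.1 with h | h | h
  · exact Or.inl h
  · exact absurd (mem_kappa_rank_one hq) h.2.2.2
  · exact Or.inr h

theorem not_mem_tau2_of_kappa (hp : p ∈ kappa M) : p ∉ tau2 M := fun h => h.2.2.2 (mem_kappa_rank_one hp)

/-- A subgroup of order `p` with a fixed point in `M_σ` puts `p` in `κ(M)`, if `M` has `p`-rank one. -/
theorem mem_kappa_of_fixed (hG : IsMinSimpleOddOrder G) (hr : PRankLE p 1 M) (hp : p ∉ sigma M)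
    {X : Subgroup G} (hXM : X ≤ M) (hX : Nat.card X = p)
    (hc : sigmaCore M ⊓ centralizer (X : Set G) ≠ ⊥) : p ∈ kappa M := by
  refine ⟨Fact.out, hX ▸ Subgroup.card_dvd_of_le hXM, hp, fun P => ?_⟩
  have hPc : IsCyclic ((P : Subgroup M).map M.subtype : Subgroup G) :=
    isCyclic_of_rank_one hG hr (Subgroup.map_subtype_le _) (P.2.map _)
  refine ⟨((P : Subgroup M).equivMapOfInjective M.subtype M.subtype_injective).isCyclic.2 hPc, ?_⟩
  obtain ⟨S, hS⟩ := exists_sylow_map_ge (IsPGroup.of_card (n := 1) (by rw [hX, pow_one])) hXM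
  obtain ⟨k, hk⟩ := MulAction.exists_smul_eq M S P
  obtain ⟨y, hy, hy1⟩ := (Subgroup.bot_or_exists_ne_one _).resolve_left hc
  have hX1 : X ≠ ⊥ := fun e => (Fact.out : p.Prime).ne_one (by rw [← hX, e, Subgroup.card_bot])
  obtain ⟨z, hz, hz1⟩ := (Subgroup.bot_or_exists_ne_one _).resolve_left hX1
  obtain ⟨z', hz', rfl⟩ := hS hz
  refine ⟨k * z' * k⁻¹, ?_, fun e => hz1 ?_, k * y * (k : G)⁻¹,
    (Subgroup.mem_normalizer_iff.1 (le_normalizer_sigmaCore M k.2) y).1 hy.1, fun e => hy1 ?_, ?_⟩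
  · rw [← hk, Sylow.coe_subgroup_smul]
    exact ⟨z', hz', rfl⟩
  · rw [show z' = 1 from by simpa using e, map_one]
  · simpa using e
  · have h := Subgroup.mem_centralizer_iff.1 hy.2 (M.subtype z') hz
    rw [M.coe_subtype] at h
    push_cast
    simp only [mul_assoc, inv_mul_cancel_left]
    rw [← mul_assoc (z' : G) y, ← mul_assoc y (z' : G), h]

/-- Outside `κ(M)`, in rank one, subgroups of order `p` act without fixed points on `M_σ`. -/
theorem sigmaCore_inf_centralizer_eq_bot_of_not_kappa (hG : IsMinSimpleOddOrder G)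
    (hr : PRankLE p 1 M) (hp : p ∉ sigma M) (hk : p ∉ kappa M) {X : Subgroup G} (hXM : X ≤ M)
    (hX : Nat.card X = p) : sigmaCore M ⊓ centralizer (X : Set G) = ⊥ :=
  not_not.1 fun h => hk (mem_kappa_of_fixed hG hr hp hXM hX h)

/-- A prime of `κ(M)` has a subgroup of order `p` with a fixed point in `M_σ`. -/
theorem exists_fixed_of_kappa (hp : p ∈ kappa M) :
    ∃ X : Subgroup G, X ≤ M ∧ Nat.card X = p ∧ sigmaCore M ⊓ centralizer (X : Set G) ≠ ⊥ := by
  obtain ⟨P⟩ : Nonempty (Sylow p M) := inferInstance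
  obtain ⟨-, x, hx, hx1, y, hy, hy1, hxy⟩ := hp.2.2.2 P
  obtain ⟨j, hj⟩ := P.2 ⟨x, hx⟩
  obtain ⟨i, -, hi⟩ := (Nat.dvd_prime_pow (Fact.out : p.Prime)).1
    (orderOf_dvd_of_pow_eq_one (congrArg Subtype.val hj : x ^ p ^ j = 1))
  have hi0 : i ≠ 0 := fun e => hx1 (orderOf_eq_one_iff.1 (by rw [hi, e, pow_zero]))
  obtain ⟨i', rfl⟩ := Nat.exists_eq_succ_of_ne_zero hi0
  refine ⟨zpowers ((x : G) ^ p ^ i'), Subgroup.zpowers_le.2 (pow_mem x.2 _), ?_, fun h => hy1 ?_⟩
  · rw [Nat.card_zpowers, orderOf_pow' _ (pow_ne_zero _ (Fact.out : p.Prime).ne_zero), Subgroup.orderOf_coe,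
      hi, Nat.gcd_eq_right (pow_dvd_pow p (Nat.le_succ i')),
      Nat.pow_div (Nat.le_succ i') (Fact.out : p.Prime).pos, Nat.succ_sub (le_refl i'), Nat.sub_self, pow_one]
  · rw [← Subgroup.mem_bot, ← h]
    refine ⟨hy, Subgroup.mem_centralizer_iff.2 fun a ha => ?_⟩
    obtain ⟨n, rfl⟩ := ha
    exact ((Commute.pow_left (hxy : Commute (x : G) y) (p ^ i')).zpow_left n).eq

/-- An element of prime order without fixed points makes `M_σ` nilpotent (Thompson). -/
theorem isNilpotent_sigmaCore_of_fpf {X : Subgroup G} (hXM : X ≤ M) (hX : Nat.card X = p)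
    (hc : sigmaCore M ⊓ centralizer (X : Set G) = ⊥) : Group.IsNilpotent (sigmaCore M) := by
  obtain ⟨x, hx⟩ := exists_prime_orderOf_dvd_card' (G := X) p (dvd_of_eq hX.symm)
  rw [← Subgroup.orderOf_coe] at hx
  refine PComplement.isNilpotent_of_fpf (p := p) (sigmaCore M)
    ((sigmaCore M).normalizerMonoidHom ⟨x, le_normalizer_sigmaCore M (hXM x.2)⟩) ?_ fun g hg => ?_
  · rw [← map_pow]
    convert map_one (sigmaCore M).normalizerMonoidHom
    exact Subtype.ext (by push_cast; rw [← hx, pow_orderOf_eq_one])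
  · have h : (x : G) * g * (x : G)⁻¹ = g := congrArg Subtype.val hg
    have hX' : zpowers (x : G) = X := Subgroup.eq_of_le_of_card_ge (Subgroup.zpowers_le.2 x.2)
      (le_of_eq (by rw [Nat.card_zpowers, hx, hX]))
    refine Subtype.ext (Subgroup.mem_bot.1 (hc ▸ ⟨g.2, Subgroup.mem_centralizer_iff.2 fun a ha => ?_⟩))
    rw [← hX'] at ha
    obtain ⟨n, rfl⟩ := ha
    exact ((show Commute (x : G) g from mul_inv_eq_iff_eq_mul.1 h).zpow_left n).eq

end Cfsg.Agent.OddOrder
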