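import Cfsg.Agent.Lib.OddOrder.TauTwo
import Cfsg.Agent.Lib.OddOrder.SigmaPrime
import Cfsg.Agent.Lib.OddOrder.PiHallExists
import Cfsg.Agent.Lib.OddOrder.SigmaDecomp
import Cfsg.Agent.S1415

/-!
# The standard factorisation exists (rows 1351, 1352), given `κ(M) ⊆ τ₁(M)`
-/

set_option autoImplicit false
set_option linter.unusedSectionVars false
set_option linter.style.haveILetI false

namespace Cfsg.Agent.OddOrder.KappaHall

open Cfsg
open Subgroup (centralizer normalizer zpowers)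

universe u
variable {G : Type u} [Group G] [Finite G] {M : Subgroup G}

/-- The conclusion of the frozen statement S1351. -/
theorem exists_hall_cyclic (hG : IsMinSimpleOddOrder G) (hM : IsCoatom M) (hκ : kappa M ⊆ tau1 M) :
    (∃ K : Subgroup G, IsPiHallOf (kappa M) K M) ∧
      ∀ K : Subgroup G, IsPiHallOf (kappa M) K M → IsCyclic K := by
  refine ⟨?_, fun K hK => ?_⟩
  · obtain ⟨K, -, hK⟩ := exists_piHallOf_ge (kappa M) (X := (⊥ : Subgroup G)) (isSolvable_of_coatom hG hM)
      bot_le (fun p hp hd => absurd (Subgroup.card_bot (G := G) ▸ hd) hp.not_dvd_one)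
    exact ⟨K, hK⟩
  · obtain ⟨E, hE, hKE⟩ := exists_compl hG hM hK.1 (Nat.coprime_of_dvd fun l hl h1 h2 =>
      (hK.2.1 l hl h1).2.2.1 (isPiGrp_piCoreOf (sigma M) M l hl h2))
    obtain ⟨E₁, hKE₁, hE₁⟩ := exists_piHallOf_ge (tau1 M)
      (Coprime.isSolvable_of_le hE.1 (isSolvable_of_coatom hG hM)) hKE
      fun p hp hd => hκ (hK.2.1 p hp hd)
    haveI := (S1415.result hG M hM E hE).2.1 E₁ hE₁
    exact isCyclic_of_injective (Subgroup.inclusion hKE₁) (Subgroup.inclusion_injective hKE₁)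

/-- The conclusion of the frozen statement S1352. -/
theorem exists_decomposition (hG : IsMinSimpleOddOrder G) (hM : IsCoatom M) (hκ : kappa M ⊆ tau1 M)
    {K : Subgroup G} (hKc : IsCyclic K) (hK : IsPiHallOf (kappa M) K M) :
    (∃ U : Subgroup G, IsSigmaDecomposition M K U) ∧
      ∀ U : Subgroup G, IsSigmaDecomposition M K U →
        M ≤ normalizer ((U ⊔ sigmaCore M : Subgroup G) : Set G) := by
  have hKσ : (Nat.card K).Coprime (Nat.card (sigmaCore M)) := Nat.coprime_of_dvd fun l hl h1 h2 =>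
    (hK.2.1 l hl h1).2.2.1 (isPiGrp_piCoreOf (sigma M) M l hl h2)
  have hKn : K ≤ normalizer (sigmaCore M : Set G) := hK.1.trans (le_normalizer_sigmaCore M)
  refine ⟨?_, fun U hU => Decomp.le_normalizer_sup hU⟩
  obtain ⟨E, hE, hKE⟩ := exists_compl hG hM hK.1 hKσ
  have hEder : ∀ l : ℕ, l.Prime → l ∣ Nat.card ↥⁅E, E⁆ → l ∉ kappa M := fun l hl hd hk =>
    (hκ hk).2.2.2.1 (hd.trans (Subgroup.card_dvd_of_le (Subgroup.commutator_mono hE.1 hE.1)))
  obtain ⟨U, hEU, hUE, hU1, hU2⟩ := exists_piHallOf_ge {q | q ∉ kappa M}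
    (Coprime.isSolvable_of_le hE.1 (isSolvable_of_coatom hG hM)) (Subgroup.commutator_le_self E) hEder
  have hEn : E ≤ normalizer (U : Set G) :=
    Subgroup.le_normalizer_iff_commutator_le_right.2 ((Subgroup.commutator_mono le_rfl hUE).trans hEU)
  have hKU : Nat.card U * Nat.card K = Nat.card E := by
    have h1 : Nat.card U * U.relIndex E = Nat.card E := by
      rw [Subgroup.relIndex, ← Coprime.card_subgroupOf hUE, Subgroup.card_mul_index]
    have h2 : Nat.card K * K.relIndex E = Nat.card E := by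
      rw [Subgroup.relIndex, ← Coprime.card_subgroupOf hKE, Subgroup.card_mul_index]
    have hrel : ∀ l : ℕ, l.Prime → l ∣ U.relIndex E → l ∈ kappa M := fun l hl hd =>
      not_not.1 fun hk => hU2 l hl hk hd
    have hd1 : Nat.card K ∣ U.relIndex E := by
      refine (Nat.coprime_of_dvd fun l hl ha hb => hU1 l hl hb (hK.2.1 l hl ha) :
        (Nat.card K).Coprime (Nat.card U)).dvd_of_dvd_mul_left ?_
      rw [h1, ← h2]
      exact dvd_mul_right _ _
    have hd2 : U.relIndex E ∣ Nat.card K := by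
      refine (Nat.coprime_of_dvd fun l hl ha hb => hK.2.2 l hl (hrel l hl ha) (hb.trans ?_) :
        (U.relIndex E).Coprime (K.relIndex E)).dvd_of_dvd_mul_right ?_
      · rw [← Subgroup.relIndex_mul_relIndex K E M hKE hE.1]
        exact dvd_mul_right _ _
      · rw [h2, ← h1]
        exact dvd_mul_left _ _
    rw [← h1, Nat.dvd_antisymm hd1 hd2]
  have hUσ : ∀ l : ℕ, l.Prime → l ∣ Nat.card U → l ∉ sigma M := fun l hl hd =>
    not_mem_sigma_of_compl hG hM hE hl (hd.trans (Subgroup.card_dvd_of_le hUE))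
  have hdis : U ⊓ (K ⊔ sigmaCore M) = ⊥ := by
    refine Coprime.disjoint_of_coprime_card ?_
    rw [Coprime.card_sup_of_le_normalizer hKn (Coprime.disjoint_of_coprime_card hKσ)]
    exact Nat.Coprime.mul_right (Nat.coprime_of_dvd fun l hl ha hb => hU1 l hl ha (hK.2.1 l hl hb))
      (Nat.coprime_of_dvd fun l hl ha hb => hUσ l hl ha (isPiGrp_piCoreOf (sigma M) M l hl hb))
  refine ⟨U, hKc, hK, ⟨hUE.trans hE.1, sup_le hK.1 (sigmaCore_le M), hdis, ?_⟩, hKE.trans hEn⟩
  set B := K ⊔ sigmaCore M with hB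
  have hBM : B ≤ M := sup_le hK.1 (sigmaCore_le M)
  let f : U × B → M := fun x => ⟨x.1 * x.2, M.mul_mem ((hUE.trans hE.1) x.1.2) (hBM x.2.2)⟩
  have hf : Function.Bijective f := by
    refine (Nat.bijective_iff_injective_and_card f).2 ⟨fun x y hxy => ?_, ?_⟩
    · exact Subgroup.mul_injective_of_disjoint (disjoint_iff.2 hdis) (congrArg Subtype.val hxy)
    · rw [Nat.card_prod, hB, Coprime.card_sup_of_le_normalizer hKn (Coprime.disjoint_of_coprime_card hKσ),
        ← mul_assoc, hKU, card_eq_of_isComplIn hE]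
  intro m hm
  obtain ⟨⟨u, b⟩, hub⟩ := hf.2 ⟨m, hm⟩
  exact ⟨u, u.2, b, b.2, (congrArg Subtype.val hub).symm⟩

end Cfsg.Agent.OddOrder.KappaHall
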