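import Cfsg.Agent.Lib.OddOrder.MovingLine
import Cfsg.Agent.Lib.OddOrder.PiHallExists
import Cfsg.Agent.S1415
import Cfsg.Agent.S1418

/-!
# Bender–Glauberman 14.2: maximal subgroups with `κ(M)` nonempty
-/

set_option autoImplicit false
set_option linter.unusedSectionVars false
set_option linter.style.haveILetI false

namespace Cfsg.Agent.OddOrder

open Cfsg
open Subgroup (centralizer normalizer zpowers)
open scoped Pointwise commutatorElement

universe u
variable {G : Type u} [Group G] [Finite G] {M : Subgroup G}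

theorem mem_centralizer_of_isCyclic {S : Subgroup G} (hS : IsCyclic S) {x : G} (hx : x ∈ S) :
    x ∈ centralizer (S : Set G) :=
  Subgroup.mem_centralizer_iff.2 fun a ha =>
    congrArg Subtype.val ((IsCyclic.commGroup (α := S)).mul_comm (⟨a, ha⟩ : S) ⟨x, hx⟩)

theorem inf_centralizer_zpowers (N : Subgroup G) (z : G) :
    N ⊓ centralizer (zpowers z : Set G) = N ⊓ centralizer ({z} : Set G) := by
  rw [Subgroup.zpowers_eq_closure, Subgroup.centralizer_closure]

/-- `κ(M) ⊆ τ₁(M)`. -/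
theorem kappa_subset_tau1 (hG : IsMinSimpleOddOrder G) (h13 : BG13 G) (hM : IsCoatom M) :
    kappa M ⊆ tau1 M := fun q hq => by
  haveI := Fact.mk hq.1
  rcases kappa_subset_tau hG hM hq with h | h
  · exact h
  · obtain ⟨X, hX, hXc, hne⟩ := exists_fixed_of_kappa hq
    exact absurd (h13.tau3_regular M hM q h X hX hXc) hne

/-- At a prime of `κ(M)` every subgroup of order `p` of `M` has a fixed point in `M_σ`. -/
theorem fixed_of_kappa {p : ℕ} [Fact p.Prime] (hp : p ∈ kappa M) {X : Subgroup G} (hXM : X ≤ M)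
    (hX : Nat.card X = p) : sigmaCore M ⊓ centralizer (X : Set G) ≠ ⊥ := by
  obtain ⟨S, hS⟩ := exists_sylow_map_ge (IsPGroup.of_card (n := 1) (by rw [hX, pow_one])) hXM
  obtain ⟨hcyc, x, hx, hx1, y, hy, hy1, hxy⟩ := hp.2.2.2 S
  have hc : IsCyclic ((S : Subgroup M).map M.subtype : Subgroup G) :=
    ((S : Subgroup M).equivMapOfInjective M.subtype M.subtype_injective).isCyclic.1 hcyc
  obtain ⟨j, hj⟩ := S.2 ⟨x, hx⟩
  have hxd : p ∣ orderOf (x : G) := by
    obtain ⟨i, -, hi⟩ := (Nat.dvd_prime_pow (Fact.out : p.Prime)).1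
      (orderOf_dvd_of_pow_eq_one (congrArg Subtype.val hj : x ^ p ^ j = 1))
    rw [Subgroup.orderOf_coe, hi]
    refine dvd_pow_self p fun e => hx1 (orderOf_eq_one_iff.1 ?_)
    rw [hi, e, pow_zero]
  obtain ⟨Z, hZx, hZ⟩ := exists_card_le_zpowers hxd
  obtain ⟨z, hz, hz1⟩ := (Subgroup.bot_or_exists_ne_one _).resolve_left
    (fun e => (Fact.out : p.Prime).ne_one (by rw [← hZ, e, Subgroup.card_bot]) : Z ≠ ⊥)
  obtain ⟨w, hw, hw1⟩ := (Subgroup.bot_or_exists_ne_one _).resolve_left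
    (fun e => (Fact.out : p.Prime).ne_one (by rw [← hX, e, Subgroup.card_bot]) : X ≠ ⊥)
  have hzp : z ^ p = 1 := orderOf_dvd_iff_pow_eq_one.1 (hZ ▸ Subgroup.orderOf_dvd_natCard Z hz)
  have hwp : w ^ p = 1 := orderOf_dvd_iff_pow_eq_one.1 (hX ▸ Subgroup.orderOf_dvd_natCard X hw)
  have he : zpowers w = zpowers z := zpowers_eq_of_isCyclic hc
    (Subgroup.zpowers_le.2 (Subgroup.mem_map_of_mem M.subtype hx) (hZx hz)) (hS hw) hzp hwp hz1 hw1
  have hXw : X = zpowers w := (Subgroup.eq_of_le_of_card_ge (Subgroup.zpowers_le.2 hw) (le_of_eq (by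
    rw [hX, card_zpowers_eq hwp hw1]))).symm
  intro hbot
  refine hy1 (Subgroup.mem_bot.1 (hbot ▸ ⟨hy, ?_⟩))
  rw [hXw, he]
  refine Subgroup.centralizer_le (Subgroup.zpowers_le.2 (hZx hz) : zpowers z ≤ zpowers (x : G)) ?_
  rw [Subgroup.zpowers_eq_closure, Subgroup.centralizer_closure]
  exact Subgroup.mem_centralizer_singleton_iff.2 hxy.symm

/-- `κ(M) = τ₁(M)` when `κ(M)` is nonempty. -/
theorem kappa_eq_tau1 (hG : IsMinSimpleOddOrder G) (h13 : BG13 G) (hM : IsCoatom M)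
    (hne : (kappa M).Nonempty) : kappa M = tau1 M := by
  refine Set.Subset.antisymm (kappa_subset_tau1 hG h13 hM) fun q hq => ?_
  obtain ⟨p, hp⟩ := hne
  haveI := Fact.mk hp.1
  haveI := Fact.mk hq.1
  obtain ⟨X, hXM, hX, hfix⟩ := exists_fixed_of_kappa hp
  obtain ⟨E, hE, hXE⟩ := exists_compl hG hM hXM (by
    rw [hX]; exact (Fact.out : p.Prime).coprime_iff_not_dvd.2 (not_dvd_sigmaCore hp.2.2.1))
  have hp1 := kappa_subset_tau1 hG h13 hM hp
  obtain ⟨E₁, hXE₁, hE₁⟩ := exists_piHallOf_ge (tau1 M)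
    (Coprime.isSolvable_of_le hE.1 (isSolvable_of_coatom hG hM)) hXE fun l hl hd => by
      rw [(Nat.prime_dvd_prime_iff_eq hl Fact.out).1 (hX ▸ hd)]
      exact hp1
  have hcyc := (S1415.result hG M hM E hE).2.1 E₁ hE₁
  have hqE : q ∣ Nat.card E₁ := by
    have h1 : q ∣ Nat.card E * Nat.card (sigmaCore M) := (card_eq_of_isComplIn hE).symm ▸ hq.2.2.1
    have h2 : q ∣ Nat.card E := ((Fact.out : q.Prime).dvd_mul.1 h1).resolve_right (not_dvd_sigmaCore hq.2.1)
    have h3 := Subgroup.relIndex_mul_relIndex ⊥ E₁ E bot_le hE₁.1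
    rw [Subgroup.relIndex_bot_left, Subgroup.relIndex_bot_left] at h3
    exact ((Fact.out : q.Prime).dvd_mul.1 (h3.symm ▸ h2)).resolve_right (hE₁.2.2 q Fact.out hq)
  obtain ⟨R₀, hR₀⟩ := exists_prime_orderOf_dvd_card' (G := E₁) q hqE
  rw [← Subgroup.orderOf_coe] at hR₀
  have hR : Nat.card (zpowers (R₀ : G)) = q := by rw [Nat.card_zpowers, hR₀]
  have hRX : zpowers (R₀ : G) ≤ E ⊓ centralizer (X : Set G) :=
    Subgroup.zpowers_le.2 ⟨hE₁.1 R₀.2,
      Subgroup.centralizer_le hXE₁ (mem_centralizer_of_isCyclic hcyc R₀.2)⟩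
  refine mem_kappa_of_fixed hG hq.2.2.2.2 hq.2.1 ((hRX.trans inf_le_left).trans hE.1) hR fun e => hfix ?_
  exact le_bot_iff.1 (e ▸ h13.tau1_comm M hM E hE p hp1 X hXE hX _ hRX (hR.symm ▸ Fact.out))

/-- The standing data of 14.2: a nontrivial Hall `κ(M)`-subgroup in a complement of `M_σ`. -/
structure PData (M K E : Subgroup G) : Prop where
  minSimple : IsMinSimpleOddOrder G
  h13 : BG13 G
  coatom : IsCoatom M
  hall : IsPiHallOf (Cfsg.kappa M) K M
  ne_bot : K ≠ ⊥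
  compl : IsComplIn E (Cfsg.sigmaCore M) M
  le : K ≤ E

theorem exists_pData (hG : IsMinSimpleOddOrder G) (h13 : BG13 G) (hM : IsCoatom M) {K : Subgroup G}
    (hK : IsPiHallOf (kappa M) K M) (hK1 : K ≠ ⊥) : ∃ E : Subgroup G, PData M K E := by
  obtain ⟨E, hE, hKE⟩ := exists_compl hG hM hK.1 (Nat.coprime_of_dvd fun l hl h1 h2 =>
    (hK.2.1 l hl h1).2.2.1 (isPiGrp_piCoreOf (sigma M) M l hl h2))
  exact ⟨E, hG, h13, hM, hK, hK1, hE, hKE⟩

namespace PData

variable {K E : Subgroup G} (d : PData M K E)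
include d

theorem nonempty : (Cfsg.kappa M).Nonempty := by
  have h1 : Nat.card K ≠ 1 := fun e => d.ne_bot (Subgroup.card_eq_one.1 e)
  obtain ⟨p, hp, hd⟩ := Nat.exists_prime_and_dvd h1
  exact ⟨p, d.hall.2.1 p hp hd⟩

theorem kappa_eq : Cfsg.kappa M = Cfsg.tau1 M := kappa_eq_tau1 d.minSimple d.h13 d.coatom d.nonempty

theorem hallOf : IsPiHallOf (Cfsg.tau1 M) K E := by
  refine ⟨d.le, fun p hp hd => d.kappa_eq ▸ d.hall.2.1 p hp hd, fun p hp hτ hd => d.hall.2.2 p hp (d.kappa_eq ▸ hτ) ?_⟩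
  rw [← Subgroup.relIndex_mul_relIndex K E M d.le d.compl.1]
  exact dvd_mul_of_dvd_left hd _

theorem cyclic : IsCyclic K := (S1415.result d.minSimple M d.coatom E d.compl).2.1 K d.hallOf

theorem fixed {p : ℕ} [Fact p.Prime] {X : Subgroup G} (hXK : X ≤ K) (hX : Nat.card X = p) :
    Cfsg.sigmaCore M ⊓ centralizer (X : Set G) ≠ ⊥ :=
  fixed_of_kappa (d.hall.2.1 p Fact.out (hX ▸ Subgroup.card_dvd_of_le hXK)) (hXK.trans d.hall.1) hX

theorem semiprime {p : ℕ} [Fact p.Prime] {z : G} (hz : z ∈ K) (hzo : orderOf z = p) :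
    Cfsg.sigmaCore M ⊓ centralizer ({z} : Set G) ≤ centralizer (K : Set G) := by
  intro y hy
  refine Subgroup.mem_centralizer_iff.2 fun k hk => ?_
  suffices k ∈ centralizer ({y} : Set G) from Subgroup.mem_centralizer_singleton_iff.1 this
  refine mem_of_forall_primePart fun q hq _ u hu hus => ?_
  haveI := Fact.mk hq
  have huK : u ∈ K := Subgroup.zpowers_le.2 hk hu
  rcases eq_or_ne u 1 with rfl | hu1
  · exact one_mem _
  have hup : IsPGroup q (zpowers u) := isPGroup_zpowers hus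
  have hqu : q ∣ orderOf u := by
    obtain ⟨i, hi⟩ := hup.exists_card_eq
    rw [Nat.card_zpowers] at hi
    rw [hi]
    exact dvd_pow_self q fun e => hu1 (orderOf_eq_one_iff.1 (by rw [hi, e, pow_zero]))
  obtain ⟨R, hRu, hR⟩ := exists_card_le_zpowers hqu
  have hRK : R ≤ K := hRu.trans (Subgroup.zpowers_le.2 huK)
  have hzc : Nat.card (zpowers z) = p := by rw [Nat.card_zpowers, hzo]
  have hp1 : p ∈ Cfsg.tau1 M := d.kappa_eq ▸ d.hall.2.1 p Fact.out (hzo ▸ Subgroup.orderOf_dvd_natCard K hz)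
  have hq1 : q ∈ Cfsg.tau1 M := d.kappa_eq ▸ d.hall.2.1 q hq (hR ▸ Subgroup.card_dvd_of_le hRK)
  have hyR : y ∈ Cfsg.sigmaCore M ⊓ centralizer (R : Set G) :=
    d.h13.tau1_comm M d.coatom E d.compl p hp1 (zpowers z) (Subgroup.zpowers_le.2 (d.le hz)) hzc R
      (le_inf (hRK.trans d.le) fun w hw => Subgroup.centralizer_le (Subgroup.zpowers_le.2 hz)
        (mem_centralizer_of_isCyclic d.cyclic (hRK hw)))
      (hR.symm ▸ hq) (by rw [inf_centralizer_zpowers]; exact hy)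
  obtain ⟨S, hS⟩ := exists_sylow_map_ge hup (Subgroup.zpowers_le.2 (d.le huK))
  have hSc : IsCyclic ((S : Subgroup E).map E.subtype : Subgroup G) :=
    isCyclic_of_rank_one d.minSimple hq1.2.2.2.2 ((Subgroup.map_subtype_le _).trans d.compl.1) (S.2.map _)
  have hS1 : (S : Subgroup E) ≠ ⊥ := fun e => hu1 (Subgroup.mem_bot.1 (by
    have h := hS (Subgroup.mem_zpowers u)
    rwa [e, Subgroup.map_bot] at h))
  obtain ⟨r, hr, hr1⟩ := (Subgroup.bot_or_exists_ne_one _).resolve_left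
    (fun e => hq.ne_one (by rw [← hR, e, Subgroup.card_bot]) : R ≠ ⊥)
  have h1 := (d.h13.semiprime M d.coatom E d.compl q S hS1
    (((S : Subgroup E).equivMapOfInjective E.subtype E.subtype_injective).isCyclic.2 hSc) r
    (hS (hRu hr)) hr1).le ⟨hyR.1, Subgroup.centralizer_le (Set.singleton_subset_iff.2 hr) hyR.2⟩
  exact Subgroup.mem_centralizer_singleton_iff.2
    (Subgroup.mem_centralizer_iff.1 h1.2 u (hS (Subgroup.mem_zpowers u)))

/-- `K` acts in a prime manner on `M_σ`. -/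
theorem primeAction {k : G} (hk : k ∈ K) (hk1 : k ≠ 1) :
    Cfsg.sigmaCore M ⊓ centralizer ({k} : Set G) = Cfsg.sigmaCore M ⊓ centralizer (K : Set G) := by
  refine le_antisymm (fun y hy => ⟨hy.1, ?_⟩) (inf_le_inf_left _ (Subgroup.centralizer_le (Set.singleton_subset_iff.2 hk)))
  obtain ⟨p, hp, hpd⟩ := Nat.exists_prime_and_dvd (fun e => hk1 (orderOf_eq_one_iff.1 e))
  haveI := Fact.mk hp
  obtain ⟨z, hz⟩ := exists_prime_orderOf_dvd_card' (G := zpowers k) p (by rwa [Nat.card_zpowers])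
  rw [← Subgroup.orderOf_coe] at hz
  refine d.semiprime (Subgroup.zpowers_le.2 hk z.2) hz ⟨hy.1, ?_⟩
  obtain ⟨i, hi⟩ := z.2
  rw [← hi]
  exact Subgroup.mem_centralizer_singleton_iff.2
    (Commute.zpow_right (Subgroup.mem_centralizer_singleton_iff.1 hy.2) i)

theorem inf_centralizer_eq {p : ℕ} [Fact p.Prime] {X : Subgroup G} (hXK : X ≤ K) (hX : Nat.card X = p) :
    Cfsg.sigmaCore M ⊓ centralizer (X : Set G) = Cfsg.sigmaCore M ⊓ centralizer (K : Set G) := by
  refine le_antisymm ?_ (inf_le_inf_left _ (Subgroup.centralizer_le hXK))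
  obtain ⟨x, hx, hx1⟩ := (Subgroup.bot_or_exists_ne_one _).resolve_left
    (fun e => (Fact.out : p.Prime).ne_one (by rw [← hX, e, Subgroup.card_bot]) : X ≠ ⊥)
  rw [← d.primeAction (hXK hx) hx1]
  exact inf_le_inf_left _ (Subgroup.centralizer_le (Set.singleton_subset_iff.2 hx))

/-- A prime outside `σ(M) ∪ κ(M)` has no element of `E` centralising an element of `K#`. -/
theorem no_fixed {p : ℕ} [Fact p.Prime] {z : G} (hz : z ∈ K) (hzo : orderOf z = p) {r : ℕ} [Fact r.Prime]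
    (hr : r ∉ Cfsg.kappa M) {R : Subgroup G} (hR : Nat.card R = r)
    (hRE : R ≤ E ⊓ centralizer ({z} : Set G)) : False := by
  have hG := d.minSimple
  have hM := d.coatom
  have hzK : zpowers z ≤ K := Subgroup.zpowers_le.2 hz
  have hzc : Nat.card (zpowers z) = p := by rw [Nat.card_zpowers, hzo]
  have hD : Cfsg.sigmaCore M ⊓ centralizer ({z} : Set G) ≠ ⊥ := inf_centralizer_zpowers _ z ▸ d.fixed hzK hzc
  have hp1 : p ∈ Cfsg.tau1 M := d.kappa_eq ▸ d.hall.2.1 p Fact.out (hzo ▸ Subgroup.orderOf_dvd_natCard K hz)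
  have hcomm : ∀ R' : Subgroup G, R' ≤ E ⊓ centralizer ({z} : Set G) → (Nat.card R').Prime →
      Cfsg.sigmaCore M ⊓ centralizer ({z} : Set G) ≤ Cfsg.sigmaCore M ⊓ centralizer (R' : Set G) := by
    intro R' hR' hR'p
    rw [← inf_centralizer_zpowers]
    refine d.h13.tau1_comm M hM E d.compl p hp1 (zpowers z) (hzK.trans d.le) hzc R' ?_ hR'p
    rwa [Subgroup.zpowers_eq_closure, Subgroup.centralizer_closure]
  have hDR := hcomm R hRE (hR.symm ▸ Fact.out)
  have hRM : R ≤ M := (hRE.trans inf_le_left).trans d.compl.1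
  have hrM : r ∣ Nat.card M := hR ▸ Subgroup.card_dvd_of_le hRM
  have hrs : r ∉ Cfsg.sigma M :=
    not_mem_sigma_of_compl hG hM d.compl Fact.out (hR ▸ Subgroup.card_dvd_of_le (hRE.trans inf_le_left))
  rcases mem_tau hG hM hrM hrs with h1 | h2 | h3
  · exact hr (d.kappa_eq.symm ▸ h1)
  · obtain ⟨A, hAE, hA, hAc⟩ := exists_square_le_compl d.compl hrs h2.2.2.2
    obtain ⟨A₀, h⟩ := exists_exc hG hM hrs (hAE.trans d.compl.1) hA hAc
    have hRA : R ≤ A := fun x hx => h.mem_of_compl d.compl hAE ((hRE hx).1)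
      (orderOf_dvd_iff_pow_eq_one.1 (hR ▸ Subgroup.orderOf_dvd_natCard R hx))
    by_cases hzA : z ∈ centralizer (A : Set G)
    · refine hD (le_bot_iff.1 ?_)
      rw [← h.sigmaCore_inf_centralizer]
      intro y hy
      refine ⟨hy.1, Subgroup.mem_centralizer_iff.2 fun a ha => ?_⟩
      rcases eq_or_ne a 1 with rfl | ha1
      · simp
      have := hcomm (zpowers a) (Subgroup.zpowers_le.2 ⟨hAE ha, Subgroup.mem_centralizer_singleton_iff.2
        (Subgroup.mem_centralizer_iff.1 hzA a ha)⟩)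
        (by rw [card_zpowers_eq (hA.2 a ha) ha1]; exact Fact.out) hy
      exact Subgroup.mem_centralizer_iff.1 this.2 a (Subgroup.mem_zpowers a)
    have hzR : z ∈ centralizer (R : Set G) := Subgroup.mem_centralizer_iff.2 fun a ha =>
      Subgroup.mem_centralizer_singleton_iff.1 (hRE ha).2
    obtain ⟨L, hL, hAL, hne, hor⟩ := h.moving_dichotomy d.h13
      (fun e => not_mem_tau2_of_kappa (d.kappa_eq.symm ▸ hp1) (e.symm ▸ h2)) hzo
      (h.complement_le_normalizer d.compl hAE (d.le hz)) hzA hRA hR hzR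
    refine hD (le_bot_iff.1 ?_)
    rw [← h.sigmaCore_inf_eq_bot hL hne hAL]
    rcases hor with hh | hh
    · exact inf_le_inf_left _ hh
    · exact le_inf inf_le_left ((hDR.trans inf_le_right).trans hh)
  · exact hD (le_bot_iff.1 (d.h13.tau3_regular M hM r h3 R hRM hR ▸ hDR))

/-- The complement `U` of `K` in `E`. -/
theorem exists_U : ∃ U : Subgroup G, IsMulCommutative U ∧
    IsPiHallOf {q | q.Prime ∧ q ∉ Cfsg.kappa M ∧ q ∉ Cfsg.sigma M} U M ∧ K ≤ normalizer (U : Set G) ∧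
    IsComplIn U K E ∧ ∀ k ∈ K, k ≠ 1 → U ⊓ centralizer ({k} : Set G) = ⊥ := by
  have hG := d.minSimple
  haveI hEs : Group.IsSolvable E := Coprime.isSolvable_of_le d.compl.1 (isSolvable_of_coatom hG d.coatom)
  have hEκ : ∀ l : ℕ, l.Prime → l ∣ Nat.card ↥⁅E, E⁆ → l ∉ Cfsg.kappa M := fun l hl hd hk =>
    (d.kappa_eq ▸ hk : l ∈ Cfsg.tau1 M).2.2.2.1
      (hd.trans (Subgroup.card_dvd_of_le (Subgroup.commutator_mono d.compl.1 d.compl.1)))
  obtain ⟨U, hEU, hUE, hU1, hU2⟩ := exists_piHallOf_ge {q | q ∉ Cfsg.kappa M} hEs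
    (Subgroup.commutator_le_self E) hEκ
  have hEn : E ≤ normalizer (U : Set G) :=
    (Subgroup.le_normalizer_iff_commutator_le_right).2 ((Subgroup.commutator_mono le_rfl hUE).trans hEU)
  have hUK : U ⊓ K = ⊥ := Coprime.disjoint_of_coprime_card (Nat.coprime_of_dvd fun l hl h1 h2 =>
    hU1 l hl h1 (d.hall.2.1 l hl h2))
  have hsup : U ⊔ K = E := by
    refine le_antisymm (sup_le hUE d.le) (Subgroup.eq_of_le_of_card_ge (sup_le hUE d.le) ?_).ge
    rw [sup_comm, Coprime.card_sup_of_le_normalizer (d.le.trans hEn) (by rwa [inf_comm])]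
    have h1 := Subgroup.relIndex_mul_relIndex ⊥ U E bot_le hUE
    rw [Subgroup.relIndex_bot_left, Subgroup.relIndex_bot_left] at h1
    rw [← h1, mul_comm (Nat.card U)]
    refine Nat.mul_le_mul_right _ (Nat.le_of_dvd Nat.card_pos ?_)
    have hcop : (U.relIndex E).Coprime (K.relIndex E) := Nat.coprime_of_dvd fun l hl ha hb =>
      d.hallOf.2.2 l hl (d.kappa_eq ▸ (not_not.1 fun hk => hU2 l hl hk ha)) hb
    refine hcop.dvd_of_dvd_mul_right ?_
    have h2 := Subgroup.relIndex_mul_relIndex ⊥ K E bot_le d.le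
    rw [Subgroup.relIndex_bot_left, Subgroup.relIndex_bot_left] at h2
    rw [h2, ← h1]
    exact dvd_mul_left _ _
  have hcompl : IsComplIn U K E := by
    refine ⟨hUE, d.le, hUK, fun e he => ?_⟩
    obtain ⟨u, hu, k, hk, huk⟩ := (Coprime.mem_sup_iff_of_le_normalizer' (d.le.trans hEn)).1
      (show e ∈ K ⊔ U by rw [sup_comm, hsup]; exact he)
    exact ⟨u, hu, k, hk, huk.symm⟩
  have hfix : ∀ k ∈ K, k ≠ 1 → U ⊓ centralizer ({k} : Set G) = ⊥ := by
    intro k hk hk1
    by_contra hne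
    obtain ⟨p, hp, hpd⟩ := Nat.exists_prime_and_dvd (fun e => hk1 (orderOf_eq_one_iff.1 e))
    haveI := Fact.mk hp
    obtain ⟨z, hz⟩ := exists_prime_orderOf_dvd_card' (G := zpowers k) p (by rwa [Nat.card_zpowers])
    rw [← Subgroup.orderOf_coe] at hz
    obtain ⟨r, hr, hrd⟩ := Nat.exists_prime_and_dvd (n := Nat.card ↥(U ⊓ centralizer ({k} : Set G)))
      (fun e => hne (Subgroup.card_eq_one.1 e))
    haveI := Fact.mk hr
    obtain ⟨w, hw⟩ := exists_prime_orderOf_dvd_card' (G := ↥(U ⊓ centralizer ({k} : Set G))) r hrd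
    rw [← Subgroup.orderOf_coe] at hw
    refine d.no_fixed (Subgroup.zpowers_le.2 hk z.2) hz (r := r)
      (hU1 r hr (hrd.trans (Subgroup.card_dvd_of_le inf_le_left))) (R := zpowers (w : G))
      (by rw [Nat.card_zpowers, hw]) (Subgroup.zpowers_le.2 ⟨hUE w.2.1, ?_⟩)
    obtain ⟨i, hi⟩ := z.2
    rw [← hi]
    exact Subgroup.mem_centralizer_singleton_iff.2
      (Commute.zpow_right (Subgroup.mem_centralizer_singleton_iff.1 w.2.2) i)
  refine ⟨U, ?_, ⟨hUE.trans d.compl.1, fun l hl hd => ⟨hl, hU1 l hl hd,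
    not_mem_sigma_of_compl hG d.coatom d.compl hl (hd.trans (Subgroup.card_dvd_of_le hUE))⟩, ?_⟩,
    d.le.trans hEn, hcompl, hfix⟩
  · haveI : Group.IsSolvable K := Coprime.isSolvable_of_le d.le hEs
    have hCK : U ⊓ centralizer (K : Set G) = ⊥ := by
      obtain ⟨k, hk, hk1⟩ := (Subgroup.bot_or_exists_ne_one _).resolve_left d.ne_bot
      exact le_bot_iff.1 (hfix k hk hk1 ▸ inf_le_inf_left U (Subgroup.centralizer_le (Set.singleton_subset_iff.2 hk)))
    have h1 := Coprime.commutator_sup_centralizer (d.le.trans hEn)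
      (Nat.coprime_of_dvd fun l hl ha hb => hU1 l hl hb (d.hall.2.1 l hl ha)) (Or.inl inferInstance)
    rw [hCK, sup_bot_eq] at h1
    have hle : U ≤ ⁅E, E⁆ := h1 ▸ Subgroup.commutator_mono hUE d.le
    exact PGroup.isMulCommutative_of_forall fun x hx y hy => PGroup.mul_comm_of_isMulCommutative
      (S1420.result hG M d.coatom E d.compl).2.1 (hle hx) (hle hy)
  · intro l hl hlm hd
    rw [← Subgroup.relIndex_mul_relIndex U E M hUE d.compl.1] at hd
    rcases hl.dvd_mul.1 hd with h1 | h1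
    · exact hU2 l hl hlm.2.1 h1
    · refine hlm.2.2 (isPiGrp_piCoreOf (Cfsg.sigma M) M l hl ?_)
      have h2 := Subgroup.relIndex_mul_relIndex ⊥ E M bot_le d.compl.1
      rw [Subgroup.relIndex_bot_left, Subgroup.relIndex_bot_left, ← card_eq_of_isComplIn d.compl] at h2
      rwa [Nat.eq_of_mul_eq_mul_left Nat.card_pos h2] at h1

/-- The normalizer in `M` of a prime order subgroup of `K`. -/
theorem inf_normalizer {p : ℕ} [Fact p.Prime] {X : Subgroup G} (hXK : X ≤ K) (hX : Nat.card X = p) :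
    M ⊓ normalizer (X : Set G) = K ⊔ (Cfsg.sigmaCore M ⊓ centralizer (K : Set G)) := by
  refine le_antisymm (fun m hm => ?_) (sup_le (le_inf d.hall.1 ?_) ?_)
  · obtain ⟨U, -, -, hKn, hUc, hfix⟩ := d.exists_U
    obtain ⟨e, he, y, hy, rfl⟩ := d.compl.2.2.2 m hm.1
    obtain ⟨u, hu, k, hk, rfl⟩ := hUc.2.2.2 e he
    obtain ⟨x, hx, hx1⟩ := (Subgroup.bot_or_exists_ne_one _).resolve_left
      (fun e' => (Fact.out : p.Prime).ne_one (by rw [← hX, e', Subgroup.card_bot]) : X ≠ ⊥)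
    have hkX : ∀ a ∈ X, k * a * k⁻¹ = a := fun a ha => by
      rw [← Subgroup.mem_centralizer_iff.1 (mem_centralizer_of_isCyclic d.cyclic hk) a (hXK ha)]
      group
    have hyC : y ∈ Cfsg.sigmaCore M ⊓ centralizer (X : Set G) := by
      refine ⟨hy, Subgroup.mem_centralizer_iff.2 fun a ha => ?_⟩
      have haM := d.hall.1 (hXK ha)
      have h1 := (Subgroup.mem_normalizer_iff.1 hm.2 a).1 ha
      have h2 : y * a * y⁻¹ * a⁻¹ ∈ E ⊓ Cfsg.sigmaCore M := by
        refine ⟨E.mul_mem ?_ (E.inv_mem (d.le (hXK ha))), ?_⟩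
        · have h3 := E.mul_mem (E.mul_mem (E.inv_mem he) (d.le (hXK h1))) he
          simpa [mul_assoc] using h3
        · have h3 := (Cfsg.sigmaCore M).mul_mem hy
            ((Subgroup.mem_normalizer_iff.1 (le_normalizer_sigmaCore M haM) y⁻¹).1 (inv_mem hy))
          simpa [mul_assoc] using h3
      rw [d.compl.2.2.1, Subgroup.mem_bot, mul_inv_eq_one, mul_inv_eq_iff_eq_mul] at h2
      exact h2.symm
    rw [d.inf_centralizer_eq hXK hX] at hyC
    have hu1 : u = 1 := by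
      have h1 := (Subgroup.mem_normalizer_iff.1 hm.2 x).1 hx
      have hyx : y * x * y⁻¹ = x := by
        rw [← Subgroup.mem_centralizer_iff.1 hyC.2 x (hXK hx)]; group
      rw [show u * k * y * x * (u * k * y)⁻¹ = u * (k * (y * x * y⁻¹) * k⁻¹) * u⁻¹ by group, hyx, hkX x hx] at h1
      have h2 : u * x * u⁻¹ * x⁻¹ ∈ U ⊓ K := by
        refine ⟨?_, K.mul_mem (hXK h1) (K.inv_mem (hXK hx))⟩
        have h3 := U.mul_mem hu ((Subgroup.mem_normalizer_iff.1 (hKn (hXK hx)) u⁻¹).1 (U.inv_mem hu))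
        simpa [mul_assoc] using h3
      rw [hUc.2.2.1, Subgroup.mem_bot, mul_inv_eq_one, mul_inv_eq_iff_eq_mul] at h2
      have h4 : u ∈ U ⊓ centralizer ({x} : Set G) := ⟨hu, Subgroup.mem_centralizer_singleton_iff.2 h2⟩
      rwa [hfix x (hXK hx) hx1, Subgroup.mem_bot] at h4
    rw [hu1, one_mul]
    exact Subgroup.mul_mem_sup hk hyC
  · exact fun k hk => Subgroup.centralizer_le_normalizer _
      (Subgroup.centralizer_le hXK (mem_centralizer_of_isCyclic d.cyclic hk))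
  · exact le_inf (inf_le_left.trans (sigmaCore_le M))
      ((inf_le_right.trans (Subgroup.centralizer_le hXK)).trans (Subgroup.centralizer_le_normalizer _))

theorem inf_normalizer_self {p : ℕ} [Fact p.Prime] {X : Subgroup G} (hXK : X ≤ K) (hX : Nat.card X = p) :
    M ⊓ normalizer (K : Set G) = K ⊔ (Cfsg.sigmaCore M ⊓ centralizer (K : Set G)) := by
  refine le_antisymm ?_ (sup_le (le_inf d.hall.1 Subgroup.le_normalizer)
    (le_inf (inf_le_left.trans (sigmaCore_le M)) (inf_le_right.trans (Subgroup.centralizer_le_normalizer _))))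
  rw [← d.inf_normalizer hXK hX]
  refine inf_le_inf_left M fun g hg => Coprime.mem_normalizer_of_conj_smul_eq ?_
  obtain ⟨x, hx, hx1⟩ := (Subgroup.bot_or_exists_ne_one _).resolve_left
    (fun e' => (Fact.out : p.Prime).ne_one (by rw [← hX, e', Subgroup.card_bot]) : X ≠ ⊥)
  have hxp : x ^ p = 1 := orderOf_dvd_iff_pow_eq_one.1 (hX ▸ Subgroup.orderOf_dvd_natCard X hx)
  have hXe : X = zpowers x := (Subgroup.eq_of_le_of_card_ge (Subgroup.zpowers_le.2 hx) (le_of_eq (by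
    rw [hX, card_zpowers_eq hxp hx1]))).symm
  refine Subgroup.eq_of_le_of_card_ge (fun w hw => ?_) (le_of_eq (Coprime.card_conj_smul _ _).symm)
  rw [Coprime.mem_conj_smul_iff] at hw
  have hwK : w ∈ K := by
    have h := (Subgroup.mem_normalizer_iff.1 hg (g⁻¹ * w * g)).1 (hXK hw)
    simpa [mul_assoc] using h
  rcases eq_or_ne w 1 with rfl | hw1
  · exact one_mem _
  have hwp : w ^ p = 1 := by
    have h := orderOf_dvd_iff_pow_eq_one.1 (hX ▸ Subgroup.orderOf_dvd_natCard X hw)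
    rw [show g⁻¹ * w * g = g⁻¹ * w * g⁻¹⁻¹ by rw [inv_inv], conj_pow, mul_inv_eq_one, mul_eq_left] at h
    exact h
  rw [hXe, ← zpowers_eq_of_isCyclic d.cyclic (hXK hx) hwK hxp hwp hx1 hw1]
  exact Subgroup.mem_zpowers w

/-- The maximal subgroups over `N(X)` have `p` in `σ`. -/
theorem mem_sigma_of_normalizer {p : ℕ} [Fact p.Prime] {X : Subgroup G} (hXK : X ≤ K) (hX : Nat.card X = p)
    {L : Subgroup G} (hL : IsCoatom L) (hNL : normalizer (X : Set G) ≤ L) : p ∈ Cfsg.sigma L := by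
  have hG := d.minSimple
  have hM := d.coatom
  by_contra hpL
  have hp1 : p ∈ Cfsg.tau1 M := d.kappa_eq ▸ d.hall.2.1 p Fact.out (hX ▸ Subgroup.card_dvd_of_le hXK)
  have hXM : X ≤ M := hXK.trans d.hall.1
  have hXL : X ≤ L := Subgroup.le_normalizer.trans hNL
  obtain ⟨⟨-, hr1⟩, -, -⟩ := S1409.result hG L hL p hpL X hX hNL
  have hXfix := d.fixed hXK hX
  obtain ⟨s, hs, hsd⟩ := Nat.exists_prime_and_dvd (fun e => hXfix (Subgroup.card_eq_one.1 e))
  haveI := Fact.mk hs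
  obtain ⟨y, hy⟩ := exists_prime_orderOf_dvd_card' (G := ↥(Cfsg.sigmaCore M ⊓ centralizer (X : Set G))) s hsd
  rw [← Subgroup.orderOf_coe] at hy
  have hyσ : (y : G) ∈ Cfsg.sigmaCore M := y.2.1
  have hyX : (y : G) ∈ centralizer (X : Set G) := y.2.2
  have hsM : s ∈ Cfsg.sigma M := isPiGrp_piCoreOf (Cfsg.sigma M) M s hs
    (hy ▸ Subgroup.orderOf_dvd_natCard _ hyσ)
  have huniq := d.h13.tau1_unique M hM p hp1 X hXM hX (zpowers (y : G)) (Subgroup.zpowers_le.2 y.2)
    (by rw [Nat.card_zpowers, hy]; exact hs)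
  have hyc : centralizer (zpowers (y : G) : Set G) = centralizer ({(y : G)} : Set G) := by
    rw [Subgroup.zpowers_eq_closure, Subgroup.centralizer_closure]
  rw [hyc] at huniq
  have hyL : (y : G) ∈ L := hNL (Subgroup.centralizer_le_normalizer _ hyX)
  have hsL : s ∉ Cfsg.sigma L := fun h => by
    obtain ⟨g, hg⟩ := d.h13.partition M L hM hL ⟨s, hsM, h⟩
    refine hr1 ?_
    rw [hg]
    exact pRankLE_of_injective (f := ((M.equivMapOfInjective (MulAut.conj g).toMonoidHom (MulEquiv.injective _)).symm).toMonoidHom)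
      (MulEquiv.injective _) hp1.2.2.2.2
  have hps : p ≠ s := fun e => hp1.2.1 (e ▸ hsM)
  have hdis : X ⊓ zpowers (y : G) = ⊥ := Coprime.disjoint_of_coprime_card (by
    rw [hX, Nat.card_zpowers, hy]; exact (Nat.coprime_primes Fact.out hs).2 hps)
  obtain ⟨F, hF, hXyF⟩ := exists_compl hG hL (sup_le hXL (Subgroup.zpowers_le.2 hyL)) (by
    rw [sup_comm, Coprime.card_sup_of_le_normalizer
      (Subgroup.zpowers_le.2 (Subgroup.centralizer_le_normalizer _ hyX)) (by rwa [inf_comm]),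
      hX, Nat.card_zpowers, hy]
    exact (hs.coprime_iff_not_dvd.2 (not_dvd_sigmaCore hsL)).mul_left
      ((Fact.out : p.Prime).coprime_iff_not_dvd.2 (not_dvd_sigmaCore hpL)))
  obtain ⟨B, hBF, hB, hBc⟩ := exists_square_le_compl hF hpL hr1
  obtain ⟨B₀, h⟩ := exists_exc hG hL hpL (hBF.trans hF.1) hB hBc
  have hXB : X ≤ B := fun x hx => h.mem_of_compl hF hBF (hXyF (Subgroup.mem_sup_left hx))
    (orderOf_dvd_iff_pow_eq_one.1 (hX ▸ Subgroup.orderOf_dvd_natCard X hx))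
  have hyN : (y : G) ∈ normalizer (B : Set G) :=
    h.complement_le_normalizer hF hBF (hXyF (Subgroup.mem_sup_right (Subgroup.mem_zpowers _)))
  have hBM : ¬ B ≤ M := fun hle =>
    not_pRankLE_of_elementary hB hle hBc.ge hp1.2.2.2.2
  have hyB : (y : G) ∉ centralizer (B : Set G) := fun hc => hBM fun b hb =>
    huniq.1 (Subgroup.mem_centralizer_singleton_iff.2 (Subgroup.mem_centralizer_iff.1 hc b hb))
  obtain ⟨L', hL', hBL', hne, hor⟩ := h.moving_dichotomy d.h13 hps.symm hy hyN hyB hXB hX hyX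
  have hCX : centralizer (X : Set G) ≤ L' := hor.resolve_left fun hle =>
    hBM (hBL'.trans (huniq.2 L' hL' hle).le)
  have hfpf : Cfsg.sigmaCore L ⊓ centralizer (X : Set G) = ⊥ :=
    le_bot_iff.1 (h.sigmaCore_inf_eq_bot hL' hne hBL' ▸ inf_le_inf_left _ hCX)
  by_cases hS : ∀ S : Sylow p G, ¬ IsMulCommutative (S : Subgroup G)
  · obtain ⟨-, -, hlines⟩ := S1419.result hG L hL F hF p
      ⟨Fact.out, hpL, pRankLE_two_of_not_sigma hG hL hpL, hr1⟩ hS B ⟨hBF, hB, hBc⟩
    refine (hlines X (le_sup_left.trans hXyF) hX fun e => sigmaCore_ne_bot hG hL (le_bot_iff.1 ?_)).2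
      ((Subgroup.centralizer_le_normalizer _).trans hNL)
    rw [← hfpf]
    exact le_inf le_rfl (Subgroup.le_centralizer_iff.1 (e.le.trans inf_le_right))
  · push Not at hS
    obtain ⟨S₀, hS₀⟩ := hS
    exact h.not_normalizer_le ((normalizer_le_normalizer_line hG hB hBc hXB hX hyN hyX hyB
      fun t ht htp => mem_centralizer_of_abelian_sylow hS₀ (PGroup.isPGroup_of_elementaryAbelian hB) ht htp).trans hNL)

theorem le_sigmaCore_of_normalizer {p : ℕ} [Fact p.Prime] {X : Subgroup G} (hXK : X ≤ K) (hX : Nat.card X = p)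
    {L : Subgroup G} (hL : IsCoatom L) (hNL : normalizer (X : Set G) ≤ L) : X ≤ Cfsg.sigmaCore L := by
  obtain ⟨T, hT⟩ := exists_sylow_map_ge (IsPGroup.of_card (n := 1) (by rw [hX, pow_one]))
    (Subgroup.le_normalizer.trans hNL : X ≤ L)
  exact hT.trans (sylow_le_sigmaCore d.minSimple hL (d.mem_sigma_of_normalizer hXK hX hL hNL) T)

end PData

/-- The conclusion of the frozen statement S1430. -/
theorem pMaximal_structure (hG : IsMinSimpleOddOrder G) (h13 : BG13 G) (hM : IsCoatom M) {K : Subgroup G}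
    (hK : IsPiHallOf (kappa M) K M) (hK1 : K ≠ ⊥) :
    (∀ k ∈ K, k ≠ 1 → sigmaCore M ⊓ centralizer ({k} : Set G) = (sigmaCore M ⊓ centralizer (K : Set G))) ∧
      (∃ U : Subgroup G, IsMulCommutative U ∧ IsPiHallOf {q | q.Prime ∧ q ∉ kappa M ∧ q ∉ sigma M} U M ∧
        K ≤ normalizer (U : Set G) ∧ ∀ k ∈ K, k ≠ 1 → U ⊓ centralizer ({k} : Set G) = ⊥) ∧
      ∀ X : Subgroup G, X ≤ K → (Nat.card X).Prime →
        M ⊓ normalizer (X : Set G) = K ⊔ (sigmaCore M ⊓ centralizer (K : Set G)) ∧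
        M ⊓ normalizer (K : Set G) = K ⊔ (sigmaCore M ⊓ centralizer (K : Set G)) ∧
        ∀ Mstar : Subgroup G, IsCoatom Mstar → normalizer (X : Set G) ≤ Mstar → X ≤ sigmaCore Mstar := by
  obtain ⟨E, d⟩ := exists_pData hG h13 hM hK hK1
  obtain ⟨U, hU1, hU2, hU3, -, hU5⟩ := d.exists_U
  refine ⟨fun k hk hk1 => d.primeAction hk hk1, ⟨U, hU1, hU2, hU3, hU5⟩, fun X hXK hXp => ?_⟩
  haveI := Fact.mk hXp
  exact ⟨d.inf_normalizer hXK rfl, d.inf_normalizer_self hXK rfl,
    fun L hL hle => d.le_sigmaCore_of_normalizer hXK rfl hL hle⟩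

end Cfsg.Agent.OddOrder
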