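import Cfsg.Agent.Lib.OddOrder.SigmaConj

/-!
# The results of Bender–Glauberman 13 used in section 14, as one hypothesis

`BG13 G` bundles S1424, S1427, S1428, the partition by `σ` (second half of S1378), the semiregularity of
`τ₃` and BG 13.6.
-/

set_option autoImplicit false

namespace Cfsg.Agent.OddOrder

open Cfsg
open Subgroup (centralizer normalizer zpowers)

universe u

structure BG13 (G : Type u) [Group G] [Finite G] : Prop where
  partition : SigmaPartition G
  transfer : SigmaTransfer G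
  /-- S1427 -/
  semiprime : ∀ M : Subgroup G, IsCoatom M → ∀ E : Subgroup G, IsComplIn E (sigmaCore M) M →
    ∀ (p : ℕ) [Fact p.Prime] (S : Sylow p E), (S : Subgroup E) ≠ ⊥ → IsCyclic (S : Subgroup E) →
    ∀ x ∈ (S : Subgroup E).map E.subtype, x ≠ 1 → sigmaCore M ⊓ centralizer ({x} : Set G) =
      sigmaCore M ⊓ centralizer (((S : Subgroup E).map E.subtype : Subgroup G) : Set G)
  /-- S1428 -/
  tau1_comm : ∀ M : Subgroup G, IsCoatom M → ∀ E : Subgroup G, IsComplIn E (sigmaCore M) M →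
    ∀ (p : ℕ), p ∈ tau1 M → ∀ P : Subgroup G, P ≤ E → Nat.card P = p → ∀ R : Subgroup G,
    R ≤ E ⊓ centralizer (P : Set G) → (Nat.card R).Prime →
    sigmaCore M ⊓ centralizer (P : Set G) ≤ sigmaCore M ⊓ centralizer (R : Set G)
  /-- `τ₃(M)` acts without fixed points on `M_σ`. -/
  tau3_regular : ∀ M : Subgroup G, IsCoatom M → ∀ p ∈ tau3 M, ∀ X : Subgroup G, X ≤ M → Nat.card X = p →
    sigmaCore M ⊓ centralizer (X : Set G) = ⊥
  /-- BG 13.6 -/
  tau1_unique : ∀ M : Subgroup G, IsCoatom M → ∀ p ∈ tau1 M, ∀ X : Subgroup G, X ≤ M → Nat.card X = p →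
    ∀ Y : Subgroup G, Y ≤ sigmaCore M ⊓ centralizer (X : Set G) → (Nat.card Y).Prime →
    centralizer (Y : Set G) ≤ M ∧ ∀ L : Subgroup G, IsCoatom L → centralizer (Y : Set G) ≤ L → L = M

end Cfsg.Agent.OddOrder
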