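import Cfsg.Agent.Lib.OddOrder.SigmaPairTools

/-!
# The partition of the primes by `σ` (Bender–Glauberman 13.9)

For nonconjugate `M`, `L` with a common prime `q ∈ σ(M) ∩ σ(L)` there are a Sylow `q`-subgroup `Q` of
both and an `R ≤ N(Q)` of order `r ∈ τ₁(M) ∩ τ₁(L)` without fixed points on `Q` (`SigmaPair`); on both
sides `R` then fixes a point at a prime of `β`, which is impossible (`false_of_fixed_pair`).
-/

set_option autoImplicit false
set_option linter.style.haveILetI false
set_option linter.unusedSectionVars false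

namespace Cfsg.Agent.OddOrder

open Cfsg
open Subgroup (centralizer normalizer zpowers)
open scoped Pointwise commutatorElement

universe u
variable {G : Type u} [Group G] [Finite G]

/-- The data of BG 13.9. -/
structure SigmaPair (M L Q R : Subgroup G) (q r : ℕ) : Prop where
  minSimple : IsMinSimpleOddOrder G
  coatom_left : IsCoatom M
  coatom_right : IsCoatom L
  notConj : NotConj M L
  mem_left : q ∈ sigma M
  mem_right : q ∈ sigma L
  isSyl_left : IsSyl q Q M
  isSyl_right : IsSyl q Q L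
  comm : IsMulCommutative Q
  card_R : Nat.card R = r
  tau1_left : r ∈ tau1 M
  tau1_right : r ∈ tau1 L
  R_le : R ≤ normalizer (Q : Set G)
  fpf : Q ⊓ centralizer (R : Set G) = ⊥

namespace SigmaPair

variable {M L Q R : Subgroup G} {q r : ℕ} (h : SigmaPair M L Q R q r)
include h

theorem symm : SigmaPair L M Q R q r :=
  ⟨h.minSimple, h.coatom_right, h.coatom_left, h.notConj.symm, h.mem_right, h.mem_left, h.isSyl_right,
    h.isSyl_left, h.comm, h.card_R, h.tau1_right, h.tau1_left, h.R_le, h.fpf⟩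

theorem R_le_left : R ≤ M := by
  haveI := Fact.mk h.mem_left.1
  exact h.R_le.trans (h.isSyl_left.sigma_normalizer_le h.mem_left)

theorem Q_le_sigmaCore : Q ≤ sigmaCore M := by
  haveI := Fact.mk h.mem_left.1
  obtain ⟨S, hS⟩ := id h.isSyl_left
  exact hS ▸ sylow_le_sigmaCore h.minSimple h.coatom_left h.mem_left S

theorem not_mem_alpha : q ∉ alpha M := fun ha =>
  disjoint_alpha_sigma h.minSimple h.coatom_right h.coatom_left h.notConj.symm ha h.mem_right

theorem coprime_R : (Nat.card R).Coprime (Nat.card Q) := by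
  haveI := Fact.mk h.mem_left.1
  obtain ⟨k, hk⟩ := h.isSyl_left.isPGroup.exists_card_eq
  rw [hk, h.card_R]
  exact ((Nat.coprime_primes h.tau1_left.1 h.mem_left.1).2
    fun e => h.tau1_left.2.1 (e ▸ h.mem_left)).pow_right k

theorem commutator_eq : ⁅Q, R⁆ = Q := by
  refine commutator_eq_of_fpf h.R_le h.coprime_R ?_ h.fpf
  exact h.minSimple.2.2.2 R fun e => h.coatom_left.1 (top_unique (e ▸ h.R_le_left))

theorem fixed_eq_one : ∀ l ∈ R, l ≠ 1 → ∀ u ∈ Q, l * u = u * l → u = 1 := by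
  haveI := h.comm
  exact fpf_of_commutator_eq h.R_le h.coprime_R (h.card_R ▸ h.tau1_left.1) h.commutator_eq

/-- `R` fixes a point at a prime of `β(M)` on a subgroup moved by `Q`. -/
theorem exists_side : ∃ (s : ℕ) (U Z : Subgroup G), s ∈ beta M ∧ IsPGroup s U ∧ U ≤ alphaCore M ∧
    Q ≤ normalizer (U : Set G) ∧ R ≤ normalizer (U : Set G) ∧ ¬ Q ≤ centralizer (U : Set G) ∧
    Nat.card Z = s ∧ Z ≤ M ∧ Z ≤ centralizer (R : Set G) := by
  have hG := h.minSimple
  have hM := h.coatom_left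
  haveI := Fact.mk h.mem_left.1
  set Mα := alphaCore M
  set A := R ⊔ Q
  have hQM : Q ≤ M := h.isSyl_left.le
  have hAM : A ≤ M := sup_le h.R_le_left hQM
  have hAn : A ≤ normalizer (Mα : Set G) := hAM.trans (le_normalizer_piCoreOf _ M)
  obtain ⟨j, hj⟩ := h.isSyl_left.isPGroup.exists_card_eq
  have hAc : Nat.card A = r * q ^ j := by
    rw [Coprime.card_sup_of_le_normalizer h.R_le (Coprime.disjoint_of_coprime_card h.coprime_R),
      h.card_R, hj]
  have hcop : (Nat.card A).Coprime (Nat.card Mα) := Nat.coprime_of_dvd fun l hl h1 h2 => by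
    have hla := isPiGrp_piCoreOf (alpha M) M l hl h2
    rw [hAc] at h1
    rcases hl.dvd_mul.1 h1 with h3 | h3
    · rw [(Nat.prime_dvd_prime_iff_eq hl h.tau1_left.1).1 h3] at hla
      exact h.tau1_left.2.1 (alpha_subset_sigma hG hM hla)
    · rw [(Nat.prime_dvd_prime_iff_eq hl h.mem_left.1).1 (hl.dvd_of_dvd_pow h3)] at hla
      exact h.not_mem_alpha hla
  obtain ⟨s, U, hsp, hU, hUα, hAU, hQU⟩ : ∃ (s : ℕ) (U : Subgroup G), s.Prime ∧ IsPGroup s U ∧
      U ≤ Mα ∧ A ≤ normalizer (U : Set G) ∧ ¬ Q ≤ centralizer (U : Set G) := by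
    by_contra hall
    push Not at hall
    have hα : Mα ≤ centralizer (Q : Set G) := by
      refine inf_eq_left.1 (Coprime.eq_of_forall_invariant_pgroup_le hAn hcop
        (Or.inr (Coprime.isSolvable_of_le (piCoreOf_le _ M) (isSolvable_of_coatom hG hM))) inf_le_left ?_)
      exact fun s U hs hU hUα hAU => le_inf hUα (Subgroup.le_centralizer_iff.1 (hall s U hs hU hUα hAU))
    have hMN : M ≤ normalizer (Q : Set G) := fun m hm => by
      obtain ⟨k, hk, d, hd, rfl⟩ := exists_alphaCore_mul hG hM h.mem_left h.isSyl_left hm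
      exact mul_mem (Subgroup.centralizer_le_normalizer _ (hα hk)) hd.2
    exact h.notConj.ne (eq_of_coatom_le hM h.coatom_right
      (hMN.trans (h.isSyl_right.sigma_normalizer_le h.mem_right))).symm
  haveI := Fact.mk hsp
  have hU1 : U ≠ ⊥ := fun e => hQU (e ▸ fun a _ => Subgroup.mem_centralizer_iff.2 fun u hu => by
    rw [Subgroup.mem_bot.1 hu]; simp)
  have hsd := dvd_card_of_ne_bot hU hU1 hUα
  have hsα : s ∈ alpha M := isPiGrp_piCoreOf (alpha M) M s hsp hsd
  have hsq : s ≠ q := fun e => h.not_mem_alpha (e ▸ hsα)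
  have hsb : s ∈ beta M := by
    by_contra hb
    refine hQU (le_centralizer_of_not_beta hG hM (hsd.trans (Subgroup.card_dvd_of_le (piCoreOf_le _ M))) hb
      (le_derived_of_sigma hG hM h.mem_left h.isSyl_left.isPGroup hQM) (fun hd => ?_) hU
      (hUα.trans (alphaCore_le_commutator hG hM)) (le_sup_right.trans hAU))
    exact hsq ((Nat.prime_dvd_prime_iff_eq hsp h.mem_left.1).1 (hsp.dvd_of_dvd_pow (hj ▸ hd)))
  have hfix : U ⊓ centralizer (R : Set G) ≠ ⊥ := fun e => hQU (by
    obtain ⟨k, hk⟩ := hU.exists_card_eq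
    refine le_centralizer_of_fpf_cyclic hU (C := ⊥) bot_le inferInstance (le_sup_right.trans hAU)
      (le_sup_left.trans hAU) (le_top.trans (Subgroup.normalizer_eq_top (H := (⊥ : Subgroup G))).ge)
      (le_top.trans (Subgroup.normalizer_eq_top (H := (⊥ : Subgroup G))).ge) h.R_le (hcop.coprime_dvd_left
        (Subgroup.card_dvd_of_le le_sup_right) |>.coprime_dvd_right (Subgroup.card_dvd_of_le hUα))
      (hG.2.2.2 R fun e' => hM.1 (top_unique (e' ▸ h.R_le_left))) h.coprime_R
      ((hcop.coprime_dvd_left (Subgroup.card_dvd_of_le le_sup_left)).coprime_dvd_right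
        (Subgroup.card_dvd_of_le hUα)) h.fixed_eq_one e.le h.commutator_eq)
  obtain ⟨Z, hZ, hZc⟩ := exists_le_card_prime (hU.to_le inf_le_left) hfix
  exact ⟨s, U, Z, hsb, hU, hUα, le_sup_right.trans hAU, le_sup_left.trans hAU, hQU, hZc,
    ((hZ.trans inf_le_left).trans hUα).trans (piCoreOf_le _ M), hZ.trans inf_le_right⟩

/-- No point of `M` fixed by `R` has order in `β(L)`. -/
theorem claim {t : ℕ} (ht : t ∈ beta L) {Y : Subgroup G} (hY : Nat.card Y = t)
    (hYR : Y ≤ M ⊓ centralizer (R : Set G)) : False := by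
  have hG := h.minSimple
  have hM := h.coatom_left
  have hL := h.coatom_right
  haveI := Fact.mk h.mem_left.1
  haveI := Fact.mk ht.1.1
  haveI := Fact.mk h.tau1_left.1
  obtain ⟨s, U, -, hs, hU, hUα, hQU, hRU, hne, -⟩ := h.exists_side
  haveI := Fact.mk hs.1.1
  obtain ⟨htM, htr⟩ := rank_one_of_beta hG hL hM h.notConj.symm ht
  have htq : q ≠ t := fun e => h.symm.not_mem_alpha (e ▸ ht.1)
  set K := sigmaCore M
  set A := R ⊔ Y
  have hAM : A ≤ M := sup_le h.R_le_left (hYR.trans inf_le_left)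
  have hAK : A ≤ normalizer (K : Set G) := hAM.trans (le_normalizer_sigmaCore M)
  have hKs : Group.IsSolvable K :=
    Coprime.isSolvable_of_le (piCoreOf_le _ M) (isSolvable_of_coatom hG hM)
  have hRY : R ≤ normalizer (Y : Set G) :=
    (Subgroup.le_centralizer_iff.1 (hYR.trans inf_le_right)).trans (Subgroup.centralizer_le_normalizer _)
  have hprimes : ∀ Y' : Subgroup G, Nat.card Y' = t → R ≤ normalizer (Y' : Set G) →
      ∀ l : ℕ, l.Prime → l ∣ Nat.card ↥(R ⊔ Y') → l ∉ sigma M := by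
    intro Y' hY' hn l hl hd
    have hd' := hd.trans (dvd_of_eq (Coprime.card_sup_of_le_normalizer hn
      (Coprime.disjoint_of_coprime_card (by
        rw [h.card_R, hY']
        exact (Nat.coprime_primes h.tau1_left.1 ht.1.1).2 fun e =>
          h.tau1_right.2.1 (e ▸ alpha_subset_sigma hG hL ht.1)))))
    rcases hl.dvd_mul.1 hd' with h1 | h1
    · rw [h.card_R] at h1
      exact (Nat.prime_dvd_prime_iff_eq hl h.tau1_left.1).1 h1 ▸ h.tau1_left.2.1
    · rw [hY'] at h1
      exact (Nat.prime_dvd_prime_iff_eq hl ht.1.1).1 h1 ▸ htM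
  have hcopA : (Nat.card A).Coprime (Nat.card K) := Nat.coprime_of_dvd fun l hl h1 h2 =>
    hprimes Y hY hRY l hl h1 (isPiGrp_piCoreOf (sigma M) M l hl h2)
  obtain ⟨Q₀, hQ₀⟩ := Coprime.exists_invariant_sylow hAK hcopA (Or.inr hKs) q
  obtain ⟨S, hS⟩ := h.isSyl_left.mono h.Q_le_sigmaCore (piCoreOf_le _ M)
  obtain ⟨c, hcR, hcS⟩ := Coprime.exists_centralizer_smul_sylow (le_sup_left.trans hAK)
    (hcopA.coprime_dvd_left (Subgroup.card_dvd_of_le le_sup_left)) (Or.inr hKs) Q₀ S
    (le_sup_left.trans hQ₀) (hS ▸ h.R_le)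
  set Y' := MulAut.conj (c : G) • Y
  have hY' : Nat.card Y' = t := by rw [Coprime.card_conj_smul, hY]
  have hY'Q : Y' ≤ normalizer (Q : Set G) := by
    rw [← hS, ← hcS, Sylow.coe_subgroup_smul, Coprime.map_conj_smul, normalizer_conj_smul]
    exact Subgroup.pointwise_smul_le_pointwise_smul_iff.2 (le_sup_right.trans hQ₀)
  have hY'R : Y' ≤ centralizer (R : Set G) :=
    (Subgroup.pointwise_smul_le_pointwise_smul_iff.2 (hYR.trans inf_le_right)).trans
      (Coprime.conj_smul_eq_self_of_mem (Subgroup.le_normalizer hcR)).le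
  have hY'M : Y' ≤ M :=
    (Subgroup.pointwise_smul_le_pointwise_smul_iff.2 (hYR.trans inf_le_left)).trans
      (Coprime.conj_smul_eq_self_of_mem (Subgroup.le_normalizer (piCoreOf_le _ M c.2))).le
  obtain ⟨E, hE, hRYE⟩ := exists_compl_ge hG hM (sup_le h.R_le_left hY'M)
    (hprimes Y' hY' ((Subgroup.le_centralizer_iff.1 hY'R).trans (Subgroup.centralizer_le_normalizer _)))
  have hY'L : Y' ≤ L := hY'Q.trans (h.isSyl_right.sigma_normalizer_le h.mem_right)
  have hY'c : Y' ≤ centralizer (Q : Set G) :=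
    le_centralizer_of_le_derived (p := t) hG hL htq (isPGroup_of_card_prime hY')
      (le_derived_of_sigma hG hL (alpha_subset_sigma hG hL ht.1) (isPGroup_of_card_prime hY') hY'L)
      h.isSyl_left.isPGroup h.isSyl_right.le hY'Q h.symm.not_mem_alpha
  refine hne (le_centralizer_of_fixed_line hG hM hE h.tau1_left (le_sup_left.trans hRYE) h.card_R
    (le_inf (le_sup_right.trans hRYE) hY'R) hY' htr hU hUα (Subgroup.le_centralizer_iff.1 hY'c)
    h.R_le hQU hRU ?_ h.coprime_R h.fixed_eq_one h.commutator_eq)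
  obtain ⟨i, hi⟩ := h.isSyl_left.isPGroup.exists_card_eq
  obtain ⟨k, hk⟩ := hU.exists_card_eq
  rw [hi, hk]
  exact ((Nat.coprime_primes h.mem_left.1 hs.1.1).2 fun e : q = s => h.not_mem_alpha (e ▸ hs.1)).pow i k

theorem not_exists : False := by
  obtain ⟨s, U, Z, hs, -, -, -, -, -, hZ, hZM, hZR⟩ := h.exists_side
  obtain ⟨t, U', W, ht, -, -, -, -, -, hW, hWL, hWR⟩ := h.symm.exists_side
  haveI := Fact.mk hs.1.1
  haveI := Fact.mk ht.1.1
  haveI := Fact.mk h.tau1_left.1
  exact false_of_fixed_pair h.minSimple h.coatom_left h.coatom_right h.card_R h.tau1_left.2.1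
    h.tau1_left.2.2.2.2 h.tau1_right.2.1 h.tau1_right.2.2.2.2 hs ht hZ hZM hZR hW hWL hWR
    (fun Y hY hle => h.claim ht hY hle) fun Y hY hle => h.symm.claim hs hY hle

end SigmaPair

variable (hG : IsMinSimpleOddOrder G)
include hG

/-- Nonconjugate maximal subgroups with a common prime in `σ` give the data of 13.9. -/
theorem exists_sigmaPair {M L : Subgroup G} (hM : IsCoatom M) (hL : IsCoatom L) (hn : NotConj M L)
    {q : ℕ} (hqM : q ∈ sigma M) (hqL : q ∈ sigma L) :
    ∃ (L' Q R : Subgroup G) (r : ℕ), SigmaPair M L' Q R q r := by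
  haveI := Fact.mk hqM.1
  obtain ⟨E, hE⟩ := exists_complIn hG hM
  have hcop : (Nat.card E).Coprime (Nat.card (sigmaCore M)) := Nat.coprime_of_dvd fun l hl h1 h2 =>
    not_mem_sigma_of_compl hG hM hE hl h1 (isPiGrp_piCoreOf (sigma M) M l hl h2)
  obtain ⟨P, -, hPσ, hEP⟩ := exists_sylow_sigmaCore_ge hG hM hqM (A := E) (U := ⊥)
    (compl_le_normalizer hG hE) hcop bot_le IsPGroup.of_bot (le_top.trans (Subgroup.normalizer_eq_top (H := (⊥ : Subgroup G))).ge)
  set Q := (P : Subgroup G)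
  have hQM : Q ≤ M := hPσ.trans (piCoreOf_le _ M)
  -- a conjugate of `L` with the Sylow subgroup `Q`
  obtain ⟨S⟩ : Nonempty (Sylow q L) := inferInstance
  obtain ⟨P', hP'⟩ := sigma_sylow_eq hqL S
  obtain ⟨g, hg⟩ := MulAction.exists_smul_eq G P' P
  set L' := MulAut.conj g • L
  have hL' : IsCoatom L' := isCoatom_conj hL g
  have hn' : NotConj M L' := fun k hk => hn (g⁻¹ * k) (by
    rw [← Coprime.conj_smul_smul, ← hk, Coprime.conj_smul_smul, inv_mul_cancel, map_one, one_smul])
  have hqL' : q ∈ sigma L' := by rwa [sigma_conj]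
  have hQL : Q ≤ L' := by
    show (P : Subgroup G) ≤ _
    rw [← hg, Sylow.coe_subgroup_smul, hP']
    exact Subgroup.pointwise_smul_le_pointwise_smul_iff.2 (Subgroup.map_subtype_le _)
  have hsylM : IsSyl q Q M := by
    refine ⟨P.subtype hQM, ?_⟩
    rw [Sylow.coe_subtype, Subgroup.map_subgroupOf_eq_of_le hQM]
  have hsylL : IsSyl q Q L' := by
    refine ⟨P.subtype hQL, ?_⟩
    rw [Sylow.coe_subtype, Subgroup.map_subgroupOf_eq_of_le hQL]
  have hab : IsMulCommutative Q := by
    by_contra hna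
    exact hn'.ne ((S1422.result hG q Q P.2 hna).unique ⟨hL', hQL⟩ ⟨hM, hQM⟩)
  have hqaM : q ∉ alpha M := fun ha => disjoint_alpha_sigma hG hL' hM hn'.symm ha hqL'
  have hEL : E ≤ L' := hEP.trans (hsylL.sigma_normalizer_le hqL')
  have hQ1 : Q ≠ ⊥ := P.ne_bot_of_dvd_card (hqM.2.1.trans M.card_subgroup_dvd_card)
  -- `E` moves `Q`
  have hmove : ¬ E ≤ centralizer (Q : Set G) := fun hle => by
    obtain ⟨X, hXQ, hX⟩ := exists_le_card_prime P.2 hQ1
    have hXd : X ≤ ⁅sigmaCore M, sigmaCore M⁆ :=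
      (le_inf (hXQ.trans hPσ) (hXQ.trans (Subgroup.le_centralizer_iff.1 hle))).trans
        (S1426.result hG M hM E hE).1
    obtain ⟨R', hR'σ, hXR'⟩ := exists_sylow_derived_ge hG hM hqM (fun hb => hqaM hb.1)
      (isPGroup_of_card_prime hX) hXd
    obtain ⟨a, ha⟩ := MulAction.exists_smul_eq G P R'
    have hR'ab : IsMulCommutative (R' : Subgroup G) := by
      rw [← ha, Sylow.coe_subgroup_smul]
      haveI := hab
      exact Subgroup.map_isMulCommutative Q (MulAut.conj a).toMonoidHom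
    have h0 : ⁅(R' : Subgroup G), (R' : Subgroup G)⁆ = ⊥ := by
      rw [Subgroup.commutator_eq_bot_iff_le_centralizer]
      haveI := hR'ab
      exact fun x hx => Subgroup.mem_centralizer_iff.2 fun y hy => setLike_mul_comm hy hx
    exact ne_bot_of_card_prime hX (le_bot_iff.1 (hXR'.trans h0.le))
  -- a prime moving `Q`
  obtain ⟨r, hr, hrd, T, hT⟩ : ∃ (r : ℕ) (_ : r.Prime), r ∣ Nat.card E ∧ ∃ T : Sylow r E,
      ¬ (T : Subgroup E).map E.subtype ≤ centralizer (Q : Set G) := by
    by_contra hc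
    push Not at hc
    exact hmove (le_of_forall_sylow fun r hr hd T => hc r hr hd T)
  haveI := Fact.mk hr
  set T' := (T : Subgroup E).map E.subtype
  have hT'E : T' ≤ E := Subgroup.map_subtype_le _
  have hrM : r ∉ sigma M := not_mem_sigma_of_compl hG hM hE hr hrd
  have hrL : r ∈ tau1 L' := by
    by_contra ht
    exact hT ((le_centralizer_inter hG hM hL' hn' hrM (T.2.map _) (hT'E.trans hE.1) (hT'E.trans hEL) ht).trans
      (Subgroup.centralizer_le (le_inf hPσ hQL)))
  have hrM1 : r ∈ tau1 M := by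
    by_contra ht
    obtain ⟨S₀, hS₀⟩ := id hsylL
    exact hT ((le_centralizer_inter hG hL' hM hn'.symm hrL.2.1 (T.2.map _) (hT'E.trans hEL)
      (hT'E.trans hE.1) ht).trans
      (Subgroup.centralizer_le (le_inf (hS₀ ▸ sylow_le_sigmaCore hG hL' hqL' S₀) hQM)))
  have hT1 : T' ≠ ⊥ := fun e =>
    T.ne_bot_of_dvd_card hrd ((Subgroup.map_eq_bot_iff_of_injective _ E.subtype_injective).1 e)
  obtain ⟨R, hRT, hR⟩ := exists_le_card_prime (T.2.map _) hT1
  have hRE : R ≤ E := hRT.trans hT'E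
  have hTc : IsCyclic T' := isCyclic_of_rank_one hG hrM1.2.2.2.2 (hT'E.trans hE.1) (T.2.map _)
  have hTc0 : IsCyclic (T : Subgroup E) :=
    haveI := hTc
    isCyclic_of_injective ((T : Subgroup E).equivMapOfInjective _ E.subtype_injective).toMonoidHom
      (MulEquiv.injective _)
  have hne : ¬ R ≤ centralizer (Q : Set G) := fun hle => by
    obtain ⟨x, -, hx1, rfl⟩ := exists_eq_zpowers hR
    have e := S1427.result hG M hM E hE r T (T.ne_bot_of_dvd_card hrd) hTc0 x
      (hRT (Subgroup.mem_zpowers x)) hx1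
    have h1 : Q ≤ sigmaCore M ⊓ centralizer ({x} : Set G) := le_inf hPσ
      ((Subgroup.le_centralizer_iff.1 hle).trans
        (Subgroup.centralizer_le (Set.singleton_subset_iff.2 (Subgroup.mem_zpowers x))))
    rw [e] at h1
    exact hT (Subgroup.le_centralizer_iff.1 (h1.trans inf_le_right))
  refine ⟨L', Q, R, r, hG, hM, hL', hn', hqM, hqL', hsylM, hsylL, hab, hR, hrM1, hrL,
    hRE.trans hEP, ?_⟩
  by_contra hfix
  obtain ⟨Y, hY, hYc⟩ := exists_le_card_prime (P.2.to_le inf_le_left) hfix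
  obtain ⟨S₀, hS₀⟩ := id hsylL
  have h1 := tau1_unique hG hM hrM1 (hRE.trans hE.1) hR
    (le_inf ((hY.trans inf_le_left).trans hPσ) (hY.trans inf_le_right)) (hYc ▸ hqM.1)
  have h2 := tau1_unique hG hL' hrL (hRE.trans hEL) hR
    (le_inf ((hY.trans inf_le_left).trans (hS₀.ge.trans (sylow_le_sigmaCore hG hL' hqL' S₀)))
      (hY.trans inf_le_right)) (hYc ▸ hqM.1)
  exact hn'.ne (h1.2 L' hL' h2.1)

/-- BG 13.9: `σ` separates the classes of maximal subgroups. -/
theorem sigmaPartition : SigmaPartition G := by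
  intro M N hM hN hne
  by_contra h
  push Not at h
  obtain ⟨q, hqM, hqN⟩ := hne
  obtain ⟨L', Q, R, r, hp⟩ := exists_sigmaPair hG hM hN (fun g hg => h g hg) hqM hqN
  exact hp.not_exists

end Cfsg.Agent.OddOrder
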