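import Cfsg.Agent.Lib.OddOrder.Members
import Cfsg.Agent.Lib.OddOrder.Partition
import Cfsg.Agent.S1424

/-!
# Counting the supports of a system of maximal subgroups through a common subgroup

`MemberSystem Z mem`: maximal subgroups `H` containing `Z` with `|H| |H_σ ∩ Z| = |H_σ| |Z|`, with
disjoint `σ`, meeting pairwise in `Z`, covering the primes of `|Z|` and controlling the normalizers of
the lines of `H_σ ∩ Z`. None exists: the sets `(x R(x))` over the conjugates of the members and the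
conjugates of the elements of `Z` outside all `H_σ` are disjoint and too many.
-/

set_option autoImplicit false
set_option linter.unusedSectionVars false
set_option linter.style.haveILetI false

namespace Cfsg.Agent.OddOrder.SupportCount

open Cfsg
open Subgroup (centralizer normalizer zpowers)
open scoped Pointwise

universe u
variable {G : Type u} [Group G] [Finite G]

theorem supportR_eq_bot {N : Subgroup G} {y : G} (h : centralizer ({y} : Set G) ≤ N) :
    supportR N y = ⊥ := by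
  unfold supportR
  rw [dif_neg fun hh => hh.1 h]

theorem conj_le_of_mem {Z X : Subgroup G} {z a : G} (hX : X ≤ zpowers z) (hz : a * z * a⁻¹ ∈ Z) :
    MulAut.conj a • X ≤ Z := by
  intro w hw
  rw [Coprime.mem_conj_smul_iff] at hw
  obtain ⟨i, hi⟩ := hX hw
  have h : w = (a * z * a⁻¹) ^ i := by rw [conj_zpow, show z ^ i = a⁻¹ * w * a from hi]; group
  rw [h]
  exact Z.zpow_mem hz i

variable (hG : IsMinSimpleOddOrder G)
include hG

theorem sigmaTransfer : SigmaTransfer G :=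
  fun M hM q _ hq X hX hX1 hXM L hL hne hN S hS =>
    S1424.result hG M hM q hq X hX hX1 hXM L hL hne hN S hS

/-- The conjugates of `M` through `y ∈ M_σ#` are the transforms of `M` by `R(y)`. -/
theorem exists_supportR_conj {M C : Subgroup G} (hM : IsCoatom M) (hC : IsCoatom C) {y : G}
    (hy : y ∈ sigmaCore M) (hyC : y ∈ sigmaCore C) (hy1 : y ≠ 1) :
    ∃ r ∈ supportR M y, MulAut.conj r • M = C := by
  obtain ⟨p, hp, hpd⟩ := Nat.exists_prime_and_dvd (fun e => hy1 (orderOf_eq_one_iff.1 e))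
  obtain ⟨g, hg⟩ := sigmaPartition hG M C hM hC
    ⟨p, isPiGrp_piCoreOf (sigma M) M p hp (hpd.trans (Subgroup.orderOf_dvd_natCard _ hy)),
      isPiGrp_piCoreOf (sigma C) C p hp (hpd.trans (Subgroup.orderOf_dvd_natCard _ hyC))⟩
  obtain ⟨hcop, R, hRn, hRc, hR⟩ :=
    supporting_transitive hG (sigmaPartition hG) (sigmaTransfer hG) hM hy hy1
  obtain ⟨r, ⟨hrR, hr⟩, -⟩ := hR g (hg ▸ sigmaCore_le C hyC)
  refine ⟨r, ?_, hr.trans hg.symm⟩
  set Cy := centralizer ({y} : Set G)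
  by_cases hyM : Cy ≤ M
  · have h0 : R = ⊥ := le_bot_iff.1 (hRc.2.2.1 ▸ le_inf (le_inf (hRc.2.1.trans hyM) hRc.2.1) le_rfl)
    rw [h0, Subgroup.mem_bot] at hrR
    rw [hrR]
    exact one_mem _
  obtain ⟨N, hN⟩ := exists_supporting hG (sigmaPartition hG) (sigmaTransfer hG) hM hy hy1 hyM
  have hex : ∃! L : Subgroup G, IsCoatom L ∧ Cy ≤ L :=
    ⟨N, ⟨hN.coatom, hN.centralizer_le⟩, fun L hL => hN.unique L hL.1 hL.2⟩
  unfold supportR
  rw [dif_pos ⟨hyM, hex⟩]
  have hc := Classical.choose_spec hex.exists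
  rw [hN.unique _ hc.1 hc.2]
  set R' := sigmaCore N ⊓ Cy with hR'
  suffices r ∈ R' from ⟨sigmaCore_le_fittingHallOf hG hN.coatom hN.nilpotent this.1, this.2⟩
  haveI : (R'.subgroupOf Cy).Normal := (Subgroup.normal_subgroupOf_iff_le_normalizer inf_le_right).2
    (Coprime.le_normalizer_inf_of_le (hN.centralizer_le.trans (le_normalizer_sigmaCore N)) Subgroup.le_normalizer)
  refine Subgroup.mem_subgroupOf.1 (mem_of_coprime_index (x := (⟨r, hRc.2.1 hrR⟩ : Cy)) (N := R'.subgroupOf Cy) ?_)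
  have h1 := Subgroup.relIndex_mul_relIndex ⊥ R' Cy bot_le inf_le_right
  rw [Subgroup.relIndex_bot_left, Subgroup.relIndex_bot_left, ← card_eq_of_isComplIn hN.complCent,
    mul_comm (Nat.card ↥(M ⊓ Cy))] at h1
  have hidx : (R'.subgroupOf Cy).index = Nat.card ↥(M ⊓ Cy) := Nat.eq_of_mul_eq_mul_left Nat.card_pos h1
  have h2 := Subgroup.relIndex_mul_relIndex ⊥ (M ⊓ Cy) Cy bot_le inf_le_right
  rw [Subgroup.relIndex_bot_left, Subgroup.relIndex_bot_left, ← card_eq_of_isComplIn hRc] at h2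
  rw [Nat.eq_of_mul_eq_mul_left Nat.card_pos h2] at hcop
  rw [hidx, ← Subgroup.orderOf_coe]
  exact hcop.symm.coprime_dvd_left (Subgroup.orderOf_dvd_natCard _ hrR)

theorem exists_supporting_of_ne_one {M : Subgroup G} (hM : IsCoatom M) {x r : G}
    (hx : x ∈ sigmaCore M) (hx1 : x ≠ 1) (hr : r ∈ supportR M x) (hr1 : r ≠ 1) :
    ∃ N : Subgroup G, Supporting M x N ∧ r ∈ sigmaCore N ⊓ centralizer ({x} : Set G) := by
  unfold supportR at hr
  split_ifs at hr with h
  · obtain ⟨N, hN⟩ := exists_supporting hG (sigmaPartition hG) (sigmaTransfer hG) hM hx hx1 h.1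
    have hc := Classical.choose_spec h.2.exists
    rw [hN.unique _ hc.1 hc.2] at hr
    exact ⟨N, hN, fittingHallOf_le_sigmaCore hG hN.coatom hr.1, hr.2⟩
  · exact absurd (Subgroup.mem_bot.1 hr) hr1

/-- `x` is the `σ(M)`-part of `x r`. -/
theorem parts {M : Subgroup G} (hM : IsCoatom M) {x r : G}
    (hx : x ∈ sigmaCore M) (hx1 : x ≠ 1) (hr : r ∈ supportR M x) :
    Commute x r ∧ (∀ p : ℕ, p.Prime → p ∣ orderOf x → p ∈ sigma M) ∧
      (∀ p : ℕ, p.Prime → p ∣ orderOf r → p ∉ sigma M) := by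
  have hxs : ∀ p : ℕ, p.Prime → p ∣ orderOf x → p ∈ sigma M :=
    primes_of_mem (isPiGrp_piCoreOf (sigma M) M) hx
  rcases eq_or_ne r 1 with rfl | hr1
  · exact ⟨Commute.one_right x, hxs, fun p hp hd => absurd (orderOf_one (G := G) ▸ hd) hp.not_dvd_one⟩
  obtain ⟨N, hN, hrN⟩ := exists_supporting_of_ne_one hG hM hx hx1 hr hr1
  refine ⟨(Subgroup.mem_centralizer_singleton_iff.1 hrN.2).symm, hxs, fun p hp hpd hpM => ?_⟩
  obtain ⟨g, hg⟩ := sigmaPartition hG M N hM hN.coatom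
    ⟨p, hpM, isPiGrp_piCoreOf (sigma N) N p hp (hpd.trans (Subgroup.orderOf_dvd_natCard _ hrN.1))⟩
  obtain ⟨q, hq, hqd⟩ := Nat.exists_prime_and_dvd (fun e => hx1 (orderOf_eq_one_iff.1 e))
  refine (hN.tau2 q hq hqd).2.1 ?_
  rw [show N = MulAut.conj g • M from hg, sigma_conj]
  exact hxs q hq hqd

/-- The sets `x R(x)` are disjoint. -/
theorem disjoint {M N : Subgroup G} (hM : IsCoatom M) (hN : IsCoatom N) {x y : G}
    (hx : x ∈ sigmaCore M) (hy : y ∈ sigmaCore N) (hx1 : x ≠ 1) (hy1 : y ≠ 1)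
    (hxy : x ≠ y) : ∀ r ∈ supportR M x, ∀ s ∈ supportR N y, x * r ≠ y * s := by
  intro r hr s hs heq
  obtain ⟨hxr, hxM, hrM⟩ := parts hG hM hx hx1 hr
  obtain ⟨hys, hyN, hsN⟩ := parts hG hN hy hy1 hs
  by_cases hint : (sigma M ∩ sigma N).Nonempty
  · obtain ⟨g, hg⟩ := sigmaPartition hG M N hM hN hint
    have he : sigma N = sigma M := by rw [show N = MulAut.conj g • M from hg, sigma_conj]
    exact hxy (piPart_unique hxr hys hxM hrM (he ▸ hyN) (he ▸ hsN) heq).1
  have h1 : y ∈ zpowers (y * s) :=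
    mem_zpowers_mul_of_coprime hys (Nat.coprime_of_dvd fun l hl h1 h2 => hsN l hl h2 (hyN l hl h1))
  rw [← heq] at h1
  obtain ⟨p, hp, hpd⟩ := Nat.exists_prime_and_dvd (fun e => hy1 (orderOf_eq_one_iff.1 e))
  have hr1 : r ≠ 1 := by
    rintro rfl
    rw [mul_one] at h1
    exact hint ⟨p, hxM p hp (hpd.trans (orderOf_dvd_of_mem_zpowers h1)), hyN p hp hpd⟩
  obtain ⟨Nx, hNx, hrNx⟩ := exists_supporting_of_ne_one hG hM hx hx1 hr hr1
  have hint' : (sigma Nx ∩ sigma N).Nonempty := by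
    have h2 := (hpd.trans (orderOf_dvd_of_mem_zpowers h1)).trans hxr.orderOf_mul_dvd_mul_orderOf
    rcases hp.dvd_mul.1 h2 with h | h
    · exact absurd ⟨p, hxM p hp h, hyN p hp hpd⟩ hint
    · exact ⟨p, isPiGrp_piCoreOf (sigma Nx) Nx p hp (h.trans (Subgroup.orderOf_dvd_natCard _ hrNx.1)),
        hyN p hp hpd⟩
  obtain ⟨g, hg⟩ := sigmaPartition hG Nx N hNx.coatom hN hint'
  have he : sigma N = sigma Nx := by rw [show N = MulAut.conj g • Nx from hg, sigma_conj]
  obtain ⟨hry, hxs⟩ := piPart_unique hxr.symm hys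
    (fun p hp hpd => he ▸ isPiGrp_piCoreOf (sigma Nx) Nx p hp (hpd.trans (Subgroup.orderOf_dvd_natCard _ hrNx.1)))
    (fun p hp hpd hs' => hint ⟨p, hxM p hp hpd, hs'⟩) hyN hsN (hxr.eq.symm.trans heq)
  subst hry
  subst hxs
  obtain ⟨Ny, hNy, hxNy⟩ := exists_supporting_of_ne_one hG hN hy hr1 hs hx1
  obtain ⟨b, hb⟩ := sigmaPartition hG M Ny hM hNy.coatom (by
    obtain ⟨p, hp, hpd⟩ := Nat.exists_prime_and_dvd (fun e => hx1 (orderOf_eq_one_iff.1 e))
    exact ⟨p, hxM p hp hpd,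
      isPiGrp_piCoreOf (sigma Ny) Ny p hp (hpd.trans (Subgroup.orderOf_dvd_natCard _ hxNy.1))⟩)
  obtain ⟨hcop, R, hRn, hRc, hR⟩ :=
    supporting_transitive hG (sigmaPartition hG) (sigmaTransfer hG) hM hx hx1
  obtain ⟨r', ⟨hr'R, hr'⟩, -⟩ := hR b (hb ▸ sigmaCore_le Ny hxNy.1)
  have hrNy : r ∈ M.map (MulAut.conj r').toMonoidHom := by
    rw [hr', ← hb]
    exact hNy.centralizer_le (Subgroup.mem_centralizer_singleton_iff.2 rfl)
  have hrR : r ∈ R := by
    haveI : ((R.subgroupOf (centralizer ({x} : Set G)))).Normal :=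
      (Subgroup.normal_subgroupOf_iff_le_normalizer hRc.2.1).2 hRn
    refine Subgroup.mem_subgroupOf.1 (mem_of_coprime_index (x := (⟨r, hrNx.2⟩ : centralizer ({x} : Set G)))
      (N := R.subgroupOf (centralizer ({x} : Set G))) ?_)
    have hidx : (R.subgroupOf (centralizer ({x} : Set G))).index = Nat.card ↥(M ⊓ centralizer ({x} : Set G)) := by
      have h1 := Subgroup.relIndex_mul_relIndex ⊥ R (centralizer ({x} : Set G)) bot_le hRc.2.1
      rw [Subgroup.relIndex_bot_left, Subgroup.relIndex_bot_left, ← card_eq_of_isComplIn hRc, mul_comm] at h1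
      exact Nat.eq_of_mul_eq_mul_right Nat.card_pos h1
    rw [hidx, ← Subgroup.orderOf_coe]
    exact Nat.coprime_of_dvd fun l hl h1 h2 => not_mem_sigma_of_compl hG hNx.coatom hNx.compl hl
      (h2.trans (Subgroup.card_dvd_of_le (le_inf inf_le_left (inf_le_right.trans hNx.centralizer_le))))
      (isPiGrp_piCoreOf (sigma Nx) Nx l hl (h1.trans (Subgroup.orderOf_dvd_natCard _ hrNx.1)))
  obtain ⟨m, hm, hmr⟩ := hrNy
  refine hr1 (Subgroup.mem_bot.1 ?_)
  rw [← hRc.2.2.1]
  have hmR : m ∈ R := by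
    have h2 : m = r'⁻¹ * r * r' := by rw [← hmr]; simp [mul_assoc]
    rw [h2]
    exact R.mul_mem (R.mul_mem (R.inv_mem hr'R) hrR) hr'R
  have h3 : m ∈ (M ⊓ centralizer ({x} : Set G)) ⊓ R := ⟨⟨hm, hRc.2.1 hmR⟩, hmR⟩
  rw [hRc.2.2.1, Subgroup.mem_bot] at h3
  rw [hRc.2.2.1, Subgroup.mem_bot, ← hmr, h3, map_one]

omit hG

/-- A system of maximal subgroups through `Z`. -/
structure MemberSystem (Z : Subgroup G) (mem : Set (Subgroup G)) : Prop where
  minSimple : IsMinSimpleOddOrder G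
  coatom : ∀ H ∈ mem, IsCoatom H
  le : ∀ H ∈ mem, Z ≤ H
  card_eq : ∀ H ∈ mem, Nat.card H * Nat.card ↥(sigmaCore H ⊓ Z) = Nat.card (sigmaCore H) * Nat.card Z
  eq_of_sigma : ∀ H ∈ mem, ∀ H' ∈ mem, ∀ q : ℕ, q ∈ sigma H → q ∈ sigma H' → H = H'
  inter : ∀ H ∈ mem, ∀ H' ∈ mem, H ≠ H' → H ⊓ H' ≤ Z
  exists_member : ∀ q : ℕ, q.Prime → q ∣ Nat.card Z → ∃ H ∈ mem, q ∈ sigma H
  normalizer_le : ∀ H ∈ mem, ∀ X : Subgroup G, X ≤ sigmaCore H ⊓ Z → (Nat.card X).Prime →
    normalizer (X : Set G) ≤ H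
  exists_two : ∃ H ∈ mem, ∃ H' ∈ mem, H ≠ H'

/-- The elements of `Z` outside the `σ`-cores of all members. -/
def outside (Z : Subgroup G) (mem : Set (Subgroup G)) : Set G :=
  {z | z ∈ Z ∧ ∀ H ∈ mem, z ∉ sigmaCore H}

namespace MemberSystem

variable {Z : Subgroup G} {mem : Set (Subgroup G)} (S : MemberSystem Z mem)
include S

theorem ne_one_of_mem {z : G} (hz : z ∈ outside Z mem) : z ≠ 1 := by
  obtain ⟨H, hH, -⟩ := S.exists_two
  exact fun e => hz.2 H hH (e ▸ one_mem _)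

theorem mem_sigmaCore {H : Subgroup G} (hH : H ∈ mem) {z : G} (hz : z ∈ Z)
    (h : ∀ p : ℕ, p.Prime → p ∣ orderOf z → p ∈ sigma H) : z ∈ sigmaCore H :=
  le_sigmaCore_of_isPiGrp S.minSimple (S.coatom H hH) (Subgroup.zpowers_le.2 (S.le H hH hz))
    (fun p hp hd => h p hp (by rwa [Nat.card_zpowers] at hd)) (Subgroup.mem_zpowers z)

/-- An element moving a line of `H_σ ∩ Z` into `H` lies in `H`. -/
theorem mem_of_line {H : Subgroup G} (hH : H ∈ mem) {X : Subgroup G} {q : ℕ} [Fact q.Prime]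
    (hq : q ∈ sigma H) (hX : X ≤ sigmaCore H ⊓ Z) (hXc : Nat.card X = q) {a : G}
    (ha : MulAut.conj a • X ≤ H) : a ∈ H := by
  obtain ⟨m, hm, c, hc, rfl⟩ := (S1404.result S.minSimple H (S.coatom H hH) q hq X
    (isPGroup_of_card_prime hXc) (ne_bot_of_card_prime hXc)
    ((hX.trans inf_le_left).trans (sigmaCore_le H))).1 a ha
  exact mul_mem hm (S.normalizer_le H hH X hX (hXc ▸ Fact.out) (Subgroup.centralizer_le_normalizer _ hc))

/-- The outside elements form a TI set with normalizer in `Z`. -/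
theorem mem_of_conj {z : G} (hz : z ∈ outside Z mem) {a : G} (ha : a * z * a⁻¹ ∈ Z) : a ∈ Z := by
  obtain ⟨q, hq, hqd⟩ := Nat.exists_prime_and_dvd (fun e => S.ne_one_of_mem hz (orderOf_eq_one_iff.1 e))
  obtain ⟨H, hH, hqH⟩ := S.exists_member q hq (hqd.trans (Subgroup.orderOf_dvd_natCard Z hz.1))
  have hex : ∃ q' : ℕ, q'.Prime ∧ q' ∣ orderOf z ∧ q' ∉ sigma H := by
    by_contra h
    push Not at h
    exact hz.2 H hH (S.mem_sigmaCore hH hz.1 h)
  obtain ⟨q', hq', hqd', hqH'⟩ := hex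
  obtain ⟨H', hH', hq'H⟩ := S.exists_member q' hq' (hqd'.trans (Subgroup.orderOf_dvd_natCard Z hz.1))
  have key : ∀ (K : Subgroup G), K ∈ mem → ∀ l : ℕ, l.Prime → l ∣ orderOf z → l ∈ sigma K → a ∈ K := by
    intro K hK l hl hd hlK
    haveI := Fact.mk hl
    obtain ⟨X, hXz, hX⟩ := exists_card_le_zpowers hd
    have hXZ : X ≤ Z := hXz.trans (Subgroup.zpowers_le.2 hz.1)
    refine S.mem_of_line hK hlK (le_inf (fun w hw => ?_) hXZ) hX ((conj_le_of_mem hXz ha).trans (S.le K hK))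
    exact S.mem_sigmaCore hK (hXZ hw) fun p hp hpd =>
      (Nat.prime_dvd_prime_iff_eq hp hl).1 (hpd.trans (hX ▸ Subgroup.orderOf_dvd_natCard X hw)) ▸ hlK
  have hne : H ≠ H' := fun e => hqH' (e ▸ hq'H)
  exact S.inter H hH H' hH' hne ⟨key H hH q hq hqd hqH, key H' hH' q' hq' hqd' hq'H⟩

/-- No outside element is conjugate to some `y r`, `y ∈ N_σ#`, `r ∈ R(y)`. -/
theorem not_support {N : Subgroup G} (hN : IsCoatom N) {y r : G} (hy : y ∈ sigmaCore N) (hy1 : y ≠ 1)
    (hr : r ∈ supportR N y) {z : G} (hz : z ∈ outside Z mem) {a : G} (h : a * z * a⁻¹ = y * r) : False := by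
  have hG := S.minSimple
  obtain ⟨hyr, hyN, hrN⟩ := parts hG hN hy hy1 hr
  have hypow : y ∈ zpowers (a * z * a⁻¹) := h ▸
    mem_zpowers_mul_of_coprime hyr (Nat.coprime_of_dvd fun l hl h1 h2 => hrN l hl h2 (hyN l hl h1))
  obtain ⟨i, hi⟩ := hypow
  have hi' : y = a * z ^ i * a⁻¹ := hi.symm.trans conj_zpow
  have hy0Z : z ^ i ∈ Z := Z.zpow_mem hz.1 i
  have hord : orderOf (z ^ i) = orderOf y := by
    rw [hi']
    exact ((MulEquiv.orderOf_eq (MulAut.conj a) (z ^ i))).symm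
  obtain ⟨p, hp, hpd⟩ := Nat.exists_prime_and_dvd (fun e => hy1 (orderOf_eq_one_iff.1 e))
  haveI := Fact.mk hp
  obtain ⟨H, hH, hpH⟩ := S.exists_member p hp ((hord.symm ▸ hpd).trans (Subgroup.orderOf_dvd_natCard Z hy0Z))
  obtain ⟨g, hg⟩ := sigmaPartition hG H (MulAut.conj a⁻¹ • N) (S.coatom H hH) (isCoatom_conj hN _)
    ⟨p, hpH, by rw [sigma_conj]; exact hyN p hp hpd⟩
  have hs : sigma H = sigma N := by
    have h1 := sigma_conj a⁻¹ N
    rw [hg, show H.map (MulAut.conj g).toMonoidHom = MulAut.conj g • H from rfl, sigma_conj] at h1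
    exact h1
  have hyH : z ^ i ∈ sigmaCore H :=
    S.mem_sigmaCore hH hy0Z fun l hl hld => hs ▸ hyN l hl (hord ▸ hld)
  obtain ⟨X, hXz, hX⟩ := exists_card_le_zpowers (x := z ^ i) (hord.symm ▸ hpd)
  have hXH : X ≤ sigmaCore H ⊓ Z := hXz.trans (Subgroup.zpowers_le.2 ⟨hyH, hy0Z⟩)
  have hXN : MulAut.conj g⁻¹ • X ≤ H := by
    intro w hw
    rw [Coprime.mem_conj_smul_iff, inv_inv] at hw
    have h1 : g * w * g⁻¹ ∈ MulAut.conj a⁻¹ • N := by
      have hzi : z ^ i ∈ MulAut.conj a⁻¹ • N := by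
        rw [Coprime.mem_conj_smul_iff, inv_inv, ← hi']
        exact sigmaCore_le N hy
      exact Subgroup.zpowers_le.2 hzi (hXz hw)
    rw [hg, show H.map (MulAut.conj g).toMonoidHom = MulAut.conj g • H from rfl,
      Coprime.mem_conj_smul_iff] at h1
    simpa [mul_assoc] using h1
  have hgH : g ∈ H := inv_mem_iff.1 (S.mem_of_line hH hpH hXH hX hXN)
  have hNH : MulAut.conj a⁻¹ • N = H :=
    hg.trans (Coprime.conj_smul_eq_self_of_mem (Subgroup.le_normalizer hgH))
  have hCle : centralizer ({z ^ i} : Set G) ≤ H := le_trans (by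
    rw [← Subgroup.centralizer_closure, ← Subgroup.zpowers_eq_closure]
    exact Subgroup.centralizer_le hXz)
    ((Subgroup.centralizer_le_normalizer _).trans (S.normalizer_le H hH X hXH (hX ▸ hp)))
  have hCy : centralizer ({y} : Set G) ≤ N := fun w hw => by
    have h1 : a⁻¹ * w * a ∈ centralizer ({z ^ i} : Set G) := by
      refine Subgroup.mem_centralizer_singleton_iff.2 ?_
      have h2 := Subgroup.mem_centralizer_singleton_iff.1 hw
      rw [hi'] at h2
      have h3 := congrArg (fun t => a⁻¹ * t * a) h2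
      simpa [mul_assoc] using h3
    have h4 := hCle h1
    rw [← hNH, Coprime.mem_conj_smul_iff] at h4
    simpa [mul_assoc] using h4
  rw [supportR_eq_bot hCy, Subgroup.mem_bot] at hr
  rw [hr, mul_one] at h
  refine hz.2 H hH ?_
  have hzi : z ^ i = z := by
    rw [hi'] at h
    exact (mul_left_cancel (mul_right_cancel h)).symm
  exact hzi ▸ hyH

/-- There is no member system. -/
theorem not_exists : False := by
  classical
  have hG := S.minSimple
  letI : Fintype (Subgroup G) := Fintype.ofFinite _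
  set s : Finset (Subgroup G) := Finset.univ.filter fun H => H ∈ mem with hs
  have hmem : ∀ L : s, L.1 ∈ mem := fun L => (Finset.mem_filter.1 L.2).2
  set T := outside Z mem
  let base : G → Subgroup G := fun y =>
    if h : ∃ C' : Subgroup G, IsCoatom C' ∧ y ∈ sigmaCore C' then h.choose else ⊥
  have hbase' : ∀ y : G, ∀ C : Subgroup G, IsCoatom C → y ∈ sigmaCore C →
      IsCoatom (base y) ∧ y ∈ sigmaCore (base y) := fun y C h1 h2 => by
    have h : ∃ C' : Subgroup G, IsCoatom C' ∧ y ∈ sigmaCore C' := ⟨C, h1, h2⟩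
    simp only [base, dif_pos h]
    exact h.choose_spec
  let B := Σ L : s, (G ⧸ L.1) × {x : G // x ∈ sigmaCore L.1 ∧ x ≠ 1}
  let yB : B → G := fun b => b.2.1.out * b.2.2.1 * b.2.1.out⁻¹
  let CB : B → Subgroup G := fun b => MulAut.conj b.2.1.out • b.1.1
  have hCB : ∀ b : B, IsCoatom (CB b) ∧ yB b ∈ sigmaCore (CB b) ∧ yB b ≠ 1 := fun b => by
    refine ⟨isCoatom_conj (S.coatom _ (hmem b.1)) _, ?_, fun e => b.2.2.2.2 ?_⟩
    · show yB b ∈ sigmaCore (MulAut.conj b.2.1.out • b.1.1)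
      rw [sigmaCore_conj, Coprime.mem_conj_smul_iff]
      simpa [yB, mul_assoc] using b.2.2.2.1
    · have e' : b.2.1.out * b.2.2.1 * b.2.1.out⁻¹ = 1 := e
      rwa [mul_inv_eq_one, mul_eq_left] at e'
  have hr : ∀ b : B, ∃ r, r ∈ supportR (base (yB b)) (yB b) ∧ MulAut.conj r • base (yB b) = CB b := fun b => by
    obtain ⟨h1, h2⟩ := hbase' _ _ (hCB b).1 (hCB b).2.1
    obtain ⟨r, hr1, hr2⟩ := exists_supportR_conj hG h1 (hCB b).1 h2 (hCB b).2.1 (hCB b).2.2
    exact ⟨r, hr1, hr2⟩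
  choose rB hrB hrB' using hr
  let f : ((G ⧸ Z) × T) ⊕ B → G := Sum.elim (fun w => w.1.out * w.2.1 * w.1.out⁻¹) (fun b => yB b * rB b)
  have hf1 : ∀ w, f w ≠ 1 := by
    rintro (w | b) e
    · have e' : w.1.out * w.2.1 * w.1.out⁻¹ = 1 := e
      exact S.ne_one_of_mem w.2.2 (by rwa [mul_inv_eq_one, mul_eq_left] at e')
    · obtain ⟨h1, h2⟩ := hbase' _ _ (hCB b).1 (hCB b).2.1
      obtain ⟨hc, hy, hr⟩ := parts hG h1 h2 (hCB b).2.2 (hrB b)
      have hone : ∀ p : ℕ, p.Prime → p ∣ orderOf (1 : G) → False :=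
        fun p hp hd => hp.not_dvd_one (by rwa [orderOf_one] at hd)
      exact (hCB b).2.2 (piPart_unique hc (Commute.one_left 1) hy hr (fun p hp hd => (hone p hp hd).elim)
        (fun p hp hd => (hone p hp hd).elim) ((show yB b * rB b = 1 from e).trans (mul_one 1).symm)).1
  have hf : Function.Injective f := by
    rintro (⟨q, z⟩ | b) (⟨q', z'⟩ | b') e
    · have e' : q.out * z.1 * q.out⁻¹ = q'.out * z'.1 * q'.out⁻¹ := e
      have h : (q'.out⁻¹ * q.out) * z.1 * (q'.out⁻¹ * q.out)⁻¹ = z'.1 := by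
        calc (q'.out⁻¹ * q.out) * z.1 * (q'.out⁻¹ * q.out)⁻¹ = q'.out⁻¹ * (q.out * z.1 * q.out⁻¹) * q'.out := by group
          _ = z'.1 := by rw [e']; group
      have ha := S.mem_of_conj z.2 (a := q'.out⁻¹ * q.out) (h.symm ▸ z'.2.1)
      have hq : q' = q := by
        rw [← QuotientGroup.out_eq' q, ← QuotientGroup.out_eq' q']
        exact QuotientGroup.eq.2 ha
      subst hq
      exact congrArg Sum.inl (Prod.ext rfl (Subtype.ext (mul_left_cancel (mul_right_cancel e'))))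
    · obtain ⟨h1, h2⟩ := hbase' _ _ (hCB b').1 (hCB b').2.1
      exact (S.not_support h1 h2 (hCB b').2.2 (hrB b') z.2 e).elim
    · obtain ⟨h1, h2⟩ := hbase' _ _ (hCB b).1 (hCB b).2.1
      exact (S.not_support h1 h2 (hCB b).2.2 (hrB b) z'.2 e.symm).elim
    · obtain ⟨h1, h2⟩ := hbase' _ _ (hCB b).1 (hCB b).2.1
      obtain ⟨h1', h2'⟩ := hbase' _ _ (hCB b').1 (hCB b').2.1
      have e' : yB b * rB b = yB b' * rB b' := e
      have hy : yB b = yB b' := not_not.1 fun hne =>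
        disjoint hG h1 h1' h2 h2' (hCB b).2.2 (hCB b').2.2 hne _ (hrB b) _ (hrB b') e'
      have hr : rB b = rB b' := mul_left_cancel (hy ▸ e')
      have hC : CB b = CB b' := by rw [← hrB' b, ← hrB' b', hy, hr]
      obtain ⟨L, q, x, hx⟩ := b
      obtain ⟨L', q', x', hx'⟩ := b'
      have hC' : MulAut.conj q.out • L.1 = MulAut.conj q'.out • L'.1 := hC
      obtain ⟨p, hp, hpd⟩ := Nat.exists_prime_and_dvd (fun e => hx.2 (orderOf_eq_one_iff.1 e))
      have hpL := primes_of_mem (isPiGrp_piCoreOf (sigma L.1) L.1) hx.1 p hp hpd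
      have hLL : L' = L := Subtype.ext (S.eq_of_sigma _ (hmem L) _ (hmem L') p hpL (by
        rwa [← sigma_conj q'.out, ← hC', sigma_conj])).symm
      subst hLL
      have hn : q'.out⁻¹ * q.out ∈ L'.1 := by
        have hm : q'.out⁻¹ * q.out ∈ normalizer (L'.1 : Set G) := Coprime.mem_normalizer_of_conj_smul_eq (by
          rw [← Coprime.conj_smul_smul, hC', Coprime.conj_smul_smul, inv_mul_cancel, map_one, one_smul])
        rwa [normalizer_eq_of_normal hG (S.coatom _ (hmem L')) le_rfl Subgroup.le_normalizer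
          (ne_bot_of_le_ne_bot (sigmaCore_ne_bot hG (S.coatom _ (hmem L'))) (sigmaCore_le _))] at hm
      have hq : q' = q := by
        rw [← QuotientGroup.out_eq' q, ← QuotientGroup.out_eq' q']
        exact QuotientGroup.eq.2 hn
      subst hq
      have hxx : x = x' := mul_left_cancel (mul_right_cancel (show q'.out * x * q'.out⁻¹ = q'.out * x' * q'.out⁻¹ from hy))
      subst hxx
      rfl
  have hlt : Nat.card (((G ⧸ Z) × T) ⊕ B) < Nat.card G := by
    have h1 : Nat.card (Set.range f) = Nat.card (((G ⧸ Z) × T) ⊕ B) := Nat.card_range_of_injective hf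
    rw [← h1, Nat.card_coe_set_eq, ← Set.ncard_univ G]
    exact Set.ncard_lt_ncard (Set.ssubset_univ_iff.2 fun e => by
      obtain ⟨w, hw⟩ : (1 : G) ∈ Set.range f := e ▸ Set.mem_univ 1
      exact hf1 w hw) (Set.toFinite _)
  set I := Z.index with hI
  set a : s → ℕ := fun L => Nat.card ↥(sigmaCore L.1 ⊓ Z) with ha
  have hcard : ∀ L : s, L.1.index * Nat.card (sigmaCore L.1) = I * a L ∧ 2 * L.1.index ≤ I := by
    intro L
    have e : L.1.index * Nat.card L.1 = I * Nat.card Z := by rw [hI, Z.index_mul_card, L.1.index_mul_card]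
    have h0 := S.card_eq _ (hmem L)
    have e' : L.1.index * Nat.card (sigmaCore L.1) = I * a L := by
      refine Nat.eq_of_mul_eq_mul_left (n := Nat.card Z) Nat.card_pos ?_
      calc Nat.card Z * (L.1.index * Nat.card (sigmaCore L.1))
          = L.1.index * (Nat.card L.1 * a L) := by
            simp only [ha]; rw [h0]; ring
        _ = Nat.card Z * (I * a L) := by rw [← mul_assoc, e]; ring
    refine ⟨e', ?_⟩
    have hlt : 2 * a L ≤ Nat.card (sigmaCore L.1) := by
      obtain ⟨c, hc⟩ : a L ∣ Nat.card (sigmaCore L.1) := Subgroup.card_dvd_of_le inf_le_left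
      rcases Nat.lt_or_ge c 2 with hc2 | hc2
      · exfalso
        have hc1 : c = 1 := by
          rcases Nat.eq_zero_or_pos c with rfl | h0
          · rw [mul_zero] at hc; exact absurd hc Nat.card_pos.ne'
          · omega
        rw [hc1, mul_one] at hc
        have hd : Nat.card L.1 = Nat.card Z := Nat.eq_of_mul_eq_mul_right (m := a L) Nat.card_pos
          (by simp only [ha] at hc ⊢; rw [h0, hc]; ring)
        have hLZ : Z = L.1 := Subgroup.eq_of_le_of_card_ge (S.le _ (hmem L)) hd.le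
        obtain ⟨H, hH, H', hH', hne⟩ := S.exists_two
        exact hne ((eq_of_coatom_le (S.coatom _ (hmem L)) (S.coatom H hH) (hLZ ▸ S.le H hH)).symm.trans
          (eq_of_coatom_le (S.coatom _ (hmem L)) (S.coatom H' hH') (hLZ ▸ S.le H' hH')))
      · rw [hc]; nlinarith
    have hpos : 0 < Nat.card (sigmaCore L.1) := Nat.card_pos
    have hapos : 0 < a L := Nat.card_pos
    nlinarith
  have hB : Nat.card B = ∑ L : s, L.1.index * (Nat.card (sigmaCore L.1) - 1) := by
    rw [Nat.card_sigma]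
    refine Finset.sum_congr rfl fun L _ => ?_
    rw [Nat.card_prod]
    congr 1
    have : Nat.card {x : G // x ∈ sigmaCore L.1 ∧ x ≠ 1} = ((sigmaCore L.1 : Set G) \ {1}).ncard := by
      rw [← Nat.card_coe_set_eq]; rfl
    rw [this, Set.ncard_sdiff_singleton_of_mem (one_mem _), ← Nat.card_coe_set_eq]
    rfl
  have hT : Nat.card Z ≤ Nat.card T + 1 + ∑ L : s, (a L - 1) := by
    rw [Nat.card_coe_set_eq]
    have hsub : (Z : Set G) ⊆ T ∪ ({1} ∪ ⋃ L : s, (↑(sigmaCore L.1 ⊓ Z) : Set G) \ {1}) := by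
      intro z hz
      by_cases hzT : z ∈ T
      · exact Or.inl hzT
      · refine Or.inr ?_
        rcases eq_or_ne z 1 with rfl | hz1
        · exact Or.inl rfl
        simp only [T, outside, Set.mem_ofPred_eq, not_and, not_forall, not_not] at hzT
        obtain ⟨L, hm, hzL⟩ := hzT hz
        exact Or.inr (Set.mem_iUnion.2 ⟨⟨L, Finset.mem_filter.2 ⟨Finset.mem_univ _, hm⟩⟩, ⟨hzL, hz⟩, hz1⟩)
    calc Nat.card Z = (Z : Set G).ncard := (Nat.card_coe_set_eq _)
      _ ≤ _ := Set.ncard_le_ncard hsub (Set.toFinite _)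
      _ ≤ T.ncard + ({1} ∪ ⋃ L : s, (↑(sigmaCore L.1 ⊓ Z) : Set G) \ {1}).ncard :=
        Set.ncard_union_le _ _
      _ ≤ T.ncard + (1 + ∑ L : s, (a L - 1)) := by
        refine Nat.add_le_add_left ((Set.ncard_union_le _ _).trans ?_) _
        refine Nat.add_le_add (le_of_eq (Set.ncard_singleton 1)) ((Set.ncard_iUnion_le_of_fintype _).trans ?_)
        refine Finset.sum_le_sum fun L _ => le_of_eq ?_
        rw [Set.ncard_sdiff_singleton_of_mem (one_mem _), ← Nat.card_coe_set_eq]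
        rfl
      _ = T.ncard + 1 + ∑ L : s, (a L - 1) := (add_assoc _ _ _).symm
  have htwo : 2 ≤ s.card := by
    obtain ⟨H, hH, H', hH', hne⟩ := S.exists_two
    exact Finset.one_lt_card.2 ⟨H, Finset.mem_filter.2 ⟨Finset.mem_univ _, hH⟩, H',
      Finset.mem_filter.2 ⟨Finset.mem_univ _, hH'⟩, hne⟩
  rw [Nat.card_sum, Nat.card_prod, ← Subgroup.index, ← hI, hB, ← Z.index_mul_card, ← hI] at hlt
  set A := ∑ L : s, L.1.index * (Nat.card (sigmaCore L.1) - 1)
  have h1 : A + ∑ L : s, L.1.index = ∑ L : s, I * a L := by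
    rw [← Finset.sum_add_distrib]
    refine Finset.sum_congr rfl fun L _ => ?_
    rw [← (hcard L).1, ← Nat.mul_succ]
    congr 1
    have := Nat.card_pos (α := sigmaCore L.1)
    omega
  have h2 : I * ∑ L : s, (a L - 1) + s.card * I = ∑ L : s, I * a L := by
    have hI' : s.card * I = ∑ _L : s, I := by simp
    rw [hI', Finset.mul_sum, ← Finset.sum_add_distrib]
    refine Finset.sum_congr rfl fun L _ => ?_
    rw [← Nat.mul_succ]
    congr 1
    have : 0 < a L := Nat.card_pos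
    omega
  have h3 : 2 * ∑ L : s, L.1.index ≤ s.card * I := by
    rw [Finset.mul_sum]
    refine (Finset.sum_le_sum fun L _ => (hcard L).2).trans (le_of_eq ?_)
    simp
  have h4 : I * Nat.card Z ≤ I * Nat.card T + I + I * ∑ L : s, (a L - 1) := by
    refine (Nat.mul_le_mul_left I hT).trans (le_of_eq ?_)
    ring
  have h5 : 2 * I ≤ s.card * I := Nat.mul_le_mul_right I htwo
  linarith

end MemberSystem

end Cfsg.Agent.OddOrder.SupportCount
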