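import Cfsg.Agent.Lib.OddOrder.TauThreeFixed
import Cfsg.Agent.Lib.OddOrder.SupportCount
import Cfsg.Agent.Lib.OddOrder.SectionThirteen

/-!
# `τ₃(M)` acts semiregularly on `M_σ` (Bender–Glauberman 13.10) and the bundle `bg13`

If `X ≤ E` of order `p ∈ τ₃(M)` fixes a point of `M_σ`, then with `Z = M ∩ L`, `L ≥ N(X)`, the maximal
subgroups over the normalizers of the lines of `E` form, with `M`, a member system on `Z`, which
`SupportCount.MemberSystem.not_exists` forbids.
-/

set_option autoImplicit false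
set_option linter.style.haveILetI false
set_option linter.unusedSectionVars false

namespace Cfsg.Agent.OddOrder

open Cfsg
open Subgroup (centralizer normalizer zpowers)
open scoped Pointwise commutatorElement

universe u
variable {G : Type u} [Group G] [Finite G]

/-- Maximal subgroups over a line at a common prime of `σ` coincide when one contains its centraliser. -/
theorem eq_of_line_sigma (hG : IsMinSimpleOddOrder G) {H H' P : Subgroup G} (hH : IsCoatom H)
    (hH' : IsCoatom H') {t : ℕ} [Fact t.Prime] (ht : t ∈ sigma H) (ht' : t ∈ sigma H')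
    (hP : Nat.card P = t) (hPH : P ≤ H) (hPH' : P ≤ H') (hC : centralizer (P : Set G) ≤ H) : H' = H := by
  obtain ⟨g, hg⟩ := sigmaPartition hG H H' hH hH' ⟨t, ht, ht'⟩
  have hgP : MulAut.conj g⁻¹ • P ≤ H := conj_smul_le (X := P) (Y := H) (g := g) (hPH'.trans hg.le)
  obtain ⟨m, hm, c, hc, hmc⟩ := (S1404.result hG H hH t ht P (isPGroup_of_card_prime hP)
    (ne_bot_of_card_prime hP) hPH).1 g⁻¹ hgP
  have hgH : g ∈ H := inv_mem_iff.1 (hmc ▸ H.mul_mem hm (hC hc))
  exact hg.trans (Coprime.conj_smul_eq_self_of_mem (Subgroup.le_normalizer hgH))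

namespace TauThreeFixed

variable {M E X : Subgroup G} {p : ℕ} (h : TauThreeFixed M E X p)
include h

/-- A subgroup of prime order outside `σ(M)` inside `E Y` lies in `E`. -/
theorem le_compl_of_le_sup {P : Subgroup G} (hP : P ≤ E ⊔ (sigmaCore M ⊓ centralizer (X : Set G))) {t : ℕ}
    [Fact t.Prime] (hPc : Nat.card P = t) (ht : t ∉ sigma M) : P ≤ E := by
  intro x hx
  set Y := sigmaCore M ⊓ centralizer (X : Set G)
  have hEY : E ≤ centralizer (Y : Set G) := h.fixed_le_centralizer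
  obtain ⟨a, ha, b, hb, rfl⟩ :=
    (Coprime.mem_sup_iff_of_le_normalizer (hEY.trans (Subgroup.centralizer_le_normalizer _))).1 (hP hx)
  have hc : Commute a b := (Subgroup.mem_centralizer_iff.1 (hEY ha) b hb).symm
  have h1 : a ^ t * b ^ t = 1 := by
    rw [← hc.mul_pow]
    exact orderOf_dvd_iff_pow_eq_one.1 (hPc ▸ Subgroup.orderOf_dvd_natCard P hx)
  have h2 : b ^ t ∈ E ⊓ sigmaCore M :=
    ⟨(eq_inv_of_mul_eq_one_right h1) ▸ E.inv_mem (E.pow_mem ha t), (sigmaCore M).pow_mem hb.1 t⟩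
  rw [h.compl.2.2.1, Subgroup.mem_bot] at h2
  have h3 : orderOf b = 1 := by
    refine ((Nat.dvd_prime Fact.out).1 (orderOf_dvd_of_pow_eq_one h2)).resolve_right fun e => ht ?_
    exact isPiGrp_piCoreOf (sigma M) M t Fact.out (e ▸ Subgroup.orderOf_dvd_natCard _ hb.1)
  rw [orderOf_eq_one_iff.1 h3, mul_one]
  exact ha

theorem sup_le_over {P : Subgroup G} (hPE : P ≤ E) {t : ℕ} [Fact t.Prime] (hP : Nat.card P = t)
    {H : Subgroup G} (hNH : normalizer (P : Set G) ≤ H) :
    E ⊔ (sigmaCore M ⊓ centralizer (X : Set G)) ≤ H :=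
  sup_le ((h.line_normal hPE hP).trans hNH)
    ((Subgroup.le_centralizer_iff.1 (hPE.trans h.fixed_le_centralizer)).trans
      ((Subgroup.centralizer_le_normalizer _).trans hNH))

theorem X_le_derived_over {P : Subgroup G} (hPE : P ≤ E) {t : ℕ} [Fact t.Prime] (hP : Nat.card P = t)
    {H : Subgroup G} (hNH : normalizer (P : Set G) ≤ H) : X ≤ ⁅H, H⁆ := by
  have hEH : E ≤ H := (h.line_normal hPE hP).trans hNH
  exact h.X_le_derived.trans (Subgroup.commutator_mono hEH hEH)

/-- The maximal subgroup over the normalizer of a line meets `M` in `E Y`. -/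
theorem inter_line {P : Subgroup G} (hPE : P ≤ E) {t : ℕ} [Fact t.Prime] (hP : Nat.card P = t)
    {H : Subgroup G} (hH : IsCoatom H) (hNH : normalizer (P : Set G) ≤ H) :
    NotConj M H ∧ M ⊓ H = E ⊔ (sigmaCore M ⊓ centralizer (X : Set G)) := by
  have hG := h.minSimple
  haveI := Fact.mk h.tau3.1
  have hd : t ∣ Nat.card E := hP ▸ Subgroup.card_dvd_of_le hPE
  obtain ⟨hn, -, -⟩ := centralizer_norm_tau13 hG h.coatom hH
    (not_mem_sigma_of_compl hG h.coatom h.compl Fact.out hd) (h.rank_one hd) hP hNH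
  refine ⟨hn, le_antisymm (fun m hm => ?_)
    (le_inf (sup_le h.compl.1 (inf_le_left.trans (piCoreOf_le _ M))) (h.sup_le_over hPE hP hNH))⟩
  have hXd := h.X_le_derived_over hPE hP hNH
  have hXH : X ≤ H := hXd.trans (Subgroup.commutator_le_self H)
  have hle : sigmaCore M ⊓ H ≤ centralizer (X : Set G) :=
    Subgroup.le_centralizer_iff.1 (le_centralizer_inter hG h.coatom hH hn h.tau3.2.1
      (isPGroup_of_card_prime h.card) h.X_le_M hXH
      fun h1 => h1.2.2.2.1 (h.card ▸ Subgroup.card_dvd_of_le hXd))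
  obtain ⟨a, ha, b, hb, rfl⟩ := h.compl.2.2.2 m hm.1
  have hbH : b ∈ H := by
    have := H.mul_mem (H.inv_mem (((h.line_normal hPE hP).trans hNH) ha)) hm.2
    rwa [inv_mul_cancel_left] at this
  exact mul_mem (Subgroup.mem_sup_left ha) (Subgroup.mem_sup_right ⟨hb, hle ⟨hb, hbH⟩⟩)

/-- The prime of a line lies in `σ` of a maximal subgroup over its normalizer. -/
theorem mem_sigma_line {P : Subgroup G} (hPE : P ≤ E) {t : ℕ} [Fact t.Prime] (hP : Nat.card P = t)
    {H : Subgroup G} (hH : IsCoatom H) (hNH : normalizer (P : Set G) ≤ H) : t ∈ sigma H := by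
  have hG := h.minSimple
  obtain ⟨q, Z, hq, hZ, hZY⟩ := h.exists_point
  haveI := Fact.mk hq.1.1
  have hd : t ∣ Nat.card E := hP ▸ Subgroup.card_dvd_of_le hPE
  exact mem_sigma_of_fixed hG h.coatom hH (not_mem_sigma_of_compl hG h.coatom h.compl Fact.out hd)
    (h.rank_one hd) hP hq hZ (hZY.trans (h.line_fixed_eq hPE hP).ge) hNH

variable {L : Subgroup G} (hL : IsCoatom L) (hNX : normalizer (X : Set G) ≤ L)
include hL hNX

/-- The structure of `L ≥ N(X)`: `p ∈ β(L)` and `L_σ` is not nilpotent. -/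
theorem over_facts : p ∈ beta L ∧ ¬ Group.IsNilpotent (sigmaCore L) := by
  have hG := h.minSimple
  have hM := h.coatom
  haveI := Fact.mk h.tau3.1
  have hpL : p ∈ sigma L := h.mem_sigma_line h.le h.card hL hNX
  obtain ⟨r, T, R, hr1, hT, hRT, hR, hRX, hTX⟩ := h.exists_mover
  haveI := Fact.mk hr1.1
  have hEL : E ≤ L := h.E_le_normalizer.trans hNX
  have hTL : T ≤ L := hT.le.trans hEL
  have hXL : X ≤ L := h.le.trans hEL
  have hXσ : X ≤ sigmaCore L := le_sigmaCore_of_isPiGrp hG hL hXL fun l hl hd => by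
    rw [h.card] at hd
    exact (Nat.prime_dvd_prime_iff_eq hl Fact.out).1 hd ▸ hpL
  have hrL : r ∈ sigma L := by
    by_contra hrs
    obtain ⟨EL, hEL', hTEL⟩ := exists_compl_ge hG hL hTL fun l hl hd => by
      obtain ⟨j, hj⟩ := hT.isPGroup.exists_card_eq
      exact (Nat.prime_dvd_prime_iff_eq hl hr1.1).1 (hl.dvd_of_dvd_pow (hj ▸ hd)) ▸ hrs
    have hfix : X ≤ sigmaCore L ⊓ centralizer (R : Set G) :=
      le_inf hXσ (Subgroup.le_centralizer_iff.1 hRX)
    by_cases hrk : PRankLE r 1 L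
    · by_cases hd : r ∣ Nat.card ↥⁅L, L⁆
      · have hi : TauThreeFixed L EL R r := ⟨hG, hL, hEL', ⟨hr1.1, hrs, hd, hrk⟩, hRT.trans hTEL, hR,
          ne_bot_of_le_ne_bot (ne_bot_of_card_prime h.card) hfix⟩
        exact hTX ((hTEL.trans hi.fixed_le_centralizer).trans (Subgroup.centralizer_le hfix))
      · obtain ⟨TL, hTL', hle⟩ := exists_isSyl_ge hT.isPGroup hTEL
        exact hTX (hle.trans (le_centralizer_of_semiprime hG hL hEL' hTL'
          (isCyclic_of_rank_one hG hrk (hTL'.le.trans hEL'.1) hTL'.isPGroup) hR (hRT.trans hle) hXσ hRX))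
    · have h2 := mem_tau2 hG hL hr1.1 hrs hrk
      obtain ⟨A, hAE, hA, hAc⟩ := exists_square_le_compl hEL' hrs hrk
      obtain ⟨⟨-, hmem⟩, -, huniq⟩ := S1418.result hG L hL EL hEL' r h2 A ⟨hAE, hA, hAc⟩
      obtain ⟨-, hu⟩ := huniq R (hmem R (hRT.trans hTEL) hR) hR
        (ne_bot_of_le_ne_bot (ne_bot_of_card_prime h.card) hfix)
      obtain ⟨H, hH, hNR⟩ := exists_coatom_ge (normalizer_ne_top_of_pgroup hG
        (isPGroup_of_card_prime hR) (ne_bot_of_card_prime hR))
      exact hrs (hu H hH ((Subgroup.centralizer_le_normalizer _).trans hNR) ▸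
        h.mem_sigma_line (hRT.trans hT.le) hR hH hNR)
  have hcop : ¬ p ∣ Nat.card T := fun hd => by
    obtain ⟨j, hj⟩ := hT.isPGroup.exists_card_eq
    exact hr1.2.2.2.1 ((Nat.prime_dvd_prime_iff_eq h.tau3.1 hr1.1).1
      (h.tau3.1.dvd_of_dvd_pow (hj ▸ hd)) ▸ h.tau3.2.2.1)
  refine ⟨by_contra fun hb => hTX ?_, fun hnil => hTX ?_⟩
  · exact le_centralizer_of_not_beta hG hL hpL.2.1 hb (le_derived_of_sigma hG hL hrL hT.isPGroup hTL) hcop
      (isPGroup_of_card_prime h.card) (le_derived_of_sigma hG hL hpL (isPGroup_of_card_prime h.card) hXL)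
      (hT.le.trans h.E_le_normalizer)
  · have hTσ : T ≤ sigmaCore L := le_sigmaCore_of_isPiGrp hG hL hTL fun l hl hd => by
      obtain ⟨j, hj⟩ := hT.isPGroup.exists_card_eq
      exact (Nat.prime_dvd_prime_iff_eq hl hr1.1).1 (hl.dvd_of_dvd_pow (hj ▸ hd)) ▸ hrL
    haveI := hnil
    intro a ha
    refine Subgroup.mem_centralizer_iff.2 fun x hx => ?_
    have hxp : (⟨x, hXσ hx⟩ : sigmaCore L) ^ p ^ 1 = 1 := Subtype.ext (by
      rw [pow_one]; exact orderOf_dvd_iff_pow_eq_one.1 (h.card ▸ Subgroup.orderOf_dvd_natCard X hx))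
    have hay : (orderOf (⟨a, hTσ ha⟩ : sigmaCore L)).Coprime p := by
      rw [Subgroup.orderOf_mk]
      exact Nat.Coprime.coprime_dvd_left (Subgroup.orderOf_dvd_natCard T ha)
        (h.tau3.1.coprime_iff_not_dvd.2 hcop).symm
    exact (congrArg Subtype.val (Subnormal.commute_of_coprime hxp hay).eq).symm

/-- `L` has a complement of `L_σ` inside `E Y`. -/
theorem exists_compl_over : ∃ EL, IsComplIn EL (sigmaCore L) L ∧
    EL ≤ E ⊔ (sigmaCore M ⊓ centralizer (X : Set G)) := by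
  have hG := h.minSimple
  have hM := h.coatom
  haveI := Fact.mk h.tau3.1
  obtain ⟨q, Z, hq, hZ, hZY⟩ := h.exists_point
  haveI := Fact.mk hq.1.1
  have hZM : Z ≤ M := (hZY.trans inf_le_left).trans (piCoreOf_le _ M)
  have hn := h.notConj hL hNX
  obtain ⟨hqs, hqr⟩ := rank_one_of_beta hG hM hL hn hq
  have hZL : Z ≤ L := (hZY.trans inf_le_right).trans ((Subgroup.centralizer_le_normalizer _).trans hNX)
  obtain ⟨EL, hEL, hZE⟩ := exists_compl_ge hG hL hZL fun l hl hd => by
    rw [hZ] at hd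
    exact (Nat.prime_dvd_prime_iff_eq hl Fact.out).1 hd ▸ hqs
  obtain ⟨-, hnil⟩ := h.over_facts hL hNX
  have h2 : ∀ t, t ∉ tau2 L := fun t ht => by
    haveI := Fact.mk ht.1
    obtain ⟨A, hAE, hA, hAc⟩ := exists_square_le_compl hEL ht.2.1 ht.2.2.2
    exact hnil (S1417.result hG L hL t ht A ⟨hAE.trans hEL.1, hA, hAc⟩).1
  have hEN : EL ≤ normalizer (Z : Set G) := by
    by_cases h3 : ∃ l : ℕ, l ∈ Cfsg.tau3 L ∧ l ∣ Nat.card EL
    · obtain ⟨l, hl, hld⟩ := h3
      haveI := Fact.mk hl.1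
      obtain ⟨z, hz⟩ := exists_prime_orderOf_dvd_card' l hld
      rw [← Subgroup.orderOf_coe] at hz
      have hW : Nat.card (zpowers (z : G)) = l := by rw [Nat.card_zpowers, hz]
      have hi : TauThreeFixed L EL (zpowers (z : G)) l :=
        ⟨hG, hL, hEL, hl, Subgroup.zpowers_le.2 z.2, hW, fun e => hnil
          (isNilpotent_sigmaCore_of_fpf ((Subgroup.zpowers_le.2 z.2).trans hEL.1) hW e)⟩
      exact hi.line_normal hZE hZ
    · push Not at h3
      have h1 : q ∈ tau1 L := ⟨hq.1.1, hqs, hZ ▸ Subgroup.card_dvd_of_le hZL, fun hd =>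
        h3 q ⟨hq.1.1, hqs, hd, hqr⟩ (hZ ▸ Subgroup.card_dvd_of_le hZE), hqr⟩
      obtain ⟨E₁, hZ1, hh, hc⟩ := exists_hall1 hG hL hEL hZE (isPGroup_of_card_prime hZ) h1
      have hall : EL ≤ E₁ := Subgroup.relIndex_eq_one.1 (by
        by_contra hne
        obtain ⟨l, hl, hld⟩ := Nat.exists_prime_and_dvd hne
        haveI := Fact.mk hl
        have hlE : l ∣ Nat.card EL := hld.trans (Subgroup.relIndex_dvd_card _ EL)
        have hls := not_mem_sigma_of_compl hG hL hEL hl hlE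
        have hlr : PRankLE l 1 L := by_contra fun hr => h2 l (mem_tau2 hG hL hl hls hr)
        exact hh.2.2 l hl ⟨hl, hls, hlE.trans (Subgroup.card_dvd_of_le hEL.1),
          fun hd => h3 l ⟨hl, hls, hd, hlr⟩ hlE, hlr⟩ hld)
      exact fun a ha => Subgroup.centralizer_le_normalizer _ (Subgroup.mem_centralizer_iff.2 fun b hb =>
        congrArg Subtype.val ((@IsCyclic.commGroup E₁ _ hc).mul_comm ⟨b, hZ1 hb⟩ ⟨a, hall ha⟩))
  exact ⟨EL, hEL, (le_inf (hEN.trans (normalizer_le_of_beta hG hM hq hZM hZ)) hEL.1).trans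
    (h.inter_line h.le h.card hL hNX).2.le⟩

/-- A member other than `L` has `X` as a `τ₃`-subgroup with a fixed point, and the same `E Y`. -/
theorem exists_instance {P : Subgroup G} (hPE : P ≤ E) {t : ℕ} [Fact t.Prime] (hP : Nat.card P = t)
    {H : Subgroup G} (hH : IsCoatom H) (hNH : normalizer (P : Set G) ≤ H) (hne : H ≠ L) :
    ∃ EH, TauThreeFixed H EH X p ∧
      EH ⊔ (sigmaCore H ⊓ centralizer (X : Set G)) = E ⊔ (sigmaCore M ⊓ centralizer (X : Set G)) ∧
      H ⊓ L = E ⊔ (sigmaCore M ⊓ centralizer (X : Set G)) := by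
  have hG := h.minSimple
  have hM := h.coatom
  haveI := Fact.mk h.tau3.1
  have hpL : p ∈ sigma L := h.mem_sigma_line h.le h.card hL hNX
  have hZH := h.sup_le_over hPE hP hNH
  have hXH : X ≤ H := (h.le.trans le_sup_left).trans hZH
  have hpH : p ∉ sigma H := fun hs => hne (eq_of_line_sigma hG hL hH hpL hs h.card
    (Subgroup.le_normalizer.trans hNX) hXH ((Subgroup.centralizer_le_normalizer _).trans hNX))
  have hnLH : NotConj L H := (notConj_of_mem_sigma hpL hpH).symm
  obtain ⟨hpb, -⟩ := h.over_facts hL hNX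
  have hp3 : p ∈ Cfsg.tau3 H := ⟨h.tau3.1, hpH,
    h.card ▸ Subgroup.card_dvd_of_le (h.X_le_derived_over hPE hP hNH),
    (rank_one_of_beta hG hL hH hnLH hpb).2⟩
  obtain ⟨hnMH, hinter⟩ := h.inter_line hPE hP hH hNH
  obtain ⟨q, Z, hq, hZ, hZY⟩ := h.exists_point
  haveI := Fact.mk hq.1.1
  have hZM : Z ≤ M := (hZY.trans inf_le_left).trans (piCoreOf_le _ M)
  have hZX : Z ≤ centralizer (X : Set G) := hZY.trans inf_le_right
  have hqH := (rank_one_of_beta hG hM hH hnMH hq).1
  obtain ⟨EH, hEH, hle⟩ := exists_compl_ge hG hH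
    (sup_le ((hZY.trans le_sup_right).trans hZH) hXH) fun l hl hd => by
      rcases prime_dvd_sup (hZX.trans (Subgroup.centralizer_le_normalizer _)) hl hd with h1 | h1
      · rw [hZ] at h1; exact (Nat.prime_dvd_prime_iff_eq hl Fact.out).1 h1 ▸ hqH
      · rw [h.card] at h1; exact (Nat.prime_dvd_prime_iff_eq hl Fact.out).1 h1 ▸ hpH
  have hPσ : P ≤ sigmaCore H := le_sigmaCore_of_isPiGrp hG hH (Subgroup.le_normalizer.trans hNH)
    fun l hl hd => by
      rw [hP] at hd
      exact (Nat.prime_dvd_prime_iff_eq hl Fact.out).1 hd ▸ h.mem_sigma_line hPE hP hH hNH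
  have hi : TauThreeFixed H EH X p := ⟨hG, hH, hEH, hp3, le_sup_right.trans hle, h.card,
    ne_bot_of_le_ne_bot (ne_bot_of_card_prime hP) (le_inf hPσ (h.line_centralizer hPE hP))⟩
  have hHL := (hi.inter_line hi.le hi.card hL hNX).2
  set YH := sigmaCore H ⊓ centralizer (X : Set G)
  set Z₀ := E ⊔ (sigmaCore M ⊓ centralizer (X : Set G))
  have hEZ : EH ⊔ YH ≤ normalizer (Z : Set G) :=
    sup_le (hi.line_normal (le_sup_left.trans hle) hZ)
      ((Subgroup.le_centralizer_iff.1 ((le_sup_left.trans hle).trans hi.fixed_le_centralizer)).trans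
        (Subgroup.centralizer_le_normalizer _))
  have hsup : EH ⊔ YH = Z₀ := le_antisymm
    ((le_inf (hEZ.trans (normalizer_le_of_beta hG hM hq hZM hZ))
      (sup_le hEH.1 (inf_le_left.trans (piCoreOf_le _ H)))).trans hinter.le)
    ((le_inf hZH (h.sup_le_over h.le h.card hNX)).trans hHL.le)
  exact ⟨EH, hi, hsup, hHL.trans hsup⟩

omit hL hNX

/-- No subgroup of order `p ∈ τ₃(M)` fixes a point of `M_σ`. -/
theorem not_exists : False := by
  have hG := h.minSimple
  have hM := h.coatom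
  haveI := Fact.mk h.tau3.1
  obtain ⟨L, hL, hNX⟩ := h.exists_over
  set Z₀ := E ⊔ (sigmaCore M ⊓ centralizer (X : Set G))
  set line : Subgroup G → Prop := fun H => IsCoatom H ∧
    ∃ (t : ℕ) (P : Subgroup G), t.Prime ∧ P ≤ E ∧ Nat.card P = t ∧ normalizer (P : Set G) ≤ H with hline
  have hLline : line L := ⟨hL, p, X, h.tau3.1, h.le, h.card, hNX⟩
  have hle : ∀ H, line H → Z₀ ≤ H := by
    rintro H ⟨-, t, P, ht, hPE, hP, hN⟩
    haveI := Fact.mk ht
    exact h.sup_le_over hPE hP hN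
  have hZM : Z₀ ≤ M := sup_le h.compl.1 (inf_le_left.trans (piCoreOf_le _ M))
  have hMH : ∀ H, line H → NotConj M H ∧ M ⊓ H = Z₀ := by
    rintro H ⟨hH, t, P, ht, hPE, hP, hN⟩
    haveI := Fact.mk ht
    exact h.inter_line hPE hP hH hN
  have hdis : ∀ H, line H → ∀ H', line H' → ∀ s : ℕ, s ∈ sigma H → s ∈ sigma H' → H = H' := by
    intro H hlH H' hlH' s hs hs'
    obtain ⟨hH', t, P, ht, hPE, hP, hN⟩ := id hlH'
    haveI := Fact.mk ht
    obtain ⟨g, hg⟩ := sigmaPartition hG H' H hH' hlH.1 ⟨s, hs', hs⟩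
    have htH : t ∈ sigma H := by
      rw [show H = MulAut.conj g • H' from hg, sigma_conj]
      exact h.mem_sigma_line hPE hP hH' hN
    exact eq_of_line_sigma hG hH' hlH.1 (h.mem_sigma_line hPE hP hH' hN) htH hP
      (Subgroup.le_normalizer.trans hN) ((hPE.trans le_sup_left).trans (hle H hlH))
      ((Subgroup.centralizer_le_normalizer _).trans hN)
  have hML : ∀ H, line H → ∀ s : ℕ, s ∈ sigma M → s ∉ sigma H := by
    intro H hlH s hs hs'
    obtain ⟨g, hg⟩ := sigmaPartition hG M H hM hlH.1 ⟨s, hs, hs'⟩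
    exact (hMH H hlH).1 g hg
  have hinst : ∀ H, line H → H ≠ L → ∃ EH, TauThreeFixed H EH X p ∧
      EH ⊔ (sigmaCore H ⊓ centralizer (X : Set G)) = Z₀ ∧ H ⊓ L = Z₀ := by
    rintro H ⟨hH, t, P, ht, hPE, hP, hN⟩ hne
    haveI := Fact.mk ht
    exact h.exists_instance hL hNX hPE hP hH hN hne
  have hcompl : ∀ H ∈ insert M {H | line H}, ∃ EH, IsComplIn EH (sigmaCore H) H ∧ EH ≤ Z₀ := by
    rintro H (rfl | hlH)
    · exact ⟨E, h.compl, le_sup_left⟩
    · rcases eq_or_ne H L with rfl | hne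
      · exact h.exists_compl_over hL hNX
      · obtain ⟨EH, hi, e, -⟩ := hinst H hlH hne
        exact ⟨EH, hi.compl, e ▸ le_sup_left⟩
  have hlemem : ∀ H ∈ insert M {H | line H}, Z₀ ≤ H := by
    rintro H (rfl | hlH)
    · exact hZM
    · exact hle H hlH
  have hline_of : ∀ s : ℕ, s.Prime → s ∣ Nat.card E → ∃ H, line H ∧ s ∈ sigma H := by
    intro s hs hd
    haveI := Fact.mk hs
    obtain ⟨z, hz⟩ := exists_prime_orderOf_dvd_card' s hd
    rw [← Subgroup.orderOf_coe] at hz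
    have hW : Nat.card (zpowers (z : G)) = s := by rw [Nat.card_zpowers, hz]
    have hWE : zpowers (z : G) ≤ E := Subgroup.zpowers_le.2 z.2
    obtain ⟨H, hH, hN⟩ := exists_coatom_ge (normalizer_ne_top_of_pgroup hG
      (isPGroup_of_card_prime hW) (ne_bot_of_card_prime hW))
    exact ⟨H, ⟨hH, s, _, hs, hWE, hW, hN⟩, h.mem_sigma_line hWE hW hH hN⟩
  refine SupportCount.MemberSystem.not_exists (Z := Z₀) (mem := insert M {H | line H})
    ⟨hG, ?_, hlemem, ?_, ?_, ?_, ?_, ?_, ⟨M, Or.inl rfl, L, Or.inr hLline, (h.notConj hL hNX).ne.symm⟩⟩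
  · rintro H (rfl | hlH)
    · exact hM
    · exact hlH.1
  · intro H hH
    obtain ⟨EH, hEH, hEZ⟩ := hcompl H hH
    have hc : IsComplIn EH (sigmaCore H ⊓ Z₀) Z₀ := ⟨hEZ, inf_le_right, le_bot_iff.1
      ((inf_le_inf_left _ inf_le_left).trans hEH.2.2.1.le), fun m hm => by
        obtain ⟨a, ha, b, hb, rfl⟩ := hEH.2.2.2 m (hlemem H hH hm)
        refine ⟨a, ha, b, ⟨hb, ?_⟩, rfl⟩
        have h1 := Z₀.mul_mem (Z₀.inv_mem (hEZ ha)) hm
        rwa [inv_mul_cancel_left] at h1⟩
    rw [← card_eq_of_isComplIn hc, ← card_eq_of_isComplIn hEH]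
    ring
  · rintro H hH H' hH' s hs hs'
    rcases hH with rfl | hH <;> rcases hH' with rfl | hH'
    · rfl
    · exact absurd hs' (hML H' hH' s hs)
    · exact absurd hs (hML H hH s hs')
    · exact hdis H hH H' hH' s hs hs'
  · rintro H hH H' hH' hne
    rcases hH with e | hH <;> rcases hH' with e' | hH'
    · exact absurd (e.trans e'.symm) hne
    · exact e.symm ▸ (hMH H' hH').2.le
    · exact e'.symm ▸ inf_comm M H ▸ (hMH H hH).2.le
    rcases eq_or_ne H L with rfl | hHL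
    · obtain ⟨-, -, -, e⟩ := hinst H' hH' hne.symm
      exact inf_comm H' H ▸ e.le
    rcases eq_or_ne H' L with rfl | hH'L
    · obtain ⟨-, -, -, e⟩ := hinst H hH hHL
      exact e.le
    obtain ⟨EH, hi, e, -⟩ := hinst H hH hHL
    obtain ⟨hH'c, t, P, ht, hPE, hP, hN⟩ := id hH'
    haveI := Fact.mk ht
    have htH : t ∉ sigma H := fun hs => hne (hdis H hH H' hH' t hs (h.mem_sigma_line hPE hP hH'c hN))
    have hPEH : P ≤ EH := hi.le_compl_of_le_sup (e.symm ▸ hPE.trans le_sup_left) hP htH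
    exact ((hi.inter_line hPEH hP hH'c hN).2.trans e).le
  · intro s hs hd
    haveI := Fact.mk hs
    rcases prime_dvd_sup (h.fixed_le_centralizer.trans (Subgroup.centralizer_le_normalizer _)) hs hd
      with h1 | h1
    · obtain ⟨H, hlH, hsH⟩ := hline_of s hs h1
      exact ⟨H, Or.inr hlH, hsH⟩
    · exact ⟨M, Or.inl rfl, isPiGrp_piCoreOf (sigma M) M s hs (h1.trans (Subgroup.card_dvd_of_le inf_le_left))⟩
  · rintro H hH P hP hPp
    haveI := Fact.mk hPp
    set s := Nat.card P with hs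
    have hPσ : P ≤ sigmaCore H := hP.trans inf_le_left
    have hsH : s ∈ sigma H := isPiGrp_piCoreOf (sigma H) H s hPp (hs ▸ Subgroup.card_dvd_of_le hPσ)
    rcases hH with rfl | hlH
    · have hPY : P ≤ sigmaCore H ⊓ centralizer (X : Set G) := by
        have h1 : P ≤ sigmaCore H ⊓ L := le_inf hPσ ((hP.trans inf_le_right).trans (hle L hLline))
        rwa [h.inter_eq hL hNX] at h1
      exact normalizer_le_of_beta hG hM
        (h.mem_beta (hs ▸ Subgroup.card_dvd_of_le hPY)) (hPσ.trans (piCoreOf_le _ _)) hs.symm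
    · have hsM : s ∉ sigma M := fun h1 => hML H hlH s h1 hsH
      have hPE : P ≤ E := h.le_compl_of_le_sup (hP.trans inf_le_right) hs.symm hsM
      obtain ⟨H', hH'c, hN⟩ := exists_coatom_ge (normalizer_ne_top_of_pgroup hG
        (isPGroup_of_card_prime hs.symm) (ne_bot_of_card_prime hs.symm))
      have hl' : line H' := ⟨hH'c, s, P, hPp, hPE, hs.symm, hN⟩
      exact (hdis H hlH H' hl' s hsH (h.mem_sigma_line hPE hs.symm hH'c hN)) ▸ hN

end TauThreeFixed

/-- BG 13.10: `τ₃(M)` acts without fixed points on `M_σ`. -/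
theorem tau3_regular (hG : IsMinSimpleOddOrder G) {M : Subgroup G} (hM : IsCoatom M) {p : ℕ}
    (hp : p ∈ tau3 M) {X : Subgroup G} (hXM : X ≤ M) (hX : Nat.card X = p) :
    sigmaCore M ⊓ centralizer (X : Set G) = ⊥ := by
  by_contra hne
  obtain ⟨E, hE, hXE⟩ := exists_compl_ge hG hM hXM fun l hl hd => by
    rw [hX] at hd
    exact (Nat.prime_dvd_prime_iff_eq hl hp.1).1 hd ▸ hp.2.1
  exact TauThreeFixed.not_exists ⟨hG, hM, hE, hp, hXE, hX, hne⟩

/-- The results of section 13 used in section 14. -/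
theorem bg13 (hG : IsMinSimpleOddOrder G) : BG13 G where
  partition := sigmaPartition hG
  transfer := SupportCount.sigmaTransfer hG
  semiprime := fun M hM E hE p _ S hS hc x hx hx1 => S1427.result hG M hM E hE p S hS hc x hx hx1
  tau1_comm := fun M hM E hE p hp P hPE hP R hR hRp => S1428.result hG M hM E hE p hp P hPE hP R hR hRp
  tau3_regular := fun _ hM _ hp _ hXM hX => tau3_regular hG hM hp hXM hX
  tau1_unique := fun _ hM _ hp _ hXM hX _ hY hYp => tau1_unique hG hM hp hXM hX hY hYp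

end Cfsg.Agent.OddOrder
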