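import Cfsg.Agent.Lib.OddOrder.SigmaPrime
import Cfsg.Agent.S1408
import Cfsg.Agent.S1409
import Cfsg.Agent.S1414
import Cfsg.Agent.S1416
import Cfsg.Agent.S1420

/-!
# Two forward references of sections 12-13, and small facts used in section 14

`SigmaPartition` is the partition of the primes by `σ`, `SigmaTransfer` is the content of S1424; both are
taken as explicit hypotheses by the section 14 files.
-/

set_option autoImplicit false
set_option linter.unusedSectionVars false
set_option linter.style.haveILetI false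

namespace Cfsg.Agent.OddOrder

open Cfsg
open Subgroup (centralizer normalizer zpowers)

universe u

/-- Maximal subgroups with a common prime in `σ` are conjugate. -/
def SigmaPartition (G : Type u) [Group G] : Prop :=
  ∀ M N : Subgroup G, IsCoatom M → IsCoatom N → (sigma M ∩ sigma N).Nonempty →
    ∃ g : G, N = M.map (MulAut.conj g).toMonoidHom

/-- The frozen statement S1424. -/
def SigmaTransfer (G : Type u) [Group G] : Prop :=
  ∀ (M : Subgroup G), IsCoatom M → ∀ (q : ℕ) [Fact q.Prime], q ∈ sigma M → ∀ X : Subgroup G,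
    IsPGroup q X → X ≠ ⊥ → X ≤ M → ∀ L : Subgroup G, IsCoatom L → L ≠ M → normalizer (X : Set G) ≤ L →
    ∀ S : Sylow q ↥(M ⊓ L), X ≤ (S : Subgroup ↥(M ⊓ L)).map (M ⊓ L).subtype →
      (∀ g : G, L ≠ M.map (MulAut.conj g).toMonoidHom) ∧
        normalizer (((S : Subgroup ↥(M ⊓ L)).map (M ⊓ L).subtype : Subgroup G) : Set G) ≤ M ∧
        ¬ q ∣ ((S : Subgroup ↥(M ⊓ L)).map (M ⊓ L).subtype).relIndex L

variable {G : Type u} [Group G] [Finite G]

theorem mem_of_coprime_index {H : Type*} [Group H] [Finite H] {N : Subgroup H} [N.Normal] {x : H}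
    (h : (orderOf x).Coprime N.index) : x ∈ N := by
  rw [← QuotientGroup.eq_one_iff, ← orderOf_eq_one_iff]
  exact Nat.eq_one_of_dvd_coprimes h (orderOf_map_dvd (QuotientGroup.mk' N) x) (orderOf_dvd_natCard _)

/-- In a normal decomposition `g = e k`, if `g` and `e`'s factor commute with `x`, so do both. -/
theorem commute_parts {E K L : Subgroup G} (hc : IsComplIn E K L) (hn : L ≤ normalizer (K : Set G))
    {x e k : G} (hx : x ∈ E) (he : e ∈ E) (hk : k ∈ K) (h : Commute x (e * k)) :
    Commute x e ∧ Commute x k := by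
  have h2 : e⁻¹ * (x * e * x⁻¹) = k * (x * k * x⁻¹)⁻¹ := by
    rw [eq_mul_inv_iff_mul_eq, ← mul_right_inj e]
    calc e * (e⁻¹ * (x * e * x⁻¹) * (x * k * x⁻¹)) = x * (e * k) * x⁻¹ := by group
      _ = e * k := by rw [h.eq]; group
  have h3 : e⁻¹ * (x * e * x⁻¹) ∈ E ⊓ K := by
    refine ⟨E.mul_mem (E.inv_mem he) (E.mul_mem (E.mul_mem hx he) (E.inv_mem hx)), ?_⟩
    rw [h2]
    exact K.mul_mem hk (K.inv_mem ((Subgroup.mem_normalizer_iff.1 (hn (hc.1 hx)) k).1 hk))
  rw [hc.2.2.1, Subgroup.mem_bot] at h3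
  have h4 : Commute x e := mul_inv_eq_iff_eq_mul.1 (inv_mul_eq_one.1 h3).symm
  exact ⟨h4, (mul_right_inj e).1 (by rw [← mul_assoc, ← h4.eq, mul_assoc, h.eq, mul_assoc])⟩

/-- An element of `H` of order coprime to `p` lies in a normal `p`-complement. -/
theorem exists_normal_complement_mem {p : ℕ} [Fact p.Prime] {H : Type*} [Group H] [Finite H]
    (h : HasNormalPComplement p H) :
    ∃ K : Subgroup H, K.Normal ∧ ¬ p ∣ Nat.card K ∧ ∀ x : H, ¬ p ∣ orderOf x → x ∈ K := by
  obtain ⟨P, K, hK, hc⟩ := h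
  obtain ⟨n, hn⟩ := P.2.exists_card_eq
  refine ⟨K, hK, fun hd => P.not_dvd_index (hd.trans (dvd_of_eq hc.index_eq_card.symm)), fun x hx => ?_⟩
  refine mem_of_coprime_index ?_
  rw [hc.symm.index_eq_card, hn]
  exact ((Nat.Prime.coprime_iff_not_dvd Fact.out).2 hx).symm.pow_right n

/-- Elements of prime order in `⟨x⟩`. -/
theorem exists_card_le_zpowers {q : ℕ} [Fact q.Prime] {x : G} (h : q ∣ orderOf x) :
    ∃ X : Subgroup G, X ≤ zpowers x ∧ Nat.card X = q := by
  obtain ⟨z, hz⟩ := exists_prime_orderOf_dvd_card' (G := zpowers x) q (by rwa [Nat.card_zpowers])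
  exact ⟨zpowers (z : G), Subgroup.zpowers_le.2 z.2, by rw [Nat.card_zpowers, Subgroup.orderOf_coe, hz]⟩

/-- A nontrivial normal Sylow subgroup puts its prime in `σ`. -/
theorem fittingHallOf_le_sigmaCore (hG : IsMinSimpleOddOrder G) {N : Subgroup G} (hN : IsCoatom N) :
    fittingHallOf N ≤ sigmaCore N := by
  refine Subgroup.map_mono (sSup_le fun K hK => le_sSup ⟨hK.1, fun p hp hd => ?_⟩)
  haveI := Fact.mk hp
  haveI := hK.1
  haveI := hK.2.1
  obtain ⟨P⟩ : Nonempty (Sylow p K) := inferInstance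
  haveI : (P : Subgroup K).Characteristic := Sylow.characteristic_of_normal P inferInstance
  set P₁ := (P : Subgroup K).map K.subtype with hP₁
  have hidx : ¬ p ∣ P₁.index := by
    rw [hP₁, Subgroup.index_map_subtype]
    intro hd'
    rcases hp.dvd_mul.1 hd' with h | h
    · exact P.not_dvd_index h
    · exact hp.ne_one (Nat.eq_one_of_dvd_coprimes hK.2.2 hd h)
  have hP0 : (P : Subgroup K) ≠ ⊥ := fun e =>
    P.not_dvd_index (by rw [e, Subgroup.index_bot]; exact hd)
  refine ⟨hp, hd.trans K.card_subgroup_dvd_card, (P.2.map K.subtype).toSylow hidx, le_of_eq ?_⟩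
  rw [IsPGroup.toSylow_coe]
  refine normalizer_eq_of_normal hG hN (Subgroup.map_subtype_le _) (le_normalizer_map_of_normal P₁)
    fun e => hP0 ((Subgroup.map_eq_bot_iff_of_injective _ K.subtype_injective).1
      ((Subgroup.map_eq_bot_iff_of_injective _ N.subtype_injective).1 e))

theorem sigmaCore_le_fittingHallOf (hG : IsMinSimpleOddOrder G) {N : Subgroup G} (hN : IsCoatom N)
    (h : Group.IsNilpotent (sigmaCore N)) : sigmaCore N ≤ fittingHallOf N := by
  refine Subgroup.map_mono (le_sSup ⟨inferInstance, ?_, ?_⟩)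
  · haveI : Group.IsNilpotent ↥((piCore (sigma N) ↥N).map N.subtype) := h
    exact Group.nilpotent_of_mulEquiv
      ((piCore (sigma N) ↥N).equivMapOfInjective N.subtype N.subtype_injective).symm
  · refine Nat.coprime_of_dvd fun l hl h1 h2 => ?_
    haveI := Fact.mk hl
    obtain ⟨T⟩ : Nonempty (Sylow l N) := inferInstance
    exact T.not_dvd_index (h2.trans (Subgroup.index_dvd_of_le
      (sylow_le_piCore_sigma hG hN (isPiGrp_piCore (sigma N) ↥N l hl h1) T)))

theorem sigmaCore_eq_fittingHallOf (hG : IsMinSimpleOddOrder G) {N : Subgroup G} (hN : IsCoatom N)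
    (h : Group.IsNilpotent (sigmaCore N)) : sigmaCore N = fittingHallOf N :=
  le_antisymm (sigmaCore_le_fittingHallOf hG hN h) (fittingHallOf_le_sigmaCore hG hN)

/-- Every prime divisor of `|G|` is in `σ` of some maximal subgroup. -/
theorem exists_sigma (hG : IsMinSimpleOddOrder G) {p : ℕ} [Fact p.Prime] (hd : p ∣ Nat.card G) :
    ∃ M : Subgroup G, IsCoatom M ∧ p ∈ sigma M := by
  obtain ⟨P⟩ : Nonempty (Sylow p G) := inferInstance
  obtain ⟨M, hM, -, hp, -⟩ := exists_coatom_normalizer hG P fun e =>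
    P.not_dvd_index (by rw [e, Subgroup.index_bot]; exact hd)
  exact ⟨M, hM, hp⟩

end Cfsg.Agent.OddOrder
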