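import Cfsg.Agent.Lib.Coprime.SemiprimeCore
import Cfsg.Agent.Lib.OddOrder.SigmaDecomp
import Cfsg.Agent.Lib.OddOrder.SigmaConj
import Cfsg.Agent.S1429

/-!
# Bender–Glauberman 15.2: the structure of `M` when `M_σ` is not nilpotent

* `Decomp.eq_bot_of_not_nilpotent`, `isComplIn_of_not_nilpotent`: then `U = 1`, so `M = K M_σ`;
* `commutator_eq_sigmaCore`: and then `M' = M_σ`;
* `FCore`, `exists_fCore`: the normal Sylow `q`-subgroup `Q` of `M_σ`, `q = |C_{M_σ}(K)|`.

The two inputs from section 14 (prime action of `K`, prime order of `C_{M_σ}(K)`) are hypotheses.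
-/

set_option autoImplicit false
set_option linter.style.haveILetI false
set_option linter.unusedSectionVars false

namespace Cfsg.Agent.OddOrder

open Cfsg
open Subgroup (centralizer normalizer zpowers)
open scoped commutatorElement

universe u
variable {G : Type u} [Group G] [Finite G]

theorem Decomp.eq_bot_of_not_nilpotent (hG : IsMinSimpleOddOrder G) {M K U : Subgroup G} (hM : IsCoatom M)
    (h : IsSigmaDecomposition M K U) (hnn : ¬ Group.IsNilpotent (sigmaCore M)) : U = ⊥ := by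
  by_contra hU
  obtain ⟨p, hp, hd⟩ := Nat.exists_prime_and_dvd (n := Nat.card U) fun e => hU (Subgroup.card_eq_one.1 e)
  haveI := Fact.mk hp
  obtain ⟨S⟩ : Nonempty (Sylow p M) := inferInstance
  have hdM := hd.trans (Subgroup.card_dvd_of_le (le_right h))
  exact hnn (S1429.result hG M hM (fun hall => not_mem_kappa h hp hd (hall p hp hdM (not_mem_sigma hG hM h hp hd)))
    p hdM (fun hu => hu.elim (not_mem_sigma hG hM h hp hd) (not_mem_kappa h hp hd)) S).2.2

theorem Decomp.isComplIn_of_not_nilpotent (hG : IsMinSimpleOddOrder G) {M K U : Subgroup G} (hM : IsCoatom M)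
    (h : IsSigmaDecomposition M K U) (hnn : ¬ Group.IsNilpotent (sigmaCore M)) :
    IsComplIn K (sigmaCore M) M := by
  have e := isComplIn_sup hG hM h
  rwa [eq_bot_of_not_nilpotent hG hM h hnn, bot_sup_eq] at e

theorem isComplement'_subgroupOf {A B M : Subgroup G} (h : IsComplIn A B M) :
    Subgroup.IsComplement' (A.subgroupOf M) (B.subgroupOf M) := by
  refine Subgroup.isComplement'_of_card_mul_and_disjoint ?_ ?_
  · rw [Coprime.card_subgroupOf h.1, Coprime.card_subgroupOf h.2.1]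
    exact card_eq_of_isComplIn h
  · rw [disjoint_iff, ← Subgroup.inf_subgroupOf_right] at *
    refine le_bot_iff.1 fun x hx => ?_
    have : (x : G) ∈ A ⊓ B := ⟨hx.1.1, hx.2⟩
    rw [h.2.2.1, Subgroup.mem_bot] at this
    exact Subgroup.mem_bot.2 (Subtype.ext this)

/-- With a cyclic complement `K` of `M_σ`, `M' = M_σ`. -/
theorem commutator_eq_sigmaCore (hG : IsMinSimpleOddOrder G) {M K : Subgroup G} (hM : IsCoatom M)
    (hK : IsComplIn K (sigmaCore M) M) (hc : IsCyclic K) : ⁅M, M⁆ = sigmaCore M := by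
  refine le_antisymm ?_ (sigmaCore_le_commutator hG hM)
  haveI : ((sigmaCore M).subgroupOf M).Normal := sigmaCore_normal_subgroupOf
  have hcK : IsMulCommutative (K.subgroupOf M) :=
    haveI : IsCyclic (K.subgroupOf M) := (Subgroup.subgroupOfEquivOfLe hK.1).isCyclic.2 hc
    IsCyclic.isMulCommutative
  have h := Subgroup.Normal.commutator_le_of_self_sup_commutative_eq_top
    (N := (sigmaCore M).subgroupOf M) (H := K.subgroupOf M)
    (by rw [sup_comm]; exact (isComplement'_subgroupOf hK).sup_eq_top) hcK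
  rw [← Subgroup.map_subtype_commutator M]
  exact (Subgroup.map_mono h).trans (Subgroup.map_subgroupOf_eq_of_le (sigmaCore_le M)).le

theorem inf_centralizer_subgroupOf (A : Subgroup G) {B M : Subgroup G} (hB : B ≤ M) :
    (A ⊓ centralizer (B : Set G)).subgroupOf M = A.subgroupOf M ⊓ centralizer (B.subgroupOf M : Set M) := by
  ext x
  simp only [Subgroup.mem_subgroupOf, Subgroup.mem_inf, Subgroup.mem_centralizer_iff, SetLike.mem_coe]
  refine and_congr_right fun _ => ⟨fun h b hb => Subtype.ext (h b hb), fun h b hb => ?_⟩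
  exact congrArg Subtype.val (h ⟨b, hB hb⟩ hb)

theorem inf_centralizer_singleton_subgroupOf (A : Subgroup G) {M : Subgroup G} (b : M) :
    (A ⊓ centralizer ({(b : G)} : Set G)).subgroupOf M = A.subgroupOf M ⊓ centralizer ({b} : Set M) := by
  ext x
  simp only [Subgroup.mem_subgroupOf, Subgroup.mem_inf, Subgroup.mem_centralizer_singleton_iff]
  exact and_congr_right fun _ => ⟨fun h => Subtype.ext h, fun h => congrArg Subtype.val h⟩

/-- BG 15.2: the normal Sylow `q`-subgroup `Q` of a non-nilpotent `M_σ`. -/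
structure FCore (M K Q : Subgroup G) (q : ℕ) : Prop where
  qprime : q.Prime
  card_fixed : Nat.card ↥(sigmaCore M ⊓ centralizer (K : Set G)) = q
  prime_K : (Nat.card K).Prime
  le : Q ≤ sigmaCore M
  normal : M ≤ normalizer (Q : Set G)
  pgroup : IsPGroup q Q
  sylow : ¬ q ∣ Q.relIndex (sigmaCore M)
  fixed_le : sigmaCore M ⊓ centralizer (K : Set G) ≤ Q
  le_fittingHall : Q ≤ fittingHallOf M
  mem_beta : q ∈ beta M
  exists_compl : ∃ D : Subgroup G, IsComplIn Q D (sigmaCore M)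
  compl : ∀ D : Subgroup G, IsComplIn Q D (sigmaCore M) →
    Group.IsNilpotent D ∧ M ≤ normalizer ((Q ⊓ centralizer (D : Set G) : Subgroup G) : Set G) ∧
    Q ⊓ centralizer (D : Set G) < Q ∧
    (sigmaCore M ⊓ centralizer (K : Set G)) ⊓ (Q ⊓ centralizer (D : Set G)) = ⊥ ∧
    Nat.card Q = Nat.card ↥(Q ⊓ centralizer (D : Set G)) * q ^ Nat.card K ∧
    (∀ a ∈ Q, ∀ b ∈ Q, a ^ q ∈ Q ⊓ centralizer (D : Set G) ∧
      a * b * a⁻¹ * b⁻¹ ∈ Q ⊓ centralizer (D : Set G)) ∧
    ⁅D, D⁆ ≤ centralizer (Q : Set G) ∧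
    ∀ N : Subgroup G, Q ⊓ centralizer (D : Set G) < N → N < Q → ¬ M ≤ normalizer (N : Set G)

theorem exists_fCore (hG : IsMinSimpleOddOrder G) {M K : Subgroup G} (hM : IsCoatom M)
    (hK : IsComplIn K (sigmaCore M) M) (hK1 : K ≠ ⊥)
    (hprime : ∀ k ∈ K, k ≠ 1 →
      sigmaCore M ⊓ centralizer ({k} : Set G) = sigmaCore M ⊓ centralizer (K : Set G))
    (hq : (Nat.card ↥(sigmaCore M ⊓ centralizer (K : Set G))).Prime)
    (hnn : ¬ Group.IsNilpotent (sigmaCore M)) :
    ∃ Q : Subgroup G, FCore M K Q (Nat.card ↥(sigmaCore M ⊓ centralizer (K : Set G))) := by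
  set q := Nat.card ↥(sigmaCore M ⊓ centralizer (K : Set G)) with hq_def
  haveI := Fact.mk hq
  haveI hsol := isSolvable_of_coatom hG hM
  set H := (sigmaCore M).subgroupOf M with hH
  set R := K.subgroupOf M with hR
  have hcR : (sigmaCore M ⊓ centralizer (K : Set G)).subgroupOf M = H ⊓ centralizer (R : Set M) :=
    inf_centralizer_subgroupOf _ hK.1
  have hHn : H.Normal := sigmaCore_normal_subgroupOf
  have hHM := Subgroup.map_subgroupOf_eq_of_le (sigmaCore_le M)
  have d : Semiprime.Data H R q := by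
    refine ⟨hsol, hG.1.of_dvd_nat (Subgroup.card_subgroup_dvd_card M), hHn,
      (isComplement'_subgroupOf hK).symm, ?_, ?_, ?_, fun x hx hx1 => ?_, hq, ?_, fun h => hnn ?_⟩
    · rw [Coprime.card_subgroupOf (sigmaCore_le M), Coprime.card_subgroupOf hK.1]
      exact Nat.coprime_of_dvd fun p hp h1 h2 =>
        not_mem_sigma_of_compl hG hM hK hp h2 (isPiGrp_piCoreOf (sigma M) M p hp h1)
    · intro y hy
      have h1 := sigmaCore_le_commutator hG hM hy
      rw [← Subgroup.map_subtype_commutator M] at h1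
      obtain ⟨z, hz, hzy⟩ := h1
      exact (Subtype.ext hzy : z = y) ▸ hz
    · exact fun e => hK1 (le_bot_iff.1 fun y hy => by
        have : (⟨y, hK.1 hy⟩ : M) ∈ R := hy
        rw [e, Subgroup.mem_bot] at this
        exact Subgroup.mem_bot.2 (congrArg Subtype.val this))
    · rw [← inf_centralizer_singleton_subgroupOf, ← hcR,
        hprime (x : G) hx (fun e => hx1 (Subtype.ext e))]
    · rw [← hcR, Coprime.card_subgroupOf (inf_le_left.trans (sigmaCore_le M))]
    · exact Group.nilpotent_of_mulEquiv (Subgroup.subgroupOfEquivOfLe (sigmaCore_le M))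
  obtain ⟨hp, T, hTn, hTH, hTq, hTs, hCT, hall⟩ := Semiprime.structure_of_data d
  set Q := T.map M.subtype with hQ
  have hQσ : Q ≤ sigmaCore M := (Subgroup.map_mono hTH).trans hHM.le
  have hQM : Q ≤ M := Subgroup.map_subtype_le _
  have hQT : Q.subgroupOf M = T := Subgroup.comap_map_eq_self_of_injective M.subtype_injective _
  have hQn : M ≤ normalizer (Q : Set G) := le_normalizer_map_of_normal T
  have hQs : ¬ q ∣ Q.relIndex (sigmaCore M) := by
    rw [← Subgroup.relIndex_subgroupOf (sigmaCore_le M), hQT]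
    exact hTs
  have hfix : sigmaCore M ⊓ centralizer (K : Set G) ≤ Q := by
    refine (Subgroup.map_subgroupOf_eq_of_le (inf_le_left.trans (sigmaCore_le M))).ge.trans ?_
    rw [hcR]
    exact Subgroup.map_mono hCT
  have htrans : ∀ {D : Subgroup G}, IsComplIn Q D (sigmaCore M) → IsComplIn T (D.subgroupOf M) H ∧
      (Q ⊓ centralizer (D : Set G)).subgroupOf M = T ⊓ centralizer (D.subgroupOf M : Set M) := by
    intro D hD
    have hDM : D ≤ M := hD.2.1.trans (sigmaCore_le M)
    refine ⟨⟨hTH, fun y hy => hD.2.1 hy, ?_, fun m hm => ?_⟩, by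
      rw [inf_centralizer_subgroupOf _ hDM, hQT]⟩
    · refine le_bot_iff.1 fun y hy => Subgroup.mem_bot.2 (Subtype.ext ?_)
      have : (y : G) ∈ Q ⊓ D := ⟨⟨y, hy.1, rfl⟩, hy.2⟩
      rw [hD.2.2.1, Subgroup.mem_bot] at this
      exact this
    · obtain ⟨a, ha, b, hb, hab⟩ := hD.2.2.2 m hm
      exact ⟨⟨a, hQM ha⟩, by rw [← hQT]; exact ha, ⟨b, hDM hb⟩, hb, Subtype.ext hab⟩
  have hcompl : ∀ D : Subgroup G, IsComplIn Q D (sigmaCore M) →
      Group.IsNilpotent D ∧ M ≤ normalizer ((Q ⊓ centralizer (D : Set G) : Subgroup G) : Set G) ∧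
      Q ⊓ centralizer (D : Set G) < Q ∧
      (sigmaCore M ⊓ centralizer (K : Set G)) ⊓ (Q ⊓ centralizer (D : Set G)) = ⊥ ∧
      Nat.card Q = Nat.card ↥(Q ⊓ centralizer (D : Set G)) * q ^ Nat.card K ∧
      (∀ a ∈ Q, ∀ b ∈ Q, a ^ q ∈ Q ⊓ centralizer (D : Set G) ∧
        a * b * a⁻¹ * b⁻¹ ∈ Q ⊓ centralizer (D : Set G)) ∧
      ⁅D, D⁆ ≤ centralizer (Q : Set G) ∧
      ∀ N : Subgroup G, Q ⊓ centralizer (D : Set G) < N → N < Q → ¬ M ≤ normalizer (N : Set G) := by
    intro D hD
    have hDM : D ≤ M := hD.2.1.trans (sigmaCore_le M)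
    obtain ⟨hD', hQ0⟩ := htrans hD
    obtain ⟨h1, h2, h3, h4, h5, h6, h6', h7⟩ := hall _ hD'
    have hQ0M : Q ⊓ centralizer (D : Set G) ≤ M := inf_le_left.trans hQM
    refine ⟨?_, ?_, ?_, ?_, ?_, fun a ha b hb => ?_, ?_, fun N hN1 hN2 hN => ?_⟩
    · haveI := h1
      exact Group.nilpotent_of_mulEquiv (Subgroup.subgroupOfEquivOfLe hDM)
    · rw [← Subgroup.normal_subgroupOf_iff_le_normalizer hQ0M, hQ0]
      exact h2
    · refine lt_of_le_of_ne inf_le_left fun e => h3.ne ?_
      rw [← hQ0, e, hQT]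
    · refine le_bot_iff.1 fun y hy => Subgroup.mem_bot.2 ?_
      have : (⟨y, hQ0M hy.2⟩ : M) ∈ (H ⊓ centralizer (R : Set M)) ⊓ (T ⊓ centralizer (D.subgroupOf M : Set M)) := by
        rw [← hcR, ← hQ0]
        exact hy
      rw [h4, Subgroup.mem_bot] at this
      exact congrArg Subtype.val this
    · rw [← hQ0, Coprime.card_subgroupOf hQ0M, hR, Coprime.card_subgroupOf hK.1, ← hQT,
        Coprime.card_subgroupOf hQM] at h5
      exact h5
    · have h := h6 ⟨a, hQM ha⟩ (by rw [← hQT]; exact ha) ⟨b, hQM hb⟩ (by rw [← hQT]; exact hb)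
      rw [← hQ0] at h
      exact ⟨h.1, h.2⟩
    · rw [← Subgroup.map_subgroupOf_eq_of_le hDM, ← Subgroup.map_commutator]
      rintro _ ⟨z, hz, rfl⟩
      refine Subgroup.mem_centralizer_iff.2 fun y hy => ?_
      exact congrArg Subtype.val (Subgroup.mem_centralizer_iff.1 (h6' hz) ⟨y, hQM hy⟩ (by rw [← hQT]; exact hy))
    · have hNM : N ≤ M := hN2.le.trans hQM
      refine h7 (N.subgroupOf M) ?_ ?_ ((Subgroup.normal_subgroupOf_iff_le_normalizer hNM).2 hN)
      · refine lt_of_le_of_ne ?_ fun e => hN1.ne ?_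
        · rw [← hQ0]; exact fun y hy => hN1.le hy
        · rw [← Subgroup.map_subgroupOf_eq_of_le hQ0M, hQ0, e, Subgroup.map_subgroupOf_eq_of_le hNM]
      · refine lt_of_le_of_ne (fun y hy => by rw [← hQT]; exact hN2.le hy) fun e => hN2.ne ?_
        rw [hQ, ← e, Subgroup.map_subgroupOf_eq_of_le hNM]
  -- a complement of `Q` in `M_σ`
  have hex : ∃ D : Subgroup G, IsComplIn Q D (sigmaCore M) := by
    set Q' := Q.subgroupOf (sigmaCore M)
    haveI : Q'.Normal := Coprime.normal_subgroupOf_of_le_normalizer ((sigmaCore_le M).trans hQn)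
    obtain ⟨k, hk⟩ := (hTq.map M.subtype : IsPGroup q Q).exists_card_eq
    obtain ⟨D', hD'⟩ := Subgroup.exists_right_complement'_of_coprime (N := Q') (by
      rw [Coprime.card_subgroupOf hQσ, hk]
      exact (hq.coprime_iff_not_dvd.2 hQs).pow_left k)
    refine ⟨D'.map (sigmaCore M).subtype, hQσ, Subgroup.map_subtype_le _, ?_, fun m hm => ?_⟩
    · refine le_bot_iff.1 fun y hy => Subgroup.mem_bot.2 ?_
      obtain ⟨hyQ, ⟨z, hz, rfl⟩⟩ := hy
      have : z ∈ Q' ⊓ D' := ⟨hyQ, hz⟩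
      rw [hD'.disjoint.eq_bot, Subgroup.mem_bot] at this
      rw [this]
      rfl
    · obtain ⟨⟨a, b⟩, hab⟩ := (hD'.existsUnique (⟨m, hm⟩ : sigmaCore M)).exists
      exact ⟨((a : sigmaCore M) : G), a.2, ((b : sigmaCore M) : G), ⟨b, b.2, rfl⟩,
        (congrArg Subtype.val hab).symm⟩
  have hqσ : q ∈ sigma M :=
    isPiGrp_piCoreOf (sigma M) M q hq (Subgroup.card_dvd_of_le (inf_le_left : sigmaCore M ⊓ centralizer (K : Set G) ≤ _))
  have hqM : q ∣ Nat.card M := hqσ.2.1
  have hqb : q ∈ beta M := by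
    by_contra hb
    obtain ⟨-, -, -, -, hkey⟩ := S1414.result hG M hM
    obtain ⟨-, ⟨P, N, hNn, hNP⟩, -⟩ := hkey q hq hqM hb
    obtain ⟨D, hD⟩ := hex
    obtain ⟨-, -, hlt, -⟩ := hcompl D hD
    refine hlt.ne (inf_eq_left.2 (Subgroup.le_centralizer_iff.1 ?_))
    have hDq : ¬ q ∣ Nat.card D := fun h => hQs (by
      have e : Nat.card Q * Q.relIndex (sigmaCore M) = Nat.card (sigmaCore M) := by
        rw [Subgroup.relIndex, ← Coprime.card_subgroupOf hQσ, Subgroup.card_mul_index]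
      rwa [Nat.eq_of_mul_eq_mul_left Nat.card_pos (e.trans (card_eq_of_isComplIn hD).symm)])
    have hDN : D ≤ N.map (sigmaCore M).subtype := by
      intro y hy
      refine ⟨⟨y, hD.2.1 hy⟩, ?_, rfl⟩
      refine (QuotientGroup.eq_one_iff (N := N) _).1 (orderOf_eq_one_iff.1 ?_)
      obtain ⟨j, hj⟩ := P.2.exists_card_eq
      have h1 : orderOf (QuotientGroup.mk' N ⟨y, hD.2.1 hy⟩) ∣ q ^ j := by
        rw [← hj, ← hNP.symm.index_eq_card, Subgroup.index_eq_card]
        exact orderOf_dvd_natCard _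
      refine Nat.eq_one_of_dvd_coprimes ((hq.coprime_iff_not_dvd.2 hDq).pow_left j) h1 ?_
      have h2 : orderOf (⟨y, hD.2.1 hy⟩ : sigmaCore M) ∣ Nat.card D := by
        rw [Subgroup.orderOf_mk]; exact Subgroup.orderOf_dvd_natCard D hy
      exact (orderOf_map_dvd (QuotientGroup.mk' N) (⟨y, hD.2.1 hy⟩ : sigmaCore M)).trans h2
    have hdis : Q ⊓ N.map (sigmaCore M).subtype = ⊥ := by
      obtain ⟨k, hk⟩ := (hTq.map M.subtype : IsPGroup q Q).exists_card_eq
      refine Coprime.disjoint_of_coprime_card (hk ▸ ?_)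
      rw [Subgroup.card_map_of_injective (sigmaCore M).subtype_injective, ← hNP.index_eq_card]
      exact (hq.coprime_iff_not_dvd.2 P.not_dvd_index).pow_left k
    refine hDN.trans (le_centralizer_of_normalize (by rwa [inf_comm])
      ((Subgroup.map_subtype_le _).trans ((sigmaCore_le M).trans hQn)) ?_)
    exact hQσ.trans (le_normalizer_map_of_normal N)
  refine ⟨Q, hq, hq_def.symm, ?_, hQσ, hQn, hTq.map _, hQs, hfix, ?_, hqb, hex, hcompl⟩
  · rwa [hR, Coprime.card_subgroupOf hK.1] at hp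
  · refine Subgroup.map_mono (le_sSup ⟨hTn, hTq.isNilpotent, ?_⟩)
    obtain ⟨k, hk⟩ := hTq.exists_card_eq
    rw [hk]
    refine Nat.Coprime.pow_left k (hq.coprime_iff_not_dvd.2 fun h => ?_)
    rw [← Subgroup.relIndex_mul_index hTH, (isComplement'_subgroupOf hK).index_eq_card,
      Coprime.card_subgroupOf hK.1] at h
    rcases hq.dvd_mul.1 h with h' | h'
    · exact hTs h'
    · exact not_mem_sigma_of_compl hG hM hK hq h' hqσ

end Cfsg.Agent.OddOrder
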