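import Cfsg.Agent.Lib.OddOrder.SectionFifteen
import Cfsg.Agent.Lib.OddOrder.FCore
import Cfsg.Agent.S1423

/-!
# Consequences of Bender–Glauberman 15.2: Theorem A, parts on `M_F`, `M''`, `F(M)`

With `hI : BG15Input G`:
* `fCore_of_decomposition`: 15.2 for a given standard factorisation;
* `fittingHall_chain` (= S1355), `second_derived_le_fitting` (= S1356),
  `fittingHall_ne_sigmaCore` (= S1357), `fittingHall_ne_sigmaCore_structure` (= S1437).
-/

set_option autoImplicit false
set_option linter.style.haveILetI false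
set_option linter.unusedSectionVars false

namespace Cfsg.Agent.OddOrder

open Cfsg
open Subgroup (centralizer normalizer zpowers)
open scoped Pointwise commutatorElement

universe u
variable {G : Type u} [Group G] [Finite G] {M : Subgroup G}

theorem commutator_lt_of_coatom (hG : IsMinSimpleOddOrder G) (hM : IsCoatom M) : ⁅M, M⁆ < M := by
  refine lt_of_le_of_ne M.commutator_le_self fun e => ?_
  haveI := isSolvable_of_coatom hG hM
  have h : _root_.commutator M = ⊤ := by
    refine Subgroup.map_injective M.subtype_injective ?_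
    rw [Subgroup.map_subtype_commutator, e, ← MonoidHom.range_eq_map, Subgroup.range_subtype]
  haveI : Nontrivial M := (Subgroup.nontrivial_iff_ne_bot M).2 fun hb =>
    sigmaCore_ne_bot hG hM (le_bot_iff.1 (hb ▸ sigmaCore_le M))
  exact (Group.IsSolvable.commutator_lt_top_of_nontrivial M).ne h

theorem fittingHallOf_le_fittingOf (M : Subgroup G) : fittingHallOf M ≤ fittingOf M :=
  Subgroup.map_mono (sSup_le_sSup fun _ h => ⟨h.1, h.2.1⟩)

theorem le_normalizer_fittingHallOf (M : Subgroup G) : M ≤ normalizer (fittingHallOf M : Set G) :=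
  le_normalizer_map_of_normal (fittingHall M)

/-- A `p`-subgroup of `M`, `p` dividing `|M_F|`, lies in `M_F`. -/
theorem le_fittingHallOf_of_dvd {p : ℕ} [hp : Fact p.Prime] (hd : p ∣ Nat.card (fittingHallOf M))
    {X : Subgroup G} (hXM : X ≤ M) (hX : IsPGroup p X) : X ≤ fittingHallOf M :=
  le_map_of_not_dvd_index hXM hX fun h => hp.out.ne_one
    (Nat.eq_one_of_dvd_coprimes (fittingHall_coprime_index M) (card_fittingHallOf M ▸ hd) h)

/-- `F(M) ≤ C_M(M_F) M_F`, for every subgroup `M`. -/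
theorem fittingOf_le_centralizer_sup (M : Subgroup G) :
    fittingOf M ≤ (M ⊓ centralizer (fittingHallOf M : Set G)) ⊔ fittingHallOf M := by
  refine fittingOf_le_of_forall fun r hr => ?_
  haveI := Fact.mk hr
  by_cases hd : r ∣ Nat.card (fittingHallOf M)
  · exact le_sup_of_le_right (le_fittingHallOf_of_dvd hd (pOf_le M) (isPGroup_pOf M))
  · refine le_sup_of_le_left (le_inf (pOf_le M) (le_centralizer_of_normalize ?_
      ((pOf_le M).trans (le_normalizer_fittingHallOf M)) ((fittingHallOf_le M).trans (le_normalizer_pOf M))))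
    obtain ⟨k, hk⟩ := (isPGroup_pOf (r := r) M).exists_card_eq
    exact Coprime.disjoint_of_coprime_card (hk ▸ (hr.coprime_iff_not_dvd.2 hd).pow_left k)

/-- `M' ≤ E' M_σ`, as images in any quotient killing `M_σ`. -/
theorem map_commutator_le {Y : Type*} [Group Y] {E : Subgroup G} (hE : IsComplIn E (sigmaCore M) M)
    (f : M →* Y) (hf : (sigmaCore M).subgroupOf M ≤ f.ker) :
    (_root_.commutator M).map f ≤ (_root_.commutator E).map (f.comp (Subgroup.inclusion hE.1)) := by
  rw [commutator_def, commutator_def, Subgroup.map_commutator, Subgroup.map_commutator]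
  have h : (⊤ : Subgroup M).map f ≤ (⊤ : Subgroup E).map (f.comp (Subgroup.inclusion hE.1)) := by
    rintro _ ⟨⟨m, hm⟩, -, rfl⟩
    obtain ⟨e, he, s, hs, rfl⟩ := hE.2.2.2 m hm
    refine ⟨⟨e, he⟩, trivial, ?_⟩
    have hs' : f ⟨s, sigmaCore_le M hs⟩ = 1 := hf (show (⟨s, sigmaCore_le M hs⟩ : M) ∈ _ from hs)
    show f ⟨e, hE.1 he⟩ = f ⟨e * s, hm⟩
    rw [show (⟨e * s, hm⟩ : M) = ⟨e, hE.1 he⟩ * ⟨s, sigmaCore_le M hs⟩ from rfl, map_mul]
    exact ((congrArg _ hs').trans (mul_one _)).symm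
  exact Subgroup.commutator_mono h h

variable (hG : IsMinSimpleOddOrder G) (hI : BG15Input G) (hM : IsCoatom M)
include hG hI hM

omit hI in
theorem not_nilpotent_of_ne (h : fittingHallOf M ≠ sigmaCore M) : ¬ Group.IsNilpotent (sigmaCore M) :=
  fun hn => h (sigmaCore_eq_fittingHallOf hG hM hn).symm

theorem fCore_of_decomposition {K U : Subgroup G} (hKU : IsSigmaDecomposition M K U)
    (hnn : ¬ Group.IsNilpotent (sigmaCore M)) :
    U = ⊥ ∧ K ≠ ⊥ ∧ ⁅M, M⁆ = sigmaCore M ∧
      ∃ Q : Subgroup G, FCore M K Q (Nat.card ↥(sigmaCore M ⊓ centralizer (K : Set G))) := by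
  have hU := Decomp.eq_bot_of_not_nilpotent hG hM hKU hnn
  have hK := Decomp.isComplIn_of_not_nilpotent hG hM hKU hnn
  have hder := commutator_eq_sigmaCore hG hM hK hKU.cyclic
  have hK1 : K ≠ ⊥ := fun e => (commutator_lt_of_coatom hG hM).not_ge fun m hm => by
    obtain ⟨k, hk, s, hs, rfl⟩ := hK.2.2.2 m hm
    have hk0 : k = 1 := Subgroup.mem_bot.1 (e ▸ hk)
    rw [hk0, one_mul]
    exact hder.ge hs
  exact ⟨hU, hK1, hder, exists_fCore hG hM hK hK1
    (pMaximal_structure hG hI.h13 hM hKU.hall hK1).1 (hI.fixed_prime M hM K U hKU hK1 hU) hnn⟩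

/-- When `M_σ` is not nilpotent, `Y = 1`, so `F(M) = F(M_σ)`. -/
theorem fittingOf_eq_of_not_nilpotent {K U : Subgroup G} (hKU : IsSigmaDecomposition M K U)
    (hnn : ¬ Group.IsNilpotent (sigmaCore M)) : fittingOf M = fittingOf (sigmaCore M) := by
  have hU := Decomp.eq_bot_of_not_nilpotent hG hM hKU hnn
  have hY : sigmaComplCore M = ⊥ := by
    by_contra hne
    obtain ⟨p, hp, hd⟩ := Nat.exists_prime_and_dvd (n := Nat.card (sigmaComplCore M))
      fun e => hne (Subgroup.card_eq_one.1 e)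
    haveI := Fact.mk hp
    have hτ := mem_tau2_of_dvd_sigmaComplCore hG hM hd
    have hdM : p ∣ Nat.card M :=
      hd.trans (Subgroup.card_dvd_of_le ((sigmaComplCore_le_fittingOf M).trans (fittingOf_le M)))
    rw [← Decomp.card_mul hKU, hU, Subgroup.card_bot, one_mul] at hdM
    rcases hp.dvd_mul.1 hdM with h | h
    · exact not_mem_tau2_of_kappa (hKU.hall.2.1 p hp h) hτ
    · exact hτ.2.1 (isPiGrp_piCoreOf (sigma M) M p hp h)
  rw [fittingOf_eq_sup, hY, sup_bot_eq]

/-- BG Theorem A: `1 ≠ M_F ≤ M_σ ≤ M' < M` and `M'/M_F` is nilpotent (S1355). -/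
theorem fittingHall_chain :
    fittingHallOf M ≠ ⊥ ∧ fittingHallOf M ≤ sigmaCore M ∧ sigmaCore M ≤ ⁅M, M⁆ ∧ ⁅M, M⁆ < M ∧
      Group.IsNilpotent ↥((_root_.commutator ↥M).map (QuotientGroup.mk' (fittingHall ↥M))) := by
  obtain ⟨K, U, hKU⟩ := exists_decomposition hG hI.h13 hM
  set f := QuotientGroup.mk' (fittingHall ↥M)
  have hker : ∀ {x : M}, (x : G) ∈ fittingHallOf M → f x = 1 := fun {x} hx => by
    obtain ⟨y, hy, hyx⟩ := hx
    exact (QuotientGroup.eq_one_iff x).2 ((Subtype.ext hyx : y = x) ▸ hy)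
  by_cases hn : Group.IsNilpotent (sigmaCore M)
  · have he := sigmaCore_eq_fittingHallOf hG hM hn
    refine ⟨he ▸ sigmaCore_ne_bot hG hM, he.ge, sigmaCore_le_commutator hG hM, commutator_lt_of_coatom hG hM, ?_⟩
    have hE := Decomp.isComplIn_sup hG hM hKU
    haveI : Group.IsNilpotent ↥(_root_.commutator ↥(U ⊔ K : Subgroup G)) := by
      haveI := (S1415.result hG M hM _ hE).1
      exact Group.nilpotent_of_mulEquiv (((MulEquiv.subgroupCongr (Subgroup.map_subtype_commutator _).symm)).trans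
        ((_root_.commutator ↥(U ⊔ K : Subgroup G)).equivMapOfInjective _
          (U ⊔ K : Subgroup G).subtype_injective).symm)
    have hle := map_commutator_le hE f fun y hy => MonoidHom.mem_ker.2 (hker (he ▸ hy))
    haveI : Group.IsNilpotent ↥((_root_.commutator ↥(U ⊔ K : Subgroup G)).map
        (f.comp (Subgroup.inclusion hE.1))) :=
      Group.nilpotent_of_surjective _ (MonoidHom.subgroupMap_surjective _ _)
    exact Group.nilpotent_of_mulEquiv (Subgroup.subgroupOfEquivOfLe hle)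
  · obtain ⟨-, -, hder, Q, hQ⟩ := fCore_of_decomposition hG hI hM hKU hn
    refine ⟨fun e => hQ.qprime.ne_one ?_, fittingHallOf_le_sigmaCore hG hM, sigmaCore_le_commutator hG hM,
      commutator_lt_of_coatom hG hM, ?_⟩
    · have h := Subgroup.card_dvd_of_le (hQ.fixed_le.trans hQ.le_fittingHall)
      rw [hQ.card_fixed, e, Subgroup.card_bot, Nat.dvd_one] at h
      exact h
    · obtain ⟨D, hD⟩ := hQ.exists_compl
      have hDM : D ≤ M := hD.2.1.trans (sigmaCore_le M)
      haveI := (hQ.compl D hD).1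
      have hle : (_root_.commutator ↥M).map f ≤ (f.comp (Subgroup.inclusion hDM)).range := by
        rintro _ ⟨y, hy, rfl⟩
        have hyσ : (y : G) ∈ sigmaCore M := by
          rw [← hder, ← Subgroup.map_subtype_commutator M]
          exact Subgroup.mem_map_of_mem M.subtype hy
        obtain ⟨a, ha, b, hb, hab⟩ := hD.2.2.2 _ hyσ
        refine ⟨⟨b, hb⟩, ?_⟩
        rw [show y = (⟨a, (hQ.le.trans (sigmaCore_le M)) ha⟩ : M) * ⟨b, hDM hb⟩ from Subtype.ext hab, map_mul,
          hker (x := ⟨a, _⟩) (hQ.le_fittingHall ha), one_mul]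
        rfl
      haveI : Group.IsNilpotent ↥(f.comp (Subgroup.inclusion hDM)).range :=
        Group.nilpotent_of_surjective _ (MonoidHom.rangeRestrict_surjective _)
      exact Group.nilpotent_of_mulEquiv (Subgroup.subgroupOfEquivOfLe hle)

/-- `C_M(M_F) ≤ F(M)`. -/
theorem centralizer_fittingHall_le :
    M ⊓ centralizer (fittingHallOf M : Set G) ≤ fittingOf M := by
  by_cases hn : Group.IsNilpotent (sigmaCore M)
  · rw [← sigmaCore_eq_fittingHallOf hG hM hn]
    exact centralizer_sigmaCore_le_fittingOf hG hI hM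
  obtain ⟨K, U, hKU⟩ := exists_decomposition hG hI.h13 hM
  obtain ⟨hU, hK1, -, Q, hQ⟩ := fCore_of_decomposition hG hI hM hKU hn
  have hprime := (pMaximal_structure hG hI.h13 hM hKU.hall hK1).1
  set C := M ⊓ centralizer (fittingHallOf M : Set G)
  have hCM : C ≤ M := inf_le_left
  have hCQ : C ≤ centralizer (Q : Set G) := inf_le_right.trans (Subgroup.centralizer_le hQ.le_fittingHall)
  obtain ⟨D, hD⟩ := hQ.exists_compl
  obtain ⟨hDn, -, hlt, -, hcard, -⟩ := hQ.compl D hD
  have hC : C ≤ sigmaCore M := by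
    intro c hc
    by_contra hcs
    obtain ⟨r, hr, hrs, hrd, ho⟩ := exists_prime_not_sigma hG hM (hCM hc) hcs
    haveI := Fact.mk hr
    set z := c ^ (orderOf c / r)
    have hzC : z ∈ C := C.pow_mem hc _
    have hrκ : r ∈ kappa M := by
      have hdM : r ∣ Nat.card M := ho ▸ Subgroup.orderOf_dvd_natCard M (hCM hzC)
      rw [← Decomp.card_mul hKU, hU, Subgroup.card_bot, one_mul] at hdM
      rcases hr.dvd_mul.1 hdM with h | h
      · exact hKU.hall.2.1 r hr h
      · exact absurd (isPiGrp_piCoreOf (sigma M) M r hr h) hrs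
    obtain ⟨m, hm, hmK⟩ := exists_conj_le_hall hG hM hKU.hall (Subgroup.zpowers_le.2 (hCM hzC))
      (fun p hp hd => by
        rw [Nat.card_zpowers, ho] at hd
        exact (Nat.prime_dvd_prime_iff_eq hp hr).1 hd ▸ hrκ)
    have hk := hmK z (Subgroup.mem_zpowers z)
    have hk1 : m * z * m⁻¹ ≠ 1 := fun e => hr.ne_one (by
      rw [conj_eq_one_iff] at e
      rw [← ho, e, orderOf_one])
    have hQK : Q ≤ sigmaCore M ⊓ centralizer (K : Set G) := by
      rw [← hprime _ hk hk1]
      refine le_inf hQ.le fun y hy => Subgroup.mem_centralizer_singleton_iff.2 ?_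
      have hy' : m⁻¹ * y * m ∈ Q := by
        simpa using (Subgroup.mem_normalizer_iff.1 (hQ.normal (M.inv_mem hm)) y).1 hy
      have h1 := Subgroup.mem_centralizer_iff.1 (hCQ hzC) _ hy'
      calc y * (m * z * m⁻¹) = m * ((m⁻¹ * y * m) * z) * m⁻¹ := by group
        _ = m * (z * (m⁻¹ * y * m)) * m⁻¹ := by rw [h1]
        _ = m * z * m⁻¹ * y := by group
    have h2 := Subgroup.card_dvd_of_le hQK
    rw [hQ.card_fixed] at h2
    have h3 : Nat.card ↥(sigmaCore M ⊓ centralizer (K : Set G)) ^ Nat.card K ∣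
        Nat.card ↥(sigmaCore M ⊓ centralizer (K : Set G)) :=
      (dvd_mul_left _ _).trans (hcard ▸ h2)
    have h4 := Nat.le_of_dvd hQ.qprime.pos h3
    have h5 := Nat.pow_le_pow_right hQ.qprime.pos hQ.prime_K.two_le
    have h6 := hQ.qprime.two_le
    nlinarith
  refine le_fittingOf hCM (Coprime.le_normalizer_inf_of_le Subgroup.le_normalizer
    (Coprime.le_normalizer_centralizer (le_normalizer_fittingHallOf M))) ?_
  set Q' := Q.subgroupOf (sigmaCore M)
  haveI : Q'.Normal := Coprime.normal_subgroupOf_of_le_normalizer ((sigmaCore_le M).trans hQ.normal)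
  haveI : Group.IsNilpotent (sigmaCore M ⧸ Q') := by
    haveI := hDn
    refine Group.nilpotent_of_surjective ((QuotientGroup.mk' Q').comp (Subgroup.inclusion hD.2.1)) ?_
    intro y
    obtain ⟨⟨s, hs⟩, rfl⟩ := QuotientGroup.mk'_surjective Q' y
    obtain ⟨a, ha, b, hb, rfl⟩ := hD.2.2.2 s hs
    refine ⟨⟨b, hb⟩, ?_⟩
    show QuotientGroup.mk' Q' ⟨b, hD.2.1 hb⟩ = QuotientGroup.mk' Q' ⟨a * b, hs⟩
    rw [show (⟨a * b, hs⟩ : sigmaCore M) = ⟨a, hQ.le ha⟩ * ⟨b, hD.2.1 hb⟩ from rfl, map_mul,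
      show QuotientGroup.mk' Q' (⟨a, hQ.le ha⟩ : sigmaCore M) = 1 from (QuotientGroup.eq_one_iff _).2 ha, one_mul]
  refine Subgroup.isNilpotent_of_ker_le_center ((QuotientGroup.mk' Q').comp (Subgroup.inclusion hC)) ?_
  intro y hy
  have hyQ : (y : G) ∈ Q := (QuotientGroup.eq_one_iff (Subgroup.inclusion hC y)).1 hy
  exact Subgroup.mem_center_iff.2 fun z =>
    Subtype.ext (Subgroup.mem_centralizer_iff.1 (hCQ z.2) y hyQ).symm

/-- BG Theorem A: `M'' ≤ F(M) = C_M(M_F) M_F`, and `F(M) ≤ M'` if `κ(M) ≠ ∅` (S1356). -/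
theorem second_derived_le_fitting :
    ⁅⁅M, M⁆, ⁅M, M⁆⁆ ≤ fittingOf M ∧
      fittingOf M = (M ⊓ centralizer (fittingHallOf M : Set G)) ⊔ fittingHallOf M ∧
      ((kappa M).Nonempty → fittingOf M ≤ ⁅M, M⁆) := by
  obtain ⟨K, U, hKU⟩ := exists_decomposition hG hI.h13 hM
  have hFeq : fittingOf M = (M ⊓ centralizer (fittingHallOf M : Set G)) ⊔ fittingHallOf M :=
    le_antisymm (fittingOf_le_centralizer_sup M)
      (sup_le (centralizer_fittingHall_le hG hI hM) (fittingHallOf_le_fittingOf M))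
  refine ⟨?_, hFeq, fun hκ => ?_⟩
  · by_cases hn : Group.IsNilpotent (sigmaCore M)
    · have hE := Decomp.isComplIn_sup hG hM hKU
      haveI : ((sigmaCore M).subgroupOf M).Normal := sigmaCore_normal_subgroupOf
      set f := QuotientGroup.mk' ((sigmaCore M).subgroupOf M)
      have hle : (_root_.commutator M).map f ≤
          (_root_.commutator ↥(U ⊔ K : Subgroup G)).map (f.comp (Subgroup.inclusion hE.1)) :=
        map_commutator_le hE f (by rw [QuotientGroup.ker_mk'])
      have hab := (S1420.result hG M hM _ hE).2.1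
      have h2 : ⁅(_root_.commutator M).map f, (_root_.commutator M).map f⁆ = ⊥ := by
        refine le_bot_iff.1 ((Subgroup.commutator_mono hle hle).trans ?_)
        rw [← Subgroup.map_commutator]
        refine (Subgroup.map_mono (le_of_eq ?_)).trans (Subgroup.map_bot _).le
        refine (Subgroup.map_eq_bot_iff_of_injective _ (U ⊔ K : Subgroup G).subtype_injective).1 ?_
        rw [Subgroup.map_commutator, Subgroup.map_subtype_commutator]
        refine le_bot_iff.1 (Subgroup.commutator_le.2 fun a ha b hb => ?_)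
        exact Subgroup.mem_bot.2
          (commutatorElement_eq_one_iff_mul_comm.2 (PGroup.mul_comm_of_isMulCommutative hab ha hb))
      rw [← Subgroup.map_commutator, Subgroup.map_eq_bot_iff, QuotientGroup.ker_mk'] at h2
      have h3 := Subgroup.map_mono (f := M.subtype) h2
      rw [Subgroup.map_commutator, Subgroup.map_subtype_commutator,
        Subgroup.map_subgroupOf_eq_of_le (sigmaCore_le M)] at h3
      exact h3.trans ((le_fittingOf (sigmaCore_le M) (le_normalizer_sigmaCore M) hn))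
    · obtain ⟨-, -, hder, Q, hQ⟩ := fCore_of_decomposition hG hI hM hKU hn
      obtain ⟨D, hD⟩ := hQ.exists_compl
      obtain ⟨hDn, -, -, -, -, -, hD', -⟩ := hQ.compl D hD
      rw [hder, fittingOf_eq_of_not_nilpotent hG hI hM hKU hn]
      have hQF : Q ≤ fittingOf (sigmaCore M) :=
        le_fittingOf hQ.le ((sigmaCore_le M).trans hQ.normal)
          (haveI := Fact.mk hQ.qprime; hQ.pgroup.isNilpotent)
      have hD'D : ⁅D, D⁆ ≤ D := D.commutator_le_self
      have hDF : ⁅D, D⁆ ≤ fittingOf (sigmaCore M) := by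
        refine le_fittingOf (hD'D.trans hD.2.1) (fun s hs => ?_) ?_
        · obtain ⟨a, ha, b, hb, rfl⟩ := hD.2.2.2 s hs
          refine Subgroup.mul_mem _ (Subgroup.centralizer_le_normalizer _ ?_)
            (Subgroup.normalizer_commutator_ge_left D D hb)
          exact Subgroup.le_centralizer_iff.1 hD' ha
        · haveI := hDn
          exact Group.nilpotent_of_mulEquiv (Subgroup.subgroupOfEquivOfLe hD'D)
      haveI : (Q.subgroupOf (sigmaCore M)).Normal :=
        Coprime.normal_subgroupOf_of_le_normalizer ((sigmaCore_le M).trans hQ.normal)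
      set f := QuotientGroup.mk' (Q.subgroupOf (sigmaCore M))
      have hQ' : ∀ {a : G} (ha : a ∈ Q), f ⟨a, hQ.le ha⟩ = 1 := fun ha => (QuotientGroup.eq_one_iff _).2 ha
      rw [Subgroup.commutator_le]
      intro x hx y hy
      obtain ⟨a, ha, b, hb, rfl⟩ := hD.2.2.2 x hx
      obtain ⟨a', ha', b', hb', rfl⟩ := hD.2.2.2 y hy
      have h1 : f ⁅(⟨a * b, hx⟩ : sigmaCore M), ⟨a' * b', hy⟩⁆ =
          f ⁅(⟨b, hD.2.1 hb⟩ : sigmaCore M), ⟨b', hD.2.1 hb'⟩⁆ := by
        rw [show (⟨a * b, hx⟩ : sigmaCore M) = ⟨a, hQ.le ha⟩ * ⟨b, hD.2.1 hb⟩ from rfl,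
          show (⟨a' * b', hy⟩ : sigmaCore M) = ⟨a', hQ.le ha'⟩ * ⟨b', hD.2.1 hb'⟩ from rfl,
          map_commutatorElement, map_mul, map_mul, hQ' ha, hQ' ha', one_mul, one_mul, map_commutatorElement]
      have h4 : (⁅b, b'⁆ : G)⁻¹ * ⁅a * b, a' * b'⁆ ∈ Q := by
        have h5 := (QuotientGroup.eq).1 h1.symm
        simpa [commutatorElement_def, Subgroup.mem_subgroupOf] using h5
      have := Subgroup.mul_mem _ (hDF (Subgroup.commutator_mem_commutator hb hb')) (hQF h4)
      rwa [mul_inv_cancel_left] at this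
  · obtain ⟨p, hp⟩ := hκ
    haveI := Fact.mk hp.1
    by_cases hn : Group.IsNilpotent (sigmaCore M)
    · rw [fittingOf_eq_sup M]
      refine sup_le (((fittingOf_le _)).trans (sigmaCore_le_commutator hG hM)) ?_
      obtain ⟨x, hx⟩ := exists_prime_orderOf_dvd_card' (G := M) p hp.2.1
      obtain ⟨m, hm, hmK⟩ := exists_conj_le_hall hG hM hKU.hall (Subgroup.zpowers_le.2 x.2)
        (fun r hr hd => by
          rw [Nat.card_zpowers, Subgroup.orderOf_coe, hx] at hd
          exact (Nat.prime_dvd_prime_iff_eq hr hp.1).1 hd ▸ hp)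
      set k := m * (x : G) * m⁻¹
      have hk : k ∈ K := hmK x (Subgroup.mem_zpowers _)
      have hk1 : k ≠ 1 := fun e => hp.1.ne_one (by
        rw [conj_eq_one_iff] at e
        rw [← hx, ← Subgroup.orderOf_coe, e, orderOf_one])
      have hK1 : K ≠ ⊥ := fun e => hk1 (Subgroup.mem_bot.1 (e ▸ hk))
      set Y := sigmaComplCore M with hY
      have hYM : Y ≤ M := (sigmaComplCore_le_fittingOf M).trans (fittingOf_le M)
      have hkY : zpowers k ≤ normalizer (Y : Set G) :=
        Subgroup.zpowers_le.2 (le_normalizer_sigmaComplCore M (hKU.hall.1 hk))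
      have hcop : (Nat.card (zpowers k)).Coprime (Nat.card Y) := Nat.coprime_of_dvd fun r hr h1 h2 => by
        haveI := Fact.mk hr
        exact not_mem_tau2_of_kappa
          (hKU.hall.2.1 r hr (h1.trans (Subgroup.card_dvd_of_le (Subgroup.zpowers_le.2 hk))))
          (mem_tau2_of_dvd_sigmaComplCore hG hM h2)
      have hbot : Y ⊓ centralizer (zpowers k : Set G) = ⊥ := by
        rw [Semiprime.centralizer_zpowers]
        refine le_bot_iff.1 fun y hy => ?_
        by_contra hy1
        have hyK : y ∈ K ⊔ (sigmaCore M ⊓ centralizer (K : Set G)) := by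
          rw [← (kappa_centralizer hG hI.h13 hM hKU.hall).2 hK1 k hk hk1]
          exact ⟨hYM hy.1, hy.2⟩
        obtain ⟨r, hr, hrd⟩ := Nat.exists_prime_and_dvd (n := orderOf y)
          (fun e => hy1 (Subgroup.mem_bot.2 (orderOf_eq_one_iff.1 e)))
        haveI := Fact.mk hr
        have hrY := hrd.trans (Subgroup.orderOf_dvd_natCard Y hy.1)
        have hτ := mem_tau2_of_dvd_sigmaComplCore hG hM hrY
        have h2 := hrd.trans ((Subgroup.orderOf_dvd_natCard _ hyK).trans
          (Subgroup.card_dvd_of_le (sup_le_sup_left (inf_le_left : sigmaCore M ⊓ _ ≤ sigmaCore M) K)))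
        rw [Coprime.card_sup_of_le_normalizer (Decomp.le_normalizer_left hKU) (Decomp.inf_sigmaCore hKU)] at h2
        rcases hr.dvd_mul.1 h2 with h | h
        · exact not_mem_tau2_of_kappa (hKU.hall.2.1 r hr h) hτ
        · exact hτ.2.1 (isPiGrp_piCoreOf (sigma M) M r hr h)
      have hsol : Group.IsSolvable (zpowers k) :=
        Coprime.isSolvable_of_le (Subgroup.zpowers_le.2 (hKU.hall.1 hk)) (isSolvable_of_coatom hG hM)
      rw [← commutator_eq_of_fpf hkY hcop hsol hbot]
      exact Subgroup.commutator_mono hYM (Subgroup.zpowers_le.2 (hKU.hall.1 hk))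
    · rw [fittingOf_eq_of_not_nilpotent hG hI hM hKU hn]
      exact (fittingOf_le _).trans (sigmaCore_le_commutator hG hM)

/-- BG 15.2 (S1357): if `M_F ≠ M_σ` then `U = 1`, `F(M)` is TI and `|K|` is prime. -/
theorem fittingHall_ne_sigmaCore {K U : Subgroup G} (hKU : IsSigmaDecomposition M K U)
    (hne : fittingHallOf M ≠ sigmaCore M) :
    U = ⊥ ∧ IsTISubset (fittingOf M : Set G) ∧ (Nat.card K).Prime := by
  have hnn := not_nilpotent_of_ne hG hM hne
  obtain ⟨hU, -, -, Q, hQ⟩ := fCore_of_decomposition hG hI hM hKU hnn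
  refine ⟨hU, ?_, hQ.prime_K⟩
  set q := Nat.card ↥(sigmaCore M ⊓ centralizer (K : Set G))
  haveI := Fact.mk hQ.qprime
  have hF : fittingOf M ≤ sigmaCore M := by
    rw [fittingOf_eq_of_not_nilpotent hG hI hM hKU hnn]; exact fittingOf_le _
  have hQF : Q ≤ fittingOf M :=
    hQ.le_fittingHall.trans (fittingHallOf_le_fittingOf M)
  have hidx : ¬ q ∣ (Q.subgroupOf (sigmaCore M)).index := hQ.sylow
  set P := (show IsPGroup q (Q.subgroupOf (sigmaCore M)) from hQ.pgroup.comap_subtype).toSylow hidx with hP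
  have hPQ : (P : Subgroup ↥(sigmaCore M)).map (sigmaCore M).subtype = Q := by
    rw [hP, IsPGroup.toSylow_coe, Subgroup.map_subgroupOf_eq_of_le hQ.le]
  have hQu : InUniqueMaximal Q := by
    obtain ⟨z, hz⟩ := exists_prime_orderOf_dvd_card' (G := ↥(sigmaCore M ⊓ centralizer (K : Set G))) q dvd_rfl
    rw [← Subgroup.orderOf_coe] at hz
    exact hPQ ▸ (S1423.result hG M hM q (alpha_subset_sigma hG hM hQ.mem_beta.1) (zpowers (z : G))
      (Subgroup.zpowers_le.2 (sigmaCore_le M z.2.1)) (by rw [Nat.card_zpowers, hz]) P (Or.inl hQ.mem_beta)).2.1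
  intro g hg x hx hgx
  by_contra hx1
  have hgM : g ∉ M := fun h => hg (le_normalizer_fittingOf M h)
  obtain ⟨r, hr, hrd⟩ := Nat.exists_prime_and_dvd (n := orderOf x) (fun e => hx1 (orderOf_eq_one_iff.1 e))
  haveI := Fact.mk hr
  have hcent : ∀ b ∈ fittingOf M, orderOf b = r → centralizer ({b} : Set G) ≤ M ∧
      ∀ L : Subgroup G, IsCoatom L → centralizer ({b} : Set G) ≤ L → L = M := by
    intro b hb ho
    have hbM : b ∈ M := fittingOf_le M hb
    rcases eq_or_ne r q with rfl | hne'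
    · have h := (S1423.result hG M hM q (isPiGrp_piCoreOf (sigma M) M q hr
        (ho ▸ Subgroup.orderOf_dvd_natCard _ (hF hb))) (zpowers b) (Subgroup.zpowers_le.2 hbM)
        (by rw [Nat.card_zpowers, ho]) P (Or.inl hQ.mem_beta)).1
      rwa [Semiprime.centralizer_zpowers] at h
    · have hQb : Q ≤ centralizer ({b} : Set G) := fun y hy => Subgroup.mem_centralizer_singleton_iff.2
        (Subgroup.mem_centralizer_iff.1 (Semiprime.mem_centralizer_of_nilpotent (q := q)
          (isNilpotent_fittingOf M) hQF hQ.pgroup hb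
          (by rw [ho]; exact (Nat.coprime_primes hr hQ.qprime).2 hne')) y hy)
      have hu := inUniqueMaximal_of_le hQu hQb (centralizer_singleton_ne_top_of_minSimple hG
        fun e => hr.ne_one (by rw [← ho, e, orderOf_one]))
      obtain ⟨M₀, ⟨hM₀, hle⟩, huniq⟩ := hu
      have hQM₀ : Q ≤ M₀ := hQb.trans hle
      obtain ⟨M₁, -, huQ⟩ := hQu
      have e : M₀ = M := (huQ M₀ ⟨hM₀, hQM₀⟩).trans (huQ M ⟨hM, hQ.le.trans (sigmaCore_le M)⟩).symm
      subst e
      exact ⟨hle, fun L hL hbL => huniq L ⟨hL, hbL⟩⟩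
  set b := x ^ (orderOf x / r)
  have hbo : orderOf b = r := orderOf_pow_orderOf_div (orderOf_pos x).ne' hrd
  have hb' : g * b * g⁻¹ ∈ fittingOf M := by
    rw [← conj_pow]; exact Subgroup.pow_mem _ hgx _
  obtain ⟨h1, -⟩ := hcent b (Subgroup.pow_mem _ hx _) hbo
  obtain ⟨-, h2⟩ := hcent (g * b * g⁻¹) hb'
    (by rw [show g * b * g⁻¹ = MulAut.conj g b from rfl, MulEquiv.orderOf_eq, hbo])
  have hMM := h2 (MulAut.conj g • M) (isCoatom_conj hM g) (by
    rw [← conj_smul_centralizer]
    exact Subgroup.pointwise_smul_le_pointwise_smul_iff.2 h1)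
  refine hgM ?_
  rw [← normalizer_eq_of_normal hG hM le_rfl Subgroup.le_normalizer
    (fun e => sigmaCore_ne_bot hG hM (le_bot_iff.1 (e ▸ sigmaCore_le M)))]
  exact Coprime.mem_normalizer_of_conj_smul_eq hMM

/-- BG 15.2 (S1437). -/
theorem fittingHall_ne_sigmaCore_structure {K U : Subgroup G} (hKU : IsSigmaDecomposition M K U)
    (hne : fittingHallOf M ≠ sigmaCore M) :
    U = ⊥ ∧ sigmaCore M = ⁅M, M⁆ ∧ (Nat.card K).Prime ∧
      (Nat.card ↥(sigmaCore M ⊓ centralizer (K : Set G))).Prime ∧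
      Nat.card ↥(sigmaCore M ⊓ centralizer (K : Set G)) ∣ Nat.card (fittingHallOf M) ∧
      Nat.card ↥(sigmaCore M ⊓ centralizer (K : Set G)) ∈ beta M ∧
      ∃ Q : Subgroup G, Q ≤ fittingHallOf M ∧ M ≤ normalizer (Q : Set G) ∧
        IsPGroup (Nat.card ↥(sigmaCore M ⊓ centralizer (K : Set G))) Q ∧
        ¬ Nat.card ↥(sigmaCore M ⊓ centralizer (K : Set G)) ∣ Q.relIndex (sigmaCore M) ∧
        ∀ D : Subgroup G, IsComplIn Q D (sigmaCore M) →
          Group.IsNilpotent D ∧ M ≤ normalizer ((Q ⊓ centralizer (D : Set G) : Subgroup G) : Set G) ∧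
          Q ⊓ centralizer (D : Set G) < Q ∧
          Nat.card Q = Nat.card ↥(Q ⊓ centralizer (D : Set G)) *
            Nat.card ↥(sigmaCore M ⊓ centralizer (K : Set G)) ^ Nat.card K ∧
          (∀ a ∈ Q, ∀ b ∈ Q,
            a ^ Nat.card ↥(sigmaCore M ⊓ centralizer (K : Set G)) ∈ Q ⊓ centralizer (D : Set G) ∧
            a * b * a⁻¹ * b⁻¹ ∈ Q ⊓ centralizer (D : Set G)) ∧
          ∀ N : Subgroup G, Q ⊓ centralizer (D : Set G) < N → N < Q → ¬ M ≤ normalizer (N : Set G) := by
  obtain ⟨hU, -, hder, Q, hQ⟩ := fCore_of_decomposition hG hI hM hKU (not_nilpotent_of_ne hG hM hne)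
  refine ⟨hU, hder.symm, hQ.prime_K, hQ.qprime, ?_, hQ.mem_beta, Q, hQ.le_fittingHall, hQ.normal, hQ.pgroup,
    hQ.sylow, fun D hD => ?_⟩
  · exact Subgroup.card_dvd_of_le (hQ.fixed_le.trans hQ.le_fittingHall)
  · obtain ⟨h1, h2, h3, -, h5, h6, -, h8⟩ := hQ.compl D hD
    exact ⟨h1, h2, h3, h5, h6, h8⟩

end Cfsg.Agent.OddOrder
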