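import Cfsg.Agent.Lib.OddOrder.MemberCount

/-!
# Bender–Glauberman 14.7: the maximal subgroup `M*` attached to `M`
-/

set_option autoImplicit false
set_option linter.unusedSectionVars false
set_option linter.style.haveILetI false

namespace Cfsg.Agent.OddOrder

open Cfsg
open Subgroup (centralizer normalizer zpowers)
open scoped Pointwise

universe u
variable {G : Type u} [Group G] [Finite G]

namespace Member

variable {Z M K : Subgroup G} (m : Member Z M K)
include m

/-- Distinct members share no prime: the `σ`-part of one is in the `κ`-part of the other. -/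
theorem part_le_of_ne {L K' : Subgroup G} (m' : Member Z L K') (hne : L ≠ M) :
    Cfsg.sigmaCore L ⊓ centralizer (K' : Set G) ≤ K :=
  fun _ hx => m.mem_K (m'.le_part hx) fun l hl hld hs =>
    hne (m.eq_of_mem_sigma m' hs (primes_of_mem m'.part_primes hx l hl hld))

theorem eq_of_ne_prime (hK : (Nat.card K).Prime) {L₁ K₁ L₂ K₂ : Subgroup G} (m₁ : Member Z L₁ K₁)
    (h1 : L₁ ≠ M) (m₂ : Member Z L₂ K₂) (h2 : L₂ ≠ M) : L₂ = L₁ := by
  obtain ⟨x, hx, hx1⟩ := (Subgroup.bot_or_exists_ne_one _).resolve_left m₂.part_ne_bot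
  have key : Cfsg.sigmaCore L₁ ⊓ centralizer (K₁ : Set G) = K := by
    refine Subgroup.eq_of_le_of_card_ge (m.part_le_of_ne m₁ h1) (le_of_eq ?_)
    rcases (Nat.dvd_prime hK).1 (Subgroup.card_dvd_of_le (m.part_le_of_ne m₁ h1)) with e | e
    · exact absurd (Subgroup.card_eq_one.1 e) m₁.part_ne_bot
    · exact e.symm
  obtain ⟨l, hl, hld⟩ := Nat.exists_prime_and_dvd (fun e => hx1 (orderOf_eq_one_iff.1 e))
  exact m₁.eq_of_mem_sigma m₂ (primes_of_mem m₁.part_primes (key ▸ m.part_le_of_ne m₂ h2 hx) l hl hld)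
    (primes_of_mem m₂.part_primes hx l hl hld)

/-- `Z` has exactly two members. -/
theorem exists_pair : ∃ L K' : Subgroup G, Member Z L K' ∧ L ≠ M ∧
    Cfsg.sigmaCore L ⊓ centralizer (K' : Set G) = K ∧
    K' = Cfsg.sigmaCore M ⊓ centralizer (K : Set G) ∧
    (∀ N K₀ : Subgroup G, Member Z N K₀ → N = M ∨ N = L) ∧
    (Nat.card M ≠ Nat.card (Cfsg.sigmaCore M) * Nat.card K ∨
      Nat.card L ≠ Nat.card (Cfsg.sigmaCore L) * Nat.card K') := by
  obtain ⟨L₀, K₀, m₀, hne₀⟩ := m.exists_card_ne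
  obtain ⟨E₀, d₀⟩ := m₀.exists_data
  have hp₀ := d₀.prime_card_of_ne hne₀
  obtain ⟨L, K', m', hLM, -⟩ := m.exists_other
  have hall : ∀ N K₁ : Subgroup G, Member Z N K₁ → N = M ∨ N = L := by
    intro N K₁ mN
    rcases eq_or_ne N M with rfl | hNM
    · exact Or.inl rfl
    refine Or.inr ?_
    rcases eq_or_ne N L₀ with rfl | hN0
    · by_contra hNL
      exact hLM (m₀.eq_of_ne_prime hp₀ m hNM.symm m' (Ne.symm hNL))
    rcases eq_or_ne L L₀ with rfl | hL0
    · exact absurd (m₀.eq_of_ne_prime hp₀ m hLM.symm mN hN0) hNM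
    · exact m₀.eq_of_ne_prime hp₀ m' hL0 mN hN0
  have hpart : Cfsg.sigmaCore L ⊓ centralizer (K' : Set G) = K := by
    refine le_antisymm (m.part_le_of_ne m' hLM) fun k hk => m'.mem_part (m.le_K hk) fun l hl hld => ?_
    haveI := Fact.mk hl
    obtain ⟨N, K₁, mN, hlN⟩ := m.exists_member (hld.trans (Subgroup.orderOf_dvd_natCard Z (m.le_K hk)))
    rcases hall N K₁ mN with rfl | rfl
    · exact absurd hlN (primes_of_mem (π := fun p => p ∉ Cfsg.sigma N) m.kappa_primes hk l hl hld)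
    · exact hlN
  refine ⟨L, K', m', hLM, hpart, le_antisymm (fun k hk => ?_) (fun x hx => ?_), hall, ?_⟩
  · refine m.mem_part (m'.le_K hk) fun l hl hld => ?_
    haveI := Fact.mk hl
    obtain ⟨N, K₁, mN, hlN⟩ := m.exists_member (hld.trans (Subgroup.orderOf_dvd_natCard Z (m'.le_K hk)))
    rcases hall N K₁ mN with rfl | rfl
    · exact hlN
    · exact absurd hlN (primes_of_mem (π := fun p => p ∉ Cfsg.sigma N) m'.kappa_primes hk l hl hld)
  · refine m'.mem_K (m.le_part hx) fun l hl hld hs => hLM ?_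
    exact m.eq_of_mem_sigma m' (primes_of_mem m.part_primes hx l hl hld) hs
  · rcases hall L₀ K₀ m₀ with rfl | rfl
    · refine Or.inl ?_
      have h := m₀.card_eq
      rw [m₀.part_eq] at h
      have h' := m.card_eq
      rw [m.part_eq, h] at h'
      rwa [← Nat.eq_of_mul_eq_mul_right Nat.card_pos h']
    · refine Or.inr ?_
      have h := m₀.card_eq
      rw [m₀.part_eq] at h
      have h' := m'.card_eq
      rw [m'.part_eq, h] at h'
      rwa [← Nat.eq_of_mul_eq_mul_right Nat.card_pos h']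

end Member

/-- `M` and `M*` in the position of BG 14.7. -/
structure DualPair (M Mstar K : Subgroup G) : Prop where
  mem : Member (K ⊔ (Cfsg.sigmaCore M ⊓ centralizer (K : Set G))) M K
  mem' : Member (K ⊔ (Cfsg.sigmaCore M ⊓ centralizer (K : Set G))) Mstar
    (Cfsg.sigmaCore M ⊓ centralizer (K : Set G))
  part : Cfsg.sigmaCore Mstar ⊓
    centralizer ((Cfsg.sigmaCore M ⊓ centralizer (K : Set G) : Subgroup G) : Set G) = K
  ne : Mstar ≠ M
  only : ∀ N K₀ : Subgroup G, Member (K ⊔ (Cfsg.sigmaCore M ⊓ centralizer (K : Set G))) N K₀ → N = M ∨ N = Mstar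
  small : Nat.card M ≠ Nat.card (Cfsg.sigmaCore M) * Nat.card K ∨
    Nat.card Mstar ≠ Nat.card (Cfsg.sigmaCore Mstar) * Nat.card ↥(Cfsg.sigmaCore M ⊓ centralizer (K : Set G))

theorem member_self (hG : IsMinSimpleOddOrder G) (h13 : BG13 G) {M K : Subgroup G} (hM : IsCoatom M)
    (hK : IsPiHallOf (kappa M) K M) (hK1 : K ≠ ⊥) :
    Member (K ⊔ (sigmaCore M ⊓ centralizer (K : Set G))) M K := ⟨hG, h13, hM, hK, hK1, rfl⟩

theorem exists_dualPair (hG : IsMinSimpleOddOrder G) (h13 : BG13 G) {M K : Subgroup G} (hM : IsCoatom M)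
    (hK : IsPiHallOf (kappa M) K M) (hK1 : K ≠ ⊥) : ∃ Mstar : Subgroup G, DualPair M Mstar K := by
  obtain ⟨L, K', m', hne, hpart, hK', hall, hsmall⟩ := (member_self hG h13 hM hK hK1).exists_pair
  subst hK'
  exact ⟨L, member_self hG h13 hM hK hK1, m', hpart, hne, hall, hsmall⟩

/-- A maximal subgroup satisfying the two conditions of 14.7 is that `M*`. -/
theorem dualPair_of_conditions (hG : IsMinSimpleOddOrder G) (h13 : BG13 G) {M K Mstar : Subgroup G}
    (hM : IsCoatom M) (hK : IsPiHallOf (kappa M) K M) (hK1 : K ≠ ⊥) (hMstar : IsCoatom Mstar)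
    (hKst : K = sigmaCore Mstar ⊓ centralizer ((sigmaCore M ⊓ centralizer (K : Set G) : Subgroup G) : Set G))
    (hKstH : IsPiHallOf (kappa Mstar) (sigmaCore M ⊓ centralizer (K : Set G)) Mstar) :
    DualPair M Mstar K := by
  obtain ⟨L, hL⟩ := exists_dualPair hG h13 hM hK hK1
  have mst : Member (K ⊔ (sigmaCore M ⊓ centralizer (K : Set G))) Mstar
      (sigmaCore M ⊓ centralizer (K : Set G)) :=
    ⟨hG, h13, hMstar, hKstH, hL.mem.part_ne_bot, by rw [← hKst, sup_comm]⟩
  have hne : Mstar ≠ M := fun e => by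
    obtain ⟨p, hp, hpd⟩ := Nat.exists_prime_and_dvd (fun e => hK1 (Subgroup.card_eq_one.1 e))
    refine (hK.2.1 p hp hpd).2.2.1 (e ▸ isPiGrp_piCoreOf (sigma Mstar) Mstar p hp
      (hpd.trans (Subgroup.card_dvd_of_le ?_)))
    rw [hKst]
    exact inf_le_left
  rcases hL.only Mstar _ mst with e | e
  · exact absurd e hne
  · exact e ▸ hL

end Cfsg.Agent.OddOrder
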