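import Cfsg.Agent.Lib.OddOrder.TauTwoAbelian

/-!
# Bender–Glauberman 12.11: the criterion for Frobenius type
-/

set_option autoImplicit false
set_option linter.unusedSectionVars false

namespace Cfsg.Agent.OddOrder

open Cfsg
open Subgroup (centralizer normalizer zpowers)
open scoped Pointwise commutatorElement

universe u
variable {G : Type u} [Group G] [Finite G]

theorem exists_prime_zpowers {e : G} (he : e ≠ 1) :
    ∃ (r : ℕ) (w : G), r.Prime ∧ w ∈ zpowers e ∧ w ≠ 1 ∧ orderOf w = r := by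
  obtain ⟨r, hr, hd⟩ := Nat.exists_prime_and_dvd (n := Nat.card (zpowers e)) (fun h =>
    he (Subgroup.zpowers_eq_bot.1 (Subgroup.card_eq_one.1 h)))
  haveI := Fact.mk hr
  obtain ⟨⟨w, hw⟩, hwo⟩ := exists_prime_orderOf_dvd_card' r hd
  rw [Subgroup.orderOf_mk] at hwo
  exact ⟨r, w, hr, hw, fun e' => hr.ne_one (by rw [← hwo, e', orderOf_one]), hwo⟩

/-- Elements of order prime to a complemented normal subgroup keep their order in the complement. -/
theorem exists_orderOf_dvd_complement {X : Type*} [Group X] [Finite X] {K H : Subgroup X} [K.Normal]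
    (hH : Subgroup.IsComplement' K H) {e : X} (hcop : (orderOf e).Coprime (Nat.card K)) :
    ∃ e' ∈ H, orderOf e ∣ orderOf e' := by
  obtain ⟨⟨k, h⟩, hkh⟩ := hH.2 e
  have hkh' : (k : X) * (h : X) = e := hkh
  refine ⟨h, h.2, orderOf_dvd_of_pow_eq_one ?_⟩
  have h1 : QuotientGroup.mk' K (e ^ orderOf (h : X)) = 1 := by
    rw [← hkh', map_pow, map_mul, show QuotientGroup.mk' K (k : X) = 1 from (QuotientGroup.eq_one_iff _).2 k.2,
      one_mul, ← map_pow, pow_orderOf_eq_one, map_one]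
  have h2 : orderOf (e ^ orderOf (h : X)) ∣ Nat.card K :=
    Subgroup.orderOf_dvd_natCard K ((QuotientGroup.eq_one_iff _).1 h1)
  exact orderOf_eq_one_iff.1 (Nat.eq_one_of_dvd_coprimes hcop
    (orderOf_pow_dvd _) h2)

theorem exponent_eq_of_orders {E E₀ : Subgroup G} (hle : E₀ ≤ E)
    (h : ∀ r : ℕ, r.Prime → ∀ e ∈ E, ∀ i : ℕ, orderOf e = r ^ i → ∃ e' ∈ E₀, r ^ i ∣ orderOf e') :
    Monoid.exponent E₀ = Monoid.exponent E := by
  refine Nat.dvd_antisymm (Monoid.exponent_dvd_of_monoidHom (Subgroup.inclusion hle) (Subgroup.inclusion_injective hle)) ?_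
  refine Monoid.exponent_dvd.2 fun g => (Nat.dvd_iff_prime_pow_dvd_dvd _ _).2 fun r k hr hk => ?_
  have ho : orderOf g ≠ 0 := (orderOf_pos g).ne'
  have h1 : orderOf ((g : G) ^ (orderOf (g : G) / r ^ k)) = r ^ k :=
    orderOf_pow_orderOf_div (by rw [Subgroup.orderOf_coe]; exact ho) (by rw [Subgroup.orderOf_coe]; exact hk)
  obtain ⟨e', he', hd⟩ := h r hr _ (E.pow_mem g.2 _) k h1
  exact hd.trans ((Subgroup.orderOf_mk e' he').symm.dvd.trans (Monoid.order_dvd_exponent (⟨e', he'⟩ : E₀)))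

variable (hG : IsMinSimpleOddOrder G) {M E : Subgroup G} (hM : IsCoatom M)
  (hE : IsComplIn E (Cfsg.sigmaCore M) M)
  (h : ∀ e ∈ E, e ≠ 1 → (∀ p : ℕ, p.Prime → p ∣ orderOf e → p ∈ Cfsg.tau1 M ∪ Cfsg.tau3 M) →
      Cfsg.sigmaCore M ⊓ centralizer ({e} : Set G) = ⊥)
include hG hM hE h

theorem fpf_of_not_tau_two {r : ℕ} (hr : r.Prime) (hrt : r ∉ Cfsg.tau2 M) {u : G} (hu : u ∈ E) (hu1 : u ≠ 1)
    (hur : u ^ r = 1) : Cfsg.sigmaCore M ⊓ centralizer ({u} : Set G) = ⊥ := by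
  haveI := Fact.mk hr
  have huo := orderOf_eq_prime hur hu1
  refine h u hu hu1 fun q hq hd => ?_
  rw [huo, Nat.prime_dvd_prime_iff_eq hq hr] at hd
  subst hd
  have hrE : q ∣ Nat.card E := huo ▸ Subgroup.orderOf_dvd_natCard E hu
  have hrs := not_mem_sigma_of_compl hG hM hE hq hrE
  have hr2 : PRankLE q 2 M := by
    by_contra h2
    exact hrs (alpha_subset_sigma hG hM ⟨hq, h2⟩)
  have hr1 : PRankLE q 1 M := by
    by_contra h1
    exact hrt ⟨hq, hrs, hr2, h1⟩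
  by_cases hd' : q ∣ Nat.card ↥⁅M, M⁆
  · exact Or.inr ⟨hq, hrs, hd', hr1⟩
  · exact Or.inl ⟨hq, hrs, hrE.trans (Subgroup.card_dvd_of_le hE.1), hd', hr1⟩

/-- A nonidentity element with a fixed point has one of prime order in `τ₂(M)`. -/
theorem exists_fixed_prime {e y : G} (he : e ∈ E) (he1 : e ≠ 1) (hy : y ∈ Cfsg.sigmaCore M) (hy1 : y ≠ 1)
    (hey : Commute e y) :
    ∃ (r : ℕ) (w : G), r ∈ Cfsg.tau2 M ∧ w ∈ zpowers e ∧ w ≠ 1 ∧ orderOf w = r ∧
      y ∈ centralizer ({w} : Set G) := by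
  obtain ⟨r, w, hr, hw, hw1, hwo⟩ := exists_prime_zpowers he1
  have hc : y ∈ centralizer ({w} : Set G) :=
    Subgroup.mem_centralizer_singleton_iff.2 (commute_of_mem_zpowers hey.symm hw).eq
  refine ⟨r, w, ?_, hw, hw1, hwo, hc⟩
  by_contra hrt
  refine hy1 (Subgroup.mem_bot.1 ?_)
  rw [← fpf_of_not_tau_two hG hM hE h hr hrt (Subgroup.zpowers_le.2 he hw) hw1 (hwo ▸ pow_orderOf_eq_one w)]
  exact ⟨hy, hc⟩

/-- The case of a nonabelian Sylow subgroup. -/
theorem frobenius_criterion_nonabelian {p : ℕ} [Fact p.Prime] (hp : p ∈ Cfsg.tau2 M)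
    (hS : ∀ S : Sylow p G, ¬ IsMulCommutative (S : Subgroup G)) :
    (∃ A₀ : Subgroup G, A₀ ≤ E ∧ E ≤ normalizer (A₀ : Set G) ∧ IsMulCommutative A₀ ∧
        ∀ x ∈ Cfsg.sigmaCore M, x ≠ 1 → E ⊓ centralizer ({x} : Set G) ≤ A₀) ∧
      ∃ E₀ : Subgroup G, E₀ ≤ E ∧ Monoid.exponent E₀ = Monoid.exponent E ∧
        ∀ e ∈ E₀, e ≠ 1 → Cfsg.sigmaCore M ⊓ centralizer ({e} : Set G) = ⊥ := by
  obtain ⟨A, hAE, hA, hc⟩ := exists_square_le_compl hE hp.2.1 hp.2.2.2
  have hAp := PGroup.isPGroup_of_elementaryAbelian hA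
  obtain ⟨A₀, hx⟩ := exists_exc hG hM hp.2.1 (hAE.trans hE.1) hA hc
  have hEA := hx.complement_le_normalizer hE hAE
  have huniq : ∀ q ∈ Cfsg.tau2 M, q = p := by
    intro q hq
    by_contra hne
    haveI := Fact.mk hq.1
    obtain ⟨B, hBE, hB, hBc⟩ := exists_square_le_compl hE hq.2.1 hq.2.2.2
    obtain ⟨B₀, h'⟩ := exists_exc hG hM hq.2.1 (hBE.trans hE.1) hB hBc
    exact hx.not_second_prime hS hne h' hE hAE hBE
  obtain ⟨R₁, n₁, z₁, hd₁⟩ := hx.exists_movingData hS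
  obtain ⟨hlines, hσ, hA0⟩ := hx.lines_spec hd₁
  have hA0E : A₀ ≤ E := hx.line_le.trans hAE
  have hEA0 : E ≤ normalizer (A₀ : Set G) := hA0 ▸ Coprime.le_normalizer_inf_of_le hEA
    (Coprime.le_normalizer_centralizer (hE.1.trans (le_normalizer_sigmaCore M)))
  have hA0c : IsMulCommutative A₀ := PGroup.isMulCommutative_of_forall fun a ha b hb =>
    PGroup.mul_comm_of_elementaryAbelian hA (hx.line_le ha) (hx.line_le hb)
  -- elements of order `p` with fixed points lie in `A₀`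
  have hord : ∀ u ∈ E, u ^ p = 1 → ∀ y ∈ Cfsg.sigmaCore M, y ≠ 1 → Commute u y → u ∈ A₀ := by
    intro u hu hup y hy hy1 huy
    by_contra hu0
    refine hy1 (Subgroup.mem_bot.1 ?_)
    rw [← (hlines u (hx.mem_of_compl hE hAE hu hup) hu0).1]
    exact ⟨hy, Subgroup.mem_centralizer_singleton_iff.2 huy.symm.eq⟩
  -- top powers are fixed-point-free
  have hhigh : ∀ u ∈ E, ∀ i : ℕ, orderOf u = p ^ (i + 2) →
      Cfsg.sigmaCore M ⊓ centralizer ({u ^ p ^ (i + 1)} : Set G) = ⊥ := by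
    intro u hu i hi
    have hup : IsPGroup p (zpowers u) := IsPGroup.of_card (n := i + 2) (by rw [Nat.card_zpowers, hi])
    obtain ⟨S, hS'⟩ := exists_sylow_map_ge (hup.to_sup_of_normal_right' hAp (Subgroup.zpowers_le.2 (hEA hu)))
      (sup_le (Subgroup.zpowers_le.2 (hE.1 hu)) hx.le)
    have hAS := le_sup_right.trans hS'
    obtain ⟨R, n, z, hd, hSR⟩ := hx.exists_movingData_sylow hS S hAS
    set v := u ^ p ^ i with hv
    have hvS : v ∈ (S : Subgroup M).map M.subtype :=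
      Subgroup.pow_mem _ (hS' (Subgroup.mem_sup_left (Subgroup.mem_zpowers u))) _
    have hvp : v ^ p = u ^ p ^ (i + 1) := by rw [hv, ← pow_mul, ← pow_succ]
    rw [← hvp]
    have hvpp : (v ^ p) ^ p = 1 := by
      rw [hvp, ← pow_mul, ← pow_succ, show i + 1 + 1 = i + 2 from rfl, ← hi]
      exact pow_orderOf_eq_one u
    have hvp1 : v ^ p ≠ 1 := by
      rw [hvp]
      refine pow_ne_one_of_lt_orderOf (pow_pos (Fact.out : p.Prime).pos _).ne' ?_
      rw [hi]
      exact Nat.pow_lt_pow_right (Fact.out : p.Prime).one_lt (by omega)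
    obtain ⟨X, -, hXA, hdec, hXcen⟩ := hx.exists_decomp R hd.le
    obtain ⟨a, ha, t, ht, hat⟩ := hdec v ⟨hSR hvS, hx.le_centralizer_of_sylow S hAS hvS⟩
    have hvt : v ^ p = t ^ p := by rw [← hat, (hXA t ht a ha).mul_pow, hA.2 a ha, one_mul]
    have hnv : Commute n (v ^ p) := by
      rw [hvt]
      exact hXcen _ (X.pow_mem ht p) (by rw [← hvt]; exact hvpp) n hd.mem
    have hvA : v ^ p ∈ A := hx.mem_of_sylow S hAS (Subgroup.pow_mem _ hvS p) hvpp
    have hzp : z ∈ zpowers (v ^ p) :=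
      (zpowers_eq_of_mem (hA.2 z hd.central_mem) (hd.fix _ hvA hnv) hvp1).ge (Subgroup.mem_zpowers z)
    rw [eq_bot_iff, ← hd.central_fpf]
    exact inf_le_inf_left _ fun y hy => Subgroup.mem_centralizer_singleton_iff.2
      (commute_of_mem_zpowers (Subgroup.mem_centralizer_singleton_iff.1 hy) hzp).eq
  refine ⟨⟨A₀, hA0E, hEA0, hA0c, fun y hy hy1 e he => ?_⟩, ?_⟩
  · refine mem_of_forall_primePart fun r hr _ u hu ⟨k, hk⟩ => ?_
    rcases eq_or_ne u 1 with rfl | hu1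
    · exact one_mem _
    have huy : Commute u y :=
      (commute_of_mem_zpowers (Subgroup.mem_centralizer_singleton_iff.1 he.2 : e * y = y * e).symm hu).symm
    have huE : u ∈ E := Subgroup.zpowers_le.2 he.1 hu
    obtain ⟨i, -, hi⟩ := (Nat.dvd_prime_pow hr).1 (orderOf_dvd_of_pow_eq_one hk)
    obtain ⟨r', w, hr', hw, hw1, hwo, -⟩ := exists_fixed_prime hG hM hE h huE hu1 hy hy1 huy
    have hrp : r = p := by
      have h1 : r' ∣ r ^ i := hwo ▸ hi ▸ (Nat.card_zpowers u ▸ Subgroup.orderOf_dvd_natCard (zpowers u) hw)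
      exact ((Nat.prime_dvd_prime_iff_eq hr'.1 hr).1 (hr'.1.dvd_of_dvd_pow h1)).symm.trans (huniq r' hr')
    subst hrp
    rcases i with _ | _ | i
    · exact absurd (orderOf_eq_one_iff.1 (by rw [hi, pow_zero])) hu1
    · exact hord u huE (by rw [← pow_one r, ← hi]; exact pow_orderOf_eq_one u) y hy hy1 huy
    · exfalso
      refine hy1 (Subgroup.mem_bot.1 ?_)
      rw [← hhigh u huE i hi]
      exact ⟨hy, Subgroup.mem_centralizer_singleton_iff.2 (huy.pow_left _).symm.eq⟩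
  obtain ⟨x, hx0, hx1, hxgen⟩ := hx.exists_gen
  have hxE : x ∈ E := hA0E hx0
  obtain ⟨T, hT⟩ := exists_sylow_map_ge hAp hAE
  have hxT : (⟨x, hxE⟩ : E) ∈ (T : Subgroup E) := by
    obtain ⟨t, ht, hte⟩ := hT (hx.line_le hx0)
    exact (Subtype.ext hte : t = ⟨x, hxE⟩) ▸ ht
  set xT : (T : Subgroup E) := ⟨⟨x, hxE⟩, hxT⟩ with hxTdef
  obtain ⟨S, hTS⟩ := exists_sylow_map_ge (T.2.map E.subtype) ((Subgroup.map_subtype_le _).trans hE.1)
  have hTc : ∀ a b : (T : Subgroup E), a * b = b * a := fun a b => Subtype.ext (Subtype.ext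
    (hx.sylow_comm S (hT.trans hTS) _ (hTS ⟨a, a.2, rfl⟩) _ (hTS ⟨b, b.2, rfl⟩)))
  haveI : IsMulCommutative (T : Subgroup E) := ⟨⟨hTc⟩⟩
  have hxfr : xT ∉ frattini (T : Subgroup E) := by
    intro hf
    rw [PGroup.frattini_eq T.2, (commutator_eq_bot_iff _).2 inferInstance, bot_sup_eq] at hf
    have hv : ∃ v : (T : Subgroup E), v ^ p = xT := by
      let f : (T : Subgroup E) →* (T : Subgroup E) :=
        { toFun := fun v => v ^ p
          map_one' := one_pow p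
          map_mul' := fun a b => (show Commute a b from hTc a b).mul_pow p }
      exact (Subgroup.closure_le f.range).2 (by rintro _ ⟨v, rfl⟩; exact ⟨v, rfl⟩) hf
    obtain ⟨v, hv⟩ := hv
    have hv' : (((v : E) : G)) ^ p = x := congrArg (fun w : (T : Subgroup E) => ((w : E) : G)) hv
    have hvo : orderOf (((v : E) : G)) = p ^ (0 + 2) := by
      refine orderOf_eq_prime_pow (n := 0 + 1) (by rw [pow_one]; rwa [hv']) ?_
      rw [show 0 + 1 + 1 = 2 from rfl, pow_two, pow_mul, hv', hA.2 x (hx.line_le hx0)]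
    have h2 := hhigh _ (v : E).2 0 hvo
    rw [zero_add, pow_one, hv'] at h2
    refine sigmaCore_ne_bot hG hM (le_bot_iff.1 ?_)
    rw [← h2]
    exact le_inf le_rfl (hσ.trans (Subgroup.centralizer_le (Set.singleton_subset_iff.2 hx0)))
  obtain ⟨H, hH, hxH⟩ : ∃ H : Subgroup (T : Subgroup E), IsCoatom H ∧ xT ∉ H := by
    by_contra hno
    push Not at hno
    exact hxfr (PGroup.le_frattini_of_forall_coatom (fun H hH => Subgroup.zpowers_le.2 (hno H hH))
      (Subgroup.mem_zpowers xT))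
  set K := A₀.subgroupOf E with hK
  haveI hKn : K.Normal := Coprime.normal_subgroupOf_of_le_normalizer hEA0
  haveI : IsMulCommutative K := PGroup.isMulCommutative_of_forall fun a ha b hb =>
    Subtype.ext (PGroup.mul_comm_of_isMulCommutative hA0c ha hb)
  have hKgen : ∀ a : E, a ∈ K → ∃ j : ℤ, ((xT : E)) ^ j = a := fun a ha => by
    obtain ⟨j, hj⟩ : (a : G) ∈ zpowers x := hxgen.symm ▸ ha
    exact ⟨j, Subtype.ext (by simpa [hxTdef] using hj)⟩
  have hKT : K ≤ (T : Subgroup E) := fun a ha => by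
    obtain ⟨j, rfl⟩ := hKgen a ha
    exact Subgroup.zpow_mem _ xT.2 j
  have hKc : Nat.card K = p := by rw [hK, Coprime.card_subgroupOf hA0E, hx.card_line]
  have hdis : H.map (T : Subgroup E).subtype ⊓ K = ⊥ := by
    rw [eq_bot_iff]
    rintro a ⟨⟨b, hb, rfl⟩, hbK⟩
    rw [Subgroup.mem_bot]
    by_contra hb1
    obtain ⟨j, hj⟩ := hKgen _ hbK
    have hbe : xT ^ j = b := Subtype.ext (by rw [SubgroupClass.coe_zpow]; exact hj)
    have hxp : xT ^ p = 1 := Subtype.ext (Subtype.ext (by simpa [hxTdef] using hA.2 x (hx.line_le hx0)))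
    refine hxH (Subgroup.zpowers_le.2 hb ?_)
    exact (zpowers_eq_of_mem hxp ⟨j, hbe⟩ (fun e => hb1 (by rw [e]; rfl))).ge (Subgroup.mem_zpowers xT)
  have hsup : K ⊔ H.map (T : Subgroup E).subtype = (T : Subgroup E) := by
    refine le_antisymm (sup_le hKT (Subgroup.map_subtype_le _)) fun t ht => ?_
    have htop : zpowers xT ⊔ H = ⊤ := hH.2 _ (lt_of_le_of_ne le_sup_right fun e =>
      hxH (e.ge (Subgroup.mem_sup_left (Subgroup.mem_zpowers xT))))
    have h1 : ((⟨t, ht⟩ : (T : Subgroup E)) : E) ∈ (zpowers xT ⊔ H).map (T : Subgroup E).subtype :=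
      ⟨⟨t, ht⟩, htop.symm ▸ Subgroup.mem_top _, rfl⟩
    rw [Subgroup.map_sup] at h1
    have h2 : (zpowers xT).map (T : Subgroup E).subtype ≤ K := by
      rw [MonoidHom.map_zpowers, Subgroup.zpowers_le]
      exact hx0
    exact (show (zpowers xT).map (T : Subgroup E).subtype ⊔ H.map (T : Subgroup E).subtype ≤ _ from
      sup_le_sup_right h2 _) h1
  obtain ⟨Hc, hHc⟩ := Coprime.exists_complement_of_gaschutz K (T : Subgroup E) hKT
    (hKc ▸ (Fact.out : p.Prime).coprime_iff_not_dvd.2 T.not_dvd_index) (H.map (T : Subgroup E).subtype)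
    (Subgroup.map_subtype_le _) hdis hsup
  refine ⟨Hc.map E.subtype, Subgroup.map_subtype_le _, exponent_eq_of_orders (Subgroup.map_subtype_le _)
    fun r hr e he i hi => ?_, fun e he he1 => ?_⟩
  · rcases i with _ | i
    · exact ⟨1, one_mem _, by simp⟩
    by_cases hrp : r = p
    · subst hrp
      rcases i with _ | i
      · have hd : r ∣ Nat.card Hc := by
          have h1 : r ^ 2 ∣ Nat.card E := hc ▸ Subgroup.card_dvd_of_le hAE
          rw [← hHc.card_mul, hKc, pow_two] at h1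
          exact Nat.dvd_of_mul_dvd_mul_left hr.pos h1
        obtain ⟨w, hw⟩ := exists_prime_orderOf_dvd_card' r hd
        exact ⟨((w : E) : G), ⟨w, w.2, rfl⟩,
          by rw [pow_one, Subgroup.orderOf_coe, Subgroup.orderOf_coe, hw]⟩
      · obtain ⟨⟨k, w⟩, hkw⟩ := hHc.2 (⟨e, he⟩ : E)
        have hkw' : (k : E) * (w : E) = ⟨e, he⟩ := hkw
        refine ⟨((w : E) : G), ⟨w, w.2, rfl⟩, ?_⟩
        have hwd : orderOf (((w : E) : G)) ∣ r ^ (i + 1 + 1) → r ^ (i + 1 + 1) ∣ orderOf (((w : E) : G)) := by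
          intro hd
          obtain ⟨j, hj2, hj⟩ := (Nat.dvd_prime_pow hr).1 hd
          rcases eq_or_lt_of_le hj2 with rfl | hlt
          · exact hj.symm.dvd
          exfalso
          have h1 : (⟨e, he⟩ : E) ^ r ^ (i + 1) ∈ K := by
            refine (QuotientGroup.eq_one_iff _).1 ?_
            rw [← hkw', QuotientGroup.mk_pow, QuotientGroup.mk_mul, (QuotientGroup.eq_one_iff _).2 k.2, one_mul,
              ← QuotientGroup.mk_pow, show (w : E) ^ r ^ (i + 1) = 1 from ?_, QuotientGroup.mk_one]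
            rw [← orderOf_dvd_iff_pow_eq_one, ← Subgroup.orderOf_coe (w : E), hj]
            exact pow_dvd_pow r (by omega)
          refine sigmaCore_ne_bot hG hM (le_bot_iff.1 ?_)
          rw [← hhigh e he i hi]
          exact le_inf le_rfl (hσ.trans (Subgroup.centralizer_le (Set.singleton_subset_iff.2 (show e ^ r ^ (i + 1) ∈ A₀ from h1))))
        refine hwd (orderOf_dvd_of_pow_eq_one ?_)
        have h2 : (w : E) ^ r ^ (i + 1 + 1) ∈ K := by
          refine (QuotientGroup.eq_one_iff _).1 ?_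
          have h3 : (⟨e, he⟩ : E) ^ r ^ (i + 1 + 1) = 1 := Subtype.ext (by
            show e ^ r ^ (i + 1 + 1) = 1
            rw [← hi]; exact pow_orderOf_eq_one e)
          have h4 := congrArg (QuotientGroup.mk' K) h3
          rw [← hkw'] at h4
          simp only [map_pow, map_mul, map_one, QuotientGroup.mk'_apply] at h4
          rw [(QuotientGroup.eq_one_iff _).2 k.2, one_mul] at h4
          exact h4
        have h5 := hHc.disjoint.le_bot (show _ ∈ K ⊓ Hc from ⟨h2, Hc.pow_mem w.2 _⟩)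
        rw [Subgroup.mem_bot] at h5
        exact congrArg Subtype.val h5
    · obtain ⟨e', he', hd⟩ := exists_orderOf_dvd_complement hHc (e := (⟨e, he⟩ : E)) (by
        rw [Subgroup.orderOf_mk, hi, hKc]
        exact ((Nat.coprime_primes hr Fact.out).2 hrp).pow_left _)
      refine ⟨(e' : G), ⟨e', he', rfl⟩, ?_⟩
      rw [Subgroup.orderOf_mk, hi] at hd
      rwa [Subgroup.orderOf_coe]
  · by_contra hne
    obtain ⟨y, ⟨hy, hey⟩, hy1⟩ := (Subgroup.bot_or_exists_ne_one _).resolve_left hne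
    obtain ⟨r, w, hrt, hw, hw1, hwo, hyw⟩ := exists_fixed_prime hG hM hE h (Subgroup.map_subtype_le _ he) he1 hy hy1
      (show Commute e y from (Subgroup.mem_centralizer_singleton_iff.1 hey).symm)
    obtain ⟨w', hw', rfl⟩ := Subgroup.zpowers_le.2 he hw
    rw [huniq r hrt] at hwo
    have hwK : w' ∈ K := hord _ w'.2 (hwo ▸ pow_orderOf_eq_one (w' : G)) y hy hy1
      (show Commute (w' : G) y from (Subgroup.mem_centralizer_singleton_iff.1 hyw).symm)
    have h5 := hHc.disjoint.le_bot (show w' ∈ K ⊓ Hc from ⟨hwK, hw'⟩)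
    rw [Subgroup.mem_bot] at h5
    exact hw1 (congrArg Subtype.val h5)

/-- The case of abelian Sylow subgroups. -/
theorem frobenius_criterion_abelian
    (hab : ∀ p ∈ Cfsg.tau2 M, ∃ S : Sylow p G, IsMulCommutative (S : Subgroup G)) :
    (∃ A₀ : Subgroup G, A₀ ≤ E ∧ E ≤ normalizer (A₀ : Set G) ∧ IsMulCommutative A₀ ∧
        ∀ x ∈ Cfsg.sigmaCore M, x ≠ 1 → E ⊓ centralizer ({x} : Set G) ≤ A₀) ∧
      ∃ E₀ : Subgroup G, E₀ ≤ E ∧ Monoid.exponent E₀ = Monoid.exponent E ∧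
        ∀ e ∈ E₀, e ≠ 1 → Cfsg.sigmaCore M ⊓ centralizer ({e} : Set G) = ⊥ := by
  classical
  have hdata : ∀ p ∈ Cfsg.tau2 M, ∀ [Fact p.Prime], ∃ A A₀ : Subgroup G, AbelianTau p M E A A₀ := by
    intro p hp _
    obtain ⟨A, hAE, hA, hc⟩ := exists_square_le_compl hE hp.2.1 hp.2.2.2
    obtain ⟨A₀, hx⟩ := exists_exc hG hM hp.2.1 (hAE.trans hE.1) hA hc
    exact ⟨A, A₀, hx, hE, hAE, hab p hp⟩
  have hmemp : ∀ q ∈ Cfsg.tau2 M, ∀ u ∈ E, (∃ k : ℕ, u ^ q ^ k = 1) → u ∈ pOf q E := by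
    intro q hq u hu ⟨k, hk⟩
    haveI := Fact.mk hq.1
    obtain ⟨A, A₀, hd⟩ := hdata q hq
    obtain ⟨R, hRE, -, -, -, -, hmemR, -⟩ := hd.spec
    exact hRE.le (hmemR u (hd.exc.complement_le_normalizer hE hd.le_compl hu) k hk)
  set A₀ := piCoreOf (Cfsg.tau2 M) E with hA₀
  have hA₀E : A₀ ≤ E := piCoreOf_le _ E
  have hEA₀ : E ≤ normalizer (A₀ : Set G) := le_normalizer_piCoreOf _ E
  have hpA₀ : ∀ q ∈ Cfsg.tau2 M, pOf q E ≤ A₀ := fun q hq => by
    refine le_piCoreOf (pOf_le E) (le_normalizer_pOf E) fun l hl hd => ?_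
    haveI := Fact.mk hq.1
    obtain ⟨k, hk⟩ := (isPGroup_pOf (r := q) E).exists_card_eq
    exact (Nat.prime_dvd_prime_iff_eq hl hq.1).1 (hl.dvd_of_dvd_pow (hk ▸ hd)) ▸ hq
  have hA₀c : IsMulCommutative A₀ := by
    refine PGroup.isMulCommutative_of_forall fun x hx y hy => ?_
    suffices hh : x ∈ centralizer ({y} : Set G) from Subgroup.mem_centralizer_singleton_iff.1 hh
    refine mem_of_forall_primePart fun r hr hd u hu hku => Subgroup.mem_centralizer_singleton_iff.2 ?_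
    suffices hh : y ∈ centralizer ({u} : Set G) from (Subgroup.mem_centralizer_singleton_iff.1 hh).symm
    refine mem_of_forall_primePart fun s hs hd' v hv hkv => Subgroup.mem_centralizer_singleton_iff.2 ?_
    have hrt := isPiGrp_piCoreOf (Cfsg.tau2 M) E r hr (hd.trans (Subgroup.orderOf_dvd_natCard A₀ hx))
    have hst := isPiGrp_piCoreOf (Cfsg.tau2 M) E s hs (hd'.trans (Subgroup.orderOf_dvd_natCard A₀ hy))
    have hu' := hmemp r hrt u (hA₀E (Subgroup.zpowers_le.2 hx hu)) hku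
    have hv' := hmemp s hst v (hA₀E (Subgroup.zpowers_le.2 hy hv)) hkv
    haveI := Fact.mk hr
    haveI := Fact.mk hs
    rcases eq_or_ne s r with rfl | hne
    · obtain ⟨A, A', hd2⟩ := hdata s hst
      obtain ⟨R, hRE, -, hRc, -, -, -, -⟩ := hd2.spec
      exact PGroup.mul_comm_of_isMulCommutative hRc (hRE.ge hv') (hRE.ge hu')
    · exact (Subgroup.mem_centralizer_iff.1 (pOf_le_centralizer_pOf hne E hv') u hu').symm
  refine ⟨⟨A₀, hA₀E, hEA₀, hA₀c, fun y hy hy1 e he => ?_⟩, ?_⟩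
  · refine mem_of_forall_primePart fun r hr _ u hu ⟨k, hk⟩ => ?_
    rcases eq_or_ne u 1 with rfl | hu1
    · exact one_mem _
    have huE : u ∈ E := Subgroup.zpowers_le.2 he.1 hu
    obtain ⟨r', w, hr', hw, hw1, hwo, -⟩ := exists_fixed_prime hG hM hE h huE hu1 hy hy1
      ((commute_of_mem_zpowers (Subgroup.mem_centralizer_singleton_iff.1 he.2 : e * y = y * e).symm hu).symm)
    obtain ⟨i, -, hi⟩ := (Nat.dvd_prime_pow hr).1 (orderOf_dvd_of_pow_eq_one hk)
    have h1 : r' ∣ r ^ i := hwo ▸ hi ▸ (Nat.card_zpowers u ▸ Subgroup.orderOf_dvd_natCard (zpowers u) hw)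
    have hrr := (Nat.prime_dvd_prime_iff_eq hr'.1 hr).1 (hr'.1.dvd_of_dvd_pow h1)
    exact hpA₀ r (hrr ▸ hr') (hmemp r (hrr ▸ hr') u huE ⟨k, hk⟩)
  -- a complement of `A₀`
  haveI : (A₀.subgroupOf E).Normal := Coprime.normal_subgroupOf_of_le_normalizer hEA₀
  have hidx : ∀ q ∈ Cfsg.tau2 M, ¬ q ∣ (A₀.subgroupOf E).index := by
    intro q hq hd
    haveI := Fact.mk hq.1
    obtain ⟨A, A', hd2⟩ := hdata q hq
    obtain ⟨R, hRE, -, -, -, -, -, -⟩ := hd2.spec
    have hRE' : (R : Subgroup G) ≤ E := hRE.le.trans (pOf_le E)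
    refine R.not_dvd_index ((hd.trans (Subgroup.index_dvd_of_le ?_)).trans
      (Subgroup.relIndex_dvd_index_of_le hRE'))
    exact fun a ha => hpA₀ q hq (hRE.le ha)
  have hAc : Nat.card (A₀.subgroupOf E) = Nat.card A₀ := Coprime.card_subgroupOf hA₀E
  obtain ⟨K', hK'⟩ := Subgroup.exists_right_complement'_of_coprime (N := A₀.subgroupOf E)
    (Nat.coprime_of_dvd fun l hl h1 h2 => hidx l (isPiGrp_piCoreOf (Cfsg.tau2 M) E l hl (hAc ▸ h1)) h2)
  set K := K'.map E.subtype with hK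
  have hKE : K ≤ E := Subgroup.map_subtype_le _
  have hKc : Nat.card K = (A₀.subgroupOf E).index := by
    rw [hK, Subgroup.card_map_of_injective E.subtype_injective, ← hK'.symm.index_eq_card]
  have hKA : ∀ a ∈ A₀, a ∈ K → a = 1 := by
    rintro _ ha ⟨a, haK, rfl⟩
    have h5 := hK'.disjoint.le_bot (show a ∈ A₀.subgroupOf E ⊓ K' from ⟨ha, haK⟩)
    rw [Subgroup.mem_bot] at h5
    rw [h5, map_one]
  have hZ : ∀ q : {q // q ∈ Cfsg.tau2 M}, ∃ Z : Subgroup G, Z ≤ pOf (q : ℕ) E ∧ K ≤ normalizer (Z : Set G) ∧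
      (∀ z ∈ Z, z ≠ 1 → Cfsg.sigmaCore M ⊓ centralizer ({z} : Set G) = ⊥) ∧
      ∃ z ∈ Z, ∀ v ∈ pOf (q : ℕ) E, orderOf v ∣ orderOf z := by
    rintro ⟨q, hq⟩
    haveI := Fact.mk hq.1
    obtain ⟨A, A', hd⟩ := hdata q hq
    refine hd.exists_fpf_cyclic hKE ((hq.1.coprime_iff_not_dvd.2 (hKc ▸ hidx q hq)).symm)
      (fun r hr hrt u hu hu1 hur => fpf_of_not_tau_two hG hM hE h hr hrt hu hu1 hur)
      fun s hs _ u hu hk => hmemp s hs u hu hk
  choose Z hZle hZK hZfpf z hzZ hzmax using hZ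
  set ZZ := ⨆ q, Z q with hZZ
  have hZZA : ZZ ≤ A₀ := iSup_le fun q => (hZle q).trans (hpA₀ q q.2)
  have hKZ : K ≤ normalizer (ZZ : Set G) := fun k hk => by
    rw [Subgroup.mem_normalizer_iff_map_conj_eq, hZZ, Subgroup.map_iSup]
    exact iSup_congr fun q => Subgroup.mem_normalizer_iff_map_conj_eq.1 (hZK q hk)
  refine ⟨ZZ ⊔ K, sup_le (hZZA.trans hA₀E) hKE, exponent_eq_of_orders (sup_le (hZZA.trans hA₀E) hKE)
    fun r hr e he i hi => ?_, fun e he he1 => ?_⟩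
  · by_cases hrt : r ∈ Cfsg.tau2 M
    · exact ⟨z ⟨r, hrt⟩, Subgroup.mem_sup_left (le_iSup Z ⟨r, hrt⟩ (hzZ _)),
        hi ▸ hzmax ⟨r, hrt⟩ e (hmemp r hrt e he ⟨i, hi ▸ pow_orderOf_eq_one e⟩)⟩
    · obtain ⟨e', he', hd⟩ := exists_orderOf_dvd_complement hK' (e := (⟨e, he⟩ : E)) (by
        rw [Subgroup.orderOf_mk, hi, hAc]
        refine Nat.Coprime.pow_left i (hr.coprime_iff_not_dvd.2 fun hd' => ?_)
        exact hrt (isPiGrp_piCoreOf (Cfsg.tau2 M) E r hr hd'))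
      refine ⟨(e' : G), Subgroup.mem_sup_right ⟨e', he', rfl⟩, ?_⟩
      rw [Subgroup.orderOf_mk, hi] at hd
      rwa [Subgroup.orderOf_coe]
  · by_contra hne
    obtain ⟨y, ⟨hy, hey⟩, hy1⟩ := (Subgroup.bot_or_exists_ne_one _).resolve_left hne
    obtain ⟨r, w, hrt, hw, hw1, hwo, hyw⟩ := exists_fixed_prime hG hM hE h
      ((sup_le (hZZA.trans hA₀E) hKE) he) he1 hy hy1
      (show Commute e y from (Subgroup.mem_centralizer_singleton_iff.1 hey).symm)
    haveI := Fact.mk hrt.1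
    have hwE₀ : w ∈ ZZ ⊔ K := Subgroup.zpowers_le.2 he hw
    have hwr : w ∈ pOf r E := hmemp r hrt w (sup_le (hZZA.trans hA₀E) hKE hwE₀)
      ⟨1, by rw [pow_one, ← hwo]; exact pow_orderOf_eq_one w⟩
    have hwZ : w ∈ ZZ := by
      obtain ⟨a, ha, k, hk, hak⟩ := (Coprime.mem_sup_iff_of_le_normalizer' hKZ).1 (sup_comm ZZ K ▸ hwE₀)
      have hk1 : k = 1 := hKA k (by
        have := A₀.mul_mem (A₀.inv_mem (hZZA ha)) (hpA₀ r hrt hwr)
        rwa [← hak, inv_mul_cancel_left] at this) hk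
      rwa [← hak, hk1, mul_one]
    obtain ⟨P', hP'⟩ : ∃ P' : Subgroup G, ∀ o, o ∈ P' ↔ o ∈ A₀ ∧ (orderOf o).Coprime r := ⟨
      { carrier := {o | o ∈ A₀ ∧ (orderOf o).Coprime r}
        one_mem' := ⟨one_mem A₀, by rw [orderOf_one]; exact Nat.coprime_one_left r⟩
        mul_mem' := fun {a b} ha hb => ⟨A₀.mul_mem ha.1 hb.1, (ha.2.mul_left hb.2).coprime_dvd_left
          ((show Commute a b from PGroup.mul_comm_of_isMulCommutative hA₀c ha.1 hb.1).orderOf_mul_dvd_lcm.trans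
            (Nat.lcm_dvd_mul _ _))⟩
        inv_mem' := fun {a} ha => ⟨A₀.inv_mem ha.1, by rw [orderOf_inv]; exact ha.2⟩ }, fun _ => Iff.rfl⟩
    have hZP : ZZ ≤ Z ⟨r, hrt⟩ ⊔ P' := by
      refine iSup_le fun q => ?_
      by_cases hq : q = ⟨r, hrt⟩
      · exact hq ▸ le_sup_left
      refine fun o ho => Subgroup.mem_sup_right ((hP' o).2 ⟨hpA₀ q q.2 (hZle q ho), ?_⟩)
      haveI := Fact.mk q.2.1
      obtain ⟨j, hj⟩ := (isPGroup_pOf (r := (q : ℕ)) E).exists_card_eq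
      exact ((Nat.coprime_primes q.2.1 hrt.1).2 fun e' => hq (Subtype.ext e')).pow_left j |>.coprime_dvd_left
        (hj ▸ Subgroup.orderOf_dvd_natCard (pOf (q : ℕ) E) (hZle q ho))
    obtain ⟨a, ha, o, ho, hao⟩ := (Coprime.mem_sup_iff_of_le_normalizer (H := Z ⟨r, hrt⟩) (N := P') (fun a ha =>
      Subgroup.centralizer_le_normalizer _ (Subgroup.mem_centralizer_iff.2 fun o ho =>
        PGroup.mul_comm_of_isMulCommutative hA₀c ((hP' o).1 ho).1 (hpA₀ r hrt (hZle ⟨r, hrt⟩ ha))))).1 (hZP hwZ)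
    have hor : o ∈ pOf r E := by
      have := (pOf r E).mul_mem ((pOf r E).inv_mem (hZle ⟨r, hrt⟩ ha)) hwr
      rwa [← hao, inv_mul_cancel_left] at this
    have ho1 : o = 1 := by
      obtain ⟨j, hj⟩ := (isPGroup_pOf (r := r) E).exists_card_eq
      exact orderOf_eq_one_iff.1 (Nat.eq_one_of_dvd_coprimes (((hP' o).1 ho).2.pow_right j) dvd_rfl
        (hj ▸ Subgroup.orderOf_dvd_natCard (pOf r E) hor))
    refine hy1 (Subgroup.mem_bot.1 ?_)
    rw [← hZfpf ⟨r, hrt⟩ w (by rwa [← hao, ho1, mul_one]) hw1]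
    exact ⟨hy, hyw⟩

end Cfsg.Agent.OddOrder
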