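import Cfsg.Agent.Lib.OddOrder.SectionFifteen
import Cfsg.Agent.Lib.OddOrder.Embedding
import Cfsg.Agent.Lib.OddOrder.FrobeniusCriterion

/-!
# The inputs of Bender–Glauberman §15 follow from those of §13
-/

set_option autoImplicit false
set_option linter.style.haveILetI false
set_option linter.unusedSectionVars false

namespace Cfsg.Agent.OddOrder

open Cfsg
open Subgroup (centralizer normalizer zpowers)
open scoped Pointwise

universe u
variable {G : Type u} [Group G] [Finite G]

theorem card_of_decomposition_bot {M K : Subgroup G} (h : IsSigmaDecomposition M K ⊥) :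
    Nat.card M = Nat.card (sigmaCore M) * Nat.card K := by
  rw [← card_eq_of_isComplIn h.compl, Subgroup.card_bot, one_mul,
    Coprime.card_sup_of_le_normalizer (h.hall.1.trans (le_normalizer_sigmaCore M))
      (Coprime.disjoint_of_coprime_card (Nat.coprime_of_dvd fun p hp h1 h2 =>
        (h.hall.2.1 p hp h1).2.2.1 (isPiGrp_piCoreOf (sigma M) M p hp h2))), mul_comm]

theorem bg15Input_of_bg13 (hG : IsMinSimpleOddOrder G) (h13 : BG13 G) : BG15Input G where
  h13 := h13
  free M hM E hE h := by
    by_cases hna : ∃ p ∈ tau2 M, ∀ S : Sylow p G, ¬ IsMulCommutative (S : Subgroup G)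
    · obtain ⟨p, hp, hS⟩ := hna
      haveI := Fact.mk hp.1
      exact (frobenius_criterion_nonabelian hG hM hE h hp hS).1
    · push Not at hna
      exact (frobenius_criterion_abelian hG hM hE h hna).1
  fixed_prime M hM K U hKU hK1 hU := by
    subst hU
    obtain ⟨Mstar, hD⟩ := exists_dualPair hG h13 hM hKU.hall hK1
    obtain ⟨E, d⟩ := hD.mem'.exists_data
    exact d.prime_card_of_ne (hD.small.resolve_left (not_not.2 (card_of_decomposition_bot hKU)))

end Cfsg.Agent.OddOrder
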