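import Cfsg.Agent.Lib.OddOrder.EmbeddingFacts

/-!
# Bender–Glauberman 14.7: at most two classes of maximal subgroups with `κ ≠ ∅`

* `DualPair.conj_of_kappa`: a maximal subgroup with nonempty `κ` is conjugate to `M` or `M*`;
* `DualPair.conj_of_fixed`: a maximal subgroup `H` over an `X ≤ K` of prime order outside `σ(H)` with
  fixed points in `H_σ` is conjugate to `M`;
* `eq_of_centralizer_le`: `M` is the only conjugate of itself through `x ∈ M_σ#` when `C(x) ≤ M`.
-/

set_option autoImplicit false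
set_option linter.unusedSectionVars false
set_option linter.style.haveILetI false

namespace Cfsg.Agent.OddOrder

open Cfsg
open Subgroup (centralizer normalizer zpowers)
open scoped Pointwise

universe u
variable {G : Type u} [Group G] [Finite G]

theorem eq_of_centralizer_le (hG : IsMinSimpleOddOrder G) (h13 : BG13 G) {M : Subgroup G} (hM : IsCoatom M)
    {x : G} (hx : x ∈ sigmaCore M) (hx1 : x ≠ 1) (hC : centralizer ({x} : Set G) ≤ M) {g : G}
    (hg : x ∈ MulAut.conj g • M) : MulAut.conj g • M = M := by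
  obtain ⟨-, R, -, hR, hT⟩ := supporting_transitive hG h13.partition h13.transfer hM hx hx1
  obtain ⟨r, ⟨hr, hre⟩, -⟩ := hT g hg
  have hr1 : r ∈ (M ⊓ centralizer ({x} : Set G)) ⊓ R := ⟨⟨hC (hR.2.1 hr), hR.2.1 hr⟩, hr⟩
  rw [hR.2.2.1, Subgroup.mem_bot] at hr1
  subst hr1
  show M.map (MulAut.conj g).toMonoidHom = M
  rw [← hre]
  exact Coprime.conj_smul_eq_self_of_mem (one_mem _)

theorem centralizer_conj_singleton (c z : G) :
    centralizer ({c * z * c⁻¹} : Set G) = MulAut.conj c • centralizer ({z} : Set G) := by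
  ext w
  rw [Coprime.mem_conj_smul_iff, Subgroup.mem_centralizer_singleton_iff,
    Subgroup.mem_centralizer_singleton_iff]
  constructor
  · intro h
    have h2 := congrArg (fun t => c⁻¹ * t * c) h
    simpa [mul_assoc] using h2
  · intro h
    have h2 := congrArg (fun t => c * t * c⁻¹) h
    simpa [mul_assoc] using h2

namespace DualPair

variable {M Mstar K : Subgroup G} (P : DualPair M Mstar K)
include P

/-- The conjugates of `Ẑ` cover more than half of `G`. -/
theorem card_lt :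
    Nat.card G < 2 * Set.ncard {a : G | ∃ g : G,
      ∃ z ∈ memberSet (K ⊔ (Cfsg.sigmaCore M ⊓ centralizer (K : Set G))), a = g * z * g⁻¹} := by
  have hG := P.mem.minSimple
  have hT := P.ncard_memberSet
  rw [P.ncard_conj]
  set D := Cfsg.sigmaCore M ⊓ centralizer (K : Set G) with hD
  have hcard : Nat.card G = (K ⊔ D).index * (Nat.card K * Nat.card D) := by
    rw [← P.mem.card_eq, (K ⊔ D).index_mul_card]
  have hk := dvd_order_not_two hG P.mem.ne_bot
  have hd : 3 ≤ Nat.card D := dvd_order_not_two hG P.mem.part_ne_bot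
  set k := Nat.card K with hk'
  set n := Nat.card D with hn'
  set T := Set.ncard (memberSet (K ⊔ D))
  set I := (K ⊔ D).index
  have hne : k ≠ n := by
    intro e
    have hcop : k.Coprime n := P.mem.coprime
    rw [e, Nat.coprime_self] at hcop
    omega
  have hI : 0 < I := Nat.pos_of_ne_zero Subgroup.index_ne_zero_of_finite
  have hkey : k * n < 2 * T := by
    obtain ⟨a, ha⟩ : Odd k := odd_subgroup hG.1 K
    obtain ⟨b, hb⟩ : Odd n := odd_subgroup hG.1 D
    rcases Nat.lt_or_gt_of_ne hne with h | h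
    · have : k + 2 ≤ n := by omega
      nlinarith
    · have : n + 2 ≤ k := by omega
      nlinarith
  rw [hcard]
  calc I * (k * n) < I * (2 * T) := Nat.mul_lt_mul_of_pos_left hkey hI
    _ = 2 * (I * T) := by ring

/-- `Z` is the centralizer of each element of `Ẑ`. -/
theorem centralizer_memberSet {z : G}
    (hz : z ∈ memberSet (K ⊔ (Cfsg.sigmaCore M ⊓ centralizer (K : Set G)))) :
    centralizer ({z} : Set G) = K ⊔ (Cfsg.sigmaCore M ⊓ centralizer (K : Set G)) := by
  obtain ⟨x, hx, y, hy, rfl⟩ := (Coprime.mem_sup_iff_of_le_normalizer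
    ((Subgroup.le_centralizer_iff.1 P.mem.part_le_centralizer).trans (Subgroup.centralizer_le_normalizer _))).1 hz.1
  have hx1 : x ≠ 1 := fun e => hz.2 M K P.mem (by rw [e, one_mul]; exact hy.1)
  have hy1 : y ≠ 1 := fun e => hz.2 Mstar _ P.mem' (by rw [e, mul_one]; exact P.K_le_sigmaCore hx)
  exact (P.centralizer_product hx hx1 hy hy1).2.2

/-- BG 14.7: there are at most two classes of maximal subgroups with `κ ≠ ∅`. -/
theorem conj_of_kappa {H : Subgroup G} (hH : IsCoatom H) (hκ : (Cfsg.kappa H).Nonempty) :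
    ∃ g : G, MulAut.conj g • M = H ∨ MulAut.conj g • Mstar = H := by
  have hG := P.mem.minSimple
  have h13 := P.mem.h13
  obtain ⟨q, hq⟩ := hκ
  haveI := Fact.mk hq.1
  obtain ⟨w, hw⟩ := exists_prime_orderOf_dvd_card' (G := H) q hq.2.1
  rw [← Subgroup.orderOf_coe] at hw
  obtain ⟨KH, hwK, hKH⟩ := exists_piHallOf_ge (Cfsg.kappa H) (isSolvable_of_coatom hG hH)
    (Subgroup.zpowers_le.2 w.2) fun l hl hd => by
      rw [Nat.card_zpowers, hw] at hd
      rwa [(Nat.prime_dvd_prime_iff_eq hl hq.1).1 hd]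
  have hKH1 : KH ≠ ⊥ := fun e => by
    have h1 := hwK (Subgroup.mem_zpowers (w : G))
    rw [e, Subgroup.mem_bot] at h1
    rw [h1, orderOf_one] at hw
    exact hq.1.ne_one hw.symm
  obtain ⟨L, Q⟩ := exists_dualPair hG h13 hH hKH hKH1
  set Z := K ⊔ (Cfsg.sigmaCore M ⊓ centralizer (K : Set G)) with hZ
  set Z' := KH ⊔ (Cfsg.sigmaCore H ⊓ centralizer (KH : Set G)) with hZ'
  set A := {a : G | ∃ g : G, ∃ z ∈ memberSet Z, a = g * z * g⁻¹}
  set B := {a : G | ∃ g : G, ∃ z ∈ memberSet Z', a = g * z * g⁻¹}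
  have hint : (A ∩ B).Nonempty := by
    by_contra h
    rw [Set.not_nonempty_iff_eq_empty] at h
    have h1 := Set.ncard_union_add_ncard_inter A B (Set.toFinite _) (Set.toFinite _)
    rw [h, Set.ncard_empty, add_zero] at h1
    have h2 := Set.ncard_le_ncard (Set.subset_univ (A ∪ B)) (Set.toFinite _)
    rw [Set.ncard_univ, h1] at h2
    have hA : Nat.card G < 2 * A.ncard := P.card_lt
    have hB : Nat.card G < 2 * B.ncard := Q.card_lt
    omega
  obtain ⟨a, ⟨g, z, hz, rfl⟩, g', z', hz', he⟩ := hint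
  have hzz : z' = (g'⁻¹ * g) * z * (g'⁻¹ * g)⁻¹ := by
    calc z' = g'⁻¹ * (g' * z' * g'⁻¹) * g' := by group
      _ = (g'⁻¹ * g) * z * (g'⁻¹ * g)⁻¹ := by rw [← he]; group
  have hcard : Nat.card Z' = Nat.card Z := by
    have h1 : centralizer ({z'} : Set G) = Z' := Q.centralizer_memberSet hz'
    have h2 : centralizer ({z} : Set G) = Z := P.centralizer_memberSet hz
    rw [← h1, hzz, centralizer_conj_singleton, h2, Coprime.card_conj_smul]
  obtain ⟨l, hl, hld⟩ := Nat.exists_prime_and_dvd (fun e => Q.mem.part_ne_bot (Subgroup.card_eq_one.1 e))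
  haveI := Fact.mk hl
  obtain ⟨N, K₀, mN, hlN⟩ := P.mem.exists_member (q := l)
    (hcard ▸ hld.trans (Subgroup.card_dvd_of_le le_sup_right))
  obtain ⟨c, hc⟩ := h13.partition N H mN.coatom hH ⟨l, hlN, Q.mem.part_primes l hl hld⟩
  rcases P.only N K₀ mN with rfl | rfl
  · exact ⟨c, Or.inl hc.symm⟩
  · exact ⟨c, Or.inr hc.symm⟩

theorem centralizer_le_of_prime {p : ℕ} [Fact p.Prime] {X : Subgroup G} (hXK : X ≤ K) (hX : Nat.card X = p) :
    centralizer (X : Set G) ≤ Mstar ∧ normalizer (X : Set G) ≤ Mstar :=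
  P.mem'.normalizer_le (P.part.ge.trans' hXK) hX

theorem eq_of_centralizer_prime_le {p : ℕ} [Fact p.Prime] {X : Subgroup G} (hXK : X ≤ K)
    (hX : Nat.card X = p) {L : Subgroup G} (hL : IsCoatom L) (hCL : centralizer (X : Set G) ≤ L) : L = Mstar := by
  obtain ⟨E, d⟩ := P.mem'.exists_data
  exact (d.unique_centralizer (P.part.ge.trans' hXK) hX).2 L hL hCL

/-- `M*` is the only maximal subgroup over `X ≤ K` of prime order `p` with `p ∈ σ`. -/
theorem eq_of_mem_sigma' {p : ℕ} [Fact p.Prime] {X : Subgroup G} (hXK : X ≤ K) (hX : Nat.card X = p)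
    {L : Subgroup G} (hL : IsCoatom L) (hXL : X ≤ L) (hp : p ∈ Cfsg.sigma L) : L = Mstar := by
  have hX1 : X ≠ ⊥ := fun e => (Fact.out : p.Prime).ne_one (by rw [← hX, e, Subgroup.card_bot])
  obtain ⟨x, hx, hx1⟩ := (Subgroup.bot_or_exists_ne_one _).resolve_left hX1
  have hps : p ∈ Cfsg.sigma Mstar :=
    isPiGrp_piCoreOf (Cfsg.sigma Mstar) Mstar p Fact.out (hX ▸ Subgroup.card_dvd_of_le (hXK.trans P.K_le_sigmaCore))
  obtain ⟨g, hg⟩ := P.mem.h13.partition Mstar L P.mem'.coatom hL ⟨p, hps, hp⟩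
  rw [show L = MulAut.conj g • Mstar from hg] at hXL ⊢
  refine eq_of_centralizer_le P.mem.minSimple P.mem.h13 P.mem'.coatom (P.K_le_sigmaCore (hXK hx)) hx1 ?_ (hXL hx)
  refine le_trans ?_ (P.centralizer_le_of_prime hXK hX).1
  have hXx : X = zpowers x := (Subgroup.eq_of_le_of_card_ge (Subgroup.zpowers_le.2 hx) (by
    rw [Nat.card_zpowers, hX, orderOf_eq_prime (p := p) ?_ hx1]
    exact orderOf_dvd_iff_pow_eq_one.1 (hX ▸ Subgroup.orderOf_dvd_natCard X hx))).symm
  rw [hXx, Subgroup.zpowers_eq_closure, Subgroup.centralizer_closure]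

/-- A maximal subgroup where `X ≤ K` has fixed points, `p ∉ σ`, is conjugate to `M`. -/
theorem conj_of_fixed {p : ℕ} [Fact p.Prime] {X : Subgroup G} (hXK : X ≤ K) (hX : Nat.card X = p)
    {H : Subgroup G} (hH : IsCoatom H) (hXH : X ≤ H) (hp : p ∉ Cfsg.sigma H)
    (hfix : Cfsg.sigmaCore H ⊓ centralizer (X : Set G) ≠ ⊥) : ∃ g : G, MulAut.conj g • M = H := by
  have hG := P.mem.minSimple
  have h13 := P.mem.h13
  have hX1 : X ≠ ⊥ := fun e => (Fact.out : p.Prime).ne_one (by rw [← hX, e, Subgroup.card_bot])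
  have hps : p ∈ Cfsg.sigma Mstar :=
    isPiGrp_piCoreOf (Cfsg.sigma Mstar) Mstar p Fact.out (hX ▸ Subgroup.card_dvd_of_le (hXK.trans P.K_le_sigmaCore))
  obtain ⟨x, hx, hx1⟩ := (Subgroup.bot_or_exists_ne_one _).resolve_left hX1
  have hxp : orderOf x = p :=
    orderOf_eq_prime (orderOf_dvd_iff_pow_eq_one.1 (hX ▸ Subgroup.orderOf_dvd_natCard X hx)) hx1
  have hXx : centralizer ({x} : Set G) = centralizer (X : Set G) := by
    rw [← Subgroup.centralizer_closure, ← Subgroup.zpowers_eq_closure,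
      Subgroup.eq_of_le_of_card_ge (Subgroup.zpowers_le.2 hx) (le_of_eq (by rw [Nat.card_zpowers, hxp, hX]))]
  obtain ⟨y, hy, hy1⟩ := (Subgroup.bot_or_exists_ne_one _).resolve_left hfix
  have hxC : x ∈ H ⊓ centralizer ({y} : Set G) :=
    ⟨hXH hx, Subgroup.mem_centralizer_singleton_iff.2 (Subgroup.mem_centralizer_iff.1 hy.2 x hx)⟩
  rcases sigma'_centralizer hG h13 hH hy.1 hy1 hxC hx1
    (fun l hl hd => by rw [hxp] at hd; rwa [(Nat.prime_dvd_prime_iff_eq hl Fact.out).1 hd]) with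
    ⟨hκ, -⟩ | ⟨-, -, -, huniq⟩
  · obtain ⟨g, h | h⟩ := P.conj_of_kappa hH ⟨p, hκ p Fact.out (dvd_of_eq hxp.symm)⟩
    · exact ⟨g, h⟩
    · exact absurd (h ▸ (sigma_conj g Mstar).symm ▸ hps) hp
  · refine absurd ?_ hp
    rwa [← huniq Mstar P.mem'.coatom (hXx ▸ (P.centralizer_le_of_prime hXK hX).1)]

end DualPair

end Cfsg.Agent.OddOrder
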