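import Cfsg.Agent.Lib.OddOrder.DecompositionP
import Cfsg.Agent.Lib.Coprime.FixedForce
import Cfsg.Agent.Lib.OddOrder.PTypeConj
import Cfsg.Agent.Lib.OddOrder.FifteenInput
import Cfsg.Agent.Lib.OddOrder.FCoreConsequences

/-!
# Bender–Glauberman, Theorem C: rows 1363–1373

The conclusions of the frozen rows from `BG13 G`. Two later results are explicit hypotheses:

* `NormalizerEscape`: a piece of S1435 (`N(U) ≰ M`);
* `IntersectionCases`: the conclusion of S1440 (BG 15.7) at `M`, `K`, `U`.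
-/

set_option autoImplicit false
set_option linter.unusedSectionVars false
set_option linter.style.haveILetI false

namespace Cfsg.Agent.OddOrder

open Cfsg
open Subgroup (centralizer normalizer zpowers)
open scoped Pointwise

universe u
variable {G : Type u} [Group G] [Finite G]

/-- The statement of S1435 for all data at `M`, `K`, `U`, keeping only `N_H(U) ≰ M`. -/
def NormalizerEscape (M K U : Subgroup G) : Prop :=
  ∀ Mstar : Subgroup G, IsCoatom Mstar →
    K = sigmaCore Mstar ⊓ centralizer ((sigmaCore M ⊓ centralizer (K : Set G) : Subgroup G) : Set G) →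
    IsPiHallOf (kappa Mstar) (sigmaCore M ⊓ centralizer (K : Set G)) Mstar →
    ∀ (r : ℕ) [Fact r.Prime], r ∣ Nat.card U → ∀ (R : Sylow r U) (H : Subgroup G), IsCoatom H →
      normalizer (((R : Subgroup U).map U.subtype : Subgroup G) : Set G) ≤ H →
      ¬ H ⊓ normalizer (U : Set G) ≤ M

/-- The conclusion of S1440 at `M`, `K`, `U`. -/
def IntersectionCases (M K U : Subgroup G) : Prop :=
  ∀ g : G, g ∉ M → fittingOf M ⊓ (fittingOf M).map (MulAut.conj g).toMonoidHom ≠ ⊥ →
    (fittingOf M ⊓ (fittingOf M).map (MulAut.conj g).toMonoidHom ≤ fittingHallOf M ∧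
        IsCyclic ↥(fittingOf M ⊓ (fittingOf M).map (MulAut.conj g).toMonoidHom)) ∧
      (⁅M, M⁆ = fittingOf M ∧
        fittingOf M = sigmaCore M ⊔ piCoreOf {q | q.Prime ∧ q ∉ sigma M} (fittingOf M)) ∧
      ((K = ⊥ ∧ IsMulCommutative (fittingHallOf M) ∧ RankLE 2 (fittingHallOf M) ∧
          ¬ RankLE 1 (fittingHallOf M)) ∨
       (∃ p : ℕ, p.Prime ∧ Nat.card ↥(fittingOf M ⊓ (fittingOf M).map (MulAut.conj g).toMonoidHom) = p ∧
          p ∈ sigma M ∧ p ∉ beta M ∧
          ¬ IsMulCommutative (pCore p ↥(fittingHallOf M)) ∧ IsCyclic (pPrimeCore p ↥(fittingHallOf M)) ∧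
          ∀ q : ℕ, q.Prime → q ∣ Nat.card (fittingHallOf M) →
            Monoid.exponent (↥M ⧸ fittingHall ↥M) ∣ q - 1) ∨
       (∃ p : ℕ, p.Prime ∧ Nat.card ↥(fittingOf M ⊓ (fittingOf M).map (MulAut.conj g).toMonoidHom) = p ∧
          p ∈ sigma M ∧ p ∉ beta M ∧
          IsCyclic (pPrimeCore p ↥(fittingHallOf M)) ∧ Nat.card (pCore p ↥(fittingHallOf M)) = p ^ 3 ∧
          ¬ IsMulCommutative (pCore p ↥(fittingHallOf M)) ∧ K ≠ ⊥ ∧ U = ⊥ ∧
          (fittingHallOf M).relIndex M ∣ p + 1))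

theorem normalizer_coatom (hG : IsMinSimpleOddOrder G) {M : Subgroup G} (hM : IsCoatom M) :
    normalizer (M : Set G) = M :=
  normalizer_eq_of_normal hG hM le_rfl Subgroup.le_normalizer fun e =>
    sigmaCore_ne_bot hG hM (le_bot_iff.1 ((sigmaCore_le M).trans e.le))

theorem le_normalizer_fittingHallOf' (M : Subgroup G) : M ≤ normalizer (fittingHallOf M : Set G) :=
  (Subgroup.normal_subgroupOf_iff_le_normalizer (fittingHallOf_le M)).1
    (by rw [subgroupOf_fittingHallOf]; infer_instance)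

namespace TheoremC

variable {M K U : Subgroup G} (hG : IsMinSimpleOddOrder G) (h13 : BG13 G) (hM : IsCoatom M)
  (hd : IsSigmaDecomposition M K U) (hK1 : K ≠ ⊥)
include hG h13 hM hd hK1

/-- S1363. -/
theorem abelian_and_escape (h35 : NormalizerEscape M K U) :
    IsMulCommutative U ∧ ¬ normalizer (U : Set G) ≤ M := by
  refine ⟨DecompP.isMulCommutative_right hG h13 hM hd hK1, ?_⟩
  rcases eq_or_ne U ⊥ with rfl | hU1
  · intro h
    refine hM.1 (top_le_iff.1 (le_trans ?_ h))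
    intro g _
    rw [Subgroup.mem_normalizer_iff]
    simp
  obtain ⟨Mstar, P⟩ := exists_dualPair hG h13 hM hd.hall hK1
  obtain ⟨r, hr, hrd⟩ := Nat.exists_prime_and_dvd (fun e => hU1 (Subgroup.card_eq_one.1 e))
  haveI := Fact.mk hr
  obtain ⟨R⟩ : Nonempty (Sylow r U) := inferInstance
  have hR1 : (R : Subgroup U).map U.subtype ≠ ⊥ := fun e =>
    R.ne_bot_of_dvd_card hrd ((Subgroup.map_eq_bot_iff_of_injective _ U.subtype_injective).1 e)
  obtain ⟨H, hH, hNH⟩ := exists_coatom_ge (normalizer_ne_top_of_pgroup hG (R.2.map U.subtype) hR1)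
  intro hle
  exact h35 Mstar P.mem'.coatom P.part.symm P.mem'.hall r hrd R H hH hNH (inf_le_right.trans hle)

/-- S1365. -/
theorem derived :
    ⁅M, M⁆ = U ⊔ sigmaCore M ∧ (sigmaCore M ⊓ centralizer (K : Set G)) ≤ ⁅⁅M, M⁆, ⁅M, M⁆⁆ :=
  ⟨DecompP.commutator_eq hG h13 hM hd hK1, DecompP.kstar_le_derived_two hG h13 hM hd hK1⟩

/-- S1364. -/
theorem kstar_facts :
    IsCyclic ↥(sigmaCore M ⊓ centralizer (K : Set G)) ∧ (sigmaCore M ⊓ centralizer (K : Set G)) ≠ ⊥ ∧
      (sigmaCore M ⊓ centralizer (K : Set G)) ≤ fittingHallOf M ∧ ¬ IsCyclic (fittingHallOf M) := by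
  obtain ⟨Mstar, P⟩ := exists_dualPair hG h13 hM hd.hall hK1
  set D := sigmaCore M ⊓ centralizer (K : Set G) with hD
  refine ⟨P.mem.part_cyclic, P.mem.part_ne_bot, ?_⟩
  by_cases hn : Group.IsNilpotent (sigmaCore M)
  · have he := sigmaCore_eq_fittingHallOf hG hM hn
    rw [← he]
    refine ⟨inf_le_left, fun hc => ?_⟩
    -- a cyclic `M_σ` is centralised by `K` at its Sylow subgroup, which is then inside `K*`
    have d := DecompP.pData hG h13 hM hd hK1
    obtain ⟨p, hp, hpd⟩ := Nat.exists_prime_and_dvd (n := Nat.card D)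
      (fun e => P.mem.part_ne_bot (Subgroup.card_eq_one.1 e))
    haveI := Fact.mk hp
    obtain ⟨S⟩ : Nonempty (Sylow p ↥(sigmaCore M)) := inferInstance
    obtain ⟨-, -, hnot⟩ := (d.kstar_ti.2.2.1) p hp hpd S
    refine hnot ?_
    set S' := (S : Subgroup ↥(sigmaCore M)).map (sigmaCore M).subtype with hS'
    have hSM : S' ≤ sigmaCore M := Subgroup.map_subtype_le _
    haveI hSc : IsCyclic S' := isCyclic_of_injective (Subgroup.inclusion hSM) (Subgroup.inclusion_injective hSM)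
    have hKS : K ≤ normalizer (S' : Set G) := fun k hk => Coprime.mem_normalizer_of_conj_smul_eq
      (eq_of_card_eq_cyclic hc ((Subgroup.pointwise_smul_le_pointwise_smul_iff.2 hSM).trans
        (Coprime.conj_smul_eq_self_of_mem (le_normalizer_sigmaCore M (hd.hall.1 hk))).le) hSM
        (Coprime.card_conj_smul _ _))
    obtain ⟨z, hz⟩ := exists_prime_orderOf_dvd_card' (G := D) p hpd
    rw [← Subgroup.orderOf_coe] at hz
    have hzS : (z : G) ∈ S' := by
      obtain ⟨T, hT⟩ := exists_sylow_map_ge (IsPGroup.of_card (n := 1) (by rw [Nat.card_zpowers, hz, pow_one]))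
        (Subgroup.zpowers_le.2 z.2.1 : zpowers (z : G) ≤ sigmaCore M)
      haveI : Group.IsNilpotent ↥(sigmaCore M) := hn
      haveI : (S : Subgroup ↥(sigmaCore M)).Normal := inferInstance
      obtain ⟨c, hc'⟩ := MulAction.exists_smul_eq ↥(sigmaCore M) S T
      rw [Sylow.smul_eq_of_normal] at hc'
      rw [hS', hc']
      exact hT (Subgroup.mem_zpowers _)
    intro s hs
    refine ⟨hSM hs, ?_⟩
    have hp2 : p ≠ 2 := ne_two_of_odd_of_dvd hG.1 (hpd.trans D.card_subgroup_dvd_card)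
    have hz1 : (z : G) ≠ 1 := fun e => hp.ne_one (hz.symm.trans (by rw [e, orderOf_one]))
    have hzp : (z : G) ^ p = 1 := orderOf_dvd_iff_pow_eq_one.1 (dvd_of_eq hz)
    have hpK : (Nat.card K).Coprime p := Nat.coprime_comm.1 (hp.coprime_iff_not_dvd.2 fun h =>
      (hd.hall.2.1 p hp h).2.2.1
        (isPiGrp_piCoreOf (sigma M) M p hp (hpd.trans (Subgroup.card_dvd_of_le inf_le_left))))
    refine Subgroup.le_centralizer_iff.1 (Coprime.le_centralizer_of_fix_omega (p := p) hp2 S' ⊥ K (S.2.map _)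
      IsPGroup.of_bot hpK bot_le hKS bot_le ?_) hs
    intro x hx hxp
    rcases eq_or_ne x 1 with rfl | hx1
    · exact one_mem _
    have hxz : x ∈ zpowers (z : G) := by
      exact (zpowers_eq_of_isCyclic hSc hx.1 hzS hxp hzp hx1 hz1) ▸ Subgroup.mem_zpowers x
    exact Subgroup.zpowers_le.2 z.2.2 hxz
  · have hI := bg15Input_of_bg13 hG h13
    obtain ⟨-, -, -, Q, hQ⟩ := fCore_of_decomposition hG hI hM hd hn
    refine ⟨hQ.fixed_le.trans hQ.le_fittingHall, fun hc => ?_⟩
    obtain ⟨C, hC⟩ := hQ.exists_compl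
    obtain ⟨-, -, hlt, -, hcard, hel, -, -⟩ := hQ.compl C hC
    haveI : IsCyclic Q := isCyclic_of_injective (Subgroup.inclusion hQ.le_fittingHall)
      (Subgroup.inclusion_injective hQ.le_fittingHall)
    set W := Q ⊓ centralizer (C : Set G)
    set q := Nat.card ↥(sigmaCore M ⊓ centralizer (K : Set G))
    obtain ⟨a, ha⟩ := IsCyclic.exists_ofOrder_eq_natCard (α := Q)
    rw [← Subgroup.orderOf_coe] at ha
    have h1 : orderOf (a : G) ∣ q * orderOf ((a : G) ^ q) := by
      refine orderOf_dvd_of_pow_eq_one ?_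
      rw [pow_mul, pow_orderOf_eq_one]
    have h2 : Nat.card Q ∣ q * Nat.card W :=
      ha ▸ h1.trans (Nat.mul_dvd_mul_left q (Subgroup.orderOf_dvd_natCard _ (hel a a.2 a a.2).1))
    have h3 := Nat.le_of_dvd (Nat.mul_pos hQ.qprime.pos Nat.card_pos) h2
    rw [hcard, mul_comm q] at h3
    have h4 : q < q ^ Nat.card K := by
      conv_lhs => rw [← pow_one q]
      exact Nat.pow_lt_pow_right hQ.qprime.one_lt hQ.prime_K.one_lt
    exact absurd h3 (not_le.2 (Nat.mul_lt_mul_of_pos_left h4 Nat.card_pos))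

/-- S1366. -/
theorem existsUnique_dual :
    ∃! Mstar : Subgroup G, IsCoatom Mstar ∧
      K = sigmaCore Mstar ⊓ centralizer ((sigmaCore M ⊓ centralizer (K : Set G) : Subgroup G) : Set G) ∧
      IsPiHallOf (kappa Mstar) (sigmaCore M ⊓ centralizer (K : Set G)) Mstar := by
  obtain ⟨Mstar, P⟩ := exists_dualPair hG h13 hM hd.hall hK1
  refine ⟨Mstar, ⟨P.mem'.coatom, P.part.symm, P.mem'.hall⟩, fun L hL => ?_⟩
  have Q := dualPair_of_conditions hG h13 hM hd.hall hK1 hL.1 hL.2.1 hL.2.2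
  rcases P.only L _ Q.mem' with h | h
  · exact absurd h Q.ne
  · exact h

/-- S1373. -/
theorem prime_kstar (hU : U = ⊥) : (Nat.card ↥(sigmaCore M ⊓ centralizer (K : Set G))).Prime :=
  (bg15Input_of_bg13 hG h13).fixed_prime M hM K U hd hK1 hU

variable {Mstar : Subgroup G} (hMstar : IsCoatom Mstar)
  (hKst : K = sigmaCore Mstar ⊓ centralizer ((sigmaCore M ⊓ centralizer (K : Set G) : Subgroup G) : Set G))
  (hKstH : IsPiHallOf (kappa Mstar) (sigmaCore M ⊓ centralizer (K : Set G)) Mstar)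
include hMstar hKst hKstH

theorem dual : DualPair M Mstar K := dualPair_of_conditions hG h13 hM hd.hall hK1 hMstar hKst hKstH

/-- S1367. -/
theorem unique_overgroup :
    (∀ X : Subgroup G, X ≤ (sigmaCore M ⊓ centralizer (K : Set G)) → (Nat.card X).Prime →
        centralizer (X : Set G) ≤ M ∧ ∀ L : Subgroup G, IsCoatom L → centralizer (X : Set G) ≤ L → L = M) ∧
      (∀ Y : Subgroup G, Y ≤ K → (Nat.card Y).Prime →
        centralizer (Y : Set G) ≤ Mstar ∧ ∀ L : Subgroup G, IsCoatom L → centralizer (Y : Set G) ≤ L → L = Mstar) := by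
  have P := dual hG h13 hM hd hK1 hMstar hKst hKstH
  refine ⟨fun X hX hXp => ?_, fun Y hY hYp => ?_⟩
  · haveI := Fact.mk hXp
    exact (DecompP.pData hG h13 hM hd hK1).unique_centralizer hX rfl
  · haveI := Fact.mk hYp
    exact ⟨(P.centralizer_le_of_prime hY rfl).1, fun L hL hle => P.eq_of_centralizer_prime_le hY rfl hL hle⟩

/-- S1368. -/
theorem inf_and_cyclic :
    M ⊓ Mstar = K ⊔ (sigmaCore M ⊓ centralizer (K : Set G)) ∧
      IsCyclic ↥(K ⊔ (sigmaCore M ⊓ centralizer (K : Set G))) :=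
  ⟨(dual hG h13 hM hd hK1 hMstar hKst hKstH).inf_eq, (dual hG h13 hM hd hK1 hMstar hKst hKstH).mem.cyclic⟩

/-- S1369. -/
theorem two_classes :
    (U ≠ ⊥ ∨ ∀ Ustar : Subgroup G, IsSigmaDecomposition Mstar (sigmaCore M ⊓ centralizer (K : Set G)) Ustar →
        Ustar ≠ ⊥) ∧
      ∀ H : Subgroup G, IsCoatom H → (kappa H).Nonempty →
        ∃ g : G, H = M.map (MulAut.conj g).toMonoidHom ∨ H = Mstar.map (MulAut.conj g).toMonoidHom := by
  have P := dual hG h13 hM hd hK1 hMstar hKst hKstH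
  refine ⟨?_, fun H hH hκ => ?_⟩
  · rcases P.small with h | h
    · exact Or.inl fun e => h (card_of_decomposition_bot (e ▸ hd))
    · exact Or.inr fun V hV e => h (card_of_decomposition_bot (e ▸ hV))
  · obtain ⟨g, h | h⟩ := P.conj_of_kappa hH hκ
    · exact ⟨g, Or.inl h.symm⟩
    · exact ⟨g, Or.inr h.symm⟩

end TheoremC

end Cfsg.Agent.OddOrder
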