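import Cfsg.Agent.Lib.OddOrder.TheoremC

/-!
# Bender–Glauberman, Theorem C: the sets attached to `K K*` (rows 1370, 1371) and row 1372
-/

set_option autoImplicit false
set_option linter.unusedSectionVars false
set_option linter.style.haveILetI false

namespace Cfsg.Agent.OddOrder

open Cfsg
open Subgroup (centralizer normalizer zpowers)
open scoped Pointwise

universe u
variable {G : Type u} [Group G] [Finite G]

/-- A set invariant under conjugation by the elements of `M` is normalized by `M`. -/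
theorem mem_normalizer_set {M : Subgroup G} {S : Set G} (h : ∀ m ∈ M, ∀ x ∈ S, m * x * m⁻¹ ∈ S) {m : G}
    (hm : m ∈ M) : m ∈ normalizer S := by
  show ∀ x, _ ↔ _
  refine fun x => ⟨fun hx => h m hm x hx, fun hx => ?_⟩
  have h2 := h m⁻¹ (M.inv_mem hm) _ hx
  simpa [mul_assoc] using h2

namespace TheoremC

variable {M K U : Subgroup G} (hG : IsMinSimpleOddOrder G) (h13 : BG13 G) (hM : IsCoatom M)
  (hd : IsSigmaDecomposition M K U) (hK1 : K ≠ ⊥)
include hG h13 hM hd hK1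

/-- The set `Ẑ = Z ∖ (K ∪ K*)`. -/
theorem zhat_of_conj {a z : G}
    (hz : z ∈ ((↑(K ⊔ (sigmaCore M ⊓ centralizer (K : Set G))) : Set G) \
      ((K : Set G) ∪ ↑(sigmaCore M ⊓ centralizer (K : Set G)))))
    (ha : a * z * a⁻¹ ∈ K ⊔ (sigmaCore M ⊓ centralizer (K : Set G))) :
    a ∈ K ⊔ (sigmaCore M ⊓ centralizer (K : Set G)) := by
  obtain ⟨Mstar, P⟩ := exists_dualPair hG h13 hM hd.hall hK1
  rw [← P.memberSet_eq] at hz
  exact P.mem.mem_of_conj hz ha

theorem cyclic_z : IsCyclic ↥(K ⊔ (sigmaCore M ⊓ centralizer (K : Set G))) :=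
  (member_self hG h13 hM hd.hall hK1).cyclic

/-- S1370. -/
theorem zhat_ti :
    IsTISubset ((↑(K ⊔ (sigmaCore M ⊓ centralizer (K : Set G))) : Set G) \
        ((K : Set G) ∪ ↑(sigmaCore M ⊓ centralizer (K : Set G)))) ∧
      normalizer ((↑(K ⊔ (sigmaCore M ⊓ centralizer (K : Set G))) : Set G) \
        ((K : Set G) ∪ ↑(sigmaCore M ⊓ centralizer (K : Set G)))) =
        K ⊔ (sigmaCore M ⊓ centralizer (K : Set G)) := by
  set D := sigmaCore M ⊓ centralizer (K : Set G) with hD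
  set Z := K ⊔ D with hZ
  set S := (↑Z : Set G) \ ((K : Set G) ∪ ↑D) with hS
  have hc := cyclic_z hG h13 hM hd hK1
  rw [← hD, ← hZ] at hc
  have hle : Z ≤ normalizer S := fun g hg => mem_normalizer_set (M := Z) (fun m hm x hx => by
    have e : m * x * m⁻¹ = x := by
      rw [← Subgroup.mem_centralizer_iff.1 (mem_centralizer_of_isCyclic hc hm) x hx.1]; group
    rwa [e]) hg
  refine ⟨fun g hg x hx hgx => absurd (hle (zhat_of_conj hG h13 hM hd hK1 hx hgx.1)) hg,
    le_antisymm (fun g hg => ?_) hle⟩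
  obtain ⟨k, hk, hk1⟩ := (Subgroup.bot_or_exists_ne_one _).resolve_left hK1
  have hm := member_self hG h13 hM hd.hall hK1
  obtain ⟨y, hy, hy1⟩ := (Subgroup.bot_or_exists_ne_one _).resolve_left hm.part_ne_bot
  have hdis : K ⊓ D = ⊥ := Coprime.disjoint_of_coprime_card hm.coprime
  have hmem : k * y ∈ S := by
    refine ⟨Subgroup.mul_mem_sup hk hy, ?_⟩
    rintro (h | h)
    · exact hy1 (Subgroup.mem_bot.1 (hdis ▸ ⟨(K.mul_mem_cancel_left hk).1 h, hy⟩))
    · exact hk1 (Subgroup.mem_bot.1 (hdis ▸ ⟨hk, (D.mul_mem_cancel_right hy).1 h⟩))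
  exact zhat_of_conj hG h13 hM hd hK1 hmem ((hg (k * y)).1 hmem).1

/-- S1371. -/
theorem a0_diff_a :
    {a : G | ∃ m ∈ M, ∃ z ∈ ((↑(K ⊔ (sigmaCore M ⊓ centralizer (K : Set G))) : Set G) \
        ((K : Set G) ∪ ↑(sigmaCore M ⊓ centralizer (K : Set G)))), a = m * z * m⁻¹} =
        sigmaA0 M K \ sigmaA M U ∧
      IsTISubset (sigmaA0 M K \ sigmaA M U) := by
  set D := sigmaCore M ⊓ centralizer (K : Set G) with hD
  set Z := K ⊔ D with hZ
  set W := U ⊔ sigmaCore M with hW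
  set S := {a : G | ∃ m ∈ M, ∃ z ∈ ((↑Z : Set G) \ ((K : Set G) ∪ ↑D)), a = m * z * m⁻¹} with hS
  have hm := member_self hG h13 hM hd.hall hK1
  have hZM : Z ≤ M := hm.le
  have hKn : K ≤ normalizer (D : Set G) :=
    (Subgroup.le_centralizer_iff.1 (inf_le_right : D ≤ _)).trans (Subgroup.centralizer_le_normalizer _)
  have hWn : ∀ m ∈ M, ∀ x : G, x ∈ W ↔ m * x * m⁻¹ ∈ W := fun m hmM x =>
    Subgroup.mem_normalizer_iff.1 (Decomp.le_normalizer_sup hd hmM) x
  have key : S = sigmaA0 M K \ sigmaA M U := by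
    ext a
    constructor
    · rintro ⟨m, hmM, z, ⟨hzZ, hz⟩, rfl⟩
      obtain ⟨k, hk, y, hy, rfl⟩ := (Coprime.mem_sup_iff_of_le_normalizer hKn).1 hzZ
      have hky : Commute k y := Subgroup.mem_centralizer_iff.1 hy.2 k hk
      have hk1 : k ≠ 1 := fun e => hz (Or.inr (by rw [e, one_mul]; exact hy))
      have hy1 : y ≠ 1 := fun e => hz (Or.inl (by rw [e, mul_one]; exact hk))
      refine ⟨⟨conj_mem_sigmaHat ⟨hZM hzZ, y, hy.1, hy1, ?_⟩ hmM, ?_⟩, fun h => ?_⟩
      · exact ((hky.mul_left (Commute.refl y))).eq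
      · rintro ⟨k', hk', -, m', hm', e⟩
        obtain ⟨p, hp, hpd⟩ := Nat.exists_prime_and_dvd (fun e => hy1 (orderOf_eq_one_iff.1 e))
        have hcop : (orderOf k).Coprime (orderOf y) := (hm.coprime.coprime_dvd_left
          (Subgroup.orderOf_dvd_natCard K hk)).coprime_dvd_right (Subgroup.orderOf_dvd_natCard D hy)
        have h1 : orderOf (k * y) = orderOf k' := by
          have e1 : orderOf (m * (k * y) * m⁻¹) = orderOf (k * y) :=
            MulEquiv.orderOf_eq (MulAut.conj m) _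
          have e2 : orderOf (m' * k' * m'⁻¹) = orderOf k' := MulEquiv.orderOf_eq (MulAut.conj m') _
          rw [← e1, e, e2]
        have h2 : p ∣ Nat.card K := by
          refine dvd_trans ?_ (Subgroup.orderOf_dvd_natCard K hk')
          rw [← h1, hky.orderOf_mul_eq_mul_orderOf_of_coprime hcop]
          exact hpd.mul_left _
        exact hm.kappa_primes p hp h2 (primes_of_mem hm.part_primes hy p hp hpd)
      · have h1 : k * y ∈ W := (hWn m hmM _).2 h.2
        have h2 : k ∈ W := (W.mul_mem_cancel_right (Subgroup.mem_sup_right hy.1)).1 h1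
        refine hk1 (Subgroup.mem_bot.1 ?_)
        rw [← (DecompP.isComplIn_left hG h13 hM hd hK1).2.2.1]
        exact ⟨h2, hk⟩
    · rintro ⟨⟨haHat, haK⟩, haA⟩
      have haM := haHat.1
      have haW : a ∉ W := fun h => haA ⟨haHat, h⟩
      obtain ⟨p, hp, hpd, hpk⟩ : ∃ p : ℕ, p.Prime ∧ p ∣ orderOf a ∧ p ∈ kappa M := by
        by_contra h
        push Not at h
        exact haW (mem_sup_of_decomposition hd haM h)
      haveI := Fact.mk hp
      obtain ⟨X, hXa, hX⟩ := exists_card_le_zpowers hpd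
      obtain ⟨m, hmM, hmX⟩ := exists_conj_le_hall hG hM hd.hall (hXa.trans (Subgroup.zpowers_le.2 haM))
        (fun q hq hqd => by rwa [(Nat.prime_dvd_prime_iff_eq hq hp).1 (hX ▸ hqd)])
      obtain ⟨x, hx, hx1⟩ := (Subgroup.bot_or_exists_ne_one _).resolve_left
        (fun e => hp.ne_one (by rw [← hX, e, Subgroup.card_bot]) : X ≠ ⊥)
      have hxa : Commute a x := by
        obtain ⟨i, rfl⟩ := hXa hx
        exact Commute.self_zpow a i
      have hk1 : m * x * m⁻¹ ≠ 1 := fun e => hx1 (by rwa [conj_eq_one_iff] at e)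
      have haZ : m * a * m⁻¹ ∈ Z := by
        rw [hZ, hD, ← (kappa_centralizer hG h13 hM hd.hall).2 hK1 _ (hmX x hx) hk1]
        refine ⟨M.mul_mem (M.mul_mem hmM haM) (M.inv_mem hmM), Subgroup.mem_centralizer_singleton_iff.2 ?_⟩
        calc m * a * m⁻¹ * (m * x * m⁻¹) = m * (a * x) * m⁻¹ := by group
          _ = m * (x * a) * m⁻¹ := by rw [hxa.eq]
          _ = m * x * m⁻¹ * (m * a * m⁻¹) := by group
      refine ⟨m⁻¹, M.inv_mem hmM, m * a * m⁻¹, ⟨haZ, ?_⟩, by group⟩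
      rintro (h | h)
      · refine haK ⟨m * a * m⁻¹, h, fun e => ?_, m⁻¹, M.inv_mem hmM, by group⟩
        rw [conj_eq_one_iff] at e
        exact haW (e ▸ W.one_mem)
      · exact haW ((hWn m hmM a).2 (Subgroup.mem_sup_right h.1))
  refine ⟨key, key ▸ fun g hg a ha hga => absurd ?_ hg⟩
  refine mem_normalizer_set (M := M) (fun m hmM x hx => ?_) ?_
  · obtain ⟨n, hn, z, hz, rfl⟩ := hx
    exact ⟨m * n, M.mul_mem hmM hn, z, hz, by group⟩
  · obtain ⟨m, hmM, z, hz, rfl⟩ := ha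
    obtain ⟨m', hm', z', hz', e⟩ := hga
    have h1 : (m'⁻¹ * g * m) * z * (m'⁻¹ * g * m)⁻¹ = z' := by
      calc (m'⁻¹ * g * m) * z * (m'⁻¹ * g * m)⁻¹ = m'⁻¹ * (g * (m * z * m⁻¹) * g⁻¹) * m' := by group
        _ = z' := by rw [e]; group
    have h2 := hZM (zhat_of_conj hG h13 hM hd hK1 hz (h1.symm ▸ hz'.1))
    have h3 := M.mul_mem (M.mul_mem hm' h2) (M.inv_mem hmM)
    simpa [mul_assoc] using h3

/-- S1372. -/
theorem prime_and_ti (hU1 : U ≠ ⊥) (h40 : IntersectionCases M K U) :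
    (Nat.card K).Prime ∧ IsTISubset (fittingOf M : Set G) ∧ sigmaCore M ≤ fittingOf M := by
  have hn := DecompP.nilpotent hG h13 hM hd hK1 hU1
  refine ⟨(DecompP.card_prime hG h13 hM hd hK1 hU1).1, fun g hg x hx hgx => ?_,
    le_fittingOf (sigmaCore_le M) (le_normalizer_sigmaCore M) hn⟩
  by_contra hx1
  have hgM : g ∉ M := fun h => hg (le_normalizer_fittingOf M h)
  obtain ⟨-, ⟨hDF, hF⟩, -⟩ := h40 g hgM fun e => hx1 (by
    have h1 : g * x * g⁻¹ ∈ fittingOf M ⊓ (fittingOf M).map (MulAut.conj g).toMonoidHom :=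
      ⟨hgx, x, hx, rfl⟩
    rw [e, Subgroup.mem_bot, conj_eq_one_iff] at h1
    exact h1)
  refine hU1 (le_bot_iff.1 ?_)
  rw [← DecompP.sigmaCore_inf_centralizer_right hG h13 hM hd hK1 hU1]
  refine (?_ : U ≤ ⊥).trans bot_le
  have hUY : U ≤ sigmaComplCore M := by
    intro u hu
    have h1 : u ∈ sigmaCore M ⊔ sigmaComplCore M := by
      show u ∈ sigmaCore M ⊔ piCoreOf {q | q.Prime ∧ q ∉ sigma M} (fittingOf M)
      rw [← hF, ← hDF, DecompP.commutator_eq hG h13 hM hd hK1]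
      exact Subgroup.mem_sup_left hu
    exact (mem_of_commuting_sup (π := sigma M) (Subgroup.le_centralizer_iff.1 (sigmaComplCore_le_centralizer M))
      (fun p hp hpd => isPiGrp_piCoreOf (sigma M) M p hp hpd)
      (fun p hp hpd => not_mem_sigma_of_dvd_sigmaComplCore hp hpd) h1).2
      fun p hp hpd => Decomp.not_mem_sigma hG hM hd hp (hpd.trans (Subgroup.orderOf_dvd_natCard U hu))
  have h2 : sigmaCore M ≤ centralizer (U : Set G) :=
    Subgroup.le_centralizer_iff.1 (hUY.trans (sigmaComplCore_le_centralizer M))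
  refine absurd ?_ (sigmaCore_ne_bot hG hM)
  rw [← DecompP.sigmaCore_inf_centralizer_right hG h13 hM hd hK1 hU1]
  exact (inf_eq_left.2 h2).symm

end TheoremC

end Cfsg.Agent.OddOrder
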