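import Cfsg.Agent.Lib.OddOrder.TauThreeRegular
import Cfsg.Agent.Lib.OddOrder.TypesIff
import Cfsg.Agent.S1351
import Cfsg.Agent.S1352
import Cfsg.Agent.S1364
import Cfsg.Agent.S1366
import Cfsg.Agent.S1368
import Cfsg.Agent.S1369
import Cfsg.Agent.S1370

/-!
# The structure dichotomy in the book's form of Type I

All maximal subgroups are of Type I (`IsOfTypeI'`), or there is a pair `S`, `T` of type P containing
`W₁ W₂` and meeting every class of maximal subgroups not of Type I. From the rows of BG 14 to 16, with no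
bundle of hypotheses.
-/

set_option autoImplicit false
set_option linter.style.haveILetI false

namespace Cfsg.Agent.OddOrder.DichotomyPrime

open Cfsg Cfsg.Agent
open Subgroup (centralizer normalizer)

universe u
variable {G : Type u} [Group G] [Finite G]

theorem exists_decomposition (hG : IsMinSimpleOddOrder G) {M : Subgroup G} (hM : IsCoatom M) :
    ∃ K U : Subgroup G, IsPiHallOf (kappa M) K M ∧ IsSigmaDecomposition M K U := by
  obtain ⟨⟨K, hK⟩, hc⟩ := S1351.result hG M hM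
  obtain ⟨U, hU⟩ := (S1352.result hG M hM K (hc K hK) hK).1
  exact ⟨K, U, hK, hU⟩

theorem typeI'_of_kappa_empty (hG : IsMinSimpleOddOrder G) {M : Subgroup G} (hM : IsCoatom M)
    (h : kappa M = ∅) : IsOfTypeI' M := by
  obtain ⟨K, U, hK, hKU⟩ := exists_decomposition hG hM
  have hK0 : K = ⊥ := by
    by_contra hne
    obtain ⟨p, hp, hd⟩ := Nat.exists_prime_and_dvd (Nat.ne_of_gt (K.one_lt_card_iff_ne_bot.2 hne))
    have := hK.2.1 p hp hd
    rw [h] at this
    exact this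
  exact (TypesIff.typeI'_iff hG (bg13 hG) hM hKU).2
    ⟨hK0, fun hU => TypesIff.not_both_bot hG (bg13 hG) hM hKU ⟨hK0, hU⟩⟩

theorem type_II_to_V (hG : IsMinSimpleOddOrder G) {M K U : Subgroup G} (hM : IsCoatom M)
    (hKU : IsSigmaDecomposition M K U) (hK1 : K ≠ ⊥) :
    IsOfTypeII M ∨ IsOfTypeIII M ∨ IsOfTypeIV M ∨ IsOfTypeV M := by
  rcases TypesIff.trichotomy hG (bg13 hG) hM hKU with ⟨h, -⟩ | ⟨-, -, h⟩ | ⟨-, -, -, h⟩ | ⟨-, -, -, h⟩
  · exact absurd h hK1
  · exact Or.inl h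
  · exact Or.inr (h.imp_right Or.inl)
  · exact Or.inr (Or.inr (Or.inr h))

theorem selfNormalizing (hG : IsMinSimpleOddOrder G) {M K U : Subgroup G} (hM : IsCoatom M)
    (hKU : IsSigmaDecomposition M K U) (hK1 : K ≠ ⊥) :
    IsSelfNormalizingCyclic K (sigmaCore M ⊓ centralizer (K : Set G)) := by
  have h13 := bg13 hG
  have hZ := TheoremC.cyclic_z hG h13 hM hKU hK1
  refine ⟨hK1, (S1364.result hG M hM K U hKU hK1).2.1,
    le_bot_iff.1 ((inf_le_inf_left K inf_le_left).trans (Decomp.inf_sigmaCore hKU).le),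
    fun a ha b hb => Subgroup.mem_centralizer_iff.1 hb.2 a ha, hZ, fun X hX hne => ?_⟩
  refine le_antisymm (fun g hg => ?_) (fun g hg => ?_)
  · obtain ⟨x, hx⟩ := hne
    exact TheoremC.zhat_of_conj hG h13 hM hKU hK1 (hX hx) (hX ((hg x).1 hx)).1
  · refine mem_normalizer_set (M := K ⊔ (sigmaCore M ⊓ centralizer (K : Set G)))
      (fun m hm x hx => ?_) hg
    have e : m * x * m⁻¹ = x := by
      rw [← Subgroup.mem_centralizer_iff.1 (mem_centralizer_of_isCyclic hZ hm) x (hX hx).1]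
      group
    rwa [e]

/-- The conclusion of S1385 for `IsOfTypeI'`. -/
theorem structureDichotomy' (hG : IsMinSimpleOddOrder G) :
    (∀ M : Subgroup G, IsCoatom M → IsOfTypeI' M) ∨
      ∃ W₁ W₂ S T : Subgroup G, IsSelfNormalizingCyclic W₁ W₂ ∧ IsCoatom S ∧ IsCoatom T ∧
        IsComplIn ⁅S, S⁆ W₁ S ∧ IsComplIn ⁅T, T⁆ W₂ T ∧ S ⊓ T = W₁ ⊔ W₂ ∧
        (IsOfTypeII S ∨ IsOfTypeII T) ∧
        (IsOfTypeII S ∨ IsOfTypeIII S ∨ IsOfTypeIV S ∨ IsOfTypeV S) ∧
        (IsOfTypeII T ∨ IsOfTypeIII T ∨ IsOfTypeIV T ∨ IsOfTypeV T) ∧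
        ∀ M : Subgroup G, IsCoatom M → IsOfTypeI' M ∨
          ∃ g : G, M = S.map (MulAut.conj g).toMonoidHom ∨ M = T.map (MulAut.conj g).toMonoidHom := by
  by_cases hall : ∀ M : Subgroup G, IsCoatom M → kappa M = ∅
  · exact Or.inl fun M hM => typeI'_of_kappa_empty hG hM (hall M hM)
  push Not at hall
  obtain ⟨M, hM, hk⟩ := hall
  obtain ⟨K, U, hK, hKU⟩ := exists_decomposition hG hM
  have hK1 : K ≠ ⊥ := by
    rintro rfl
    obtain ⟨p, hp⟩ := hk
    refine hK.2.2 p hp.1 hp ?_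
    rw [Subgroup.relIndex_bot_left]
    exact hp.2.1
  obtain ⟨Ms, ⟨hMs, hKst, hKstH⟩, -⟩ := S1366.result hG M hM K U hKU hK1
  obtain ⟨hcyc, hKs1, -, -⟩ := S1364.result hG M hM K U hKU hK1
  obtain ⟨Us, hUs⟩ := (S1352.result hG Ms hMs _ hcyc hKstH).1
  obtain ⟨hII, hconj⟩ := S1369.result hG M hM K U hKU hK1 Ms hMs hKst hKstH
  refine Or.inr ⟨K, sigmaCore M ⊓ centralizer (K : Set G), M, Ms, selfNormalizing hG hM hKU hK1, hM, hMs,
    TypesIff.isComplIn_commutator hG (bg13 hG) hM hKU hK1,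
    TypesIff.isComplIn_commutator hG (bg13 hG) hMs hUs hKs1,
    (S1368.result hG M hM K U hKU hK1 Ms hMs hKst hKstH).1, ?_, type_II_to_V hG hM hKU hK1,
    type_II_to_V hG hMs hUs hKs1, fun H hH => ?_⟩
  · rcases hII with hU | hU
    · exact Or.inl ((TypesIff.typeII_iff hG (bg13 hG) hM hKU).2 ⟨hK1, hU⟩)
    · exact Or.inr ((TypesIff.typeII_iff hG (bg13 hG) hMs hUs).2 ⟨hKs1, hU Us hUs⟩)
  · rcases (kappa H).eq_empty_or_nonempty with h | h
    · exact Or.inl (typeI'_of_kappa_empty hG hH h)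
    · exact Or.inr (hconj H hH h)

end Cfsg.Agent.OddOrder.DichotomyPrime
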