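import Cfsg.Agent.Lib.OddOrder.CAGroup
import Cfsg.Agent.Lib.PComplement.FixedPointFree
import Cfsg.Agent.Lib.Char.Linear
import Cfsg.Agent.Lib.Char.RealChar
import Cfsg.Agent.Lib.PGroup.Basic
import Mathlib.GroupTheory.Subgroup.Centralizer

/-!
# TI subgroups that are Frobenius kernels of their normalizers: one family of exceptional characters

For such a subgroup `H` of a group of odd order, with `e = [N_G(H) : H]` and
`[H : H'] = s e + 1`, the `s` orbits of non-principal linear characters give a family of `s`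
irreducible characters of `G`; `T = (1_H - λ₀)^G` has norm `e + 1`, and its coefficients bound the
mass of the irreducible characters on the conjugates of `H`.
-/

set_option autoImplicit false
set_option linter.style.haveILetI false

namespace Cfsg.Agent.OddOrder

open scoped ComplexConjugate
open Cfsg Cfsg.Agent.Char

variable {G : Type*} [Group G]

/-- A nontrivial TI subgroup which is a proper Frobenius kernel of its normalizer. -/
structure IsFrobTI (H : Subgroup G) : Prop where
  ne_bot : H ≠ ⊥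
  exists_notMem : ∃ n ∈ Subgroup.normalizer (H : Set G), n ∉ H
  frob : ∀ n ∈ Subgroup.normalizer (H : Set G), ∀ h ∈ H, h ≠ 1 → n * h = h * n → n ∈ H
  ti : ∀ g x : G, x ∈ H → x ≠ 1 → g * x * g⁻¹ ∈ H → g ∈ Subgroup.normalizer (H : Set G)

theorem coe_normalizerHom (H : Subgroup G) (n : Subgroup.normalizer (H : Set G)) (x : H) :
    ((H.normalizerMonoidHom n x : H) : G) = (n : G) * x * (n : G)⁻¹ := rfl

/-- The conjugate of a linear character by an element of the normalizer. -/
def conjLin (H : Subgroup G) (n : Subgroup.normalizer (H : Set G)) (f : H →* ℂ) : H →* ℂ :=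
  f.comp (H.normalizerMonoidHom n).toMonoidHom

theorem conjLin_apply (H : Subgroup G) (n : Subgroup.normalizer (H : Set G)) (f : H →* ℂ) (x : H) :
    conjLin H n f x = f (H.normalizerMonoidHom n x) := rfl

theorem conjLin_one (H : Subgroup G) (f : H →* ℂ) : conjLin H 1 f = f :=
  MonoidHom.ext fun x => by rw [conjLin_apply, map_one]; rfl

theorem conjLin_mul (H : Subgroup G) (m n : Subgroup.normalizer (H : Set G)) (f : H →* ℂ) :
    conjLin H (m * n) f = conjLin H n (conjLin H m f) :=
  MonoidHom.ext fun x => by simp only [conjLin_apply, map_mul]; rfl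

theorem conjLin_inv (H : Subgroup G) {n : Subgroup.normalizer (H : Set G)} {f f' : H →* ℂ}
    (h : conjLin H n f = f') : conjLin H n⁻¹ f' = f := by
  rw [← h, ← conjLin_mul, mul_inv_cancel, conjLin_one]

theorem conjLin_trivial (H : Subgroup G) (n : Subgroup.normalizer (H : Set G)) :
    conjLin H n 1 = 1 := MonoidHom.ext fun _ => rfl

section Basic

variable [Finite G] {H : Subgroup G}

/-- A Frobenius kernel is nilpotent. -/
theorem IsFrobTI.isNilpotent (h : IsFrobTI H) : Group.IsNilpotent H := by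
  obtain ⟨n, hn, hnH⟩ := h.exists_notMem
  set N := Subgroup.normalizer (H : Set G) with hN
  have hle : H ≤ N := Subgroup.le_normalizer
  haveI : (H.subgroupOf N).Normal := Subgroup.normal_in_normalizer
  have hne : (H.subgroupOf N).index ≠ 1 := by
    rw [ne_eq, Subgroup.index_eq_one, Subgroup.subgroupOf_eq_top]
    exact fun hh => hnH (hh hn)
  obtain ⟨p, hp, hpd⟩ := Nat.exists_prime_and_dvd hne
  haveI := Fact.mk hp
  -- an element of prime order outside the kernel
  obtain ⟨P⟩ := (inferInstance : Nonempty (Sylow p N))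
  have hmeet : (P : Subgroup N) ⊓ H.subgroupOf N = ⊥ := by
    by_contra hbot
    haveI hPN : ((H.subgroupOf N).subgroupOf (P : Subgroup N)).Normal :=
      Subgroup.Normal.subgroupOf inferInstance _
    haveI hMnt : Nontrivial ((H.subgroupOf N).subgroupOf (P : Subgroup N)) := by
      rw [Subgroup.nontrivial_iff_ne_bot, ne_eq, Subgroup.subgroupOf_eq_bot, disjoint_iff, inf_comm]
      exact hbot
    obtain ⟨⟨z, hzM, hzc⟩, hz1⟩ := Subgroup.ne_bot_iff_exists_ne_one.mp
      (PGroup.inf_center_ne_bot P.2 ((H.subgroupOf N).subgroupOf (P : Subgroup N))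
        ((Subgroup.nontrivial_iff_ne_bot _).mp hMnt))
    have hz0 : ((z : N) : G) ≠ 1 := fun h0 => hz1 (Subtype.ext (Subtype.ext (Subtype.ext h0)))
    have hPH : (P : Subgroup N) ≤ H.subgroupOf N := fun y hy =>
      Subgroup.mem_subgroupOf.mpr (h.frob _ y.2 _ hzM hz0
        (congrArg (fun t : (P : Subgroup N) => ((t : N) : G))
          (Subgroup.mem_center_iff.mp hzc ⟨y, hy⟩)))
    exact P.not_dvd_index (hpd.trans (Subgroup.index_dvd_of_le hPH))
  obtain ⟨a, haN, haH, hap⟩ : ∃ a ∈ N, a ∉ H ∧ a ^ p = 1 := by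
    have hpP : p ∣ Nat.card (P : Subgroup N) :=
      P.dvd_card_of_dvd_card (hpd.trans (Subgroup.index_dvd_card _))
    obtain ⟨y, hy⟩ := exists_prime_orderOf_dvd_card' p hpP
    have hyp : (((y : N)) : G) ^ p = 1 := by
      rw [← Subgroup.coe_pow, ← Subgroup.coe_pow, orderOf_dvd_iff_pow_eq_one.mp hy.dvd]; rfl
    refine ⟨_, (y : N).2, fun hmem => hp.ne_one ?_, hyp⟩
    have hy0 : (y : N) ∈ (P : Subgroup N) ⊓ H.subgroupOf N := ⟨y.2, hmem⟩
    rw [hmeet, Subgroup.mem_bot] at hy0
    rw [← hy, show y = 1 from Subtype.ext hy0, orderOf_one]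
  refine PComplement.isNilpotent_of_fpf (p := p) H (H.normalizerMonoidHom ⟨a, haN⟩) ?_ ?_
  · rw [← map_pow, show (⟨a, haN⟩ : N) ^ p = 1 from Subtype.ext hap, map_one]
  · intro x hx
    by_contra hx1
    exact haH (h.frob a haN x x.2 (fun h0 => hx1 (Subtype.ext h0))
      (mul_inv_eq_iff_eq_mul.mp (congrArg Subtype.val hx)))

theorem IsFrobTI.one_lt_index_commutator (h : IsFrobTI H) : 1 < (commutator H).index := by
  haveI := h.isNilpotent
  haveI : Nontrivial H := (Subgroup.nontrivial_iff_ne_bot H).mpr h.ne_bot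
  exact Subgroup.one_lt_index_of_ne_top
    (Group.IsSolvable.commutator_lt_top_of_nontrivial H).ne

/-- A nontrivial linear character is fixed only by the kernel. -/
theorem IsFrobTI.conjLin_eq_self_iff (h : IsFrobTI H) {f : H →* ℂ} (hf : f ≠ 1)
    (n : Subgroup.normalizer (H : Set G)) : conjLin H n f = f ↔ (n : G) ∈ H := by
  constructor
  · intro hfix
    by_contra hn
    apply hf
    let φ : H → H := fun x => x⁻¹ * H.normalizerMonoidHom n x
    have hφ : Function.Surjective φ := by
      refine Finite.surjective_of_injective fun x y hxy => ?_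
      have h3 : x⁻¹ * H.normalizerMonoidHom n x = y⁻¹ * H.normalizerMonoidHom n y := hxy
      have h1 : H.normalizerMonoidHom n (y * x⁻¹) = y * x⁻¹ := by
        have h2 : H.normalizerMonoidHom n y = y * x⁻¹ * H.normalizerMonoidHom n x := by
          rw [mul_assoc, h3, mul_inv_cancel_left]
        rw [map_mul, map_inv, h2]
        group
      by_contra hne
      refine hn (h.frob _ n.2 _ (y * x⁻¹).2
        (fun h4 => hne (mul_inv_eq_one.1 (Subtype.ext h4)).symm) ?_)
      exact mul_inv_eq_iff_eq_mul.mp (congrArg Subtype.val h1)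
    refine MonoidHom.ext fun z => ?_
    obtain ⟨x, rfl⟩ := hφ z
    show f (x⁻¹ * H.normalizerMonoidHom n x) = 1
    rw [map_mul, ← conjLin_apply, hfix, ← map_mul, inv_mul_cancel, map_one]
  · intro hn
    refine MonoidHom.ext fun x => ?_
    rw [conjLin_apply, show H.normalizerMonoidHom n x = (⟨n, hn⟩ : H) * x * (⟨n, hn⟩ : H)⁻¹ from
      Subtype.ext rfl, map_mul, map_mul, mul_comm (f ⟨n, hn⟩) (f x), mul_assoc, ← map_mul f ⟨n, hn⟩,
      mul_inv_cancel, map_one, mul_one]

omit [Finite G] in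
theorem card_normalizer_eq (H : Subgroup G) :
    Nat.card (Subgroup.normalizer (H : Set G)) =
      Nat.card H * (H.subgroupOf (Subgroup.normalizer (H : Set G))).index := by
  rw [← Subgroup.card_mul_index (H.subgroupOf (Subgroup.normalizer (H : Set G))),
    Nat.card_congr (Subgroup.subgroupOfEquivOfLe Subgroup.le_normalizer).toEquiv]

end Basic

variable [Fintype G]

theorem classInner_eq_sum_coeff {T T' : G → ℂ} (hT' : IsClassFunction G T') :
    classInner T T' = ∑ χ : IrrCharacter G, classInner T χ.1 * conj (classInner T' χ.1) := by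
  conv_lhs => rw [eq_sum_classInner_smul hT', classInner_sum_right]
  exact Finset.sum_congr rfl fun χ _ => by rw [classInner_smul_right, mul_comm]

theorem sum_conjUnion_of_ti {H : Subgroup G} (h : IsFrobTI H) (f : G → ℂ)
    (hf : IsClassFunction G f) (t : Finset H) (ht : ∀ x, x ∈ t ↔ x ≠ 1) :
    (Nat.card (Subgroup.normalizer (H : Set G)) : ℂ) * ∑ u ∈ conjUnion H, f u =
      (Nat.card G : ℂ) * ∑ x ∈ t, f (x : G) := by
  classical
  let F : G × H → G := fun p => p.1 * (p.2 : G) * p.1⁻¹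
  have hmaps : ∀ p ∈ (Finset.univ ×ˢ t : Finset (G × H)), F p ∈ conjUnion H := by
    intro p hp
    have hx1 := (ht p.2).mp (Finset.mem_product.mp hp).2
    refine mem_conjUnion.mpr ⟨fun h => hx1 (Subtype.ext (conj_eq_one_iff.mp h)), p.1, ?_⟩
    show p.1⁻¹ * (p.1 * (p.2 : G) * p.1⁻¹) * p.1 ∈ H
    rw [show p.1⁻¹ * (p.1 * (p.2 : G) * p.1⁻¹) * p.1 = (p.2 : G) by group]
    exact p.2.2
  have hfib := Finset.sum_fiberwise_of_maps_to hmaps (fun p => f (F p))
  have hlhs : ∑ p ∈ (Finset.univ ×ˢ t : Finset (G × H)), f (F p) =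
      (Nat.card G : ℂ) * ∑ x ∈ t, f (x : G) := by
    rw [Finset.sum_product, Finset.sum_congr rfl (g := fun _ => ∑ x ∈ t, f (x : G)),
      Finset.sum_const, Finset.card_univ, nsmul_eq_mul, ← Nat.card_eq_fintype_card]
    intro c _
    exact Finset.sum_congr rfl fun x _ => hf (x : G) c
  rw [← hlhs, ← hfib, Finset.mul_sum]
  refine Finset.sum_congr rfl fun u hu => ?_
  rw [Finset.sum_congr rfl (g := fun _ => f u)
    (fun p hp => by rw [(Finset.mem_filter.mp hp).2]), Finset.sum_const, nsmul_eq_mul]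
  congr 2
  obtain ⟨hu1, c, hc⟩ := mem_conjUnion.mp hu
  rw [← Fintype.card_coe, ← Nat.card_eq_fintype_card]
  refine Nat.card_congr
    { toFun := fun n => ⟨(c * (n : G), ⟨(n : G)⁻¹ * (c⁻¹ * u * c) * n,
        (Subgroup.mem_normalizer_iff''.mp n.2 _).mp hc⟩), ?_⟩
      invFun := fun p => ⟨c⁻¹ * p.1.1, ?_⟩
      left_inv := fun n => Subtype.ext (by simp)
      right_inv := fun p => ?_ }
  · refine Finset.mem_filter.mpr ⟨Finset.mem_product.mpr ⟨Finset.mem_univ _, (ht _).mpr ?_⟩, ?_⟩
    · intro h0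
      have h1 : (n : G)⁻¹ * (c⁻¹ * u * c) * n = 1 := congrArg Subtype.val h0
      refine hu1 ?_
      calc u = c * n * ((n : G)⁻¹ * (c⁻¹ * u * c) * n) * (n : G)⁻¹ * c⁻¹ := by group
        _ = 1 := by rw [h1]; group
    · show c * (n : G) * ((n : G)⁻¹ * (c⁻¹ * u * c) * n) * (c * (n : G))⁻¹ = u
      group
  · obtain ⟨hp, hpu⟩ := Finset.mem_filter.mp p.2
    have hpu' : p.1.1 * (p.1.2 : G) * p.1.1⁻¹ = u := hpu
    have hp1 : (p.1.2 : G) ≠ 1 := fun h0 =>
      (ht _).mp (Finset.mem_product.mp hp).2 (Subtype.ext h0)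
    refine h.ti (c⁻¹ * p.1.1) _ p.1.2.2 hp1 ?_
    rw [show c⁻¹ * p.1.1 * (p.1.2 : G) * (c⁻¹ * p.1.1)⁻¹ = c⁻¹ * (p.1.1 * (p.1.2 : G) * p.1.1⁻¹) * c
      by group, hpu']
    exact hc
  · obtain ⟨-, hpu⟩ := Finset.mem_filter.mp p.2
    have hpu' : p.1.1 * (p.1.2 : G) * p.1.1⁻¹ = u := hpu
    refine Subtype.ext (Prod.ext (mul_inv_cancel_left c p.1.1) (Subtype.ext ?_))
    show (c⁻¹ * p.1.1)⁻¹ * (c⁻¹ * u * c) * (c⁻¹ * p.1.1) = (p.1.2 : G)
    calc (c⁻¹ * p.1.1)⁻¹ * (c⁻¹ * u * c) * (c⁻¹ * p.1.1) = p.1.1⁻¹ * u * p.1.1 := by group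
      _ = p.1.1⁻¹ * (p.1.1 * (p.1.2 : G) * p.1.1⁻¹) * p.1.1 :=
          congrArg (fun v => p.1.1⁻¹ * v * p.1.1) hpu'.symm
      _ = (p.1.2 : G) := by group

/-- The squared mass of a class function on the conjugates of `H`. -/
noncomputable def unionMass (H : Subgroup G) (f : G → ℂ) : ℝ :=
  ∑ u ∈ conjUnion H, Complex.normSq (f u)

/-- The family of exceptional characters of `H` with the coefficients of `(1_H - λ₀)^G`. -/
structure FamilyData (H : Subgroup G) : Type _ where
  e : ℕ
  s : ℕ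
  e_three : 3 ≤ e
  e_odd : Odd e
  s_two : 2 ≤ s
  s_even : Even s
  dvd_card : s * e + 1 ∣ Nat.card H
  card_norm : Nat.card (Subgroup.normalizer (H : Set G)) = Nat.card H * e
  F : Finset (IrrCharacter G)
  θ : IrrCharacter G
  θ_mem : θ ∈ F
  card_F : F.card = s
  triv_notMem : trivialChar G ∉ F
  conj_mem : ∀ χ ∈ F, conjIrr χ ∈ F
  off : ∀ χ ∈ F, ∀ φ ∈ F, ∀ g ∉ conjUnion H, χ.1 g = φ.1 g
  T : G → ℂ
  T_class : IsClassFunction G T
  T_off : ∀ g ∉ conjUnion H, T g = 0
  coef : IrrCharacter G → ℤ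
  coef_spec : ∀ χ : IrrCharacter G, classInner T χ.1 = coef χ
  norm_T : ∑ χ : IrrCharacter G, coef χ ^ 2 = e + 1
  coef_triv : coef (trivialChar G) = 1
  coef_conj : ∀ χ ∉ F, coef (conjIrr χ) = coef χ
  odd_sum : Odd (∑ χ ∈ F, coef χ)
  card_union : Nat.card H * e * (conjUnion H).card = Nat.card G * (Nat.card H - 1)
  mass_self : (Nat.card G : ℝ) * ((s * e + 1 : ℝ) - e) ≤ (s * e + 1 : ℝ) * unionMass H θ.1
  mass_other : ∀ χ ∉ F,
    (Nat.card G : ℝ) * (coef χ : ℝ) ^ 2 * s ≤ (s * e + 1 : ℝ) * unionMass H χ.1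

theorem exists_familyData {H : Subgroup G} (h : IsFrobTI H) (hodd : Odd (Nat.card G)) :
    Nonempty (FamilyData H) := by
  classical
  set N := Subgroup.normalizer (H : Set G) with hN
  haveI : Finite (H →* ℂ) := Nat.finite_of_card_ne_zero
    (by rw [card_monoidHom_complex]; exact Subgroup.index_ne_zero_of_finite)
  haveI := Fintype.ofFinite (H →* ℂ)
  set e := (H.subgroupOf N).index with he
  have hcardN : Nat.card N = Nat.card H * e := card_normalizer_eq H
  have hHpos : (Nat.card H : ℂ) ≠ 0 := Nat.cast_ne_zero.2 Nat.card_pos.ne'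
  let cN : N → H ≃* H := fun n => H.normalizerMonoidHom n
  -- orbits of linear characters
  let orb : (H →* ℂ) → Finset (H →* ℂ) := fun f => Finset.univ.image fun n : N => conjLin H n f
  have mem_orb : ∀ a f, a ∈ orb f ↔ ∃ n : N, conjLin H n f = a := fun a f => by simp [orb]
  have orb_eq : ∀ a f, a ∈ orb f → orb a = orb f := by
    intro a f ha
    obtain ⟨n, hn⟩ := (mem_orb a f).mp ha
    ext b
    rw [mem_orb, mem_orb]
    constructor
    · rintro ⟨m, hm⟩
      exact ⟨n * m, by rw [conjLin_mul, hn, hm]⟩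
    · rintro ⟨m, hm⟩
      exact ⟨n⁻¹ * m, by rw [conjLin_mul, conjLin_inv H hn, hm]⟩
  have self_mem : ∀ f, f ∈ orb f := fun f => (mem_orb f f).mpr ⟨1, conjLin_one H f⟩
  have orb_ne : ∀ a f, f ≠ 1 → a ∈ orb f → a ≠ 1 := by
    intro a f hf ha ha1
    obtain ⟨n, hn⟩ := (mem_orb a f).mp ha
    exact hf (by rw [← conjLin_inv H hn, ha1, conjLin_trivial])
  have hfib : ∀ a f, f ≠ 1 →
      (Finset.univ.filter fun n : N => conjLin H n f = a).card =
        if a ∈ orb f then Nat.card H else 0 := by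
    intro a f hf
    split_ifs with ha
    · obtain ⟨n₀, hn₀⟩ := (mem_orb a f).mp ha
      rw [← Fintype.card_subtype, ← Nat.card_eq_fintype_card]
      refine Nat.card_congr
        { toFun := fun n => ⟨((n.1 * n₀⁻¹ : N) : G),
            (h.conjLin_eq_self_iff hf _).mp (by rw [conjLin_mul, n.2, conjLin_inv H hn₀])⟩
          invFun := fun x => ⟨⟨(x : G), Subgroup.le_normalizer x.2⟩ * n₀,
            by rw [conjLin_mul, (h.conjLin_eq_self_iff hf _).mpr x.2, hn₀]⟩
          left_inv := fun n => Subtype.ext (Subtype.ext (by simp))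
          right_inv := fun x => Subtype.ext (by simp) }
    · rw [Finset.card_eq_zero, Finset.filter_eq_empty_iff]
      exact fun n _ hn => ha ((mem_orb a f).mpr ⟨n, hn⟩)
  have card_orb : ∀ f, f ≠ 1 → (orb f).card = e := by
    intro f hf
    have h1 := Finset.card_eq_sum_card_image (fun n : N => conjLin H n f) Finset.univ
    rw [Finset.card_univ, ← Nat.card_eq_fintype_card, hcardN,
      Finset.sum_congr rfl (g := fun _ => Nat.card H) (fun a ha => by
        rw [hfib a f hf, if_pos ha]), Finset.sum_const, smul_eq_mul] at h1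
    exact Nat.eq_of_mul_eq_mul_right (m := Nat.card H) Nat.card_pos (h1.symm.trans (mul_comm _ _))
  set 𝒪 := (Finset.univ.erase (1 : H →* ℂ)).image orb with h𝒪
  set s := 𝒪.card with hs
  have hn : Fintype.card (H →* ℂ) = s * e + 1 := by
    have h1 := Finset.card_eq_sum_card_image orb (Finset.univ.erase (1 : H →* ℂ))
    rw [← h𝒪, Finset.sum_congr rfl (g := fun _ => e) (fun O hO => by
      obtain ⟨f, hf, rfl⟩ := Finset.mem_image.mp hO
      have hf1 := Finset.ne_of_mem_erase hf
      rw [← card_orb f hf1]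
      refine congrArg Finset.card (Finset.ext fun a => ?_)
      rw [Finset.mem_filter, Finset.mem_erase]
      exact ⟨fun ha => ha.2 ▸ self_mem a,
        fun ha => ⟨⟨orb_ne a f hf1 ha, Finset.mem_univ _⟩, orb_eq a f ha⟩⟩),
      Finset.sum_const, smul_eq_mul, Finset.card_erase_of_mem (Finset.mem_univ _),
      Finset.card_univ] at h1
    have h2 : 0 < Fintype.card (H →* ℂ) := Fintype.card_pos
    have h3 : Fintype.card (H →* ℂ) - 1 = s * e := h1
    omega
  have hindex : s * e + 1 = (commutator H).index := by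
    rw [← hn, ← Nat.card_eq_fintype_card, card_monoidHom_complex]
  have hdvd : s * e + 1 ∣ Nat.card H := hindex ▸ Subgroup.index_dvd_card _
  have heodd : Odd e := hodd.of_dvd_nat
    ((dvd_mul_left e _).trans (hcardN ▸ Subgroup.card_subgroup_dvd_card N))
  have he3 : 3 ≤ e := by
    have hne : e ≠ 1 := by
      rw [he, ne_eq, Subgroup.index_eq_one, Subgroup.subgroupOf_eq_top]
      obtain ⟨n, hn, hnH⟩ := h.exists_notMem
      exact fun hh => hnH (hh hn)
    obtain ⟨k, hk⟩ := heodd
    omega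
  have hseven : Even s := by
    rcases Nat.even_or_odd s with hh | hh
    · exact hh
    · exfalso
      have h1 : Odd (s * e + 1) :=
        hodd.of_dvd_nat (hdvd.trans (Subgroup.card_subgroup_dvd_card H))
      exact (Nat.not_even_iff_odd.mpr h1) (hh.mul heodd).add_one
  have hs2 : 2 ≤ s := by
    have h1 := h.one_lt_index_commutator
    rw [← hindex] at h1
    obtain ⟨k, hk⟩ := hseven
    rcases Nat.eq_zero_or_pos s with h0 | h0
    · rw [h0] at h1; omega
    · omega
  -- representatives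
  have hrep₀ : ∀ O : 𝒪, ∃ f, f ≠ 1 ∧ orb f = O.1 := fun O => by
    obtain ⟨f, hf, hfO⟩ := Finset.mem_image.mp O.2
    exact ⟨f, Finset.ne_of_mem_erase hf, hfO⟩
  choose r hr1 hrO using hrep₀
  let eO : Fin s ≃ 𝒪 := 𝒪.equivFin.symm
  let rep : Fin s → (H →* ℂ) := fun i => r (eO i)
  have hrep1 : ∀ i, rep i ≠ 1 := fun i => hr1 _
  have hrep : ∀ i j, rep i ∈ orb (rep j) ↔ i = j := by
    refine fun i j => ⟨fun hm => eO.injective (Subtype.ext ?_), fun hij => hij ▸ self_mem _⟩
    rw [← hrO, ← hrO]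
    exact orb_eq _ _ hm
  have hcover : ∀ f, f ≠ 1 → ∃ i, f ∈ orb (rep i) := fun f hf => by
    refine ⟨eO.symm ⟨orb f, Finset.mem_image.mpr ⟨f, Finset.mem_erase.mpr ⟨hf, Finset.mem_univ _⟩,
      rfl⟩⟩, ?_⟩
    simp only [rep, Equiv.apply_symm_apply, hrO]
    exact self_mem f
  let i₀ : Fin s := ⟨0, by omega⟩
  -- inner products
  have hip : ∀ a b : H →* ℂ, classInner (⇑a) (⇑b) = if a = b then 1 else 0 := fun a b => by
    have := classInner_irr (linIrr a) (linIrr b)
    simpa [linIrr, linIrr_injective.eq_iff] using this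
  let Q : (H →* ℂ) → (H →* ℂ) → ℂ := fun a c =>
    (Nat.card H : ℂ)⁻¹ * ∑ n : N, if a = conjLin H n c then 1 else 0
  have hQ : ∀ a c, c ≠ 1 → Q a c = if a ∈ orb c then 1 else 0 := fun a c hc => by
    simp only [Q, Finset.sum_boole]
    rw [Finset.filter_congr (q := fun n : N => conjLin H n c = a) (fun n _ => eq_comm), hfib a c hc]
    split_ifs
    · rw [inv_mul_cancel₀ hHpos]
    · rw [Nat.cast_zero, mul_zero]
  have hQ1 : ∀ a, Q a 1 = if a = 1 then (e : ℂ) else 0 := fun a => by
    simp only [Q, conjLin_trivial]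
    split_ifs
    · rw [Finset.sum_const, Finset.card_univ, ← Nat.card_eq_fintype_card, hcardN, nsmul_eq_mul,
        mul_one, Nat.cast_mul, inv_mul_cancel_left₀ hHpos]
    · rw [Finset.sum_const_zero, mul_zero]
  have hQne : ∀ c, c ≠ 1 → Q 1 c = 0 := fun c hc => by
    rw [hQ 1 c hc, if_neg fun hm => orb_ne 1 c hc hm rfl]
  have hres : ∀ c d : H →* ℂ, (fun x : H => indFun H (⇑c - ⇑d) (x : G)) =
      (Nat.card H : ℂ)⁻¹ • ∑ n : N, (⇑(conjLin H n c) - ⇑(conjLin H n d)) := by
    intro c d
    funext x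
    simp only [Pi.smul_apply, Finset.sum_apply, Pi.sub_apply, smul_eq_mul, conjLin_apply]
    by_cases hx : x = 1
    · simp [hx, indFun_apply_one]
    · have hx1 : (x : G) ≠ 1 := fun h0 => hx (Subtype.ext h0)
      simp only [indFun]
      congr 1
      symm
      refine Fintype.sum_of_injective (fun n : N => ((n : G))⁻¹)
        (fun a b (hab : ((a : G))⁻¹ = (b : G)⁻¹) => Subtype.ext (inv_inj.mp hab)) _ _ ?_ ?_
      · intro y hy
        refine extendByZero_of_notMem _ _ fun hm => hy ⟨⟨y⁻¹, ?_⟩, inv_inv y⟩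
        exact h.ti y⁻¹ x x.2 hx1 (by rwa [inv_inv])
      · intro n
        rw [inv_inv, extendByZero_of_mem _ _ ((Subgroup.mem_normalizer_iff.mp n.2 (x : G)).mp x.2)]
        rfl
  have hind : ∀ a b c d : H →* ℂ, classInner (indFun H (⇑a - ⇑b)) (indFun H (⇑c - ⇑d)) =
      (Q a c - Q a d) - (Q b c - Q b d) := by
    intro a b c d
    rw [classInner_indFun H _ (isClassFunction_indFun H _), hres c d, classInner_smul_right,
      classInner_sum_right, map_inv₀, map_natCast]
    simp only [classInner_sub_left, classInner_sub_right, hip, Finset.sum_sub_distrib, Q, mul_sub]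
    ring
  let D : Fin s → G → ℂ := fun i => indFun H (⇑(rep i) - ⇑(rep i₀))
  let T : G → ℂ := indFun H (⇑(1 : H →* ℂ) - ⇑(rep i₀))
  have hoff : ∀ c d : H →* ℂ, ∀ g ∉ conjUnion H, indFun H (⇑c - ⇑d) g = 0 := by
    intro c d g hg
    by_cases h1 : g = 1
    · simp [h1, indFun_apply_one]
    · exact indFun_eq_zero_of_forall_notMem H _ fun x hx => hg (mem_conjUnion.mpr ⟨h1, x, hx⟩)
  have hgen : ∀ f : H →* ℂ, IsGeneralizedCharacter G (indFun H ⇑f) := fun f =>
    isGeneralizedCharacter_indFun H (irr_isGeneralized (linIrr f))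
  have hgram : ∀ i j, i ≠ i₀ → j ≠ i₀ → classInner (D i) (D j) = if i = j then 2 else 1 := by
    intro i j hi hj
    simp only [D, hind, hQ _ _ (hrep1 _), hrep]
    rw [if_neg hi, if_neg (Ne.symm hj), if_pos trivial]
    split_ifs <;> norm_num
  have hD0 : D i₀ = 0 := by
    show indFun H (⇑(rep i₀) - ⇑(rep i₀)) = 0
    rw [sub_self, indFun_zero]
  obtain ⟨εc, hεc, μ, hμ, hμi, hτ⟩ := Cfsg.Agent.S0198.result s i₀ D hD0
    (fun i => by
      show IsGeneralizedCharacter G (indFun H _)
      rw [indFun_sub]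
      exact IsGeneralizedCharacter.sub (hgen _) (hgen _))
    (fun i => by simp [D, indFun_apply_one]) hgram
  obtain ⟨ε, hε, rfl⟩ : ∃ ε : ℤ, (ε = 1 ∨ ε = -1) ∧ εc = ε := by
    rcases hεc with hh | hh
    · exact ⟨1, Or.inl rfl, by simp [hh]⟩
    · exact ⟨-1, Or.inr rfl, by simp [hh]⟩
  let θ : Fin s → IrrCharacter G := fun i => ⟨μ i, hμ i⟩
  have hθi : Function.Injective θ := fun i j hij => hμi (congrArg Subtype.val hij)
  have hε2 : (ε : ℂ) * ε = 1 := by rcases hε with hh | hh <;> simp [hh]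
  -- multiplicities in the restriction
  let m : IrrCharacter G → (H →* ℂ) → ℂ := fun χ f => classInner (⇑f) (fun x : H => χ.1 x)
  have hmnat : ∀ χ f, ∃ k : ℕ, m χ f = k := fun χ f =>
    IsCharacter.exists_nat_classInner (irr_isCharacter (linIrr f))
      (IsCharacter.restrict (irr_isCharacter χ) H)
  have hmind : ∀ (χ : IrrCharacter G) (a b : H →* ℂ),
      classInner (indFun H (⇑a - ⇑b)) χ.1 = m χ a - m χ b := fun χ a b => by
    rw [classInner_indFun H _ (IsCharacter.isClassFunction (irr_isCharacter χ)),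
      classInner_sub_left]
  have hminv : ∀ χ (n : N) f, m χ (conjLin H n f) = m χ f := by
    intro χ n f
    simp only [m, classInner]
    congr 1
    refine Fintype.sum_equiv (cN n).toEquiv _ _ fun x => ?_
    show f (cN n x) * conj (χ.1 x) = f (cN n x) * conj (χ.1 ((cN n x : H) : G))
    congr 2
    exact (IsCharacter.isClassFunction (irr_isCharacter χ) (x : G) (n : G)).symm
  let δ : IrrCharacter G → Fin s → ℂ := fun χ i => if θ i = χ then 1 else 0
  have hdiff : ∀ χ i, m χ (rep i) = m χ (rep i₀) + (ε : ℂ) * (δ χ i - δ χ i₀) := by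
    intro χ i
    have h1 := hmind χ (rep i) (rep i₀)
    rw [show indFun H (⇑(rep i) - ⇑(rep i₀)) = D i from rfl, hτ i, classInner_smul_left,
      classInner_sub_left, show μ i = (θ i).1 from rfl, show μ i₀ = (θ i₀).1 from rfl,
      classInner_irr, classInner_irr] at h1
    linear_combination -h1
  have hlin : ∀ χ f, f ≠ 1 → ∀ i, f ∈ orb (rep i) →
      m χ f = m χ (rep i₀) + (ε : ℂ) * (δ χ i - δ χ i₀) := by
    intro χ f _ i hi
    obtain ⟨n, rfl⟩ := (mem_orb _ _).mp hi
    rw [hminv, hdiff]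
  set F := Finset.univ.image θ with hF
  have hconst : ∀ χ ∉ F, ∀ f, f ≠ 1 → m χ f = m χ (rep i₀) := by
    intro χ hχ f hf
    obtain ⟨i, hi⟩ := hcover f hf
    have h0 : ∀ j, δ χ j = 0 := fun j => if_neg fun hj =>
      hχ (Finset.mem_image.mpr ⟨j, Finset.mem_univ _, hj⟩)
    rw [hlin χ f hf i hi, h0, h0, sub_self, mul_zero, add_zero]
  have hnonconst : ∀ χ ∈ F, ∃ f f', f ≠ 1 ∧ f' ≠ 1 ∧ m χ f ≠ m χ f' := by
    intro χ hχ
    obtain ⟨i, -, rfl⟩ := Finset.mem_image.mp hχ
    obtain ⟨j, hj⟩ : ∃ j, j ≠ i := Fintype.exists_ne_of_one_lt_card (by simp; omega) i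
    refine ⟨rep i, rep j, hrep1 _, hrep1 _, fun heq => ?_⟩
    rw [hdiff _ i, hdiff _ j] at heq
    simp only [δ, hθi.eq_iff, if_neg hj, if_pos] at heq
    have : (ε : ℂ) = 0 := by linear_combination heq
    rw [this, mul_zero] at hε2
    exact zero_ne_one hε2
  -- conjugation
  let cl : (H →* ℂ) → (H →* ℂ) := fun f => (starRingEnd ℂ).toMonoidHom.comp f
  have hcl1 : cl 1 = 1 := MonoidHom.ext fun x => map_one (starRingEnd ℂ)
  have hcl : ∀ f, f ≠ 1 → cl f ≠ 1 := fun f hf h0 => hf (MonoidHom.ext fun x => by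
    have := congrArg conj (DFunLike.congr_fun h0 x)
    simpa [cl] using this)
  have hmconj : ∀ χ f, m (conjIrr χ) f = m χ (cl f) := by
    intro χ f
    obtain ⟨k, hk⟩ := hmnat χ (cl f)
    calc m (conjIrr χ) f = conj (m χ (cl f)) := by simp [m, cl, classInner]
      _ = m χ (cl f) := by rw [hk, map_natCast]
  have hFconj : ∀ χ ∈ F, conjIrr χ ∈ F := by
    intro χ hχ
    by_contra hnot
    obtain ⟨f, f', hf, hf', hne⟩ := hnonconst χ hχ
    have hm : ∀ g, m χ g = m (conjIrr χ) (cl g) := fun g => by rw [← hmconj, conjIrr_conjIrr]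
    rw [hm, hm] at hne
    exact hne ((hconst _ hnot _ (hcl f hf)).trans (hconst _ hnot _ (hcl f' hf')).symm)
  have hmtriv : ∀ f, m (trivialChar G) f = if f = 1 then 1 else 0 := fun f => hip f 1
  have htriv : trivialChar G ∉ F := fun hm => by
    obtain ⟨f, f', hf, hf', hne⟩ := hnonconst _ hm
    rw [hmtriv, hmtriv, if_neg hf, if_neg hf'] at hne
    exact hne rfl
  -- the coefficients of `T`
  have hcoef : ∀ χ : IrrCharacter G, ∃ k : ℤ, classInner T χ.1 = k := fun χ => by
    obtain ⟨a, ha⟩ := hmnat χ 1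
    obtain ⟨b, hb⟩ := hmnat χ (rep i₀)
    exact ⟨(a : ℤ) - b, by rw [hmind, ha, hb]; push_cast; rfl⟩
  choose coef hcoef using hcoef
  have hcm : ∀ χ, (coef χ : ℂ) = m χ 1 - m χ (rep i₀) := fun χ => by rw [← hcoef, hmind]
  have hcfam : ∀ i, i ≠ i₀ → coef (θ i) = coef (θ i₀) + ε := by
    intro i hi
    have h1 : classInner T (D i) = 1 := by
      simp only [T, D, hind, hQ _ _ (hrep1 _), hrep]
      rw [if_neg fun hm => orb_ne _ _ (hrep1 i) hm rfl,
        if_neg fun hm => orb_ne _ _ (hrep1 i₀) hm rfl, if_neg (Ne.symm hi), if_pos trivial]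
      norm_num
    rw [hτ i, classInner_smul_right, classInner_sub_right, map_intCast,
      show μ i = (θ i).1 from rfl, show μ i₀ = (θ i₀).1 from rfl, hcoef, hcoef] at h1
    have h2 : (coef (θ i) : ℂ) = (coef (θ i₀) + ε : ℤ) := by
      push_cast
      linear_combination (ε : ℂ) * h1 - ((coef (θ i) : ℂ) - coef (θ i₀)) * hε2
    exact_mod_cast h2
  have hodd_sum : Odd (∑ χ ∈ F, coef χ) := by
    rw [hF, Finset.sum_image fun a _ b _ hab => hθi hab,
      ← Finset.add_sum_erase _ _ (Finset.mem_univ i₀),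
      Finset.sum_congr rfl (fun i hi => hcfam i (Finset.ne_of_mem_erase hi)), Finset.sum_const,
      Finset.card_erase_of_mem (Finset.mem_univ _), Finset.card_univ, Fintype.card_fin,
      nsmul_eq_mul]
    obtain ⟨k, hk⟩ := hseven
    obtain ⟨l, hl⟩ : ∃ l : ℤ, ε = 2 * l + 1 := by
      rcases hε with hh | hh
      · exact ⟨0, by omega⟩
      · exact ⟨-1, by omega⟩
    refine ⟨(k : ℤ) * coef (θ i₀) + (2 * k - 1) * l + k - 1, ?_⟩
    have hcast : (((s - 1 : ℕ)) : ℤ) = 2 * k - 1 := by omega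
    rw [hcast, hl]
    ring
  have hnorm : ∑ χ : IrrCharacter G, coef χ ^ 2 = (e : ℤ) + 1 := by
    have h1 : classInner T T = (e : ℂ) + 1 := by
      simp only [T, hind, hQne _ (hrep1 _), hQ1, hQ _ _ (hrep1 _), hrep]
      simp [hrep1]
    rw [classInner_eq_sum_coeff (T := T) (T' := T) (isClassFunction_indFun H _)] at h1
    simp only [hcoef, map_intCast] at h1
    have h2 : ((∑ χ : IrrCharacter G, coef χ ^ 2 : ℤ) : ℂ) = (((e : ℤ) + 1 : ℤ) : ℂ) := by
      push_cast
      simp only [sq]
      exact h1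
    exact_mod_cast h2
  -- masses
  set t : Finset H := Finset.univ.erase 1 with ht
  have htm : ∀ x, x ∈ t ↔ x ≠ 1 := fun x => by simp [ht]
  have hcardU : Nat.card H * e * (conjUnion H).card = Nat.card G * (Nat.card H - 1) := by
    have h1 := sum_conjUnion_of_ti h (fun _ => 1) (fun _ _ => rfl) t htm
    rw [Finset.sum_const, Finset.sum_const, nsmul_eq_mul, nsmul_eq_mul, mul_one, mul_one,
      Finset.card_erase_of_mem (Finset.mem_univ _), Finset.card_univ, ← Nat.card_eq_fintype_card,
      hcardN] at h1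
    exact_mod_cast h1
  have hbess : ∀ (χ : IrrCharacter G) (m₁ : ℝ) (u : (H →* ℂ) → ℝ),
      (∀ f, m χ f = ((m₁ + u f : ℝ) : ℂ)) →
      (Nat.card G : ℝ) * ((s * e + 1 : ℝ) * ∑ f, u f ^ 2 - (∑ f, u f) ^ 2) ≤
        (s * e + 1 : ℝ) * ((e : ℝ) * unionMass H χ.1) := by
    intro χ m₁ u hu
    obtain ⟨n, hn'⟩ : ∃ n : ℝ, n = (s * e + 1 : ℝ) := ⟨_, rfl⟩
    have hnpos : (0 : ℝ) < n := hn' ▸
      add_pos_of_nonneg_of_pos (mul_nonneg (Nat.cast_nonneg _) (Nat.cast_nonneg _)) one_pos
    have hncard : (Fintype.card (H →* ℂ) : ℝ) = n := by rw [hn, hn']; push_cast; ring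
    rw [← hn']
    set b : (H →* ℂ) → ℝ := fun f => u f - (∑ f, u f) / n with hb
    have hb0 : ∑ f, b f = 0 := by
      simp only [hb, Finset.sum_sub_distrib, Finset.sum_const, Finset.card_univ, nsmul_eq_mul]
      rw [hncard]; field_simp; ring
    have hbu : ∑ f, b f * (m₁ + u f) = ∑ f, b f ^ 2 := by
      have h3 : ∀ f, b f * (m₁ + u f) = b f ^ 2 + (m₁ + (∑ f, u f) / n) * b f := fun f => by
        simp only [hb]; ring
      rw [Finset.sum_congr rfl fun f _ => h3 f, Finset.sum_add_distrib, ← Finset.mul_sum, hb0,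
        mul_zero, add_zero]
    have hbsq : n * ∑ f, b f ^ 2 = n * ∑ f, u f ^ 2 - (∑ f, u f) ^ 2 := by
      have h3 : ∀ f, b f ^ 2 = u f ^ 2 - 2 * ((∑ f, u f) / n) * u f + ((∑ f, u f) / n) ^ 2 :=
        fun f => by simp only [hb]; ring
      rw [Finset.sum_congr rfl fun f _ => h3 f, Finset.sum_add_distrib, Finset.sum_sub_distrib,
        ← Finset.mul_sum, Finset.sum_const, Finset.card_univ, nsmul_eq_mul, hncard]
      field_simp
      ring
    set B : ℝ := ∑ f, b f ^ 2 with hB
    set ψ : H → ℂ := fun x => χ.1 x with hψ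
    set w : H → ℂ := ∑ f, (b f : ℂ) • ⇑f with hw
    have hw1 : w 1 = 0 := by
      simp only [hw, Finset.sum_apply, Pi.smul_apply, map_one, smul_eq_mul, mul_one]
      exact_mod_cast hb0
    have hwψ : classInner w ψ = (B : ℂ) := by
      rw [hw, classInner_sum_left]
      simp only [classInner_smul_left]
      rw [Finset.sum_congr rfl (fun f _ => congrArg ((b f : ℂ) * ·) (hu f))]
      exact_mod_cast hbu
    have hψw : classInner ψ w = (B : ℂ) := by rw [← conj_classInner, hwψ, Complex.conj_ofReal]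
    have hww : classInner w w = (B : ℂ) := by
      conv_lhs => arg 2; rw [hw]
      rw [classInner_sum_right]
      simp only [classInner_smul_right, Complex.conj_ofReal]
      rw [hw]
      simp only [classInner_sum_left, classInner_smul_left, hip, mul_ite, mul_one, mul_zero,
        Finset.sum_ite_eq', Finset.mem_univ, if_true, hB]
      push_cast
      exact Finset.sum_congr rfl fun f _ => (sq _).symm
    have hdecomp : classInner (ψ - w) (ψ - w) = classInner ψ ψ - (B : ℂ) := by
      rw [classInner_sub_left, classInner_sub_right, classInner_sub_right, hwψ, hψw, hww]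
      ring
    have hre : (Nat.card H : ℝ)⁻¹ * ∑ x, Complex.normSq ((ψ - w) x) =
        (Nat.card H : ℝ)⁻¹ * ∑ x, Complex.normSq (ψ x) - B := by
      rw [classInner_self, classInner_self] at hdecomp
      exact_mod_cast hdecomp
    have hH0 : (0 : ℝ) < Nat.card H := by exact_mod_cast Nat.card_pos
    have h1le : Complex.normSq (ψ 1) ≤ ∑ x, Complex.normSq ((ψ - w) x) := by
      have := Finset.single_le_sum (f := fun x => Complex.normSq ((ψ - w) x))
        (fun x _ => Complex.normSq_nonneg _) (Finset.mem_univ (1 : H))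
      simpa [hw1] using this
    have hle : (Nat.card H : ℝ) * B ≤ ∑ x ∈ t, Complex.normSq (ψ x) := by
      have hsplit := Finset.add_sum_erase Finset.univ (fun x => Complex.normSq (ψ x))
        (Finset.mem_univ (1 : H))
      field_simp at hre
      rw [← ht] at hsplit
      linarith
    have hU := sum_conjUnion_of_ti h (fun g => χ.1 g * conj (χ.1 g)) (fun g x => by
      simp only [IsCharacter.isClassFunction (irr_isCharacter χ) g x]) t htm
    simp only [Complex.mul_conj] at hU
    have hUR : (Nat.card N : ℝ) * unionMass H χ.1 =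
        (Nat.card G : ℝ) * ∑ x ∈ t, Complex.normSq (ψ x) := by
      simp only [unionMass, hψ]
      exact_mod_cast hU
    rw [hcardN, Nat.cast_mul] at hUR
    have hG0 : (0 : ℝ) ≤ Nat.card G := Nat.cast_nonneg _
    rw [← hbsq]
    refine le_of_mul_le_mul_left ?_ hH0
    nlinarith [mul_le_mul_of_nonneg_left hle (mul_nonneg hG0 hnpos.le)]
  have hmreal : ∀ χ f, ∃ r : ℝ, m χ f = r := fun χ f => by
    obtain ⟨k, hk⟩ := hmnat χ f
    exact ⟨k, by rw [hk, Complex.ofReal_natCast]⟩
  have he0 : (0 : ℝ) < e := by exact_mod_cast (by omega : 0 < e)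
  have hFcard : F.card = s := by rw [hF, Finset.card_image_of_injective _ hθi]; simp
  refine ⟨
    { e := e, s := s, e_three := he3, e_odd := heodd, s_two := hs2, s_even := hseven
      dvd_card := hdvd, card_norm := hcardN, F := F, θ := θ i₀
      θ_mem := Finset.mem_image_of_mem _ (Finset.mem_univ _), card_F := hFcard
      triv_notMem := htriv, conj_mem := hFconj, off := ?_, T := T
      T_class := isClassFunction_indFun H _, T_off := hoff _ _, coef := coef
      coef_spec := hcoef, norm_T := hnorm, coef_triv := ?_, coef_conj := ?_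
      odd_sum := hodd_sum, card_union := hcardU, mass_self := ?_, mass_other := ?_ }⟩
  · intro χ hχ φ hφ g hg
    obtain ⟨i, -, rfl⟩ := Finset.mem_image.mp hχ
    obtain ⟨j, -, rfl⟩ := Finset.mem_image.mp hφ
    have hk : ∀ k, μ k g = μ i₀ g := fun k => by
      have h1 := congrFun (hτ k) g
      rw [show D k g = 0 from hoff _ _ g hg, Pi.smul_apply, smul_eq_mul, Pi.sub_apply] at h1
      exact sub_eq_zero.mp ((mul_eq_zero.mp h1.symm).resolve_left
        (left_ne_zero_of_mul_eq_one hε2))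
    exact (hk i).trans (hk j).symm
  · have h1 := hcm (trivialChar G)
    rw [hmtriv, hmtriv, if_pos rfl, if_neg (hrep1 _), sub_zero] at h1
    exact_mod_cast h1
  · intro χ hχ
    have h1 : (coef (conjIrr χ) : ℂ) = coef χ := by
      rw [hcm, hcm, hmconj, hmconj, hcl1, hconst χ hχ _ (hcl _ (hrep1 _))]
    exact_mod_cast h1
  · obtain ⟨r, hr⟩ := hmreal (θ i₀) (rep i₀)
    set c : ℤ := coef (θ i₀) + ε with hc
    set O := orb (rep i₀) with hO
    have h1O : (1 : H →* ℂ) ∉ O := fun hm => orb_ne _ _ (hrep1 i₀) hm rfl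
    have hb := hbess (θ i₀) (r - ε)
      (fun f => (if f = 1 then (c : ℝ) else 0) + if f ∈ O then (ε : ℝ) else 0) (fun f => by
        by_cases hf : f = 1
        · subst hf
          rw [if_pos rfl, if_neg h1O, hc]
          push_cast
          have := hcm (θ i₀)
          rw [hr] at this
          linear_combination -this
        · obtain ⟨i, hi⟩ := hcover f hf
          rw [hlin _ f hf i hi, hr, if_neg hf]
          simp only [δ, hθi.eq_iff, if_pos]
          have hiff : f ∈ O ↔ i = i₀ := by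
            refine ⟨fun hm => (hrep i i₀).mp ?_, fun hh => ?_⟩
            · rw [← orb_eq f (rep i₀) hm, orb_eq f _ hi]
              exact self_mem _
            · subst hh; exact hi
          by_cases hii : i = i₀
          · rw [if_pos (hiff.mpr hii), if_pos hii]; push_cast; ring
          · rw [if_neg (mt hiff.mp hii), if_neg hii]; push_cast; ring)
    have hεr : (ε : ℝ) * ε = 1 := by rcases hε with hh | hh <;> simp [hh]
    have hS1 : ∑ f : H →* ℂ, ((if f = 1 then (c : ℝ) else 0) + if f ∈ O then (ε : ℝ) else 0) =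
        c + e * ε := by
      rw [Finset.sum_add_distrib, Finset.sum_ite_eq', if_pos (Finset.mem_univ _),
        Finset.sum_ite_mem, Finset.univ_inter, Finset.sum_const, card_orb _ (hrep1 _), nsmul_eq_mul]
    have hS2 : ∑ f : H →* ℂ, ((if f = 1 then (c : ℝ) else 0) + if f ∈ O then (ε : ℝ) else 0) ^ 2 =
        (c : ℝ) ^ 2 + e := by
      have h3 : ∀ f : H →* ℂ, ((if f = 1 then (c : ℝ) else 0) + if f ∈ O then (ε : ℝ) else 0) ^ 2 =
          (if f = 1 then (c : ℝ) ^ 2 else 0) + if f ∈ O then (1 : ℝ) else 0 := fun f => by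
        by_cases hf : f = 1
        · subst hf; simp [h1O]
        · simp only [if_neg hf, zero_add]
          split_ifs
          · rw [sq, hεr]
          · simp
      rw [Finset.sum_congr rfl fun f _ => h3 f, Finset.sum_add_distrib, Finset.sum_ite_eq',
        if_pos (Finset.mem_univ _), Finset.sum_ite_mem, Finset.univ_inter, Finset.sum_const,
        card_orb _ (hrep1 _), nsmul_eq_mul, mul_one]
    rw [hS1, hS2] at hb
    have hint : (0 : ℤ) ≤ (s : ℤ) * e * (c * c) - 2 * e * (ε * c) := by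
      have h2 : (2 : ℤ) ≤ s := by exact_mod_cast hs2
      have h4 : ε * c ≤ c * c := by
        rcases hε with hh | hh <;> rw [hh]
        · have := Int.le_self_sq c; rw [sq] at this; linarith
        · have := Int.le_self_sq (-c); rw [sq, neg_mul_neg] at this; linarith
      nlinarith [mul_le_mul_of_nonneg_right h2
        (mul_nonneg (Int.natCast_nonneg e) (mul_self_nonneg c)),
        mul_le_mul_of_nonneg_left h4 (Int.natCast_nonneg e)]
    have hint' : (0 : ℝ) ≤ (s : ℝ) * e * ((c : ℝ) * c) - 2 * e * (ε * c) := by exact_mod_cast hint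
    have hid : (s * e + 1 : ℝ) * ((c : ℝ) ^ 2 + e) - ((c : ℝ) + e * ε) ^ 2 =
        ((s : ℝ) * e * ((c : ℝ) * c) - 2 * e * (ε * c)) + e * ((s * e + 1 : ℝ) - e) := by
      linear_combination (-((e : ℝ) * e)) * hεr
    rw [hid, mul_add] at hb
    refine le_of_mul_le_mul_left ?_ he0
    linarith [mul_nonneg (Nat.cast_nonneg (α := ℝ) (Nat.card G)) hint']
  · intro χ hχ
    obtain ⟨r, hr⟩ := hmreal χ (rep i₀)
    have hb := hbess χ r (fun f => if f = 1 then (coef χ : ℝ) else 0) (fun f => by
      by_cases hf : f = 1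
      · subst hf
        rw [if_pos rfl]
        push_cast
        linear_combination -(hcm χ) + hr
      · rw [if_neg hf, hconst χ hχ f hf, hr, add_zero])
    have hS : ∀ x : ℝ, ∑ f : H →* ℂ, (if f = 1 then x else 0) = x := fun x => by
      rw [Finset.sum_ite_eq', if_pos (Finset.mem_univ _)]
    simp only [ite_pow, zero_pow two_ne_zero, hS] at hb
    refine le_of_mul_le_mul_left ?_ he0
    linarith

end Cfsg.Agent.OddOrder
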