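import Cfsg.Agent.Lib.OddOrder.FrobeniusCoherence
import Cfsg.Agent.Lib.OddOrder.FrobeniusTI
import Cfsg.Agent.Lib.ZassenhausFeit.Split
import Cfsg.Agent.S0198

set_option autoImplicit false
set_option linter.unusedSectionVars false

/-!
Coherence of sets of irreducible characters: one degree, Feit's criterion (the proof is the one of
S1530, for an arbitrary group), and the kernels of Frobenius groups.
-/

namespace Cfsg.Agent.OddOrder

open Finset

universe u v

section Criterion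

variable {L : Type u} [Group L] [Fintype L] {G : Type v} [Group G] [Fintype G]
variable {τ : (L → ℂ) → (G → ℂ)}

/-- Adding one irreducible character to a coherent set of irreducible characters. -/
theorem isCoherent_insert (S₀ : Finset (L → ℂ)) (χ : L → ℂ) (hirr : ∀ ξ ∈ S₀, IsIrrCharacter L ξ)
    (hχ : IsIrrCharacter L χ) (hχS : χ ∉ S₀) (d : (L → ℂ) → ℕ) (hd : ∀ ξ ∈ insert χ S₀, ξ 1 = (d ξ : ℂ))
    (hτ : IsLinearIsometryOn (zspanOn (↑(insert χ S₀) : Set (L → ℂ)) {1}ᶜ) τ)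
    (hτ1 : ∀ α ∈ zspanOn (↑(insert χ S₀) : Set (L → ℂ)) {1}ᶜ, τ α 1 = 0)
    (hcoh : IsCoherent (↑S₀ : Set (L → ℂ)) {1}ᶜ τ) (ψ : L → ℂ) (hψ : ψ ∈ S₀) (hdvd : d ψ ∣ d χ)
    (hlt : 2 * d ψ * d χ < ∑ ξ ∈ S₀, d ξ ^ 2) :
    IsCoherent (↑(insert χ S₀) : Set (L → ℂ)) {1}ᶜ τ := by
  classical
  set S₀' : Set (L → ℂ) := (↑S₀ : Set (L → ℂ)) with hS₀'
  set S : Set (L → ℂ) := ↑(insert χ S₀) with hS
  obtain ⟨-, τ₁, hτ₁, hag⟩ := hcoh
  have hsubS : S₀' ⊆ S := by simp [hS, hS₀']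
  have hψS : ψ ∈ S := hsubS hψ
  have hχS' : χ ∈ S := by simp [hS]
  have hmem : ∀ ξ ∈ S₀, ξ ∈ zspan S₀' := fun ξ hξ => Submodule.subset_span hξ
  have hdpos : ∀ ξ ∈ insert χ S₀, 0 < d ξ := by
    intro ξ hξ
    have hi : IsIrrCharacter L ξ := by
      rcases Finset.mem_insert.1 hξ with rfl | h
      · exact hχ
      · exact hirr ξ h
    obtain ⟨n, hn0, hn⟩ := Char.IsIrrCharacter.exists_degree hi
    rw [hd ξ hξ] at hn
    have : d ξ = n := by exact_mod_cast hn
    omega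
  obtain ⟨a, ha⟩ := hdvd
  have hdψ : 0 < d ψ := hdpos ψ (Finset.mem_insert_of_mem hψ)
  have ha0 : 0 < a := by
    have h := hdpos χ (Finset.mem_insert_self _ _)
    rw [ha] at h
    exact Nat.pos_of_mul_pos_left h
  have hχ1 : χ 1 = (d χ : ℂ) := hd χ (Finset.mem_insert_self _ _)
  have hψ1 : ψ 1 = (d ψ : ℂ) := hd ψ (Finset.mem_insert_of_mem hψ)
  -- the combination vanishing at 1
  set α : L → ℂ := χ - (a : ℤ) • ψ with hα
  have hαS : α ∈ zspanOn S {1}ᶜ := by
    refine Char.mem_zspanOn_compl_one.2 ⟨Submodule.sub_mem _ (Submodule.subset_span hχS')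
      (Submodule.smul_mem _ _ (Submodule.subset_span hψS)), ?_⟩
    simp [hα, hχ1, hψ1, ha, mul_comm]
  have hz : ∀ θ ∈ zspanOn S₀' {1}ᶜ, θ ∈ zspanOn S {1}ᶜ := fun θ h =>
    ⟨Submodule.span_mono hsubS h.1, h.2⟩
  have h01 : ∀ θ ∈ zspan S₀', θ 1 = 0 → τ₁ θ 1 = 0 := fun θ h h1 => by
    have hθ := Char.mem_zspanOn_compl_one.2 ⟨h, h1⟩
    rw [hag θ hθ]
    exact hτ1 θ (hz θ hθ)
  have ee : ∀ ξ ∈ S₀, ∀ η ∈ S₀, classInner (τ₁ ξ) (τ₁ η) = if ξ = η then 1 else 0 := by
    intro ξ hξ η hη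
    rw [hτ₁.2.2.1 ξ (hmem ξ hξ) η (hmem η hη)]
    split_ifs with h
    · subst h; exact Char.classInner_irr_self (hirr ξ hξ)
    · exact Char.classInner_irr_of_ne (hirr ξ hξ) (hirr η hη) h
  set Δ : G → ℂ := τ α + (a : ℤ) • τ₁ ψ with hΔ
  have hΔg : IsGeneralizedCharacter G Δ := by
    rw [hΔ, ← Int.cast_smul_eq_zsmul ℂ]
    exact Char.IsGeneralizedCharacter.add (hτ.2.2.2 α hαS)
      (Char.IsGeneralizedCharacter.intCast_smul (hτ₁.2.2.2 ψ (hmem ψ hψ)) _)
  choose! u hu using fun (ξ : L → ℂ) (hξ : ξ ∈ S₀) =>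
    Char.IsGeneralizedCharacter.exists_int_classInner hΔg (hτ₁.2.2.2 ξ (hmem ξ hξ))
  have hχξ : ∀ ξ ∈ S₀, classInner χ ξ = 0 := fun ξ hξ =>
    Char.classInner_irr_of_ne hχ (hirr ξ hξ) fun e => hχS (e ▸ hξ)
  have hαξ : ∀ ξ ∈ S₀, classInner α ξ = -((a : ℂ) * if ψ = ξ then 1 else 0) := by
    intro ξ hξ
    rw [hα, Char.classInner_sub_left, Char.classInner_zsmul_left, hχξ ξ hξ]
    split_ifs with h
    · subst h; simp [Char.classInner_irr_self (hirr _ hξ)]
    · simp [Char.classInner_irr_of_ne (hirr _ hψ) (hirr _ hξ) h]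
  have hcα : ∀ ξ ∈ S₀, classInner (τ α) (τ₁ ξ) = (u ξ : ℂ) - (a : ℂ) * if ψ = ξ then 1 else 0 := by
    intro ξ hξ
    rw [← hu ξ hξ, hΔ, Char.classInner_add_left, Char.classInner_zsmul_left,
      ee ψ hψ ξ hξ, Int.cast_natCast]
    ring
  -- the projections are proportional to the degrees
  have hprop : ∀ ξ ∈ S₀, u ξ * d ψ = u ψ * d ξ := by
    intro ξ hξ
    set x : L → ℂ := (d ψ : ℤ) • ξ - (d ξ : ℤ) • ψ with hx
    have hxS : x ∈ zspanOn S₀' {1}ᶜ := by
      refine Char.mem_zspanOn_compl_one.2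
        ⟨Submodule.sub_mem _ (Submodule.smul_mem _ _ (hmem ξ hξ)) (Submodule.smul_mem _ _ (hmem ψ hψ)), ?_⟩
      simp [hx, hψ1, hd ξ (Finset.mem_insert_of_mem hξ), mul_comm]
    have h := hτ.2.2.1 α hαS x (hz x hxS)
    rw [← hag x hxS, hx, Char.iso_map_sub (E := Submodule.span ℤ S₀') hτ₁
      (Submodule.smul_mem _ _ (hmem ξ hξ)) (Submodule.smul_mem _ _ (hmem ψ hψ)),
      hτ₁.2.1 ξ (hmem ξ hξ), hτ₁.2.1 ψ (hmem ψ hψ)] at h
    simp only [Char.classInner_sub_right, Char.classInner_zsmul_right,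
      Int.cast_natCast, hcα ξ hξ, hcα ψ hψ, hαξ ξ hξ, hαξ ψ hψ] at h
    have h' : ((u ξ * d ψ : ℤ) : ℂ) = ((u ψ * d ξ : ℤ) : ℂ) := by
      push_cast
      linear_combination h
    exact_mod_cast h'
  set k := u ψ with hk
  have hnorm : classInner Δ Δ = ((1 + 2 * a * k : ℤ) : ℂ) := by
    have e1 : classInner (τ α) (τ α) = 1 + (a : ℂ) ^ 2 := by
      rw [hτ.2.2.1 α hαS α hαS]
      conv_lhs => arg 2; rw [hα]
      rw [Char.classInner_sub_right, Char.classInner_zsmul_right, hαξ ψ hψ, hα,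
        Char.classInner_sub_left, Char.classInner_zsmul_left,
        Char.classInner_irr_self hχ,
        Char.classInner_irr_of_ne (hirr ψ hψ) hχ (fun e => hχS (e ▸ hψ))]
      simp [sq]
    have e2 : classInner (τ α) (τ₁ ψ) = ((k - a : ℤ) : ℂ) := by
      rw [hcα ψ hψ]; simp [hk]
    have e3 : classInner (τ₁ ψ) (τ α) = ((k - a : ℤ) : ℂ) := by
      rw [← Char.conj_classInner, e2, map_intCast]
    rw [hΔ]
    simp only [Char.classInner_add_left, Char.classInner_add_right,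
      Char.classInner_zsmul_left, Char.classInner_zsmul_right, e1, e2, e3,
      ee ψ hψ ψ hψ, if_true]
    push_cast
    ring
  set P : G → ℂ := ∑ ξ ∈ S₀, u ξ • τ₁ ξ with hP
  set U : ℤ := ∑ ξ ∈ S₀, u ξ ^ 2 with hU
  have hPe : ∀ η ∈ S₀, classInner P (τ₁ η) = (u η : ℂ) := by
    intro η hη
    rw [hP, Char.classInner_sum_left, Finset.sum_eq_single η]
    · rw [Char.classInner_zsmul_left, ee η hη η hη, if_pos rfl, mul_one]
    · intro ξ hξ hne
      rw [Char.classInner_zsmul_left, ee ξ hξ η hη, if_neg hne, mul_zero]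
    · exact fun h => absurd hη h
  have hPP : classInner P P = (U : ℂ) := by
    conv_lhs => arg 2; rw [hP]
    rw [Char.classInner_sum_right, hU, Int.cast_sum]
    refine Finset.sum_congr rfl fun η hη => ?_
    rw [Char.classInner_zsmul_right, hPe η hη]
    push_cast
    ring
  have hΔP : classInner Δ P = (U : ℂ) := by
    rw [hP, Char.classInner_sum_right, hU, Int.cast_sum]
    refine Finset.sum_congr rfl fun η hη => ?_
    rw [Char.classInner_zsmul_right, hu η hη]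
    push_cast
    ring
  have hPΔ : classInner P Δ = (U : ℂ) := by
    rw [← Char.conj_classInner, hΔP, map_intCast]
  have hR : classInner (Δ - P) (Δ - P) = ((1 + 2 * a * k - U : ℤ) : ℂ) := by
    simp only [Char.classInner_sub_left, Char.classInner_sub_right, hnorm, hΔP,
      hPΔ, hPP]
    push_cast
    ring
  have hR0 := Char.zero_le_of_classInner_self hR
  have hUd : U * (d ψ : ℤ) ^ 2 = k ^ 2 * ∑ ξ ∈ S₀, (d ξ : ℤ) ^ 2 := by
    rw [hU, Finset.sum_mul, Finset.mul_sum]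
    refine Finset.sum_congr rfl fun ξ hξ => ?_
    rw [← mul_pow, hprop ξ hξ, mul_pow]
  have hk0 : k = 0 := by
    by_contra hk0
    have hlt' : 2 * (a : ℤ) * (d ψ : ℤ) ^ 2 < ∑ ξ ∈ S₀, (d ξ : ℤ) ^ 2 := by
      have : ((2 * d ψ * d χ : ℕ) : ℤ) < ((∑ ξ ∈ S₀, d ξ ^ 2 : ℕ) : ℤ) := by exact_mod_cast hlt
      push_cast [ha] at this
      linarith
    have hksq : 0 < k ^ 2 := by positivity
    have hUlt : 2 * (a : ℤ) * k ^ 2 < U := by
      have hpos : (0 : ℤ) < (d ψ : ℤ) ^ 2 := by positivity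
      nlinarith [mul_lt_mul_of_pos_left hlt' hksq]
    have hk1 : k = 1 := by
      have h2 : k ^ 2 ≤ k := by nlinarith
      rcases lt_trichotomy k 1 with h | h | h
      · have : k < 0 := by omega
        nlinarith
      · exact h
      · nlinarith
    have hU1 : U = 2 * a + 1 := by rw [hk1] at hR0 hUlt; omega
    have hΔeq : Δ = P := by
      have : classInner (Δ - P) (Δ - P) = 0 := by rw [hR, hk1, hU1]; simp; ring
      exact sub_eq_zero.1 (Char.classInner_self_eq_zero this)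
    have hv := congrFun hΔeq 1
    obtain ⟨f, e, he, hf⟩ := Char.exists_irr_image hτ₁ (χ := ψ) hψ (hirr ψ hψ)
    have hne : τ₁ ψ 1 ≠ 0 := by
      rw [hf]
      rcases he with rfl | rfl <;>
        simp [Char.apply_one_eq_degree, (Char.degree_pos f).ne']
    have e1 : Δ 1 = (a : ℂ) * τ₁ ψ 1 := by
      rw [hΔ, Pi.add_apply, hτ1 α hαS, Pi.smul_apply, zsmul_eq_mul]
      simp
    have e2 : P 1 = (U : ℂ) * τ₁ ψ 1 := by
      rw [hP, hU, Finset.sum_apply, Int.cast_sum, Finset.sum_mul]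
      refine Finset.sum_congr rfl fun ξ hξ => ?_
      have hval := Char.image_one_mul hirr hτ₁ h01 (χ := ξ) hξ (ψ := ψ) hψ
      rw [hψ1, hd ξ (Finset.mem_insert_of_mem hξ)] at hval
      have hpr : (u ξ : ℂ) * (d ψ : ℂ) = (d ξ : ℂ) := by
        have := hprop ξ hξ
        rw [hk1, one_mul] at this
        exact_mod_cast this
      have hne' : (d ψ : ℂ) ≠ 0 := Nat.cast_ne_zero.2 hdψ.ne'
      rw [Pi.smul_apply, zsmul_eq_mul]
      apply mul_right_cancel₀ hne'
      push_cast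
      linear_combination (u ξ : ℂ) * hval - (u ξ : ℂ) * τ₁ ψ 1 * hpr
    rw [e1, e2] at hv
    have : ((a : ℤ) : ℂ) = (U : ℂ) := by simpa using mul_right_cancel₀ hne hv
    have : (a : ℤ) = U := by exact_mod_cast this
    omega
  have hu0 : ∀ ξ ∈ S₀, u ξ = 0 := fun ξ hξ => by
    have h := hprop ξ hξ
    rw [hk0, zero_mul] at h
    exact (mul_eq_zero.1 h).resolve_right (by exact_mod_cast hdψ.ne')
  -- the image of the new character
  let σ : (L → ℂ) → (G → ℂ) := fun θ => classInner θ χ • Δ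
  have hspan : ∀ θ ∈ zspan ({χ} : Set (L → ℂ)), ∃ n : ℤ, n • χ = θ := fun θ h =>
    Submodule.mem_span_singleton.1 h
  have hσval : ∀ n : ℤ, σ (n • χ) = n • Δ := fun n => by
    simp only [σ, Char.classInner_zsmul_left, Char.classInner_irr_self hχ, mul_one,
      Int.cast_smul_eq_zsmul]
  have hΔ1 : classInner Δ Δ = 1 := by rw [hnorm, hk0]; simp
  have hσ : IsLinearIsometryOn (zspan ({χ} : Set (L → ℂ))) σ := by
    refine ⟨?_, ?_, ?_, ?_⟩
    · intro p hp q hq
      simp only [σ, Char.classInner_add_left, add_smul]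
    · intro p hp n
      simp only [σ, Char.classInner_zsmul_left, mul_smul, Int.cast_smul_eq_zsmul]
    · intro p hp q hq
      obtain ⟨n, rfl⟩ := hspan p hp
      obtain ⟨m, rfl⟩ := hspan q hq
      simp only [hσval, Char.classInner_zsmul_left, Char.classInner_zsmul_right,
        hΔ1, Char.classInner_irr_self hχ]
    · intro p hp
      obtain ⟨n, rfl⟩ := hspan p hp
      rw [hσval, ← Int.cast_smul_eq_zsmul ℂ]
      exact Char.IsGeneralizedCharacter.intCast_smul hΔg n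
  obtain ⟨τ₂, hτ₂, hval⟩ := Char.exists_glue (X := S₀') (Y := {χ})
    (fun x hx y hy => by
      obtain rfl : y = χ := hy
      rw [← Char.conj_classInner, hχξ x hx, map_zero])
    hτ₁ hσ
    (fun x hx y hy => by
      obtain rfl : y = χ := hy
      have h1 := hσval 1
      rw [one_smul, one_smul] at h1
      rw [h1, ← Char.conj_classInner, hu x hx, hu0 x hx, Int.cast_zero, map_zero])
  have hSeq : S = S₀' ∪ {χ} := by rw [hS, hS₀', Finset.coe_insert, Set.union_singleton]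
  refine ⟨⟨α, hαS, fun h => ?_⟩, τ₂, hSeq ▸ hτ₂, ?_⟩
  · have := congrArg (fun θ => classInner θ χ) h
    simp only [hα, Char.classInner_sub_left, Char.classInner_zsmul_left,
      Char.classInner_irr_self hχ,
      Char.classInner_irr_of_ne (hirr ψ hψ) hχ (fun e => hχS (e ▸ hψ))] at this
    simp [classInner] at this
  · intro θ hθ
    have hθ' : θ ∈ Submodule.span ℤ (S₀' ∪ {χ}) := hSeq ▸ hθ.1
    rw [Submodule.span_union, Submodule.mem_sup] at hθ'
    obtain ⟨x, hx, y, hy, rfl⟩ := hθ'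
    obtain ⟨n, rfl⟩ := hspan y hy
    set x' : L → ℂ := x + (n * a) • ψ with hx'
    have hx'S : x' ∈ zspanOn S₀' {1}ᶜ := by
      refine Char.mem_zspanOn_compl_one.2
        ⟨Submodule.add_mem _ hx (Submodule.smul_mem _ _ (hmem ψ hψ)), ?_⟩
      have h1 : x 1 + (n : ℂ) * (d χ : ℂ) = 0 := by
        simpa [hχ1] using hθ.2 1 (by simp)
      simp only [hx', Pi.add_apply, Pi.mul_apply, Pi.intCast_apply, Pi.natCast_apply, Pi.smul_apply, zsmul_eq_mul, Int.cast_mul, Int.cast_natCast, hψ1]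
      rw [ha] at h1
      push_cast at h1 ⊢
      linear_combination h1
    have hdec : x + n • χ = x' + n • α := by
      rw [hx', hα, smul_sub, smul_smul]
      abel
    have hnα : n • α ∈ zspanOn S {1}ᶜ :=
      (Char.zspanOnSub S ({1}ᶜ : Set L)).smul_mem n hαS
    calc τ₂ (x + n • χ) = τ₁ x + n • Δ := by rw [hval x hx _ hy, hσval]
      _ = τ₁ x' + n • τ α := by
        rw [hx', hτ₁.1 x hx _ (Submodule.smul_mem _ _ (hmem ψ hψ)), hτ₁.2.1 ψ (hmem ψ hψ), hΔ,
          smul_add, smul_smul]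
        abel
      _ = τ (x + n • χ) := by
        rw [hdec, hτ.1 x' (hz x' hx'S) _ hnα, hτ.2.1 α hαS n, hag x' hx'S]

/-- An isometry on `ℤ[S]` agreeing with `τ` on a generating set of the members of degree `0`. -/
theorem agree_on_zspanOn {S : Set (L → ℂ)} {σ : (L → ℂ) → (G → ℂ)} (hσ : IsLinearIsometryOn (zspan S) σ)
    (hτ : IsLinearIsometryOn (zspanOn S {1}ᶜ) τ) {χ₀ : L → ℂ} (hχ₀ : χ₀ ∈ S) (h0 : χ₀ 1 ≠ 0)
    (h : ∀ φ ∈ S, ∃ a : ℤ, (φ - a • χ₀) 1 = 0 ∧ σ φ - a • σ χ₀ = τ (φ - a • χ₀)) :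
    ∀ α ∈ zspanOn S {1}ᶜ, σ α = τ α := by
  have key : ∀ β ∈ zspan S, ∃ k : ℤ, ∃ γ, γ ∈ zspanOn S {1}ᶜ ∧ β = k • χ₀ + γ ∧
      σ β = k • σ χ₀ + τ γ := by
    intro β hβ
    induction hβ using Submodule.span_induction with
    | mem φ hφ =>
      obtain ⟨a, ha, he⟩ := h φ hφ
      refine ⟨a, φ - a • χ₀, Char.mem_zspanOn_compl_one.2 ⟨Submodule.sub_mem _
        (Submodule.subset_span hφ) (Submodule.smul_mem _ _ (Submodule.subset_span hχ₀)), ha⟩,
        by abel, ?_⟩
      rw [← he]; abel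
    | zero =>
      refine ⟨0, 0, Submodule.zero_mem (Char.zspanOnSub S {1}ᶜ), by simp, ?_⟩
      rw [Char.iso_map_zero (E := Submodule.span ℤ S) hσ,
        Char.iso_map_zero (E := Char.zspanOnSub S {1}ᶜ) hτ]
      simp
    | add a b ha hb iha ihb =>
      obtain ⟨k, γ, hγ, e, f⟩ := iha
      obtain ⟨k', γ', hγ', e', f'⟩ := ihb
      refine ⟨k + k', γ + γ', Submodule.add_mem (Char.zspanOnSub S {1}ᶜ) hγ hγ', ?_, ?_⟩
      · rw [e, e', add_smul]; abel
      · rw [hσ.1 a ha b hb, f, f', hτ.1 γ hγ γ' hγ', add_smul]; abel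
    | smul m a ha iha =>
      obtain ⟨k, γ, hγ, e, f⟩ := iha
      refine ⟨m * k, m • γ, Submodule.smul_mem (Char.zspanOnSub S {1}ᶜ) m hγ, ?_, ?_⟩
      · rw [e, smul_add, smul_smul]
      · rw [hσ.2.1 a ha m, f, hτ.2.1 γ hγ m, smul_add, smul_smul]
  intro α hα
  obtain ⟨k, γ, hγ, e, f⟩ := key α hα.1
  have hk : k = 0 := by
    have h1 := congrFun e 1
    rw [(Char.mem_zspanOn_compl_one.1 hα).2, Pi.add_apply, (Char.mem_zspanOn_compl_one.1 hγ).2,
      add_zero, Pi.smul_apply, zsmul_eq_mul, eq_comm, mul_eq_zero] at h1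
    exact_mod_cast h1.resolve_right h0
  subst hk
  rw [zero_smul, zero_add] at e f
  rw [f, e]

/-- At least two irreducible characters of one degree form a coherent set. -/
theorem isCoherent_equal_degree (S : Finset (L → ℂ)) (hirr : ∀ φ ∈ S, IsIrrCharacter L φ)
    (hdeg : ∀ φ ∈ S, ∀ ψ ∈ S, φ 1 = ψ 1) (h2 : 1 < S.card)
    (hτ : IsLinearIsometryOn (zspanOn (↑S : Set (L → ℂ)) {1}ᶜ) τ)
    (hτ1 : ∀ α ∈ zspanOn (↑S : Set (L → ℂ)) {1}ᶜ, τ α 1 = 0) :
    IsCoherent (↑S : Set (L → ℂ)) {1}ᶜ τ := by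
  classical
  obtain ⟨χ₀, hχ₀, χ₁, hχ₁, hne⟩ := Finset.one_lt_card.1 h2
  have hmem : ∀ φ ∈ S, φ - χ₀ ∈ zspanOn (↑S : Set (L → ℂ)) {1}ᶜ := fun φ hφ =>
    Char.mem_zspanOn_compl_one.2 ⟨Submodule.sub_mem _ (Submodule.subset_span hφ)
      (Submodule.subset_span hχ₀), by simp [hdeg φ hφ χ₀ hχ₀]⟩
  have hinner : ∀ φ ∈ S, ∀ ψ ∈ S, classInner φ ψ = if φ = ψ then 1 else 0 := by
    intro φ hφ ψ hψ
    split_ifs with h
    · subst h; exact Char.classInner_irr_self (hirr φ hφ)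
    · exact Char.classInner_irr_of_ne (hirr φ hφ) (hirr ψ hψ) h
  set i₀ : Fin S.card := S.equivFin ⟨χ₀, hχ₀⟩
  let c : Fin S.card → (L → ℂ) := fun i => (S.equivFin.symm i).1
  have hc : ∀ i, c i ∈ S := fun i => (S.equivFin.symm i).2
  have hc0 : c i₀ = χ₀ := by simp [c, i₀]
  have hcinj : Function.Injective c := fun i j h => S.equivFin.symm.injective (Subtype.ext h)
  obtain ⟨ε, hε, μ, hμ, hμi, hval⟩ := S0198.result S.card i₀ (fun i => τ (c i - χ₀))
    (by rw [hc0, sub_self, Char.iso_map_zero (E := Char.zspanOnSub (↑S : Set (L → ℂ)) {1}ᶜ) hτ])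
    (fun i => hτ.2.2.2 _ (hmem _ (hc i))) (fun i => hτ1 _ (hmem _ (hc i)))
    (fun i j hi hj => by
      rw [hτ.2.2.1 _ (hmem _ (hc i)) _ (hmem _ (hc j))]
      simp only [Char.classInner_sub_left, Char.classInner_sub_right, hinner _ (hc i) _ (hc j),
        hinner _ (hc i) _ hχ₀, hinner _ hχ₀ _ (hc j), hinner _ hχ₀ _ hχ₀, hcinj.eq_iff]
      have hci : c i ≠ χ₀ := fun h => hi (hcinj (h.trans hc0.symm))
      have hcj : χ₀ ≠ c j := fun h => hj (hcinj (h.symm.trans hc0.symm))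
      simp only [hci, hcj, if_false, if_true]
      split_ifs <;> norm_num)
  let Y : (L → ℂ) → (G → ℂ) := fun φ =>
    if h : φ ∈ S then ε • μ (S.equivFin ⟨φ, h⟩) else 0
  have hY : ∀ φ (h : φ ∈ S), Y φ = ε • μ (S.equivFin ⟨φ, h⟩) := fun φ h => dif_pos h
  have hεε : ε * (starRingEnd ℂ) ε = 1 := by rcases hε with rfl | rfl <;> simp
  obtain ⟨σ, hσ, hσv⟩ := exists_isometry_of_images S (fun _ => 1) (fun _ _ => Nat.one_pos)
    (fun φ hφ ψ hψ => by rw [hinner φ hφ ψ hψ, Nat.cast_one]) Y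
    (fun φ hφ => by
      rw [hY φ hφ]
      rcases hε with rfl | rfl
      · rw [one_smul]; exact Char.irr_isGeneralized ⟨_, hμ _⟩
      · rw [neg_one_smul]; exact Char.IsGeneralizedCharacter.neg (Char.irr_isGeneralized ⟨_, hμ _⟩))
    (fun φ hφ ψ hψ => by
      rw [hY φ hφ, hY ψ hψ, Char.classInner_smul_left, Char.classInner_smul_right, ← mul_assoc, hεε,
        one_mul, hinner φ hφ ψ hψ]
      split_ifs with h
      · subst h; exact Char.classInner_irr_self (hμ _)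
      · exact Char.classInner_irr_of_ne (hμ _) (hμ _)
          fun e => h (congrArg Subtype.val (S.equivFin.injective (hμi e))))
  refine ⟨⟨χ₁ - χ₀, hmem χ₁ hχ₁, sub_ne_zero.2 hne.symm⟩, σ, hσ, agree_on_zspanOn hσ hτ
    (Finset.mem_coe.2 hχ₀) (Char.IsIrrCharacter.apply_one_ne_zero (hirr χ₀ hχ₀)) fun φ hφ => ⟨1, ?_, ?_⟩⟩
  · simp [hdeg φ hφ χ₀ hχ₀]
  · rw [one_smul, one_smul, hσv φ hφ, hσv χ₀ hχ₀, hY φ hφ, hY χ₀ hχ₀, ← smul_sub]
    have := hval (S.equivFin ⟨φ, hφ⟩)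
    simp only [c, Equiv.symm_apply_apply] at this
    exact this.symm

/-- A set of irreducible characters whose smallest degree divides the others and is taken at least
twice, with enough mass below each larger degree, is coherent. -/
theorem isCoherent_of_degree_bound (S : Finset (L → ℂ)) (hirr : ∀ φ ∈ S, IsIrrCharacter L φ)
    (d : (L → ℂ) → ℕ) (hd : ∀ φ ∈ S, φ 1 = (d φ : ℂ)) (e : ℕ) (he : ∀ φ ∈ S, e ∣ d φ)
    (h2 : 1 < (S.filter fun φ => d φ = e).card)
    (hineq : ∀ φ ∈ S, d φ ≠ e → 2 * e * d φ < ∑ ξ ∈ S.filter (fun ξ => d ξ < d φ), d ξ ^ 2)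
    (hτ : IsLinearIsometryOn (zspanOn (↑S : Set (L → ℂ)) {1}ᶜ) τ)
    (hτ1 : ∀ α ∈ zspanOn (↑S : Set (L → ℂ)) {1}ᶜ, τ α 1 = 0) :
    IsCoherent (↑S : Set (L → ℂ)) {1}ᶜ τ := by
  classical
  set S₁ := S.filter fun φ => d φ = e
  have hge : ∀ φ ∈ S, e ≤ d φ := fun φ hφ => by
    refine Nat.le_of_dvd (Nat.pos_of_ne_zero fun h0 => ?_) (he φ hφ)
    exact Char.IsIrrCharacter.apply_one_ne_zero (hirr φ hφ) (by rw [hd φ hφ, h0, Nat.cast_zero])
  have hmono : ∀ T : Finset (L → ℂ), T ⊆ S →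
      zspanOn (↑T : Set (L → ℂ)) {1}ᶜ ⊆ zspanOn (↑S : Set (L → ℂ)) {1}ᶜ := fun T hT a ha =>
    ⟨Submodule.span_mono (Finset.coe_subset.2 hT) ha.1, ha.2⟩
  have hres : ∀ T : Finset (L → ℂ), T ⊆ S → IsLinearIsometryOn (zspanOn (↑T : Set (L → ℂ)) {1}ᶜ) τ :=
    fun T hT => ⟨fun a ha b hb => hτ.1 a (hmono T hT ha) b (hmono T hT hb),
      fun a ha => hτ.2.1 a (hmono T hT ha),
      fun a ha b hb => hτ.2.2.1 a (hmono T hT ha) b (hmono T hT hb),
      fun a ha => hτ.2.2.2 a (hmono T hT ha)⟩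
  suffices main : ∀ T : Finset (L → ℂ), T ⊆ S → S₁ ⊆ T →
      (∀ χ ∈ T, ∀ φ ∈ S, d φ < d χ → φ ∈ T) → IsCoherent (↑T : Set (L → ℂ)) {1}ᶜ τ from
    main S subset_rfl (Finset.filter_subset _ _) fun _ _ φ hφ _ => hφ
  intro T
  induction T using Finset.strongInduction with
  | _ T ih =>
  intro hTS h1T hdown
  by_cases hT : T ⊆ S₁
  · obtain rfl : T = S₁ := subset_antisymm hT h1T
    refine isCoherent_equal_degree S₁ (fun φ hφ => hirr φ (hTS hφ)) (fun φ hφ ψ hψ => ?_) h2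
      (hres S₁ hTS) (fun a ha => hτ1 a (hmono S₁ hTS ha))
    rw [hd φ (hTS hφ), hd ψ (hTS hψ), (Finset.mem_filter.1 hφ).2, (Finset.mem_filter.1 hψ).2]
  obtain ⟨χ, hχ, hmax⟩ := (T \ S₁).exists_max_image d (Finset.sdiff_nonempty.2 hT)
  obtain ⟨hχT, hχ1⟩ := Finset.mem_sdiff.1 hχ
  have hχS := hTS hχT
  have hne : d χ ≠ e := fun h => hχ1 (Finset.mem_filter.2 ⟨hχS, h⟩)
  have hsub : T.erase χ ⊆ S := (Finset.erase_subset _ _).trans hTS
  have h1' : S₁ ⊆ T.erase χ := fun φ hφ =>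
    Finset.mem_erase.2 ⟨fun h => hχ1 (h ▸ hφ), h1T hφ⟩
  have hdown' : ∀ ξ ∈ T.erase χ, ∀ φ ∈ S, d φ < d ξ → φ ∈ T.erase χ := by
    intro ξ hξ φ hφ hlt
    refine Finset.mem_erase.2 ⟨?_, hdown ξ (Finset.mem_of_mem_erase hξ) φ hφ hlt⟩
    rintro rfl
    by_cases hξ1 : ξ ∈ S₁
    · rw [(Finset.mem_filter.1 hξ1).2] at hlt
      exact absurd hlt (not_lt.2 (hge φ hχS))
    · exact absurd hlt (not_lt.2 (hmax ξ (Finset.mem_sdiff.2 ⟨Finset.mem_of_mem_erase hξ, hξ1⟩)))
  have hih := ih _ (Finset.erase_ssubset hχT) hsub h1' hdown'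
  obtain ⟨ψ, hψ⟩ := Finset.card_pos.1 (show 0 < S₁.card by omega)
  have hsum : ∑ ξ ∈ S.filter (fun ξ => d ξ < d χ), d ξ ^ 2 ≤ ∑ ξ ∈ T.erase χ, d ξ ^ 2 := by
    refine Finset.sum_le_sum_of_subset fun ξ hξ => ?_
    obtain ⟨hξS, hlt⟩ := Finset.mem_filter.1 hξ
    exact Finset.mem_erase.2 ⟨fun h => hlt.ne (congrArg d h), hdown χ hχT ξ hξS hlt⟩
  have hins : insert χ (T.erase χ) = T := Finset.insert_erase hχT
  have := isCoherent_insert (τ := τ) (T.erase χ) χ (fun ξ hξ => hirr ξ (hsub hξ)) (hirr χ hχS)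
    (Finset.notMem_erase χ T) d (fun ξ hξ => hd ξ (hTS (hins ▸ hξ)))
    (by rw [hins]; exact hres T hTS) (by rw [hins]; exact fun a ha => hτ1 a (hmono T hTS ha))
    hih ψ (h1' hψ) ((Finset.mem_filter.1 hψ).2 ▸ he χ hχS)
    (by rw [(Finset.mem_filter.1 hψ).2]; exact (hineq χ hχS hne).trans_le hsum)
  rwa [hins] at this

end Criterion

section Kernel

variable {L : Type u} [Group L] [Fintype L] {K : Subgroup L} [K.Normal]

theorem isFrobTI_of_cent (hC : CentIn K) (h1 : K ≠ ⊥) (h2 : K ≠ ⊤) : IsFrobTI K := by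
  have hN : Subgroup.normalizer (K : Set L) = ⊤ := Subgroup.normalizer_eq_top_iff.2 inferInstance
  obtain ⟨n, -, hn⟩ := SetLike.exists_of_lt (lt_top_iff_ne_top.2 h2)
  refine ⟨h1, ⟨n, by rw [hN]; trivial, hn⟩, fun m _ h hh hh1 hc => hC h hh hh1
    (Subgroup.mem_centralizer_singleton_iff.2 hc), fun g x _ _ _ => by rw [hN]; trivial⟩

theorem isNilpotent_of_cent (hC : CentIn K) (h1 : K ≠ ⊥) (h2 : K ≠ ⊤) : Group.IsNilpotent K :=
  (isFrobTI_of_cent hC h1 h2).isNilpotent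

theorem coprime_card_index_of_cent (hC : CentIn K) : (Nat.card K).Coprime K.index := by
  refine Nat.coprime_of_dvd fun p hp hpK hpi => ?_
  haveI := Fact.mk hp
  obtain ⟨P⟩ : Nonempty (Sylow p L) := inferInstance
  haveI : (K.subgroupOf (P : Subgroup L)).Normal := Subgroup.Normal.subgroupOf inferInstance _
  have hbot : K.subgroupOf (P : Subgroup L) ≠ ⊥ := by
    obtain ⟨x, hx⟩ := exists_prime_orderOf_dvd_card' (G := K) p hpK
    have hxp : IsPGroup p (Subgroup.zpowers (x : L)) := IsPGroup.of_card (n := 1)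
      (by rw [Nat.card_zpowers, Subgroup.orderOf_coe, hx, pow_one])
    obtain ⟨Q, hQ⟩ := hxp.exists_le_sylow
    obtain ⟨g, hg⟩ := MulAction.exists_smul_eq L Q P
    intro h
    rw [Subgroup.subgroupOf_eq_bot, disjoint_iff] at h
    have hmem : g * (x : L) * g⁻¹ ∈ K ⊓ (P : Subgroup L) := by
      refine ⟨(‹K.Normal›).conj_mem _ x.2 g, ?_⟩
      rw [← hg, Sylow.coe_subgroup_smul]
      exact Subgroup.smul_mem_pointwise_smul _ (MulAut.conj g) _ (hQ (Subgroup.mem_zpowers _))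
    rw [h, Subgroup.mem_bot, conj_eq_one_iff] at hmem
    rw [← Subgroup.orderOf_coe, hmem, orderOf_one] at hx
    exact hp.one_lt.ne hx
  obtain ⟨⟨⟨z, hzP⟩, hzK, hzc⟩, hz1⟩ := Subgroup.ne_bot_iff_exists_ne_one.1
    (PGroup.inf_center_ne_bot P.2 (K.subgroupOf (P : Subgroup L)) hbot)
  have hPK : (P : Subgroup L) ≤ K := fun y hy => hC z hzK (fun e => hz1 (Subtype.ext (Subtype.ext e)))
    (Subgroup.mem_centralizer_singleton_iff.2
      (congrArg Subtype.val (Subgroup.mem_center_iff.1 hzc ⟨y, hy⟩)))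
  exact P.not_dvd_index (hpi.trans (Subgroup.index_dvd_of_le hPK))

/-- A complement acts on the kernel without fixed classes. -/
theorem exists_free_action (hC : CentIn K) : ∃ E : Subgroup L, Nat.card E = K.index ∧
    ∃ ρ : E →* MulAut K, ZassenhausFeit.Free ρ := by
  obtain ⟨E, hE⟩ := Subgroup.exists_right_complement'_of_coprime (coprime_card_index_of_cent hC)
  refine ⟨E, hE.symm.index_eq_card.symm, (MulAut.conjNormal (H := K)).comp E.subtype, ?_⟩
  intro a ha x hx hc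
  obtain ⟨m, hm⟩ := isConj_iff.1 hc
  have hm' : (m : L) * x * (m : L)⁻¹ = a * x * (a : L)⁻¹ := by simpa using congrArg Subtype.val hm
  have hmem : (m : L)⁻¹ * a ∈ K := by
    refine hC x x.2 (fun e => hx (Subtype.ext e)) (Subgroup.mem_centralizer_singleton_iff.2 ?_)
    calc (m : L)⁻¹ * a * x = (m : L)⁻¹ * (a * x * (a : L)⁻¹) * a := by group
      _ = (m : L)⁻¹ * ((m : L) * x * (m : L)⁻¹) * a := by rw [hm']
      _ = _ := by group
  have haK : (a : L) ∈ K := by simpa using mul_mem m.2 hmem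
  exact ha (Subtype.ext (Subgroup.disjoint_def.1 hE.disjoint haK a.2))

variable (K) in
open scoped Classical in
/-- The characters induced from the non-principal irreducible characters of `K`. -/
noncomputable def kerChars [Fintype K] : Finset (L → ℂ) :=
  ((Finset.univ : Finset (IrrCharacter K)).erase (Char.trivialChar K)).image fun θ => indFun K θ.1

theorem mem_kerChars_iff [Fintype K] {φ : L → ℂ} :
    φ ∈ kerChars K ↔ ∃ θ : IrrCharacter K, θ ≠ Char.trivialChar K ∧ φ = indFun K θ.1 := by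
  classical
  simp only [kerChars, Finset.mem_image, Finset.mem_erase, Finset.mem_univ, and_true]
  exact exists_congr fun θ => and_congr_right fun _ => eq_comm

theorem nonTriv_iff_ne_trivial [Fintype K] (θ : IrrCharacter K) :
    (∃ z : ↥K, (z : L) ∈ K ∧ θ.1 z ≠ θ.1 1) ↔ θ ≠ Char.trivialChar K := by
  constructor
  · rintro ⟨z, -, hz⟩ rfl
    exact hz rfl
  · intro h
    by_contra hcon
    push Not at hcon
    have h0 := Char.sum_apply_eq_zero h
    rw [Finset.sum_congr rfl fun g _ => hcon g g.2, Finset.sum_const, nsmul_eq_mul, mul_eq_zero] at h0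
    rcases h0 with h0 | h0
    · exact Fintype.card_ne_zero (by exact_mod_cast h0)
    · exact Char.IsIrrCharacter.apply_one_ne_zero θ.2 h0

theorem coe_kerChars (hC : CentIn K) [Fintype K] :
    (↑(kerChars K) : Set (L → ℂ)) = {χ : L → ℂ | IsIrrCharacter L χ ∧ ∃ h ∈ K, χ h ≠ χ 1} := by
  rw [← inducedNonTriv_eq_irr K K le_rfl (inducedNonTriv_irr hC K)]
  ext φ
  rw [Finset.mem_coe, mem_kerChars_iff]
  constructor
  · rintro ⟨θ, hθ, rfl⟩
    exact ⟨θ.1, θ.2, (nonTriv_iff_ne_trivial θ).2 hθ, rfl⟩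
  · rintro ⟨θ, hθ, hz, rfl⟩
    exact ⟨⟨θ, hθ⟩, (nonTriv_iff_ne_trivial ⟨θ, hθ⟩).1 hz, rfl⟩

theorem mem_kerChars (hC : CentIn K) [Fintype K] {φ : L → ℂ} :
    φ ∈ kerChars K ↔ IsIrrCharacter L φ ∧ ∃ h ∈ K, φ h ≠ φ 1 :=
  Finset.mem_coe.symm.trans (Set.ext_iff.1 (coe_kerChars hC) φ)

theorem charDegree_indFun [Fintype K] (θ : IrrCharacter K) :
    charDegree (indFun K θ.1) = K.index * Char.degree θ := by
  rw [charDegree, Char.indFun_apply_one, Char.apply_one_eq_degree, ← Nat.cast_mul,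
    Complex.natCast_re, Nat.floor_natCast]

theorem apply_one_kerChars [Fintype K] {φ : L → ℂ} (hφ : φ ∈ kerChars K) :
    φ 1 = (charDegree φ : ℂ) ∧ ∃ θ : IrrCharacter K, charDegree φ = K.index * Char.degree θ := by
  obtain ⟨θ, -, rfl⟩ := mem_kerChars_iff.1 hφ
  refine ⟨?_, θ, charDegree_indFun θ⟩
  rw [charDegree_indFun, Char.indFun_apply_one, Char.apply_one_eq_degree, Nat.cast_mul]

/-- Sums of squared degrees over the induced characters. -/
theorem sum_kerChars (hC : CentIn K) [Fintype K] (p : ℕ → Prop) [DecidablePred p] :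
    ∑ φ ∈ (kerChars K).filter (fun φ => p (charDegree φ)), charDegree φ ^ 2 =
      K.index * ∑ θ ∈ (((Finset.univ : Finset (IrrCharacter K)).filter
        fun θ => p (K.index * Char.degree θ)).filter fun θ => θ ≠ Char.trivialChar K),
        Char.degree θ ^ 2 := by
  classical
  set e := K.index with he
  set T := Char.trivialChar K
  set P := ((Finset.univ : Finset (IrrCharacter K)).filter fun θ => p (e * Char.degree θ)).filter
    fun θ => θ ≠ T with hP
  have him : (kerChars K).filter (fun φ => p (charDegree φ)) = P.image fun θ => indFun K θ.1 := by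
    ext φ
    simp only [Finset.mem_filter, Finset.mem_image, mem_kerChars_iff, hP, Finset.mem_univ, true_and]
    constructor
    · rintro ⟨⟨θ, hθ, rfl⟩, hp⟩
      exact ⟨θ, ⟨by rwa [charDegree_indFun] at hp, hθ⟩, rfl⟩
    · rintro ⟨θ, ⟨hp, hθ⟩, rfl⟩
      exact ⟨⟨θ, hθ, rfl⟩, by rwa [charDegree_indFun]⟩
  have hP' : ∀ θ ∈ P, θ ≠ T := fun θ hθ => (Finset.mem_filter.1 hθ).2
  have h := sum_sq_div_norm K P (fun θ hθ g => by
      have hd : Char.degree (Char.conjChar K θ g) = Char.degree θ := by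
        apply Nat.cast_injective (R := ℂ)
        rw [← Char.apply_one_eq_degree, ← Char.apply_one_eq_degree, Char.conjChar_coe,
          Char.conjFun_apply_one]
      rw [hP, Finset.mem_filter, Finset.mem_filter, hd]
      obtain ⟨hθ', hθT⟩ := Finset.mem_filter.1 hθ
      exact ⟨⟨Finset.mem_univ _, (Finset.mem_filter.1 hθ').2⟩, (nonTriv_iff_ne_trivial _).1
        (conjFun_nonTriv K (Z := K) θ ((nonTriv_iff_ne_trivial θ).2 hθT) g)⟩)
    charDegree (fun _ => 1)
    (fun θ _ => by rw [charDegree_indFun, Char.indFun_apply_one, Char.apply_one_eq_degree, Nat.cast_mul])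
    (fun θ hθ => by
      rw [Char.classInner_irr_self (isIrrCharacter_indFun_of_cent hC θ.2
        fun e' => hP' θ hθ (Subtype.ext e')), Nat.cast_one])
  rw [← him, ← he] at h
  simp only [Nat.cast_one, div_one, Char.charDegree_eq_degree] at h
  exact_mod_cast h

theorem card_kerChars_index_mul (hC : CentIn K) [Fintype K] :
    ((kerChars K).filter fun φ => charDegree φ = K.index).card * K.index + 1 =
      ((Finset.univ : Finset (IrrCharacter K)).filter fun θ => Char.degree θ = 1).card := by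
  classical
  have hepos : 0 < K.index := Nat.pos_of_ne_zero Subgroup.index_ne_zero_of_finite
  have h := sum_kerChars hC (fun m => m = K.index)
  have hT : Char.trivialChar K ∈
      Finset.univ.filter fun θ : IrrCharacter K => Char.degree θ = 1 :=
    Finset.mem_filter.2 ⟨Finset.mem_univ _, ZassenhausFeit.degree_trivial⟩
  rw [Finset.sum_congr rfl (g := fun _ => K.index ^ 2) (fun φ hφ => by rw [(Finset.mem_filter.1 hφ).2]),
    Finset.sum_const, smul_eq_mul, Finset.filter_ne',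
    Finset.filter_congr (q := fun θ => Char.degree θ = 1)
      (fun θ _ => ⟨fun h => Nat.eq_of_mul_eq_mul_left hepos (h.trans (mul_one _).symm),
        fun h => by rw [h, mul_one]⟩),
    Finset.sum_congr rfl (g := fun _ => 1)
      (fun θ hθ => by rw [(Finset.mem_filter.1 (Finset.mem_of_mem_erase hθ)).2, one_pow]),
    Finset.sum_const, smul_eq_mul, mul_one, Finset.card_erase_of_mem hT] at h
  have h3 : ((kerChars K).filter fun φ => charDegree φ = K.index).card * K.index =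
      (Finset.univ.filter fun θ : IrrCharacter K => Char.degree θ = 1).card - 1 :=
    Nat.eq_of_mul_eq_mul_left hepos (by linarith [h])
  have := Finset.card_pos.2 ⟨_, hT⟩
  omega

variable {G : Type v} [Group G] [Fintype G] {τ : (L → ℂ) → (G → ℂ)}

/-- The characters of a Frobenius group not trivial on the kernel: enough linear characters of the
kernel and enough mass below each larger degree give coherence. -/
theorem isCoherent_frobKernel (hC : CentIn K) [Fintype K]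
    (hlin : K.index + 1 < Nat.card {θ : IrrCharacter K // θ.1 1 = 1})
    (hnon : ∀ θ : IrrCharacter K, Char.degree θ ≠ 1 → 2 * K.index * Char.degree θ + 1 <
      ∑ η ∈ (Finset.univ : Finset (IrrCharacter K)).filter (fun η => Char.degree η < Char.degree θ),
        Char.degree η ^ 2)
    (hτ : IsLinearIsometryOn (zspanOn {χ : L → ℂ | IsIrrCharacter L χ ∧ ∃ h ∈ K, χ h ≠ χ 1} {1}ᶜ) τ)
    (hτ1 : ∀ α ∈ zspanOn {χ : L → ℂ | IsIrrCharacter L χ ∧ ∃ h ∈ K, χ h ≠ χ 1} {1}ᶜ, τ α 1 = 0) :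
    IsCoherent {χ : L → ℂ | IsIrrCharacter L χ ∧ ∃ h ∈ K, χ h ≠ χ 1} {1}ᶜ τ := by
  classical
  set e := K.index with he
  have hepos : 0 < e := Nat.pos_of_ne_zero Subgroup.index_ne_zero_of_finite
  rw [← coe_kerChars hC] at hτ hτ1 ⊢
  refine isCoherent_of_degree_bound _ (fun φ hφ => ((mem_kerChars hC).1 hφ).1) charDegree
    (fun φ hφ => (apply_one_kerChars hφ).1) e (fun φ hφ => ?_) ?_ (fun φ hφ hne => ?_) hτ hτ1
  · obtain ⟨θ, h⟩ := (apply_one_kerChars hφ).2
    exact h ▸ dvd_mul_right _ _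
  · have h := card_kerChars_index_mul hC
    rw [← he] at h
    have hl : Nat.card {θ : IrrCharacter K // θ.1 1 = 1} =
        (Finset.univ.filter fun θ : IrrCharacter K => Char.degree θ = 1).card := by
      rw [Nat.card_eq_fintype_card, Fintype.card_subtype]
      simp only [Char.apply_one_eq_degree, Nat.cast_eq_one]
    rw [hl, ← h] at hlin
    by_contra hle
    push Not at hle
    have := Nat.mul_le_mul_right e hle
    omega
  · obtain ⟨θ, hθ, rfl⟩ := mem_kerChars_iff.1 hφ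
    rw [charDegree_indFun, ← he] at hne ⊢
    have hθ1 : Char.degree θ ≠ 1 := fun h => hne (by rw [h, mul_one])
    have hT : Char.trivialChar K ∈
        Finset.univ.filter (fun η : IrrCharacter K => Char.degree η < Char.degree θ) :=
      Finset.mem_filter.2 ⟨Finset.mem_univ _, by
        rw [ZassenhausFeit.degree_trivial]; have := Char.degree_pos θ; omega⟩
    have h := hnon θ hθ1
    rw [← Finset.add_sum_erase _ _ hT, ZassenhausFeit.degree_trivial, one_pow] at h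
    rw [sum_kerChars hC (fun m => m < e * Char.degree θ), Finset.filter_ne', ← he, Finset.filter_congr
      (q := fun η => Char.degree η < Char.degree θ) (fun η _ => Nat.mul_lt_mul_left hepos)]
    calc 2 * e * (e * Char.degree θ) = e * (2 * e * Char.degree θ) := by ring
      _ < _ := Nat.mul_lt_mul_of_pos_left (by omega) hepos

end Kernel

end Cfsg.Agent.OddOrder
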