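import Cfsg.Agent.Lib.OddOrder.CoherenceInduced
import Cfsg.Agent.Lib.CharInt.Central

set_option autoImplicit false
set_option linter.unusedSectionVars false

/-! Coherence over a Frobenius section `L / H₁` with abelian kernel `K / H₁` (Peterfalvi (6.4)). -/

namespace Cfsg.Agent.OddOrder

open Finset
open scoped commutatorElement

universe u v

section Nilpotent

variable {P : Type u} [Group P] [Finite P] [Group.IsNilpotent P]

theorem commutator_le_of_coatom {M : Subgroup P} (hM : IsCoatom M) : commutator P ≤ M := by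
  haveI : M.Normal := Subgroup.NormalizerCondition.normal_of_coatom M Group.normalizerCondition_of_isNilpotent hM
  refine Subgroup.Normal.quotient_commutative_iff_commutator_le.1 ?_
  have hcyc : IsCyclic (P ⧸ M) := by
    by_cases h : ∃ x : P ⧸ M, x ≠ 1
    · obtain ⟨x, hx⟩ := h
      refine ⟨⟨x, fun y => ?_⟩⟩
      obtain ⟨g, rfl⟩ := QuotientGroup.mk'_surjective M x
      have htop : M ⊔ Subgroup.zpowers g = ⊤ := hM.2 _ (lt_of_le_not_ge le_sup_left fun h =>
        hx ((QuotientGroup.eq_one_iff g).2 (h (Subgroup.mem_sup_right (Subgroup.mem_zpowers g)))))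
      obtain ⟨z, rfl⟩ := QuotientGroup.mk'_surjective M y
      obtain ⟨a, ha, b, hb, rfl⟩ := Subgroup.mem_sup_of_normal_left.1 (htop ▸ Subgroup.mem_top z)
      obtain ⟨k, rfl⟩ := Subgroup.mem_zpowers_iff.1 hb
      refine Subgroup.mem_zpowers_iff.2 ⟨k, ?_⟩
      rw [map_mul, map_zpow, show QuotientGroup.mk' M a = 1 from (QuotientGroup.eq_one_iff a).2 ha, one_mul]
    · push Not at h
      exact ⟨⟨1, fun y => by rw [h y]; exact ⟨0, zpow_zero _⟩⟩⟩
  haveI := hcyc
  exact ⟨⟨fun a b => by letI := IsCyclic.commGroup (α := P ⧸ M); exact mul_comm a b⟩⟩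

/-- The only overgroup of the commutator subgroup supplementing it is everything. -/
theorem eq_top_of_commutator_sup (U : Subgroup P) (hU : commutator P ⊔ U = ⊤) : U = ⊤ := by
  by_contra hne
  obtain ⟨M, hM, hUM⟩ := (eq_top_or_exists_le_coatom U).resolve_left hne
  exact hM.1 (top_le_iff.1 (hU ▸ sup_le (commutator_le_of_coatom hM) hUM))

theorem exists_card_pow_of_commutator_index {p a : ℕ} [Fact p.Prime]
    (h : (commutator P).index = p ^ a) : ∃ b : ℕ, Nat.card P = p ^ b := by
  let S : Sylow p P := default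
  have htop : (S : Subgroup P) = ⊤ := by
    refine eq_top_of_commutator_sup _ (Subgroup.index_eq_one.1 ?_)
    have h1 : (commutator P ⊔ (S : Subgroup P)).index ∣ p ^ a := h ▸ Subgroup.index_dvd_of_le le_sup_left
    have h2 : (commutator P ⊔ (S : Subgroup P)).index ∣ (S : Subgroup P).index :=
      Subgroup.index_dvd_of_le le_sup_right
    obtain ⟨i, -, hi⟩ := (Nat.dvd_prime_pow Fact.out).1 h1
    rw [hi] at h2 ⊢
    rcases i with _ | i
    · rfl
    · exact absurd (dvd_trans (dvd_pow_self p (Nat.succ_ne_zero i)) h2) S.not_dvd_index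
  obtain ⟨b, hb⟩ := IsPGroup.iff_card.1 S.isPGroup'
  exact ⟨b, by rw [← hb, htop, Subgroup.card_top]⟩

theorem commutator_eq_bot_of_index_prime (h : (commutator P).index.Prime) : commutator P = ⊥ := by
  have hne : commutator P ≠ ⊤ := fun e => by rw [e, Subgroup.index_top] at h; exact Nat.not_prime_one h
  obtain ⟨g, -, hg⟩ := SetLike.exists_of_lt (lt_top_iff_ne_top.2 hne)
  have htop : Subgroup.zpowers g = ⊤ := by
    refine eq_top_of_commutator_sup _ (Subgroup.index_eq_one.1 ?_)
    rcases (Nat.dvd_prime h).1 (Subgroup.index_dvd_of_le (le_sup_left :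
      commutator P ≤ commutator P ⊔ Subgroup.zpowers g)) with h1 | h1
    · exact h1
    · exfalso
      have h2 := Subgroup.relIndex_mul_index (le_sup_left : commutator P ≤ commutator P ⊔ Subgroup.zpowers g)
      rw [h1] at h2
      have h3 : (commutator P).relIndex (commutator P ⊔ Subgroup.zpowers g) = 1 :=
        Nat.eq_of_mul_eq_mul_right h.pos (h2.trans (one_mul _).symm)
      exact hg (Subgroup.relIndex_eq_one.1 h3 (Subgroup.mem_sup_right (Subgroup.mem_zpowers g)))
  haveI : IsCyclic P := ⟨⟨g, fun y => (htop.symm ▸ Subgroup.mem_top y : y ∈ Subgroup.zpowers g)⟩⟩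
  letI := IsCyclic.commGroup (α := P)
  rw [commutator_def, Subgroup.commutator_eq_bot_iff_le_centralizer]
  exact fun x _ => Subgroup.mem_centralizer_iff.2 fun y _ => mul_comm y x

end Nilpotent

section Counting

variable {L : Type u} [Group L] [Fintype L] (K H₁ : Subgroup L) [K.Normal] [H₁.Normal]

/-- `[L : K]` divides `[Y : H₁] - 1` for normal `Y` between. -/
theorem index_dvd_relIndex_sub_one (hle : H₁ ≤ K) (hab : ⁅K, K⁆ ≤ H₁)
    (hfrob : ∀ k ∈ K, k ∉ H₁ → ∀ x : L, x * k * x⁻¹ * k⁻¹ ∈ H₁ → x ∈ K) (Y : Subgroup L) [Y.Normal]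
    (hYK : Y ≤ K) : K.index ∣ H₁.relIndex Y - 1 := by
  classical
  set f := QuotientGroup.mk' H₁
  set Yb := Y.map f
  haveI : Yb.Normal := Subgroup.Normal.map inferInstance f (QuotientGroup.mk'_surjective H₁)
  have hcard : Nat.card Yb = H₁.relIndex Y := by
    rw [← Subgroup.relIndex_ker, QuotientGroup.ker_mk']
  have hKi : (K.map f).index = K.index := by
    rw [Subgroup.index_map_eq _ (QuotientGroup.mk'_surjective H₁) (by rw [QuotientGroup.ker_mk']; exact hle)]
  have hcent : ∀ y ∈ Yb, y ≠ 1 → Subgroup.centralizer ({y} : Set (L ⧸ H₁)) = K.map f := by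
    rintro _ ⟨k, hk, rfl⟩ hk1
    have hk' : k ∉ H₁ := fun h => hk1 ((QuotientGroup.eq_one_iff k).2 h)
    ext x
    obtain ⟨g, rfl⟩ := QuotientGroup.mk'_surjective H₁ x
    rw [Subgroup.mem_centralizer_singleton_iff]
    have key : g * k * g⁻¹ * k⁻¹ ∈ H₁ ↔ f g * f k = f k * f g := by
      rw [← QuotientGroup.eq_one_iff (N := H₁)]
      show f (g * k * g⁻¹ * k⁻¹) = 1 ↔ _
      rw [map_mul, map_mul, map_mul, map_inv, map_inv, mul_inv_eq_one, mul_inv_eq_iff_eq_mul]
    constructor
    · intro h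
      exact ⟨g, hfrob k (hYK hk) hk' g (key.2 h), rfl⟩
    · rintro ⟨g', hg', he⟩
      rw [← he]
      have : g' * k * g'⁻¹ * k⁻¹ ∈ H₁ := hab (by
        have := Subgroup.commutator_mem_commutator hg' (hYK hk)
        rwa [commutatorElement_def] at this)
      rw [← QuotientGroup.eq_one_iff (N := H₁)] at this
      have h' : f (g' * k * g'⁻¹ * k⁻¹) = 1 := this
      rwa [map_mul, map_mul, map_mul, map_inv, map_inv, mul_inv_eq_one, mul_inv_eq_iff_eq_mul] at h'
  set s := Finset.univ.filter fun y : L ⧸ H₁ => y ∈ Yb ∧ y ≠ 1 with hs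
  have hs' : s.card = Nat.card Yb - 1 := by
    rw [show s = (Finset.univ.filter (· ∈ Yb)).erase 1 by ext y; simp [hs, and_comm],
      Finset.card_erase_of_mem (by simp [one_mem]), Nat.card_eq_fintype_card, Fintype.card_subtype]
  have hdvd : K.index ∣ s.card := by
    rw [Finset.card_eq_sum_card_image ConjClasses.mk s]
    refine Finset.dvd_sum fun C hC => ?_
    obtain ⟨y, hy, rfl⟩ := Finset.mem_image.1 hC
    obtain ⟨hyY, hy1⟩ := (Finset.mem_filter.1 hy).2
    have : (s.filter fun z => ConjClasses.mk z = ConjClasses.mk y) = Finset.univ.filter fun z => IsConj y z := by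
      ext z
      simp only [hs, Finset.mem_filter, Finset.mem_univ, true_and, ConjClasses.mk_eq_mk_iff_isConj]
      refine ⟨fun h => h.2.symm, fun h => ?_⟩
      obtain ⟨c, rfl⟩ := isConj_iff.1 h
      exact ⟨⟨(inferInstance : Yb.Normal).conj_mem y hyY c, fun e => hy1 (conj_eq_one_iff.1 e)⟩, h.symm⟩
    rw [this, ← Fintype.card_subtype, ← Nat.card_eq_fintype_card, CharInt.natCard_isConj,
      hcent y hyY hy1, hKi]
  rwa [hs', hcard] at hdvd

/-- Both sections above `H₁` have order at least `2 [L : K] + 1`. -/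
theorem sections_ge (hodd : Odd (Nat.card L)) (hab : ⁅K, K⁆ ≤ H₁)
    (hfrob : ∀ k ∈ K, k ∉ H₁ → ∀ x : L, x * k * x⁻¹ * k⁻¹ ∈ H₁ → x ∈ K) {N : Subgroup L} [N.Normal]
    (h1 : H₁ < N) (h2 : N < K) : 4 * K.index ^ 2 + 1 < H₁.relIndex K := by
  have hle : H₁ ≤ K := h1.le.trans h2.le
  have oddle : ∀ n e : ℕ, e ∣ n - 1 → Odd n → Odd e → 1 < n → 2 * e + 1 ≤ n := by
    intro n e ⟨t, ht⟩ hn ⟨r, hr⟩ hn1
    obtain ⟨m, hm⟩ := hn
    rcases t with _ | _ | t
    · simp at ht; omega
    · simp at ht; omega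
    · have : e * 2 ≤ e * (t + 1 + 1) := Nat.mul_le_mul_left e (by omega)
      omega
  have hoddr : ∀ X Y : Subgroup L, X ≤ Y → Odd (X.relIndex Y) := fun X Y hXY => by
    refine hodd.of_dvd_nat (dvd_trans ?_ (Subgroup.index_dvd_card X))
    rw [← Subgroup.relIndex_mul_index hXY]
    exact dvd_mul_right _ _
  have hode : Odd K.index := hodd.of_dvd_nat (Subgroup.index_dvd_card K)
  set e := K.index
  have hmul := Subgroup.relIndex_mul_relIndex H₁ N K h1.le h2.le
  have hn1 : 1 < H₁.relIndex N := by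
    have : H₁.relIndex N ≠ 1 := fun h => not_le_of_gt h1 (Subgroup.relIndex_eq_one.1 h)
    have : 0 < H₁.relIndex N := Nat.pos_of_ne_zero (Subgroup.index_ne_zero_of_finite (H := H₁.subgroupOf N))
    omega
  have hn2 : 1 < N.relIndex K := by
    have : N.relIndex K ≠ 1 := fun h => not_le_of_gt h2 (Subgroup.relIndex_eq_one.1 h)
    have : 0 < N.relIndex K := Nat.pos_of_ne_zero (Subgroup.index_ne_zero_of_finite (H := N.subgroupOf K))
    omega
  have d1 := index_dvd_relIndex_sub_one K H₁ hle hab hfrob N h2.le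
  have d12 := index_dvd_relIndex_sub_one K H₁ hle hab hfrob K le_rfl
  rw [← hmul] at d12
  have d2 : e ∣ N.relIndex K - 1 := by
    rw [← Nat.modEq_iff_dvd' (by omega)]
    have a1 : 1 ≡ H₁.relIndex N [MOD e] := (Nat.modEq_iff_dvd' (by omega)).2 d1
    have a12 : 1 ≡ H₁.relIndex N * N.relIndex K [MOD e] :=
      (Nat.modEq_iff_dvd' (Nat.one_le_iff_ne_zero.2 (Nat.mul_ne_zero (by omega) (by omega)))).2 d12
    exact a12.trans (by simpa using a1.symm.mul_right (N.relIndex K))
  have b1 := oddle _ e d1 (hoddr _ _ h1.le) hode hn1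
  have b2 := oddle _ e d2 (hoddr _ _ h2.le) hode hn2
  rw [← hmul]
  have hb : (2 * e + 1) * (2 * e + 1) ≤ H₁.relIndex N * N.relIndex K := Nat.mul_le_mul b1 b2
  have : 0 < e := Nat.pos_of_ne_zero Subgroup.index_ne_zero_of_finite
  nlinarith

end Counting

section System

variable {L : Type u} [Group L] [Fintype L] {G : Type v} [Group G] [Fintype G]
variable {τ : (L → ℂ) → (G → ℂ)} {R : (L → ℂ) → Finset (G → ℂ)}

theorem system_subset {S U : Set (L → ℂ)} (hS : IsCoherenceSystem S τ R) (hU : U ⊆ S) (hne : U.Nonempty)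
    (hc : ∀ χ ∈ U, conjFun χ ∈ U) : IsCoherenceSystem U τ R := by
  have hmono : zspanOn U {1}ᶜ ⊆ zspanOn S {1}ᶜ := fun a ha => ⟨Submodule.span_mono hU ha.1, ha.2⟩
  exact ⟨hne, fun χ h => hS.isCharacter χ (hU h), hc, fun χ h => hS.conj_ne χ (hU h),
    ⟨fun a ha b hb => hS.isometry.1 a (hmono ha) b (hmono hb), fun a ha => hS.isometry.2.1 a (hmono ha),
      fun a ha b hb => hS.isometry.2.2.1 a (hmono ha) b (hmono hb), fun a ha => hS.isometry.2.2.2 a (hmono ha)⟩,
    fun a ha => hS.map_one a (hmono ha), fun χ hχ φ hφ => hS.orthogonal χ (hU hχ) φ (hU hφ),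
    fun χ h => hS.orthonormal χ (hU h), fun χ h => hS.virtual χ (hU h), fun χ h => hS.sum_eq χ (hU h),
    fun χ hχ φ hφ => hS.disjoint χ (hU hχ) φ (hU hφ)⟩

variable (K : Subgroup L) [K.Normal]

/-- The characters of an abelian section `K / H₁` give a coherent set. -/
theorem isCoherent_abelian_section (hsolv : Group.IsSolvable K)
    (hS : IsCoherenceSystem (inducedIrrAbove K ⊥) τ R) (H₁ : Subgroup L) [H₁.Normal] (hlt : H₁ < K)
    (hab : ⁅K, K⁆ ≤ H₁) : IsCoherent (inducedIrrAbove K H₁) {1}ᶜ τ := by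
  classical
  haveI : Fintype K := Fintype.ofFinite _
  obtain ⟨θ, hθ, -⟩ := exists_linear_above K hsolv H₁ hlt
  have hne : (inducedIrrAbove K H₁).Nonempty := ⟨_, (mem_inducedIrrAbove_iff K).2 ⟨θ, hθ, rfl⟩⟩
  refine isCoherent_of_const_degree (system_subset hS (inducedIrrAbove_subset_bot K H₁) hne
    fun χ h => conj_mem_inducedIrrAbove K h) ?_
  have h1 : ∀ φ ∈ inducedIrrAbove K H₁, φ 1 = (K.index : ℂ) := by
    intro φ hφ
    obtain ⟨η, hη, rfl⟩ := (mem_inducedIrrAbove_iff K).1 hφ
    have h := degree_sq_le K H₁ K K le_rfl le_rfl (fun x hx y hy => hab (by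
      have := Subgroup.commutator_mem_commutator hx hy
      rwa [commutatorElement_def] at this)) η ((mem_aboveChars K).1 hη).2
    rw [Subgroup.relIndex_self, one_pow, one_mul] at h
    have hpos := Char.charDegree_pos η
    have h1 : charDegree η.1 = 1 := by nlinarith
    rw [Char.indFun_apply_one, ← Char.charDegree_cast, h1, Nat.cast_one, mul_one]
  exact fun φ hφ ψ hψ => (h1 φ hφ).trans (h1 ψ hψ).symm

/-- Peterfalvi (6.4). -/
theorem isCoherent_frobenius_section (hsolv : Group.IsSolvable K)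
    (hS : IsCoherenceSystem (inducedIrrAbove K ⊥) τ R) (hodd : Odd (Nat.card L)) (M : Subgroup L) [M.Normal]
    (hMK : M ≤ K) [(M.subgroupOf K).Normal] (hnil : Group.IsNilpotent (↥K ⧸ M.subgroupOf K))
    (H₁ : Subgroup L) [H₁.Normal] (hH₁ : H₁ = ⁅K, K⁆ ⊔ M) (hH₁K : H₁ < K)
    (hfrob : ∀ k ∈ K, k ∉ H₁ → ∀ x : L, x * k * x⁻¹ * k⁻¹ ∈ H₁ → x ∈ K)
    (hgood : (∃ N : Subgroup L, N.Normal ∧ H₁ < N ∧ N < K) ∨ 4 * K.index ^ 2 + 1 < H₁.relIndex K ∨
      (¬ ∃ p m : ℕ, p.Prime ∧ M.relIndex K = p ^ m) ∨ ⁅K, K⁆ ≤ M ∨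
      (∃ p m : ℕ, p.Prime ∧ M.relIndex K = p ^ m ∧ K.index ∣ p - 1)) :
    IsCoherent (inducedIrrAbove K M) {1}ᶜ τ := by
  classical
  have hab : ⁅K, K⁆ ≤ H₁ := hH₁.symm ▸ le_sup_left
  have hMH₁ : M ≤ H₁ := hH₁.symm ▸ le_sup_right
  have hbase := isCoherent_abelian_section K hsolv hS H₁ hH₁K hab
  have case_big : 4 * K.index ^ 2 + 1 < H₁.relIndex K → IsCoherent (inducedIrrAbove K M) {1}ᶜ τ := fun h =>
    isCoherent_nilpotent_section K hsolv hS M H₁ K hMH₁ hH₁K.le le_rfl hnil hbase h
  have case_N : (∃ N : Subgroup L, N.Normal ∧ H₁ < N ∧ N < K) → IsCoherent (inducedIrrAbove K M) {1}ᶜ τ :=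
    fun ⟨N, hN, h1, h2⟩ => case_big (sections_ge K H₁ hodd hab hfrob h1 h2)
  have case_M : ⁅K, K⁆ ≤ M → IsCoherent (inducedIrrAbove K M) {1}ᶜ τ := fun h => by
    rwa [show M = H₁ from le_antisymm hMH₁ (hH₁.symm ▸ sup_le h le_rfl)]
  haveI := hnil
  set M' := M.subgroupOf K
  have hidx : (commutator (↥K ⧸ M')).index = H₁.relIndex K := by
    have hc : commutator (↥K ⧸ M') = (H₁.subgroupOf K).map (QuotientGroup.mk' M') := by
      have e : H₁.subgroupOf K = commutator K ⊔ M' := by
        apply Subgroup.map_injective K.subtype_injective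
        rw [Subgroup.map_sup, Subgroup.map_subtype_commutator, Subgroup.map_subgroupOf_eq_of_le hH₁K.le,
          Subgroup.map_subgroupOf_eq_of_le hMK]
        exact hH₁
      rw [e, Subgroup.map_sup, show M'.map (QuotientGroup.mk' M') = ⊥ by
          rw [Subgroup.map_eq_bot_iff, QuotientGroup.ker_mk'], sup_bot_eq,
        commutator_def, commutator_def, Subgroup.map_commutator,
        Subgroup.map_top_of_surjective _ (QuotientGroup.mk'_surjective M')]
    rw [hc, Subgroup.index_map_eq _ (QuotientGroup.mk'_surjective M')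
      (by rw [QuotientGroup.ker_mk']; exact Subgroup.comap_mono hMH₁)]
    rfl
  have hcardP : Nat.card (↥K ⧸ M') = M.relIndex K := rfl
  -- a prime power section
  have case_p : ∀ p a : ℕ, p.Prime → H₁.relIndex K = p ^ a → K.index ∣ p - 1 →
      IsCoherent (inducedIrrAbove K M) {1}ᶜ τ := by
    intro p a hp ha hdvd
    rcases Nat.lt_or_ge a 2 with h | h
    · have ha1 : a = 1 := by
        rcases a with _ | _ | a
        · exfalso; rw [pow_zero] at ha; exact not_le_of_gt hH₁K (Subgroup.relIndex_eq_one.1 ha)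
        · rfl
        · omega
      subst ha1
      rw [pow_one] at ha
      refine case_M ?_
      have hbot := commutator_eq_bot_of_index_prime (P := ↥K ⧸ M') (by rw [hidx, ha]; exact hp)
      intro x hx
      have hxK : x ∈ K := Subgroup.commutator_le_self K hx
      rw [← Subgroup.map_subtype_commutator] at hx
      obtain ⟨y, hy, rfl⟩ := hx
      have h1 : QuotientGroup.mk' M' y ∈ commutator (↥K ⧸ M') := by
        rw [commutator_def, ← Subgroup.map_top_of_surjective _ (QuotientGroup.mk'_surjective M'),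
          ← Subgroup.map_commutator]
        exact ⟨y, hy, rfl⟩
      rw [hbot, Subgroup.mem_bot] at h1
      exact (QuotientGroup.eq_one_iff y).1 h1
    · refine case_big ?_
      have hodp : Odd p := by
        have hd : p ∣ H₁.relIndex K := ha.symm ▸ dvd_pow_self p (show a ≠ 0 by omega)
        refine Odd.of_dvd_nat hodd (hd.trans ?_)
        exact (dvd_mul_right _ _).trans ((Subgroup.relIndex_mul_index hH₁K.le).symm ▸ Subgroup.index_dvd_card H₁)
      have hode : Odd K.index := hodd.of_dvd_nat (Subgroup.index_dvd_card K)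
      have hp2 : 2 * K.index + 1 ≤ p := by
        obtain ⟨t, ht⟩ := hdvd
        obtain ⟨m, hm⟩ := hodp
        obtain ⟨r, hr⟩ := hode
        have := hp.two_le
        rcases t with _ | _ | t
        · simp at ht; omega
        · simp at ht; omega
        · have : K.index * 2 ≤ K.index * (t + 1 + 1) := Nat.mul_le_mul_left _ (by omega)
          omega
      rw [ha]
      have hb : (2 * K.index + 1) ^ 2 ≤ p ^ a :=
        (Nat.pow_le_pow_left hp2 2).trans (Nat.pow_le_pow_right hp.pos h)
      have : 0 < K.index := Nat.pos_of_ne_zero Subgroup.index_ne_zero_of_finite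
      nlinarith
  rcases hgood with h | h | h | h | ⟨p, m, hp, hpm, hdvd⟩
  · exact case_N h
  · exact case_big h
  · by_cases hpp : ∃ p a : ℕ, p.Prime ∧ H₁.relIndex K = p ^ a
    · obtain ⟨p, a, hp, ha⟩ := hpp
      haveI := Fact.mk hp
      obtain ⟨b, hb⟩ := exists_card_pow_of_commutator_index (P := ↥K ⧸ M') (hidx.trans ha)
      exact absurd ⟨p, b, hp, hcardP.symm.trans hb⟩ h
    · refine case_N ?_
      set f := QuotientGroup.mk' H₁
      haveI : (K.map f).Normal := Subgroup.Normal.map inferInstance f (QuotientGroup.mk'_surjective H₁)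
      have hcard : Nat.card (K.map f) = H₁.relIndex K := by rw [← Subgroup.relIndex_ker, QuotientGroup.ker_mk']
      have hne1 : H₁.relIndex K ≠ 1 := fun h => not_le_of_gt hH₁K (Subgroup.relIndex_eq_one.1 h)
      obtain ⟨p, hp, hpd⟩ := Nat.exists_prime_and_dvd hne1
      haveI := Fact.mk hp
      have hcomm : ∀ a b : ↥(K.map f), a * b = b * a := by
        rintro ⟨_, a, ha, rfl⟩ ⟨_, b, hb, rfl⟩
        refine Subtype.ext ?_
        show f a * f b = f b * f a
        have h1 : f ⁅a, b⁆ = 1 := (QuotientGroup.eq_one_iff _).2 (hab (Subgroup.commutator_mem_commutator ha hb))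
        rw [map_commutatorElement] at h1
        exact commutatorElement_eq_one_iff_mul_comm.1 h1
      let S : Sylow p ↥(K.map f) := default
      haveI : (S : Subgroup ↥(K.map f)).Normal :=
        ⟨fun x hx g => by rwa [hcomm g x, mul_inv_cancel_right]⟩
      haveI := S.characteristic_of_normal inferInstance
      set Nb := (S : Subgroup ↥(K.map f)).map (K.map f).subtype
      haveI : Nb.Normal := ConjAct.normal_of_characteristic_of_normal
      refine ⟨Nb.comap f, inferInstance, ?_, ?_⟩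
      · refine lt_of_le_of_ne (fun x hx => ?_) fun e => ?_
        · show f x ∈ Nb
          rw [show f x = 1 from (QuotientGroup.eq_one_iff x).2 hx]; exact one_mem _
        · have hS1 : (S : Subgroup ↥(K.map f)) ≠ ⊥ := by
            refine Sylow.ne_bot_of_dvd_card S ?_
            rwa [hcard]
          apply hS1
          rw [Subgroup.eq_bot_iff_forall]
          rintro ⟨_, x, hx, rfl⟩ hxS
          have : x ∈ Nb.comap f := ⟨⟨f x, x, hx, rfl⟩, hxS, rfl⟩
          rw [← e] at this
          exact Subtype.ext ((QuotientGroup.eq_one_iff x).2 this)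
      · refine lt_of_le_of_ne (fun x hx => ?_) fun e => ?_
        · obtain ⟨y, -, hy⟩ := hx
          obtain ⟨z, hz, hzy⟩ := y.2
          have h2 : z⁻¹ * x ∈ H₁ := QuotientGroup.eq.1 (show ((z : L) : L ⧸ H₁) = x from hzy.trans hy)
          simpa using mul_mem hz (hH₁K.le h2)
        · apply hpp
          obtain ⟨a, ha⟩ := IsPGroup.iff_card.1 S.isPGroup'
          refine ⟨p, a, hp, ?_⟩
          rw [← hcard, ← ha]
          have htop : (S : Subgroup ↥(K.map f)) = ⊤ := by
            rw [eq_top_iff]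
            rintro ⟨_, x, hx, rfl⟩ -
            rw [← e] at hx
            obtain ⟨y, hy, hyx⟩ := hx
            have he : y = ⟨f x, x, by assumption, rfl⟩ := Subtype.ext hyx
            rwa [he] at hy
          rw [htop, Subgroup.card_top]
  · exact case_M h
  · haveI := Fact.mk hp
    obtain ⟨a, -, ha⟩ := (Nat.dvd_prime_pow hp).1 (hpm ▸ Subgroup.relIndex_dvd_of_le_left K hMH₁)
    exact case_p p a hp ha hdvd

end System

end Cfsg.Agent.OddOrder
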