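import Cfsg.Agent.Lib.OddOrder.Dade
import Cfsg.Agent.Lib.Char.KernelSum
import Cfsg.Agent.Lib.Char.Generalized

set_option autoImplicit false

/-! The Dade image of a generalized character is a generalized character (Peterfalvi (2.8)),
by inclusion-exclusion over the subsets of `A`. -/

namespace Cfsg.Agent.OddOrder

open scoped ComplexConjugate
open Finset

universe u

variable {G : Type u} [Group G]

/-- The average of `F` over `k N`. -/
noncomputable def cosetAvg [Fintype G] (F : G → ℂ) (N : Subgroup G) (k : G) : ℂ :=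
  (Nat.card N : ℂ)⁻¹ * ∑ᶠ h ∈ (N : Set G), F (k * h)

/-- `⋂_{b ∈ B} H b`. -/
def interH (H : G → Subgroup G) (B : Finset G) : Subgroup G := ⨅ b ∈ B, H b

/-- The normaliser in `L` of the set `B`. -/
def setNorm (L : Subgroup G) (B : Finset G) : Subgroup G := L ⊓ Subgroup.normalizer (B : Set G)

theorem mem_interH {H : G → Subgroup G} {B : Finset G} {x : G} :
    x ∈ interH H B ↔ ∀ b ∈ B, x ∈ H b := by
  simp [interH, Subgroup.mem_iInf]

theorem mem_setNorm {L : Subgroup G} {B : Finset G} {x : G} :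
    x ∈ setNorm L B ↔ x ∈ L ∧ ∀ y, y ∈ B ↔ x * y * x⁻¹ ∈ B := by
  rw [setNorm, Subgroup.mem_inf, Subgroup.mem_set_normalizer_iff]
  rfl

section Avg

variable [Fintype G]

theorem cosetAvg_eq_sum (F : G → ℂ) (N : Subgroup G) [Fintype N] (k : G) :
    cosetAvg F N k = (Nat.card N : ℂ)⁻¹ * ∑ h : N, F (k * h) := by
  rw [cosetAvg, finsum_mem_eq_finite_toFinset_sum _ (Set.toFinite _)]
  congr 1
  exact Finset.sum_subtype _ (by simp) fun h => F (k * h)

theorem cosetAvg_map_conj {F : G → ℂ} (hF : IsClassFunction G F) {N N' : Subgroup G} (l k : G)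
    (h : ∀ x, x ∈ N ↔ l * x * l⁻¹ ∈ N') :
    cosetAvg F N' (l * k * l⁻¹) = cosetAvg F N k := by
  classical
  have hc : Nat.card N = Nat.card N' := Nat.card_congr ((MulAut.conj l).toEquiv.subtypeEquiv h)
  rw [cosetAvg_eq_sum, cosetAvg_eq_sum, ← hc]
  congr 1
  symm
  refine Fintype.sum_equiv ((MulAut.conj l).toEquiv.subtypeEquiv h) _ _ fun x => ?_
  show F (k * x) = F (l * k * l⁻¹ * (l * (x : G) * l⁻¹))
  rw [← hF (k * x) l]
  congr 1
  group

/-- Every element of `k P` is `P`-conjugate into `k C_P(k)`, for `k` normalising `P` coprimely. -/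
theorem cosetAvg_centralizer {F : G → ℂ} (hF : IsClassFunction G F) (P : Subgroup G) {k : G}
    (hk : ∀ x ∈ P, k * x * k⁻¹ ∈ P) (hcop : (Nat.card P).Coprime (orderOf k)) :
    cosetAvg F P k = cosetAvg F (P ⊓ Subgroup.centralizer ({k} : Set G)) k := by
  classical
  set C := P ⊓ Subgroup.centralizer ({k} : Set G) with hC
  have hmemC : ∀ x, x ∈ C ↔ x ∈ P ∧ k * x = x * k := fun x => by
    rw [hC, Subgroup.mem_inf, Subgroup.mem_centralizer_singleton_iff]
    exact and_congr_right fun _ => eq_comm
  have hk' : ∀ x ∈ P, k⁻¹ * x * k ∈ P := by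
    intro x hx
    have hbij : Function.Surjective (fun u : P => (⟨k * u * k⁻¹, hk u u.2⟩ : P)) :=
      Finite.surjective_of_injective fun a b hab =>
        Subtype.ext (mul_left_cancel (mul_right_cancel (congrArg Subtype.val hab :)))
    obtain ⟨u, hu⟩ := hbij ⟨x, hx⟩
    have h2 : k * (u : G) * k⁻¹ = x := congrArg Subtype.val hu
    rw [← h2, show k⁻¹ * (k * (u : G) * k⁻¹) * k = u by group]
    exact u.2
  have hmem : ∀ p : P × C, k⁻¹ * ((p.1 : G) * (k * p.2) * (p.1 : G)⁻¹) ∈ P := fun p => by
    rw [show k⁻¹ * ((p.1 : G) * (k * p.2) * (p.1 : G)⁻¹) =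
      (k⁻¹ * p.1 * k) * p.2 * (p.1 : G)⁻¹ by group]
    exact mul_mem (mul_mem (hk' _ p.1.2) ((hmemC _).1 p.2.2).1) (inv_mem p.1.2)
  set Φ : P × C → P := fun p => ⟨_, hmem p⟩ with hΦ
  obtain ⟨e, he1, he2⟩ := Nat.chineseRemainder hcop.symm 1 0
  have hpow : ∀ c ∈ C, (k * c) ^ e = k := by
    intro c hc
    obtain ⟨hcP, hck⟩ := (hmemC c).1 hc
    rw [(show Commute k c from hck).mul_pow,
      show c ^ e = 1 from orderOf_dvd_iff_pow_eq_one.1
        ((Subgroup.orderOf_dvd_natCard _ hcP).trans (Nat.modEq_zero_iff_dvd.1 he2)), mul_one]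
    conv_rhs => rw [← pow_one k]
    exact pow_eq_pow_iff_modEq.2 he1
  -- fibres are right translates of `C`
  have hfib : ∀ z : P, ((univ : Finset (P × C)).filter fun p => Φ p = z).card ≤ Fintype.card C ∧
      ∀ p, Φ p = z → Fintype.card C ≤ ((univ : Finset (P × C)).filter fun p => Φ p = z).card := by
    intro z
    have hdiff : ∀ p q : P × C, Φ p = Φ q → (p.1 : G)⁻¹ * q.1 ∈ C := by
      intro p q h
      have h' : (p.1 : G) * (k * p.2) * (p.1 : G)⁻¹ = (q.1 : G) * (k * q.2) * (q.1 : G)⁻¹ :=
        mul_left_cancel (congrArg Subtype.val h :)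
      have h2 := congrArg (· ^ e) h'
      simp only [conj_pow, hpow _ p.2.2, hpow _ q.2.2] at h2
      refine (hmemC _).2 ⟨mul_mem (inv_mem p.1.2) q.1.2, ?_⟩
      calc k * ((p.1 : G)⁻¹ * q.1) = (p.1 : G)⁻¹ * ((p.1 : G) * k * (p.1 : G)⁻¹) * q.1 := by group
        _ = (p.1 : G)⁻¹ * q.1 * k := by rw [h2]; group
    refine ⟨?_, ?_⟩
    · rcases ((univ : Finset (P × C)).filter fun p => Φ p = z).eq_empty_or_nonempty with h | ⟨p, hp⟩
      · rw [h]; simp
      · have hp' := (Finset.mem_filter.1 hp).2
        rw [← Finset.card_univ (α := C)]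
        refine Finset.card_le_card_of_injOn (fun q => if h : (p.1 : G)⁻¹ * q.1 ∈ C then ⟨_, h⟩ else 1)
          (fun q _ => Finset.mem_coe.2 (Finset.mem_univ _)) ?_
        intro q hq q' hq' h
        have hqz := (Finset.mem_filter.1 (Finset.mem_coe.1 hq)).2
        have hqz' := (Finset.mem_filter.1 (Finset.mem_coe.1 hq')).2
        simp only [dif_pos (hdiff p q (hp'.trans hqz.symm)), dif_pos (hdiff p q' (hp'.trans hqz'.symm))] at h
        have h1 : (q.1 : G) = q'.1 := mul_left_cancel (congrArg Subtype.val h :)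
        have h2 : (q.1 : G) * (k * q.2) * (q.1 : G)⁻¹ = (q'.1 : G) * (k * q'.2) * (q'.1 : G)⁻¹ :=
          mul_left_cancel (congrArg Subtype.val (hqz.trans hqz'.symm) :)
        rw [h1] at h2
        exact Prod.ext (Subtype.ext h1)
          (Subtype.ext (mul_left_cancel (mul_left_cancel (mul_right_cancel h2))))
    · rintro ⟨x, c⟩ hp
      rw [← Finset.card_univ (α := C)]
      refine Finset.card_le_card_of_injOn
        (fun d => (⟨(x : G) * d, mul_mem x.2 ((hmemC _).1 d.2).1⟩,
          ⟨(d : G)⁻¹ * c * d, mul_mem (mul_mem (inv_mem d.2) c.2) d.2⟩)) ?_ ?_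
      · intro d _
        refine Finset.mem_coe.2 (Finset.mem_filter.2 ⟨Finset.mem_univ _, ?_⟩)
        rw [← hp]
        refine Subtype.ext (congrArg (k⁻¹ * ·) ?_)
        show (x : G) * d * (k * ((d : G)⁻¹ * c * d)) * ((x : G) * d)⁻¹ = (x : G) * (k * c) * (x : G)⁻¹
        have hd := ((hmemC _).1 (inv_mem d.2)).2
        calc (x : G) * d * (k * ((d : G)⁻¹ * c * d)) * ((x : G) * d)⁻¹
            = (x : G) * d * (k * (d : G)⁻¹) * c * (x : G)⁻¹ := by group
          _ = (x : G) * (k * c) * (x : G)⁻¹ := by rw [hd]; group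
      · intro d _ d' _ h
        exact Subtype.ext (mul_left_cancel (congrArg (fun r => ((r.1 : P) : G)) h))
  have hfull : ∀ z : P, ((univ : Finset (P × C)).filter fun p => Φ p = z).card = Fintype.card C := by
    have htot := Finset.card_eq_sum_card_fiberwise (s := (univ : Finset (P × C))) (t := univ) (f := Φ)
      fun _ _ => Finset.mem_coe.2 (Finset.mem_univ _)
    rw [Finset.card_univ, Fintype.card_prod] at htot
    have h2 : ∑ z : P, ((univ : Finset (P × C)).filter fun p => Φ p = z).card =
        ∑ _z : P, Fintype.card C := by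
      rw [← htot, Finset.sum_const, Finset.card_univ, smul_eq_mul]
    intro z
    exact (Finset.sum_eq_sum_iff_of_le fun z _ => (hfib z).1).1 h2 z (Finset.mem_univ z)
  have key : (Fintype.card C : ℂ) * ∑ h : P, F (k * h) = (Fintype.card P : ℂ) * ∑ c : C, F (k * c) := by
    calc (Fintype.card C : ℂ) * ∑ h : P, F (k * h)
        = ∑ z : P, ∑ p ∈ (univ : Finset (P × C)) with Φ p = z, F (k * z) := by
          rw [Finset.mul_sum]
          refine Finset.sum_congr rfl fun z _ => ?_
          rw [Finset.sum_const, hfull z, nsmul_eq_mul]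
      _ = ∑ p : P × C, F (k * (Φ p : G)) := by
          rw [← Finset.sum_fiberwise (univ : Finset (P × C)) Φ]
          exact Finset.sum_congr rfl fun z _ => Finset.sum_congr rfl fun p hp => by
            rw [(Finset.mem_filter.1 hp).2]
      _ = ∑ p : P × C, F (k * p.2) := Finset.sum_congr rfl fun p _ => by
          rw [← hF (k * p.2) p.1]
          exact congrArg F (mul_inv_cancel_left k _)
      _ = _ := by simp only [Fintype.sum_prod_type, Finset.sum_const, Finset.card_univ, nsmul_eq_mul]
  rw [cosetAvg_eq_sum, cosetAvg_eq_sum, Nat.card_eq_fintype_card, Nat.card_eq_fintype_card]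
  have h1 : (Fintype.card C : ℂ) ≠ 0 := Nat.cast_ne_zero.2 Fintype.card_ne_zero
  have h2 : (Fintype.card P : ℂ) ≠ 0 := Nat.cast_ne_zero.2 Fintype.card_ne_zero
  field_simp
  linear_combination key

/-- The averages over `k P` form a generalized character of any `N` normalising `P`. -/
theorem isGeneralizedCharacter_cosetAvg {F : G → ℂ} (hF : IsGeneralizedCharacter G F)
    (N P : Subgroup G) (hN : ∀ n ∈ N, ∀ x ∈ P, n * x * n⁻¹ ∈ P) :
    IsGeneralizedCharacter N (fun k : N => cosetAvg F P k) := by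
  classical
  set M := N ⊔ P with hM
  haveI : (P.subgroupOf M).Normal := by
    refine Subgroup.normal_subgroupOf_of_le_normalizer (sup_le ?_ Subgroup.le_normalizer)
    intro n hn
    refine Subgroup.mem_normalizer_iff.2 fun x => ⟨hN n hn x, fun hx => ?_⟩
    simpa [mul_assoc] using hN n⁻¹ (inv_mem hn) _ hx
  set P' := P.subgroupOf M with hP'
  obtain ⟨m, hm, -⟩ := Char.IsGeneralizedCharacter.exists_decomp
    (Char.IsGeneralizedCharacter.restrict hF M)
  have hg : IsGeneralizedCharacter M (fun x : M => ∑ ψ : IrrCharacter M,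
      ((if Char.TrivOn P' ψ.1 then m ψ else 0 : ℤ) : ℂ) * ψ.1 x) := by
    have h := Char.isGeneralizedCharacter_sum_int_smul (G := M)
      fun ψ => if Char.TrivOn P' ψ.1 then m ψ else 0
    convert h using 1
    funext x
    simp only [Finset.sum_apply, Pi.smul_apply, smul_eq_mul]
  have h := Char.IsGeneralizedCharacter.comp hg (Subgroup.inclusion (le_sup_left : N ≤ M))
  convert h using 1
  funext k
  have hk : (k : G) ∈ M := Subgroup.mem_sup_left k.2
  have hcard : Nat.card P' = Nat.card P :=
    Nat.card_congr (Subgroup.subgroupOfEquivOfLe le_sup_right).toEquiv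
  have e : cosetAvg F P k = (Nat.card P' : ℂ)⁻¹ * ∑ u : P', F ((k : G) * ((u : M) : G)) := by
    rw [cosetAvg_eq_sum, hcard]
    congr 1
    exact (Fintype.sum_equiv (Subgroup.subgroupOfEquivOfLe (le_sup_right : P ≤ M)).toEquiv _ _
      fun u => rfl).symm
  rw [e]
  have hF' : ∀ x : M, F x = ∑ ψ : IrrCharacter M, (m ψ : ℂ) * ψ.1 x := fun x => by
    have := congrFun hm x
    simpa using this
  have hne : (Nat.card P' : ℂ) ≠ 0 := Nat.cast_ne_zero.2 Nat.card_pos.ne'
  show _ = ∑ ψ : IrrCharacter M, ((if Char.TrivOn P' ψ.1 then m ψ else 0 : ℤ) : ℂ) * ψ.1 ⟨k, hk⟩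
  rw [Finset.sum_congr rfl fun (u : P') _ => (hF' (⟨(k : G), hk⟩ * (u : M)) : F ((k : G) * ((u : M) : G)) = _),
    Finset.sum_comm, Finset.mul_sum]
  refine Finset.sum_congr rfl fun ψ _ => ?_
  rw [← Finset.mul_sum]
  by_cases hψ : Char.TrivOn P' ψ.1
  · rw [if_pos hψ, Finset.sum_congr rfl fun (u : P') _ => Char.apply_mul_of_trivOn hψ ⟨k, hk⟩ u.2,
      Finset.sum_const, Finset.card_univ, nsmul_eq_mul, ← Nat.card_eq_fintype_card]
    field_simp
  · rw [if_neg hψ, Char.sum_coset_eq_zero_of_not_trivOn P' ψ hψ]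
    simp

end Avg

/-- `|L|` divides a sum weighted by stabiliser orders of an invariant integral function. -/
theorem card_dvd_sum_stabilizer {M X : Type*} [Group M] [Finite M] [Fintype X] [MulAction M X]
    (f : X → ℤ) (hf : ∀ (m : M) x, f (m • x) = f x) :
    (Nat.card M : ℤ) ∣ ∑ x, (Nat.card (MulAction.stabilizer M x) : ℤ) * f x := by
  classical
  set π : X → Quotient (MulAction.orbitRel M X) := fun x => Quotient.mk'' x with hπ
  haveI : Fintype (Quotient (MulAction.orbitRel M X)) := Fintype.ofFinite _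
  rw [← Finset.sum_fiberwise (univ : Finset X) π]
  refine Finset.dvd_sum fun q _ => ?_
  induction q using Quotient.inductionOn' with
  | h x =>
    have hiff : ∀ y, π y = Quotient.mk'' x ↔ y ∈ MulAction.orbit M x := fun y => by
      rw [hπ]; exact Quotient.eq''
    have hterm : ∀ y ∈ (univ : Finset X).filter (fun y => π y = Quotient.mk'' x),
        (Nat.card (MulAction.stabilizer M y) : ℤ) * f y =
          (Nat.card (MulAction.stabilizer M x) : ℤ) * f x := by
      intro y hy
      obtain ⟨g, rfl⟩ := (hiff y).1 (Finset.mem_filter.1 hy).2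
      rw [hf, Nat.card_congr (MulAction.stabilizerEquivStabilizer (G := M) (a := x) rfl).symm.toEquiv]
    rw [Finset.sum_congr rfl hterm, Finset.sum_const, nsmul_eq_mul, ← mul_assoc]
    refine Dvd.dvd.mul_right ?_ _
    have hcard : ((univ : Finset X).filter fun y => π y = Quotient.mk'' x).card =
        Nat.card (MulAction.orbit M x) := by
      rw [← Nat.card_eq_finsetCard]
      exact Nat.card_congr (Equiv.subtypeEquivRight fun y => by
        simp only [Finset.mem_filter, Finset.mem_univ, true_and, hiff])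
    rw [hcard, ← Nat.cast_mul, ← Nat.card_prod]
    exact Int.natCast_dvd_natCast.2
      (Nat.card_congr (MulAction.orbitProdStabilizerEquivGroup M x)).symm.dvd

variable [Fintype G] {A : Set G} {L : Subgroup G} {H : G → Subgroup G}

open Classical in
/-- The conjugation action of `L` on finite subsets of `G`. -/
@[reducible] noncomputable def conjFinsetAction (L : Subgroup G) : MulAction L (Finset G) where
  smul l B := B.image fun b => (l : G) * b * (l : G)⁻¹
  one_smul B := by
    show B.image _ = B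
    simp
  mul_smul l m B := by
    show B.image _ = (B.image _).image _
    rw [Finset.image_image]
    congr 1
    funext b
    simp [mul_assoc]

theorem interH_conj (hD : DadeHypothesis A L H) {B : Finset G} (hB : ↑B ⊆ A) {l : G} (hl : l ∈ L)
    {B' : Finset G} (hB' : ∀ y, y ∈ B ↔ l * y * l⁻¹ ∈ B') (x : G) :
    x ∈ interH H B ↔ l * x * l⁻¹ ∈ interH H B' := by
  simp only [mem_interH]
  constructor
  · intro h b hb
    have hb0 : l⁻¹ * b * l ∈ B := (hB' _).2 (by
      rw [show l * (l⁻¹ * b * l) * l⁻¹ = b by group]; exact hb)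
    have h2 := dade_conj_mem hD (hB hb0) hl (h _ hb0)
    rwa [show l * (l⁻¹ * b * l) * l⁻¹ = b by group] at h2
  · intro h b hb
    have h2 := dade_conj_mem hD (hD.conj_mem l hl b (hB hb)) (inv_mem hl) (h _ ((hB' b).1 hb))
    rwa [show l⁻¹ * (l * x * l⁻¹) * l⁻¹⁻¹ = x by group,
      show l⁻¹ * (l * b * l⁻¹) * l⁻¹⁻¹ = b by group] at h2

theorem mem_H_of_coprime (hD : DadeHypothesis A L H) {a c : G} (ha : a ∈ A)
    (hc : c ∈ Subgroup.centralizer ({a} : Set G))
    (hcop : (orderOf c).Coprime (Nat.card ↥(L ⊓ Subgroup.centralizer ({a} : Set G)))) : c ∈ H a := by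
  refine (dade_mem_iff hD ha).2 ⟨hc, orderOf_dvd_iff_pow_eq_one.1 ?_⟩
  have h := Subgroup.orderOf_dvd_natCard _ hc
  rw [dade_card_centralizer hD ha] at h
  exact hcop.dvd_of_dvd_mul_left h

theorem interH_insert (hD : DadeHypothesis A L H) {B : Finset G} (hB : ↑B ⊆ A) (hne : B.Nonempty)
    {k : G} [DecidableEq G] (hk : k ∈ A) :
    interH H (insert k B) = interH H B ⊓ Subgroup.centralizer ({k} : Set G) := by
  ext x
  simp only [mem_interH, Subgroup.mem_inf, Finset.forall_mem_insert]
  constructor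
  · exact fun ⟨h1, h2⟩ => ⟨h2, hD.le_centralizer k hk h1⟩
  · rintro ⟨h2, h1⟩
    obtain ⟨b, hb⟩ := hne
    exact ⟨mem_H_of_coprime hD hk h1 (((hD.coprime b (hB hb) k hk)).coprime_dvd_left
      (Subgroup.orderOf_dvd_natCard _ (h2 b hb))), h2⟩

variable [Fintype L]

open Classical in
/-- The term of the inclusion-exclusion attached to `B`. -/
noncomputable def dadeTerm (L : Subgroup G) [Fintype L] (H : G → Subgroup G) (α : L → ℂ) (F : G → ℂ)
    (B : Finset G) : ℂ :=
  (Nat.card (setNorm L B) : ℂ)⁻¹ *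
    ∑ k : L, if (k : G) ∈ setNorm L B then α k * conj (cosetAvg F (interH H B) k) else 0

theorem dadeTerm_int (hD : DadeHypothesis A L H) {α : L → ℂ} (hα : IsGeneralizedCharacter L α)
    {F : G → ℂ} (hF : IsGeneralizedCharacter G F) {B : Finset G} (hB : ↑B ⊆ A) :
    ∃ z : ℤ, dadeTerm L H α F B = z := by
  classical
  set N := setNorm L B with hN
  have hle : N ≤ L := inf_le_left
  have h1 : IsGeneralizedCharacter N (fun k : N => α ⟨k, hle k.2⟩) :=
    Char.IsGeneralizedCharacter.comp hα (Subgroup.inclusion hle)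
  have h2 := isGeneralizedCharacter_cosetAvg hF N (interH H B) fun n hn x hx =>
    (interH_conj hD hB (mem_setNorm.1 hn).1 (mem_setNorm.1 hn).2 x).1 hx
  obtain ⟨z, hz⟩ := Char.IsGeneralizedCharacter.exists_int_classInner h1 h2
  refine ⟨z, ?_⟩
  rw [← hz, dadeTerm, classInner, ← hN]
  congr 1
  rw [← Finset.sum_filter]
  refine Finset.sum_bij (fun k hk => (⟨(k : G), (Finset.mem_filter.1 hk).2⟩ : N))
    (fun _ _ => Finset.mem_univ _)
    (fun a _ b _ h => Subtype.ext (congrArg (fun r : N => (r : G)) h))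
    (fun b _ => ⟨⟨b, hle b.2⟩, Finset.mem_filter.2 ⟨Finset.mem_univ _, b.2⟩, rfl⟩) fun k hk => rfl

theorem dadeTerm_conj (hD : DadeHypothesis A L H) {α : L → ℂ} (hα : IsClassFunction L α)
    {F : G → ℂ} (hF : IsClassFunction G F) {B B' : Finset G} (hB : ↑B ⊆ A) (l : L)
    (hB' : ∀ y, y ∈ B ↔ (l : G) * y * (l : G)⁻¹ ∈ B') :
    dadeTerm L H α F B' = dadeTerm L H α F B := by
  classical
  have hN : ∀ x : G, x ∈ setNorm L B ↔ (l : G) * x * (l : G)⁻¹ ∈ setNorm L B' := by
    intro x
    rw [mem_setNorm, mem_setNorm]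
    refine and_congr ⟨fun h => mul_mem (mul_mem l.2 h) (inv_mem l.2), fun h => ?_⟩ ?_
    · simpa [mul_assoc] using mul_mem (mul_mem (inv_mem l.2) h) l.2
    · refine ((MulAut.conj (l : G)).toEquiv.forall_congr fun {y} => ?_)
      show (y ∈ B ↔ x * y * x⁻¹ ∈ B) ↔
        ((l : G) * y * (l : G)⁻¹ ∈ B' ↔
          (l : G) * x * (l : G)⁻¹ * ((l : G) * y * (l : G)⁻¹) * ((l : G) * x * (l : G)⁻¹)⁻¹ ∈ B')
      rw [hB' y, hB' (x * y * x⁻¹), show (l : G) * x * (l : G)⁻¹ * ((l : G) * y * (l : G)⁻¹) *
        ((l : G) * x * (l : G)⁻¹)⁻¹ = (l : G) * (x * y * x⁻¹) * (l : G)⁻¹ by group]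
  rw [dadeTerm, dadeTerm, Nat.card_congr ((MulAut.conj (l : G)).toEquiv.subtypeEquiv hN)]
  congr 1
  refine (Fintype.sum_equiv (MulAut.conj l).toEquiv _ _ fun k => ?_).symm
  show _ = if ((l * k * l⁻¹ : L) : G) ∈ setNorm L B' then _ else _
  rw [Subgroup.coe_mul, Subgroup.coe_mul, InvMemClass.coe_inv]
  rw [if_congr (hN (k : G)) rfl rfl]
  split_ifs with h
  · show _ = α (l * k * l⁻¹) * conj (cosetAvg F (interH H B') ((l : G) * k * (l : G)⁻¹))
    rw [hα k l, cosetAvg_map_conj hF (l : G) (k : G) (interH_conj hD hB l.2 hB')]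
  · rfl

/-- Peterfalvi (2.8): the Dade image of a generalized character is one. -/
theorem isGeneralizedCharacter_dadeIsometry (hD : DadeHypothesis A L H) {α : L → ℂ}
    (hα : IsGeneralizedCharacter L α) (hαA : ∀ x : L, (x : G) ∉ A → α x = 0) :
    IsGeneralizedCharacter G (dadeIsometry A L H α) := by
  classical
  have hαc := Char.IsGeneralizedCharacter.isClassFunction hα
  refine Char.isGeneralizedCharacter_iff.2 ⟨isClassFunction_dadeIsometry A L H α, fun ψ => ?_⟩
  set F := ψ.1 with hFdef
  have hFg : IsGeneralizedCharacter G F := Char.irr_isGeneralized ψ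
  have hFc := Char.IsGeneralizedCharacter.isClassFunction hFg
  have hterm : ∀ B : Finset G, ∃ z : ℤ, (↑B ⊆ A) → dadeTerm L H α F B = z := fun B => by
    by_cases h : ↑B ⊆ A
    · obtain ⟨z, hz⟩ := dadeTerm_int hD hα hFg h; exact ⟨z, fun _ => hz⟩
    · exact ⟨0, fun h' => absurd h' h⟩
  choose z hz using hterm
  set f : Finset G → ℤ := fun B =>
    if ↑B ⊆ A ∧ B.Nonempty then (-1) ^ (B.card + 1) * z B else 0 with hf
  letI := conjFinsetAction L
  have hsmul : ∀ (l : L) (B : Finset G) (y : G), y ∈ B ↔ (l : G) * y * (l : G)⁻¹ ∈ l • B := by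
    intro l B y
    show _ ↔ _ ∈ B.image _
    rw [Finset.mem_image]
    exact ⟨fun h => ⟨y, h, rfl⟩, fun ⟨b, hb, e⟩ => by rwa [← mul_left_cancel (mul_right_cancel e)]⟩
  have hinv : ∀ (l : L) (B : Finset G), f (l • B) = f B := by
    intro l B
    have hc : (l • B).card = B.card :=
      Finset.card_image_of_injective _ fun a b h => mul_left_cancel (mul_right_cancel h)
    have hsub : ↑(l • B) ⊆ A ↔ ↑B ⊆ A := by
      constructor
      · intro h b hb
        have := hD.conj_mem _ (inv_mem l.2) _ (h ((hsmul l B b).1 hb))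
        simpa [mul_assoc] using this
      · intro h y hy
        have hy0 : (l : G)⁻¹ * y * l ∈ B := (hsmul l B _).2 (by
          simpa [mul_assoc] using hy)
        simpa [mul_assoc] using hD.conj_mem _ l.2 _ (h hy0)
    have hne : (l • B).Nonempty ↔ B.Nonempty := Finset.image_nonempty
    simp only [hf, hsub, hne, hc]
    split_ifs with h
    · congr 1
      have e : (z (l • B) : ℂ) = z B := by
        rw [← hz _ (hsub.2 h.1), ← hz _ h.1, dadeTerm_conj hD hαc hFc h.1 l (hsmul l B)]
      exact_mod_cast e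
    · rfl
  have hst : ∀ B : Finset G, Nat.card (MulAction.stabilizer L B) = Nat.card (setNorm L B) := by
    intro B
    have hiff : ∀ l : L, l ∈ MulAction.stabilizer L B ↔ (l : G) ∈ setNorm L B := by
      intro l
      rw [MulAction.mem_stabilizer_iff, mem_setNorm]
      constructor
      · intro h; exact ⟨l.2, fun y => by rw [hsmul l B y, h]⟩
      · rintro ⟨-, h⟩
        ext y
        have e := (hsmul l B ((l : G)⁻¹ * y * l)).symm.trans (h _)
        simpa [mul_assoc] using e
    exact Nat.card_eq_of_bijective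
      (fun l : MulAction.stabilizer L B => (⟨((l : L) : G), (hiff l).1 l.2⟩ : setNorm L B))
      ⟨fun a b h => Subtype.ext (Subtype.ext (congrArg Subtype.val h :)),
        fun b => ⟨⟨⟨b, (mem_setNorm.1 b.2).1⟩, (hiff _).2 b.2⟩, rfl⟩⟩
  obtain ⟨q, hq⟩ := card_dvd_sum_stabilizer (M := L) f hinv
  refine ⟨q, ?_⟩
  have hL : (Nat.card L : ℂ) ≠ 0 := Nat.cast_ne_zero.2 Nat.card_pos.ne'
  -- the adjoint
  rw [classInner_dadeIsometry hD hαc hαA hFc (fun a : L => cosetAvg F (H (a : G)) a) fun a _ => rfl,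
    classInner]
  refine mul_left_cancel₀ hL ?_
  rw [← mul_assoc, mul_inv_cancel₀ hL, one_mul]
  rw [show (Nat.card L : ℂ) * (q : ℂ) = (((Nat.card L : ℤ) * q : ℤ) : ℂ) by push_cast; rfl, ← hq]
  push_cast
  set Bs := (univ : Finset (Finset G)).filter fun B => ↑B ⊆ A ∧ B.Nonempty with hBs
  have hexp : ∀ B : Finset G, (Nat.card (MulAction.stabilizer L B) : ℂ) * (f B : ℂ) =
      if ↑B ⊆ A ∧ B.Nonempty then (-1 : ℂ) ^ (B.card + 1) *
        (∑ k : L, if (k : G) ∈ setNorm L B then α k * conj (cosetAvg F (interH H B) k) else 0)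
      else 0 := by
    intro B
    simp only [hf, hst B]
    split_ifs with h
    · push_cast
      rw [← hz B h.1, dadeTerm]
      have : (Nat.card (setNorm L B) : ℂ) ≠ 0 := Nat.cast_ne_zero.2 Nat.card_pos.ne'
      field_simp
    · simp
  rw [Finset.sum_congr rfl fun B _ => hexp B, ← Finset.sum_filter, ← hBs]
  simp only [Finset.mul_sum]
  rw [Finset.sum_comm]
  refine Finset.sum_congr rfl fun k _ => ?_
  by_cases hkA : (k : G) ∈ A
  swap
  · simp [hαA k hkA]
  set g : Finset G → ℂ := fun B => (-1 : ℂ) ^ (B.card + 1) *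
    (if (k : G) ∈ setNorm L B then α k * conj (cosetAvg F (interH H (insert (k : G) B)) k) else 0)
    with hg
  have hrw : ∀ B ∈ Bs, (-1 : ℂ) ^ (B.card + 1) * (if (k : G) ∈ setNorm L B then
      α k * conj (cosetAvg F (interH H B) k) else 0) = g B := by
    intro B hB
    obtain ⟨hBA, hne⟩ := (Finset.mem_filter.1 hB).2
    simp only [hg]
    split_ifs with h
    · congr 3
      rw [interH_insert hD hBA hne hkA]
      obtain ⟨b, hb⟩ := hne
      refine cosetAvg_centralizer hFc _
        (fun x hx => (interH_conj hD hBA k.2 (mem_setNorm.1 h).2 x).1 hx) ?_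
      exact (dade_coprime_orderOf hD (hBA hb) hkA).coprime_dvd_left
        (Subgroup.card_dvd_of_le fun x hx => mem_interH.1 hx b hb)
    · rfl
  rw [Finset.sum_congr rfl hrw]
  have hsing : ({(k : G)} : Finset G) ∈ Bs := by simp [hBs, hkA]
  have hnk : ∀ B : Finset G, ((k : G) ∈ setNorm L (insert (k : G) B) ↔ (k : G) ∈ setNorm L B) ∨
      (k : G) ∈ B := by
    intro B
    by_cases h : (k : G) ∈ B
    · exact Or.inr h
    refine Or.inl ?_
    rw [mem_setNorm, mem_setNorm]
    refine and_congr_right fun _ => forall_congr' fun y => ?_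
    have hy : (k : G) * y * (k : G)⁻¹ = k ↔ y = k := by
      constructor
      · intro e
        calc y = (k : G)⁻¹ * ((k : G) * y * (k : G)⁻¹) * k := by group
          _ = k := by rw [e]; group
      · rintro rfl; group
    simp only [Finset.mem_insert, hy]
    by_cases e : y = (k : G)
    · subst e; simp [h]
    · simp [e]
  have hcancel : ∑ B ∈ Bs.erase {(k : G)}, g B = 0 := by
    refine Finset.sum_involution
      (fun B _ => if (k : G) ∈ B then B.erase (k : G) else insert (k : G) B) ?_ ?_ ?_ ?_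
    · intro B hB
      by_cases h : (k : G) ∈ B
      · simp only [if_pos h]
        have hins : insert (k : G) B = B := Finset.insert_eq_self.2 h
        have hins' : insert (k : G) (B.erase (k : G)) = B := Finset.insert_erase h
        have hmem : (k : G) ∈ setNorm L B ↔ (k : G) ∈ setNorm L (B.erase (k : G)) := by
          rcases hnk (B.erase (k : G)) with e | e
          · rw [hins'] at e; exact e
          · exact absurd e (Finset.notMem_erase _ _)
        simp only [hg, hins, hins', hmem]
        rw [show B.card = (B.erase (k : G)).card + 1 by rw [Finset.card_erase_add_one h]]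
        ring
      · simp only [if_neg h]
        have hmem := (hnk B).resolve_right h
        simp only [hg, Finset.insert_idem, hmem, Finset.card_insert_of_notMem h]
        ring
    · intro B _ _ e
      by_cases h : (k : G) ∈ B
      · rw [if_pos h] at e
        rw [← e] at h
        exact Finset.notMem_erase _ _ h
      · rw [if_neg h] at e
        exact h (e ▸ Finset.mem_insert_self _ _)
    · intro B hB
      obtain ⟨hne, hBm⟩ := Finset.mem_erase.1 hB
      obtain ⟨hBA, hnonempty⟩ := (Finset.mem_filter.1 hBm).2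
      by_cases h : (k : G) ∈ B
      · rw [if_pos h]
        have hne' : (B.erase (k : G)).Nonempty := by
          rw [Finset.nonempty_iff_ne_empty]
          intro e
          exact hne (by rw [← Finset.insert_erase h, e]; simp)
        refine Finset.mem_erase.2 ⟨fun e => ?_, Finset.mem_filter.2 ⟨Finset.mem_univ _,
          (Finset.coe_subset.2 (Finset.erase_subset _ _)).trans hBA, hne'⟩⟩
        exact Finset.notMem_erase (k : G) B (by rw [e]; exact Finset.mem_singleton_self _)
      · rw [if_neg h]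
        refine Finset.mem_erase.2 ⟨fun e => ?_, Finset.mem_filter.2 ⟨Finset.mem_univ _,
          by rw [Finset.coe_insert]; exact Set.insert_subset hkA hBA, Finset.insert_nonempty _ _⟩⟩
        obtain ⟨b, hb⟩ := hnonempty
        have : b ∈ ({(k : G)} : Finset G) := by rw [← e]; exact Finset.mem_insert_of_mem hb
        exact h (Finset.mem_singleton.1 this ▸ hb)
    · intro B _
      by_cases h : (k : G) ∈ B
      · simp only [if_pos h, Finset.notMem_erase, if_false, Finset.insert_erase h]
      · simp only [if_neg h, Finset.mem_insert_self, if_true, Finset.erase_insert h]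
  rw [← Finset.add_sum_erase _ _ hsing, hcancel, add_zero]
  have hmem : (k : G) ∈ setNorm L {(k : G)} := mem_setNorm.2 ⟨k.2, fun y => by
    simp only [Finset.mem_singleton]
    constructor
    · rintro rfl; group
    · intro e
      calc y = (k : G)⁻¹ * ((k : G) * y * (k : G)⁻¹) * k := by group
        _ = k := by rw [e]; group⟩
  have hH : interH H ({(k : G)} : Finset G) = H (k : G) := by
    ext x; simp [mem_interH]
  simp only [hg, Finset.insert_idem, if_pos hmem, Finset.card_singleton]
  rw [show insert (k : G) ({(k : G)} : Finset G) = {(k : G)} from Finset.insert_eq_self.2 (Finset.mem_singleton_self _), hH]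
  ring

end Cfsg.Agent.OddOrder
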