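import Cfsg.Agent.S0195
import Cfsg.Agent.S0196
import Cfsg.Agent.S0161
import Cfsg.Agent.S0198
import Cfsg.Agent.Lib.Char.Induction
import Cfsg.Agent.Lib.Char.Linear
import Cfsg.Agent.Lib.Char.Generalized
import Cfsg.Agent.Lib.Char.RealChar

/-!
# Exceptional characters attached to a subgroup that centralizes each of its nontrivial elements

`A` is the centralizer of each of its nontrivial elements and `N = N_G(A)`; the `N`-orbits of
nontrivial linear characters of `A` give rise to the exceptional characters of `G`.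
-/

set_option autoImplicit false

namespace Cfsg.Agent.OddOrder

open scoped ComplexConjugate
open Cfsg Cfsg.Agent.Char

variable {G : Type*} [Group G]

/-- `A` is the centralizer of each of its nontrivial elements. -/
def IsSelfCent (A : Subgroup G) : Prop :=
  ∀ x ∈ A, x ≠ 1 → Subgroup.centralizer ({x} : Set G) = A

theorem IsSelfCent.comm {A : Subgroup G} (hA : IsSelfCent A) {x y : G} (hx : x ∈ A) (hy : y ∈ A) :
    x * y = y * x := by
  by_cases hy1 : y = 1
  · simp [hy1]
  rw [← hA y hy hy1, Subgroup.mem_centralizer_singleton_iff] at hx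
  exact hx

/-- Conjugation by an element of the normalizer. -/
def normConj (A : Subgroup G) (n : Subgroup.normalizer (A : Set G)) : A ≃* A where
  toFun x := ⟨(n : G) * x * (n : G)⁻¹, (Subgroup.mem_normalizer_iff.mp n.2 x).mp x.2⟩
  invFun x := ⟨(n : G)⁻¹ * x * n, (Subgroup.mem_normalizer_iff''.mp n.2 x).mp x.2⟩
  left_inv x := Subtype.ext (by show (n : G)⁻¹ * ((n : G) * x * (n : G)⁻¹) * n = x; group)
  right_inv x := Subtype.ext (by show (n : G) * ((n : G)⁻¹ * x * n) * (n : G)⁻¹ = x; group)
  map_mul' x y := Subtype.ext (by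
    show (n : G) * ((x : G) * y) * (n : G)⁻¹ = (n : G) * x * (n : G)⁻¹ * ((n : G) * y * (n : G)⁻¹)
    group)

theorem normConj_one (A : Subgroup G) (x : A) : normConj A 1 x = x :=
  Subtype.ext (by simp [normConj])

theorem normConj_mul (A : Subgroup G) (m n : Subgroup.normalizer (A : Set G)) (x : A) :
    normConj A (m * n) x = normConj A m (normConj A n x) :=
  Subtype.ext (by simp [normConj, mul_assoc])

/-- The twist of a function on `A` by an element of the normalizer. -/
def twist (A : Subgroup G) (n : Subgroup.normalizer (A : Set G)) (f : A → ℂ) : A → ℂ :=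
  fun x => f (normConj A n x)

theorem twist_one (A : Subgroup G) (f : A → ℂ) : twist A 1 f = f :=
  funext fun x => by simp [twist, normConj_one]

theorem twist_mul (A : Subgroup G) (m n : Subgroup.normalizer (A : Set G)) (f : A → ℂ) :
    twist A (m * n) f = twist A n (twist A m f) :=
  funext fun x => by simp [twist, normConj_mul]

theorem twist_inv (A : Subgroup G) {n : Subgroup.normalizer (A : Set G)} {f f' : A → ℂ}
    (h : twist A n f = f') : twist A n⁻¹ f' = f := by
  rw [← h, ← twist_mul, mul_inv_cancel, twist_one]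

variable [Fintype G]

/-- The sum over the `N`-orbit of a function on `A` (each value taken once). -/
noncomputable def orbSum (A : Subgroup G) [Fintype (Subgroup.normalizer (A : Set G))] (f : A → ℂ) :
    A → ℂ :=
  (Nat.card A : ℂ)⁻¹ • ∑ n : Subgroup.normalizer (A : Set G), twist A n f

theorem orbSum_twist (A : Subgroup G) [Fintype (Subgroup.normalizer (A : Set G))]
    (m : Subgroup.normalizer (A : Set G)) (f : A → ℂ) : orbSum A (twist A m f) = orbSum A f := by
  unfold orbSum
  congr 1
  exact Fintype.sum_equiv (Equiv.mulLeft m) _ _ fun n => (twist_mul A m n f).symm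

theorem isIrrCharacter_twist (A : Subgroup G) (n : Subgroup.normalizer (A : Set G)) {f : A → ℂ}
    (hf : IsIrrCharacter A f) : IsIrrCharacter A (twist A n f) :=
  IsIrrCharacter.comp_surjective hf (normConj A n).toMonoidHom (normConj A n).surjective

section Local

variable {A : Subgroup G} (hA : IsSelfCent A)
include hA

theorem mem_normalizer_of_conj_mem {g x : G} (hx : x ∈ A) (hx1 : x ≠ 1)
    (hgx : g * x * g⁻¹ ∈ A) : g ∈ Subgroup.normalizer (A : Set G) := by
  by_contra hg
  exact hx1 (Cfsg.Agent.S0195.result A hA g hg x hx hgx)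

theorem indFun_apply_ne_one [Fintype (Subgroup.normalizer (A : Set G))] (f : A → ℂ) {x : A}
    (hx : x ≠ 1) : indFun A f (x : G) = orbSum A f x := by
  classical
  have hx1 : (x : G) ≠ 1 := fun h => hx (Subtype.ext h)
  simp only [indFun, orbSum, Pi.smul_apply, smul_eq_mul, Finset.sum_apply]
  congr 1
  have h0 : ∀ y : G, y ∉ Subgroup.normalizer (A : Set G) →
      extendByZero A f (y⁻¹ * (x : G) * y) = 0 := fun y hy =>
    extendByZero_of_notMem _ _ fun hm => hy (by
      simpa using inv_mem (mem_normalizer_of_conj_mem hA (g := y⁻¹) x.2 hx1 (by rwa [inv_inv])))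
  symm
  refine Fintype.sum_of_injective (fun n : Subgroup.normalizer (A : Set G) => ((n : G))⁻¹)
    (fun a b (h : ((a : G))⁻¹ = (b : G)⁻¹) => Subtype.ext (inv_inj.mp h)) _ _ ?_ ?_
  · intro y hy
    refine h0 y fun hm => hy ⟨⟨y⁻¹, inv_mem hm⟩, inv_inv y⟩
  · intro n
    rw [inv_inv, extendByZero_of_mem _ _ ((Subgroup.mem_normalizer_iff.mp n.2 (x : G)).mp x.2)]
    rfl

theorem eq_trivial_of_twist {lam : IrrCharacter A} {n : Subgroup.normalizer (A : Set G)}
    (hn : (n : G) ∉ A) (h : twist A n lam.1 = lam.1) : lam = trivialChar A := by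
  classical
  haveI : Finite A := inferInstance
  have hab : ∀ a b : A, a * b = b * a := fun a b => Subtype.ext (hA.comm a.2 b.2)
  obtain ⟨f, hf⟩ := IsCharacter.exists_monoidHom (irr_isCharacter lam) (apply_one_of_comm hab lam)
  let φ : A → A := fun x => x⁻¹ * normConj A n x
  have hφ : Function.Surjective φ := by
    refine Finite.surjective_of_injective fun x y hxy => ?_
    have h1 : normConj A n (y * x⁻¹) = y * x⁻¹ := by
      have h2 : normConj A n y = y * x⁻¹ * normConj A n x := by
        have h3 : x⁻¹ * normConj A n x = y⁻¹ * normConj A n y := hxy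
        rw [mul_assoc, h3, mul_inv_cancel_left]
      rw [map_mul, map_inv, h2]
      group
    by_contra hne
    have hz1 : ((y * x⁻¹ : A) : G) ≠ 1 := fun h4 => hne (mul_inv_eq_one.mp (Subtype.ext h4)).symm
    apply hn
    refine (hA _ (y * x⁻¹).2 hz1).le ?_
    rw [Subgroup.mem_centralizer_singleton_iff]
    exact mul_inv_eq_iff_eq_mul.mp (congrArg Subtype.val h1)
  refine Subtype.ext (funext fun z => ?_)
  obtain ⟨x, rfl⟩ := hφ z
  show lam.1 (x⁻¹ * normConj A n x) = 1
  rw [← hf, map_mul]
  have h5 : f (normConj A n x) = f x := by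
    rw [hf]; exact congrFun h x
  rw [h5, ← map_mul, inv_mul_cancel, map_one]

theorem card_twist_eq {lam : IrrCharacter A} (hlam : lam ≠ trivialChar A) {f : A → ℂ}
    (hex : ∃ n, twist A n lam.1 = f) :
    Nat.card {n : Subgroup.normalizer (A : Set G) // twist A n lam.1 = f} = Nat.card A := by
  obtain ⟨n₀, hn₀⟩ := hex
  have hstab : ∀ n : Subgroup.normalizer (A : Set G), twist A n lam.1 = lam.1 ↔ (n : G) ∈ A := by
    refine fun n => ⟨fun h => by_contra fun hn => hlam (eq_trivial_of_twist hA hn h), fun hn => ?_⟩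
    funext x
    refine congrArg lam.1 (Subtype.ext ?_)
    show (n : G) * x * (n : G)⁻¹ = x
    rw [hA.comm hn x.2, mul_inv_cancel_right]
  refine Nat.card_congr ?_
  refine
    { toFun := fun n => ⟨((n.1 * n₀⁻¹ : Subgroup.normalizer (A : Set G)) : G), ?_⟩
      invFun := fun a => ⟨⟨(a : G), Subgroup.le_normalizer a.2⟩ * n₀, ?_⟩
      left_inv := fun n => Subtype.ext (Subtype.ext (by simp))
      right_inv := fun a => Subtype.ext (by simp) }
  · exact (hstab _).mp (by rw [twist_mul, n.2, twist_inv A hn₀])
  · rw [twist_mul, (hstab _).mpr a.2, hn₀]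

theorem classInner_orbSum [Fintype A] [Fintype (Subgroup.normalizer (A : Set G))]
    {lam mu : IrrCharacter A} (hmu : mu ≠ trivialChar A)
    [Decidable (∃ n, twist A n mu.1 = lam.1)] :
    classInner lam.1 (orbSum A mu.1) = if ∃ n, twist A n mu.1 = lam.1 then 1 else 0 := by
  classical
  rw [orbSum, classInner_smul_right, classInner_sum_right, map_inv₀, map_natCast]
  have hval : ∀ n : Subgroup.normalizer (A : Set G), classInner lam.1 (twist A n mu.1) =
      if twist A n mu.1 = lam.1 then 1 else 0 := fun n => by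
    split_ifs with h
    · rw [h]; exact classInner_irr_self lam.2
    · exact classInner_irr_of_ne lam.2 (isIrrCharacter_twist A n mu.2) (Ne.symm h)
  rw [Finset.sum_congr rfl fun n _ => hval n, Finset.sum_boole, ← Fintype.card_subtype,
    ← Nat.card_eq_fintype_card]
  split_ifs with hex
  · rw [card_twist_eq hA hmu hex, inv_mul_cancel₀ (Nat.cast_ne_zero.2 Nat.card_pos.ne')]
  · haveI : IsEmpty {n : Subgroup.normalizer (A : Set G) // twist A n mu.1 = lam.1} :=
      ⟨fun n => hex ⟨n.1, n.2⟩⟩
    rw [Nat.card_of_isEmpty (α := {n : Subgroup.normalizer (A : Set G) // twist A n mu.1 = lam.1}),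
      Nat.cast_zero, mul_zero]

theorem twist_ne_trivial {lam : IrrCharacter A} (hlam : lam ≠ trivialChar A)
    (n : Subgroup.normalizer (A : Set G)) : twist A n lam.1 ≠ (trivialChar A).1 := fun h => by
  refine hlam (Subtype.ext (funext fun x => ?_))
  have := congrFun h ((normConj A n).symm x)
  simpa [twist] using this

/-- The index `e = [N_G(A) : A]`. -/
theorem card_normalizer :
    Nat.card (Subgroup.normalizer (A : Set G)) =
      Nat.card A * (A.subgroupOf (Subgroup.normalizer (A : Set G))).index := by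
  rw [← Subgroup.card_mul_index (A.subgroupOf (Subgroup.normalizer (A : Set G))),
    Nat.card_congr (Subgroup.subgroupOfEquivOfLe Subgroup.le_normalizer).toEquiv]

end Local

/-- The properties of the exceptional characters used downstream. -/
structure ExceptionalData (A : Subgroup G) (e s : ℕ) : Type _ where
  θ : Fin s → IrrCharacter G
  ε : ℤ
  δ : ℤ
  P : Fin s → A → ℂ
  inj : Function.Injective θ
  ε_eq : ε = 1 ∨ ε = -1
  const : ∀ χ : IrrCharacter G, χ ∉ Set.range θ → ∃ z : ℤ, ∀ x : A, x ≠ 1 → χ.1 (x : G) = z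
  value : ∀ i, ∀ x : A, x ≠ 1 → (θ i).1 (x : G) = δ + ε * P i x
  sum_P : ∀ x : A, x ≠ 1 → ∑ i, P i x = -1
  sum_sq_col : ∀ x : A, x ≠ 1 → ∑ i, P i x * conj (P i x) = (Nat.card A : ℂ) - e
  sum_P_row : ∀ i (t : Finset A), (∀ x, x ∈ t ↔ x ≠ 1) → ∑ x ∈ t, P i x = -(e : ℂ)
  sum_sq_row : ∀ i (t : Finset A), (∀ x, x ∈ t ↔ x ≠ 1) →
    ∑ x ∈ t, P i x * conj (P i x) = (Nat.card A : ℂ) * e - e * e
  off : ∀ i j, ∀ g : G, (∀ c : G, c⁻¹ * g * c ∉ A) → (θ i).1 g = (θ j).1 g
  off_one : ∀ i j, (θ i).1 1 = (θ j).1 1

theorem exists_exceptionalData {A : Subgroup G} (hA : IsSelfCent A) {e s : ℕ}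
    (he : (A.subgroupOf (Subgroup.normalizer (A : Set G))).index = e)
    (hs : s * e = Nat.card A - 1) (hs2 : 2 ≤ s) : Nonempty (ExceptionalData A e s) := by
  classical
  set N := Subgroup.normalizer (A : Set G) with hN
  have hab : ∀ a b : A, a * b = b * a := fun a b => Subtype.ext (hA.comm a.2 b.2)
  have hlin : ∀ lam : IrrCharacter A, lam.1 1 = 1 := fun lam => apply_one_of_comm hab lam
  have hcardA : Nat.card (IrrCharacter A) = Nat.card A := by
    rw [card_irr]
    refine (Nat.card_eq_of_bijective ConjClasses.mk ⟨fun a b h => ?_, ConjClasses.mk_surjective⟩).symm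
    obtain ⟨c, hc⟩ := isConj_iff.mp (ConjClasses.mk_eq_mk_iff_isConj.mp h)
    rw [← hc, hab c a, mul_inv_cancel_right]
  have hcardN : Nat.card N = Nat.card A * e := he ▸ card_normalizer hA
  -- the orbits of nontrivial characters
  let L := {lam : IrrCharacter A // lam ≠ trivialChar A}
  let r : Setoid L :=
    { r := fun a b => ∃ n, twist A n a.1.1 = b.1.1
      iseqv :=
        { refl := fun a => ⟨1, twist_one A _⟩
          symm := fun ⟨n, hn⟩ => ⟨n⁻¹, twist_inv A hn⟩
          trans := fun ⟨m, hm⟩ ⟨n, hn⟩ => ⟨m * n, by rw [twist_mul, hm, hn]⟩ } }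
  have hpos : 0 < e := by
    rw [← he]; exact Nat.pos_of_ne_zero Subgroup.index_ne_zero_of_finite
  have hLcard : Nat.card L = s * e := by
    rw [hs, ← hcardA, ← Nat.card_congr (Equiv.sumCompl (· = trivialChar A)), Nat.card_sum]
    simp [L]
  let tw : Quotient r × N → L := fun p =>
    ⟨⟨twist A p.2 p.1.out.1.1, isIrrCharacter_twist A p.2 p.1.out.1.2⟩,
      fun h => twist_ne_trivial hA p.1.out.2 p.2 (congrArg Subtype.val h)⟩
  haveI : Fintype (Quotient r) := Fintype.ofFinite _
  have htw : ∀ l : L, Nat.card {p : Quotient r × N // tw p = l} = Nat.card A := by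
    intro l
    have hrel : ∃ n, twist A n (Quotient.mk r l).out.1.1 = l.1.1 := Quotient.mk_out (s := r) l
    rw [← card_twist_eq hA (Quotient.mk r l).out.2 hrel]
    refine Nat.card_congr
      { toFun := fun p => ⟨p.1.2, ?_⟩
        invFun := fun n => ⟨(Quotient.mk r l, n.1), Subtype.ext (Subtype.ext n.2)⟩
        left_inv := fun p => ?_
        right_inv := fun n => rfl }
    · have hp := congrArg (fun t : L => t.1.1) p.2
      have hq : Quotient.mk r l = p.1.1 := by
        rw [← Quotient.out_eq p.1.1]
        exact (Quotient.sound (show ∃ n, twist A n p.1.1.out.1.1 = l.1.1 from ⟨p.1.2, hp⟩)).symm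
      rw [hq]; exact hp
    · refine Subtype.ext (Prod.ext ?_ rfl)
      show Quotient.mk r l = p.1.1
      rw [← Quotient.out_eq p.1.1]
      exact (Quotient.sound (show ∃ n, twist A n p.1.1.out.1.1 = l.1.1 from
        ⟨p.1.2, congrArg (fun t : L => t.1.1) p.2⟩)).symm
  have hQ : Nat.card (Quotient r) = s := by
    have h := Nat.card_congr (Equiv.sigmaFiberEquiv tw)
    rw [Nat.card_sigma, Finset.sum_congr rfl fun l _ => htw l, Finset.sum_const, Finset.card_univ,
      ← Nat.card_eq_fintype_card, hLcard, smul_eq_mul, Nat.card_prod, hcardN] at h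
    have h2 : Nat.card (Quotient r) * (Nat.card A * e) = s * (Nat.card A * e) := by
      rw [← h]; ring
    exact Nat.eq_of_mul_eq_mul_right (Nat.mul_pos Nat.card_pos hpos) h2
  let eQ : Fin s ≃ Quotient r := ((Finite.equivFin (Quotient r)).trans (finCongr hQ)).symm
  let rep : Fin s → L := fun i => (eQ i).out
  let orb : L → Fin s := fun l => eQ.symm (Quotient.mk r l)
  have horb : ∀ l, ∃ n, twist A n (rep (orb l)).1.1 = l.1.1 := fun l => by
    simp only [rep, orb, Equiv.apply_symm_apply]
    exact Quotient.mk_out (s := r) l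
  have horb_rep : ∀ i, orb (rep i) = i := fun i => by simp [rep, orb]
  have hrep : ∀ i j, (∃ n, twist A n (rep j).1.1 = (rep i).1.1) ↔ i = j := by
    refine fun i j => ⟨fun h => ?_, fun h => ⟨1, by rw [h, twist_one]⟩⟩
    have := Quotient.sound (s := r) (show ∃ n, twist A n (rep j).1.1 = (rep i).1.1 from h)
    rw [← horb_rep i, ← horb_rep j]
    exact congrArg eQ.symm this.symm
  let P : Fin s → A → ℂ := fun i => orbSum A (rep i).1.1
  let i₀ : Fin s := ⟨0, by omega⟩
  let D : Fin s → G → ℂ := fun i => indFun A (rep i).1.1 - indFun A (rep i₀).1.1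
  have hD1 : ∀ i, D i 1 = 0 := fun i => by
    simp [D, indFun_apply_one, hlin]
  have hP1 : ∀ i, P i 1 = e := fun i => by
    simp only [P, orbSum, Pi.smul_apply, Finset.sum_apply, smul_eq_mul, twist, map_one, hlin,
      Finset.sum_const, Finset.card_univ, nsmul_eq_mul, mul_one, ← Nat.card_eq_fintype_card]
    rw [hcardN, Nat.cast_mul, inv_mul_cancel_left₀ (Nat.cast_ne_zero.2 Nat.card_pos.ne')]
  have hDres : ∀ i, (fun x : A => D i x) = P i - P i₀ := by
    intro i
    funext x
    by_cases hx : x = 1
    · rw [hx]; show D i 1 = P i 1 - P i₀ 1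
      rw [hD1, hP1, hP1, sub_self]
    · show indFun A _ (x : G) - indFun A _ (x : G) = _
      rw [indFun_apply_ne_one hA _ hx, indFun_apply_ne_one hA _ hx]; rfl
  have hPinner : ∀ i j, classInner (rep i).1.1 (P j) = if i = j then 1 else 0 := fun i j => by
    rw [classInner_orbSum hA (rep j).2]
    simp only [hrep]
  have hgram : ∀ i j, i ≠ i₀ → j ≠ i₀ → classInner (D i) (D j) = if i = j then 2 else 1 := by
    intro i j hi hj
    have hcf : IsClassFunction G (D j) := fun a b => by
      simp only [D, Pi.sub_apply]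
      rw [isClassFunction_indFun, isClassFunction_indFun]
    rw [show D i = indFun A ((rep i).1.1 - (rep i₀).1.1) from (indFun_sub A _ _).symm,
      classInner_indFun A _ hcf, hDres, classInner_sub_left, classInner_sub_right,
      classInner_sub_right, hPinner, hPinner, hPinner, hPinner, if_neg hi, if_neg (Ne.symm hj),
      if_pos rfl]
    split_ifs <;> norm_num
  obtain ⟨εc, hεc, μ, hμ, hμi, hτ⟩ := Cfsg.Agent.S0198.result s i₀ D (sub_self _)
    (fun i => IsGeneralizedCharacter.sub
      (isGeneralizedCharacter_indFun A (irr_isGeneralized (rep i).1))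
      (isGeneralizedCharacter_indFun A (irr_isGeneralized (rep i₀).1))) hD1 hgram
  obtain ⟨ε, hε, hεe⟩ : ∃ ε : ℤ, (ε = 1 ∨ ε = -1) ∧ εc = ε := by
    rcases hεc with h | h
    · exact ⟨1, Or.inl rfl, by simp [h]⟩
    · exact ⟨-1, Or.inr rfl, by simp [h]⟩
  let θ : Fin s → IrrCharacter G := fun i => ⟨μ i, hμ i⟩
  have hθinj : Function.Injective θ := fun i j h => hμi (congrArg Subtype.val h)
  -- multiplicities in the restriction
  let m : IrrCharacter G → IrrCharacter A → ℂ := fun χ lam => classInner lam.1 (fun x : A => χ.1 x)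
  have hmint : ∀ χ lam, ∃ k : ℕ, m χ lam = k := fun χ lam =>
    IsCharacter.exists_nat_classInner (irr_isCharacter lam) (IsCharacter.restrict (irr_isCharacter χ) A)
  have hminv : ∀ χ lam n, m χ ⟨twist A n lam.1, isIrrCharacter_twist A n lam.2⟩ = m χ lam := by
    intro χ lam n
    simp only [m, classInner]
    congr 1
    refine Fintype.sum_equiv (normConj A n).toEquiv _ _ fun x => ?_
    show twist A n lam.1 x * conj (χ.1 x) = lam.1 (normConj A n x) * conj (χ.1 (normConj A n x : G))
    congr 2
    exact (IsCharacter.isClassFunction (irr_isCharacter χ) (x : G) (n : G)).symm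
  have hdiff : ∀ χ i, m χ (rep i).1 - m χ (rep i₀).1 =
      (ε : ℂ) * ((if θ i = χ then 1 else 0) - (if θ i₀ = χ then 1 else 0)) := by
    intro χ i
    simp only [m]
    rw [← classInner_indFun A _ (IsCharacter.isClassFunction (irr_isCharacter χ)),
      ← classInner_indFun A _ (IsCharacter.isClassFunction (irr_isCharacter χ)), ← classInner_sub_left]
    show classInner (D i) χ.1 = _
    rw [hτ i, classInner_smul_left, classInner_sub_left, hεe]
    rw [show μ i = (θ i).1 from rfl, show μ i₀ = (θ i₀).1 from rfl, classInner_irr, classInner_irr]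
  have hexp : ∀ (χ : IrrCharacter G) (x : A), x ≠ 1 → χ.1 (x : G) =
      m χ (trivialChar A) - (m χ (rep i₀).1 - ε * (if θ i₀ = χ then 1 else 0)) +
        ε * ∑ l : L, (if θ (orb l) = χ then 1 else 0) * l.1.1 x := by
    intro χ x hx
    have hm : ∀ l : L, m χ l.1 = (m χ (rep i₀).1 - ε * (if θ i₀ = χ then 1 else 0)) +
        ε * (if θ (orb l) = χ then 1 else 0) := fun l => by
      obtain ⟨n, hn⟩ := horb l
      have h1 := hminv χ (rep (orb l)).1 n
      rw [show (⟨twist A n (rep (orb l)).1.1, isIrrCharacter_twist A n (rep (orb l)).1.2⟩ :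
        IrrCharacter A) = l.1 from Subtype.ext hn] at h1
      rw [h1]
      linear_combination hdiff χ (orb l)
    have hreal : ∀ lam, classInner (fun x : A => χ.1 x) lam.1 = m χ lam := fun lam => by
      obtain ⟨k, hk⟩ := hmint χ lam
      rw [← conj_classInner]
      show conj (m χ lam) = m χ lam
      rw [hk, map_natCast]
    have hres := congrFun (eq_sum_classInner_smul
      (IsCharacter.isClassFunction (IsCharacter.restrict (irr_isCharacter χ) A))) x
    rw [Finset.sum_apply] at hres
    simp only [Pi.smul_apply, smul_eq_mul, hreal] at hres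
    rw [hres, Fintype.sum_eq_add_sum_subtype_ne _ (trivialChar A)]
    have hreg := sum_irr_degree_mul (G := A) x
    rw [if_neg hx, Fintype.sum_eq_add_sum_subtype_ne _ (trivialChar A)] at hreg
    simp only [hlin, one_mul] at hreg
    rw [show (trivialChar A).1 x = 1 from rfl] at hreg ⊢
    rw [Finset.sum_congr rfl fun (l : {l : IrrCharacter A // l ≠ trivialChar A}) _ =>
      congrArg (· * l.1.1 x) (hm l)]
    simp only [add_mul, Finset.sum_add_distrib, ← Finset.mul_sum, mul_assoc]
    linear_combination (m χ (rep i₀).1 - (ε : ℂ) * (if θ i₀ = χ then 1 else 0)) * hreg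
  have hsumorb : ∀ i (x : A), ∑ l : L, (if orb l = i then 1 else 0) * l.1.1 x = P i x := by
    intro i x
    simp only [P, orbSum, Pi.smul_apply, Finset.sum_apply, smul_eq_mul]
    rw [← Finset.sum_fiberwise Finset.univ
      (fun n : N => (tw (eQ i, n))) (fun n => twist A n (rep i).1.1 x), Finset.mul_sum]
    refine Finset.sum_congr rfl fun l _ => ?_
    have hfib : ∀ n ∈ Finset.univ.filter (fun n : N => tw (eQ i, n) = l),
        twist A n (rep i).1.1 x = l.1.1 x := fun n hn =>
      congrArg (fun t : L => t.1.1 x) (Finset.mem_filter.mp hn).2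
    rw [Finset.sum_congr rfl hfib, Finset.sum_const, nsmul_eq_mul, ← mul_assoc]
    congr 1
    have hsubt : (Finset.univ.filter (fun n : N => tw (eQ i, n) = l)).card =
        Nat.card {n : N // twist A n (rep i).1.1 = l.1.1} := by
      rw [← Fintype.card_subtype, ← Nat.card_eq_fintype_card]
      exact Nat.card_congr (Equiv.subtypeEquivRight fun n =>
        ⟨fun h => congrArg (fun t : L => t.1.1) h, fun h => Subtype.ext (Subtype.ext h)⟩)
    rw [hsubt]
    split_ifs with h
    · have hrel := horb l
      rw [h] at hrel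
      rw [card_twist_eq hA (rep i).2 hrel, inv_mul_cancel₀ (Nat.cast_ne_zero.2 Nat.card_pos.ne')]
    · haveI : IsEmpty {n : N // twist A n (rep i).1.1 = l.1.1} := ⟨fun n => h (by
        obtain ⟨k, hk⟩ := horb l
        exact (hrep (orb l) i).mp ⟨n.1 * k⁻¹, by rw [twist_mul, n.2, twist_inv A hk]⟩)⟩
      rw [Nat.card_of_isEmpty (α := {n : N // twist A n (rep i).1.1 = l.1.1}), Nat.cast_zero, mul_zero]
  have hval : ∀ i (x : A), x ≠ 1 → (θ i).1 (x : G) =
      m (θ i) (trivialChar A) - (m (θ i) (rep i₀).1 - ε * (if θ i₀ = θ i then 1 else 0)) +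
        ε * P i x := by
    intro i x hx
    rw [hexp (θ i) x hx, ← hsumorb i x]
    simp only [hθinj.eq_iff]
  obtain ⟨d, hd⟩ : ∃ d : ℤ, m (θ i₀) (trivialChar A) -
      (m (θ i₀) (rep i₀).1 - ε * (if θ i₀ = θ i₀ then 1 else 0)) = d := by
    obtain ⟨u, hu⟩ := hmint (θ i₀) (trivialChar A)
    obtain ⟨v, hv⟩ := hmint (θ i₀) (rep i₀).1
    exact ⟨u - v + ε, by rw [hu, hv, if_pos rfl]; push_cast; ring⟩
  refine ⟨
    { θ := θ, ε := ε, δ := d, P := P, inj := hθinj, ε_eq := hε
      const := ?_, value := ?_, sum_P := ?_, sum_sq_col := ?_, sum_P_row := ?_, sum_sq_row := ?_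
      off := ?_, off_one := ?_ }⟩
  · intro χ hχ
    obtain ⟨u, hu⟩ := hmint χ (trivialChar A)
    obtain ⟨v, hv⟩ := hmint χ (rep i₀).1
    refine ⟨(u : ℤ) - v, fun x hx => ?_⟩
    have h0 : ∀ i, ¬ θ i = χ := fun i h => hχ ⟨i, h⟩
    rw [hexp χ x hx, hu, hv]
    simp [h0]
  · intro i x hx
    have h1 := congrFun (hDres i) x
    have h2 := congrFun (hτ i) (x : G)
    have h3 := hval i₀ x hx
    rw [hd] at h3
    simp only [Pi.sub_apply, Pi.smul_apply, smul_eq_mul, hεe] at h1 h2
    rw [h1, show μ i = (θ i).1 from rfl, show μ i₀ = (θ i₀).1 from rfl, h3] at h2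
    have hε2 : (ε : ℂ) * ε = 1 := by rcases hε with h | h <;> simp [h]
    linear_combination (-(ε : ℂ)) * h2 + (-((θ i).1 (x : G)) + d + ε * P i₀ x) * hε2
  · intro x hx
    have hreg := sum_irr_degree_mul (G := A) x
    rw [if_neg hx, Fintype.sum_eq_add_sum_subtype_ne _ (trivialChar A)] at hreg
    simp only [hlin, one_mul] at hreg
    rw [show (trivialChar A).1 x = 1 from rfl] at hreg
    rw [← Finset.sum_congr rfl fun i _ => hsumorb i x, Finset.sum_comm]
    simp only [ite_mul, one_mul, zero_mul, Finset.sum_ite_eq, Finset.mem_univ, if_true]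
    linear_combination hreg
  · intro x hx
    have hcol : ∀ y : A, ∑ l : L, l.1.1 y * conj (l.1.1 x) =
        (if y = x then (Nat.card A : ℂ) else 0) - 1 := fun y => by
      have h := sum_irr_mul_conj y x
      rw [Fintype.sum_eq_add_sum_subtype_ne _ (trivialChar A)] at h
      have hc : IsConj y x ↔ y = x := by
        refine ⟨fun hyx => ?_, fun he => he ▸ IsConj.refl y⟩
        obtain ⟨c, hc⟩ := isConj_iff.mp hyx
        rw [← hc, hab c y, mul_inv_cancel_right]
      have hcent : Subgroup.centralizer ({x} : Set A) = ⊤ := eq_top_iff.mpr fun z _ =>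
        Subgroup.mem_centralizer_singleton_iff.mpr (hab z x)
      rw [hcent, Subgroup.card_top, show (trivialChar A).1 y = 1 from rfl,
        show (trivialChar A).1 x = 1 from rfl, map_one, mul_one] at h
      simp only [hc] at h
      linear_combination h
    have hPl : ∀ l : L, P (orb l) = orbSum A l.1.1 := fun l => by
      obtain ⟨n, hn⟩ := horb l
      rw [← hn, orbSum_twist]
    have e1 : ∑ i, P i x * conj (P i x) = ∑ l : L, P (orb l) x * conj (l.1.1 x) := by
      rw [← Finset.sum_fiberwise Finset.univ orb (fun l => P (orb l) x * conj (l.1.1 x))]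
      refine Finset.sum_congr rfl fun i _ => ?_
      conv_lhs => arg 2; rw [← hsumorb i x]
      rw [map_sum, Finset.mul_sum, Finset.sum_filter]
      refine Finset.sum_congr rfl fun l _ => ?_
      split_ifs with h
      · simp [h]
      · simp
    rw [e1]
    simp only [hPl, orbSum, Pi.smul_apply, Finset.sum_apply, smul_eq_mul, twist, mul_assoc,
      Finset.sum_mul, ← Finset.mul_sum]
    rw [Finset.sum_comm, Finset.sum_congr rfl fun n _ => hcol (normConj A n x), Finset.sum_sub_distrib,
      Finset.sum_ite, Finset.sum_const_zero, add_zero, Finset.sum_const, Finset.sum_const,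
      Finset.card_univ, nsmul_eq_mul, nsmul_eq_mul, mul_one, ← Fintype.card_subtype,
      ← Nat.card_eq_fintype_card, ← Nat.card_eq_fintype_card]
    have hst : Nat.card {n : N // normConj A n x = x} = Nat.card A := by
      refine Nat.card_congr
        { toFun := fun n => ⟨(n.1 : G), ?_⟩
          invFun := fun a => ⟨⟨(a : G), Subgroup.le_normalizer a.2⟩, Subtype.ext ?_⟩
          left_inv := fun n => rfl
          right_inv := fun a => rfl }
      · refine (hA _ x.2 fun h => hx (Subtype.ext h)).le ?_
        rw [Subgroup.mem_centralizer_singleton_iff]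
        exact mul_inv_eq_iff_eq_mul.mp (congrArg Subtype.val n.2)
      · show (a : G) * x * (a : G)⁻¹ = x
        rw [hA.comm a.2 x.2, mul_inv_cancel_right]
    rw [hst, hcardN]
    push_cast
    field_simp
  · intro i t ht
    have h0 : classInner (P i) (trivialChar A).1 = 0 := by
      rw [← conj_classInner, classInner_orbSum hA (rep i).2, if_neg, map_zero]
      rintro ⟨n, hn⟩
      exact twist_ne_trivial hA (rep i).2 n hn
    rw [classInner, mul_eq_zero] at h0
    have h := h0.resolve_left (inv_ne_zero (Nat.cast_ne_zero.2 Nat.card_pos.ne'))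
    simp only [show ∀ y, (trivialChar A).1 y = 1 from fun y => rfl, map_one, mul_one] at h
    have hins : (Finset.univ : Finset A) = insert 1 t := by
      ext x; simp [ht]; tauto
    rw [hins, Finset.sum_insert (by simp [ht]), hP1] at h
    linear_combination h
  · intro i t ht
    have hnorm : classInner (P i) (P i) = e := by
      have hre : classInner (P i) (P i) =
          (Nat.card A : ℂ)⁻¹ * ∑ n : N, classInner (twist A n (rep i).1.1) (P i) := by
        rw [show P i = (Nat.card A : ℂ)⁻¹ • ∑ n : N, twist A n (rep i).1.1 from rfl,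
          classInner_smul_left, classInner_sum_left]
      have hone : ∀ n : N, classInner (twist A n (rep i).1.1) (P i) = 1 := fun n =>
        (classInner_orbSum hA (lam := ⟨_, isIrrCharacter_twist A n (rep i).1.2⟩) (rep i).2).trans
          (if_pos ⟨n, rfl⟩)
      rw [hre, Finset.sum_congr rfl fun n _ => hone n, Finset.sum_const, Finset.card_univ,
        nsmul_eq_mul, mul_one, ← Nat.card_eq_fintype_card, hcardN, Nat.cast_mul,
        inv_mul_cancel_left₀ (Nat.cast_ne_zero.2 Nat.card_pos.ne')]
    rw [classInner, inv_mul_eq_iff_eq_mul₀ (Nat.cast_ne_zero.2 Nat.card_pos.ne')] at hnorm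
    have hins : (Finset.univ : Finset A) = insert 1 t := by
      ext x; simp [ht]; tauto
    rw [hins, Finset.sum_insert (by simp [ht]), hP1, map_natCast] at hnorm
    linear_combination hnorm
  · intro i j g hg
    have hz : ∀ k, D k g = 0 := fun k => by
      simp only [D, Pi.sub_apply]
      rw [indFun_eq_zero_of_forall_notMem A _ fun c => hg c,
        indFun_eq_zero_of_forall_notMem A _ fun c => hg c, sub_self]
    have hε0 : εc ≠ 0 := by rcases hεc with h | h <;> simp [h]
    have hk : ∀ k, μ k g = μ i₀ g := fun k => by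
      have h := congrFun (hτ k) g
      rw [hz k, Pi.smul_apply, smul_eq_mul, Pi.sub_apply] at h
      exact sub_eq_zero.mp ((mul_eq_zero.mp h.symm).resolve_left hε0)
    exact (hk i).trans (hk j).symm
  · intro i j
    have hε0 : εc ≠ 0 := by rcases hεc with h | h <;> simp [h]
    have hk : ∀ k, μ k 1 = μ i₀ 1 := fun k => by
      have h := congrFun (hτ k) 1
      rw [hD1 k, Pi.smul_apply, smul_eq_mul, Pi.sub_apply] at h
      exact sub_eq_zero.mp ((mul_eq_zero.mp h.symm).resolve_left hε0)
    exact (hk i).trans (hk j).symm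

end Cfsg.Agent.OddOrder
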