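import Cfsg.Agent.Lib.OddOrder.Sibley
import Cfsg.Agent.Lib.TIKernel.AbelianExceptional
import Cfsg.Agent.S1535

set_option autoImplicit false
set_option linter.unusedSectionVars false

/-! The Feit–Sibley theorem for TI subgroups containing the centralisers of their elements. -/

namespace Cfsg.Agent.OddOrder

universe u

variable {G : Type u} [Group G] [Fintype G] {K : Subgroup G}

theorem tiKernel_normal : (K.subgroupOf (Subgroup.normalizer (K : Set G))).Normal :=
  Subgroup.normal_in_normalizer

theorem tiKernel_centIn (hC : ∀ k ∈ K, k ≠ 1 → Subgroup.centralizer ({k} : Set G) ≤ K) :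
    CentIn (K.subgroupOf (Subgroup.normalizer (K : Set G))) := by
  intro k hk hk1 x hx
  rw [Subgroup.mem_centralizer_singleton_iff] at hx
  exact hC k hk (fun e => hk1 (Subtype.ext e))
    (Subgroup.mem_centralizer_singleton_iff.2 (congrArg Subtype.val hx))

variable [Fintype ↥(Subgroup.normalizer (K : Set G))]

theorem tiKernel_isometry (hTI : IsTISubset (K : Set G))
    (hC : ∀ k ∈ K, k ≠ 1 → Subgroup.centralizer ({k} : Set G) ≤ K) :
    IsLinearIsometryOn (zspanOn {χ : ↥(Subgroup.normalizer (K : Set G)) → ℂ |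
        IsIrrCharacter _ χ ∧ ∃ k ∈ K.subgroupOf (Subgroup.normalizer (K : Set G)), χ k ≠ χ 1} {1}ᶜ)
      (fun α => indFun (Subgroup.normalizer (K : Set G)) α) ∧
    ∀ α ∈ zspanOn {χ : ↥(Subgroup.normalizer (K : Set G)) → ℂ |
        IsIrrCharacter _ χ ∧ ∃ k ∈ K.subgroupOf (Subgroup.normalizer (K : Set G)), χ k ≠ χ 1} {1}ᶜ,
      indFun (Subgroup.normalizer (K : Set G)) α 1 = 0 := by
  haveI := tiKernel_normal (K := K)
  haveI : Fintype (K.subgroupOf (Subgroup.normalizer (K : Set G))) := Fintype.ofFinite _
  rw [← coe_kerChars (tiKernel_centIn hC)]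
  refine indFun_isometry_ti _ K hTI le_rfl _
    (fun φ hφ => Char.IsIrrCharacter.isCharacter ((mem_kerChars (tiKernel_centIn hC)).1 hφ).1) ?_
  intro φ hφ x hx
  obtain ⟨θ, -, rfl⟩ := mem_kerChars_iff.1 hφ
  exact Char.indFun_of_notMem_normal _ θ.1 hx

theorem one_lt_index (hlt : K < Subgroup.normalizer (K : Set G)) :
    1 < (K.subgroupOf (Subgroup.normalizer (K : Set G))).index :=
  Subgroup.one_lt_index_of_ne_top fun h => hlt.ne (le_antisymm hlt.le (Subgroup.subgroupOf_eq_top.1 h))

theorem subgroupOf_ne_bot (hK1 : K ≠ ⊥) : K.subgroupOf (Subgroup.normalizer (K : Set G)) ≠ ⊥ := by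
  intro h
  rw [Subgroup.subgroupOf_eq_bot, disjoint_iff, inf_eq_left.2 Subgroup.le_normalizer] at h
  exact hK1 h

/-- At least `e + 1` classes in the abelianised kernel. -/
theorem succ_le_index_commutator (hK1 : K ≠ ⊥) (hlt : K < Subgroup.normalizer (K : Set G))
    (hC : ∀ k ∈ K, k ≠ 1 → Subgroup.centralizer ({k} : Set G) ≤ K) :
    (K.subgroupOf (Subgroup.normalizer (K : Set G))).index + 1 ≤ (commutator K).index ∧
      (K.subgroupOf (Subgroup.normalizer (K : Set G))).index ∣ (commutator K).index - 1 := by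
  classical
  haveI := tiKernel_normal (K := K)
  set K' := K.subgroupOf (Subgroup.normalizer (K : Set G)) with hK'
  haveI : Fintype K' := Fintype.ofFinite _
  have hCI := tiKernel_centIn hC
  have e : K' ≃* K := Subgroup.subgroupOfEquivOfLe Subgroup.le_normalizer
  haveI hnil : Group.IsNilpotent K' := isNilpotent_of_cent hCI (subgroupOf_ne_bot hK1)
    fun h => by
      have := one_lt_index hlt
      rw [← hK', h, Subgroup.index_top] at this
      omega
  haveI : Nontrivial K' := (Subgroup.nontrivial_iff_ne_bot K').2 (subgroupOf_ne_bot hK1)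
  obtain ⟨E, hE, ρ, hρ⟩ := exists_free_action hCI
  haveI : Fintype E := Fintype.ofFinite _
  have h := ZassenhausFeit.succ_le_card_linear hρ ZassenhausFeit.commutator_ne_top
  have hc := card_kerChars_index_mul hCI
  have hl : (Finset.univ.filter fun θ : IrrCharacter K' => Char.degree θ = 1).card =
      (commutator K).index := by
    have hcard := Char.card_linear (G := K')
    rw [Nat.card_eq_fintype_card, Fintype.card_subtype] at hcard
    simp only [Char.apply_one_eq_degree, Nat.cast_eq_one] at hcard
    rw [hcard]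
    have hmap : (commutator K').map (e : K' →* K) = commutator K := by
      rw [commutator_def, commutator_def, Subgroup.map_commutator,
        Subgroup.map_top_of_surjective _ e.surjective]
    rw [← hmap]
    exact (Subgroup.index_map_eq _ e.surjective (by
      rw [(MonoidHom.ker_eq_bot_iff (e : K' →* K)).2 e.injective]; exact bot_le)).symm
  rw [← Nat.card_eq_fintype_card, hE, hl] at h
  rw [hl] at hc
  exact ⟨h, ⟨_, by rw [← hc, Nat.add_sub_cancel, mul_comm]⟩⟩

/-- The abelian case: a single character or coherence. -/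
theorem exceptional_or_coherent (hK1 : K ≠ ⊥) (hTI : IsTISubset (K : Set G))
    (hlt : K < Subgroup.normalizer (K : Set G))
    (hC : ∀ k ∈ K, k ≠ 1 → Subgroup.centralizer ({k} : Set G) ≤ K)
    (hcard : Nat.card K = (K.subgroupOf (Subgroup.normalizer (K : Set G))).index + 1) :
    Nat.card {χ : ↥(Subgroup.normalizer (K : Set G)) → ℂ // IsIrrCharacter _ χ ∧
        ∃ k : ↥(Subgroup.normalizer (K : Set G)), (k : G) ∈ K ∧ χ k ≠ χ 1} = 1 ∧
      ∃ p : ℕ, p.Prime ∧ IsElementaryAbelian p K := by
  classical
  haveI := tiKernel_normal (K := K)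
  set K' := K.subgroupOf (Subgroup.normalizer (K : Set G)) with hK'
  haveI : Fintype K' := Fintype.ofFinite _
  have hCI : CentIn K' := tiKernel_centIn hC
  have e : K' ≃* K := Subgroup.subgroupOfEquivOfLe Subgroup.le_normalizer
  have hcard' : Nat.card K' = K'.index + 1 := by rw [Nat.card_congr e.toEquiv, hcard]
  obtain ⟨hge, -⟩ := succ_le_index_commutator hK1 hlt hC
  rw [← hK'] at hge
  have hab : ∀ a b : K, a * b = b * a := by
    have h1 := (commutator K).card_mul_index
    have h2 : Nat.card (commutator K) = 1 := by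
      have : 0 < Nat.card (commutator K) := Nat.card_pos
      by_contra h
      have : 2 * (commutator K).index ≤ Nat.card (commutator K) * (commutator K).index :=
        Nat.mul_le_mul_right _ (by omega)
      omega
    exact ((commutator_eq_bot_iff K).1 (Subgroup.card_eq_one.1 h2)).is_comm.comm
  have hab' : ∀ a b : K', a * b = b * a := fun a b => e.injective (by rw [map_mul, map_mul, hab])
  have hdeg : ∀ θ : IrrCharacter K', Char.degree θ = 1 := fun θ => by
    have := Char.apply_one_of_comm hab' θ
    rwa [Char.apply_one_eq_degree, Nat.cast_eq_one] at this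
  constructor
  · have hc := card_kerChars_index_mul hCI
    rw [Finset.filter_true_of_mem (p := fun θ : IrrCharacter K' => Char.degree θ = 1)
        fun θ _ => hdeg θ, Finset.card_univ, ← Nat.card_eq_fintype_card, Char.card_irr,
      Finset.filter_true_of_mem (fun φ hφ => by
        obtain ⟨θ, -, rfl⟩ := mem_kerChars_iff.1 hφ
        rw [charDegree_indFun, hdeg θ, mul_one])] at hc
    have hconj : Nat.card (ConjClasses K') = Nat.card K' := by
      refine (Nat.card_congr (Equiv.ofBijective ConjClasses.mk ⟨fun a b h => ?_, ?_⟩)).symm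
      · obtain ⟨c, hc'⟩ := isConj_iff.1 (ConjClasses.mk_eq_mk_iff_isConj.1 h)
        rw [← hc', hab' c a, mul_inv_cancel_right]
      · exact ConjClasses.mk_surjective
    rw [hconj, hcard'] at hc
    have h1 : (kerChars K').card = 1 :=
      Nat.eq_of_mul_eq_mul_right (Nat.pos_of_ne_zero (Subgroup.index_ne_zero_of_finite (H := K')))
        (by omega)
    rw [← h1, ← Nat.card_eq_finsetCard]
    exact Nat.card_congr (Equiv.subtypeEquivRight fun φ => (mem_kerChars hCI).symm)
  · have hA : IsSelfCent K' := fun y hy hy1 =>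
      le_antisymm (hCI y hy hy1) fun z hz => Subgroup.mem_centralizer_singleton_iff.2
        (congrArg Subtype.val (hab' ⟨z, hz⟩ ⟨y, hy⟩))
    obtain ⟨p, hp, -, hpe⟩ := TIKernel.elementaryAbelian_of_card_eq hA hcard'
    refine ⟨p, hp, ⟨⟨fun a b => hab a b⟩⟩, fun a ha => ?_⟩
    simpa using congrArg Subtype.val (hpe ⟨a, Subgroup.le_normalizer ha⟩ ha)

/-- Feit: coherent, or a non-abelian Sylow `p`-subgroup with a small abelianisation. -/
theorem coherent_or_sylow (hK1 : K ≠ ⊥) (hTI : IsTISubset (K : Set G))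
    (hlt : K < Subgroup.normalizer (K : Set G))
    (hC : ∀ k ∈ K, k ≠ 1 → Subgroup.centralizer ({k} : Set G) ≤ K)
    (hcard : Nat.card K ≠ (K.subgroupOf (Subgroup.normalizer (K : Set G))).index + 1) :
    IsCoherent {χ : ↥(Subgroup.normalizer (K : Set G)) → ℂ | IsIrrCharacter _ χ ∧
        ∃ k : ↥(Subgroup.normalizer (K : Set G)), (k : G) ∈ K ∧ χ k ≠ χ 1} {1}ᶜ
        (fun α => indFun (Subgroup.normalizer (K : Set G)) α) ∨
      ∃ p : ℕ, p.Prime ∧ (∃ P : Sylow p G, (P : Subgroup G) = K) ∧ ¬ IsMulCommutative K ∧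
        (⁅K, K⁆.subgroupOf K).index ≤ 4 * (K.subgroupOf (Subgroup.normalizer (K : Set G))).index ^ 2 + 1 := by
  classical
  haveI := tiKernel_normal (K := K)
  obtain ⟨hiso, hone⟩ := tiKernel_isometry hTI hC
  have hne := one_lt_index hlt
  have e : K.subgroupOf (Subgroup.normalizer (K : Set G)) ≃* K :=
    Subgroup.subgroupOfEquivOfLe Subgroup.le_normalizer
  have hCI := tiKernel_centIn hC
  rcases S1535.result (K.subgroupOf (Subgroup.normalizer (K : Set G))) (subgroupOf_ne_bot hK1)
    (fun h => by rw [h, Subgroup.index_top] at hne; omega) hCI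
    (by rwa [Nat.card_congr e.toEquiv]) _ hiso hone with h | ⟨p, hp, ⟨m, hm⟩, hna, hidx⟩
  · exact Or.inl h
  refine Or.inr ⟨p, hp, ?_, fun h => hna ⟨⟨fun a b => e.injective (by
    rw [map_mul, map_mul]; exact h.is_comm.comm _ _)⟩⟩, ?_⟩
  · haveI := Fact.mk hp
    have hKp : IsPGroup p K := IsPGroup.of_card (n := m) (by rw [← Nat.card_congr e.toEquiv, hm])
    obtain ⟨P, hP⟩ := hKp.exists_le_sylow
    refine ⟨P, by_contra fun hne' => ?_⟩
    haveI : Group.IsNilpotent (P : Subgroup G) := P.isPGroup'.isNilpotent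
    have hlt' : K.subgroupOf (P : Subgroup G) < ⊤ := lt_top_iff_ne_top.2 fun h =>
      hne' (le_antisymm (Subgroup.subgroupOf_eq_top.1 h) hP)
    obtain ⟨⟨x, hxP⟩, hxN, hxK⟩ := SetLike.exists_of_lt
      (Group.normalizerCondition_of_isNilpotent _ hlt')
    have hxn : x ∈ Subgroup.normalizer (K : Set G) := by
      rw [Subgroup.mem_normalizer_iff] at hxN ⊢
      intro h
      constructor
      · intro hh
        exact (hxN ⟨h, hP hh⟩).1 hh
      · intro hh
        have hhP : x * h * x⁻¹ ∈ (P : Subgroup G) := hP hh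
        have : h ∈ (P : Subgroup G) := by
          simpa [mul_assoc] using mul_mem (mul_mem (inv_mem hxP) hhP) hxP
        exact (hxN ⟨h, this⟩).2 hh
    apply hxK
    have hq : (QuotientGroup.mk' (K.subgroupOf (Subgroup.normalizer (K : Set G))) ⟨x, hxn⟩) = 1 := by
      rw [← orderOf_eq_one_iff]
      obtain ⟨j, hj⟩ := P.isPGroup' ⟨x, hxP⟩
      have hdvd : orderOf (⟨x, hxn⟩ : Subgroup.normalizer (K : Set G)) ∣ p ^ j := by
        rw [orderOf_dvd_iff_pow_eq_one]
        exact Subtype.ext (by simpa using congrArg Subtype.val hj)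
      refine Nat.eq_one_of_dvd_coprimes ?_ ((orderOf_map_dvd _ _).trans hdvd)
        (orderOf_dvd_natCard _)
      have hm0 : m ≠ 0 := fun h0 => subgroupOf_ne_bot hK1 (Subgroup.card_eq_one.1 (by rw [hm, h0, pow_zero]))
      have hco := coprime_card_index_of_cent hCI
      rw [hm] at hco
      exact ((Nat.coprime_pow_left_iff (Nat.pos_of_ne_zero hm0) p _).1 hco).pow_left j
    exact (QuotientGroup.eq_one_iff (⟨x, hxn⟩ : Subgroup.normalizer (K : Set G))).1 hq
  · have key : ∀ {X : Type u} [Group X] (H : Subgroup X),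
        ⁅H, H⁆.subgroupOf H = commutator H := fun H => by
      apply Subgroup.map_injective H.subtype_injective
      rw [Subgroup.map_subgroupOf_eq_of_le (Subgroup.commutator_le_self H), Subgroup.map_subtype_commutator]
    rw [key] at hidx ⊢
    refine le_trans (le_of_eq ?_) hidx
    have hmap : (commutator (K.subgroupOf (Subgroup.normalizer (K : Set G)))).map
        (e : _ →* K) = commutator K := by
      rw [commutator_def, commutator_def, Subgroup.map_commutator,
        Subgroup.map_top_of_surjective _ e.surjective]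
    rw [← hmap]
    exact Subgroup.index_map_eq _ e.surjective (by
      rw [(MonoidHom.ker_eq_bot_iff (e : (K.subgroupOf (Subgroup.normalizer (K : Set G))) →* K)).2 e.injective]
      exact bot_le)

end Cfsg.Agent.OddOrder
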