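import Cfsg.Agent.Lib.OddOrder.TauTwoAbelian

/-!
# Coprime actions: tools for Bender–Glauberman 14.4 (c)
-/

set_option autoImplicit false
set_option linter.unusedSectionVars false
set_option linter.style.haveILetI false

namespace Cfsg.Agent.OddOrder

open Cfsg
open Subgroup (centralizer normalizer zpowers)
open scoped Pointwise commutatorElement

universe u
variable {G : Type u} [Group G] [Finite G]

theorem le_fittingOf_of_nilpotent {V : Subgroup G} (hV : Group.IsNilpotent V) : V ≤ fittingOf V := by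
  intro x hx
  haveI := hV
  have htop : (⊤ : Subgroup V) ≤ fittingSubgroup V := le_sSup
    ⟨inferInstance, Group.nilpotent_of_mulEquiv (Subgroup.topEquiv (G := V)).symm⟩
  exact ⟨⟨x, hx⟩, htop (Subgroup.mem_top _), rfl⟩

/-- `W = [b, W]` centralises a nilpotent group on which `b` is fixed-point-free. -/
theorem le_centralizer_of_fpf {P V W : Subgroup G} [Group.IsSolvable P] (hodd : Odd (Nat.card P))
    (hPV : P ≤ normalizer (V : Set G)) (hVP : V ≤ P) (hWP : W ≤ P) {b : G} (hbP : b ∈ P)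
    (hV : Group.IsNilpotent V) {p : ℕ} [Fact p.Prime] (hW : IsPGroup p W) (hbo : (orderOf b).Prime)
    (hbp : orderOf b ≠ p) (hbV : ¬ orderOf b ∣ Nat.card V) (hpV : ¬ p ∣ Nat.card V)
    (hbW : b ∈ normalizer (W : Set G)) (hWb : ⁅zpowers b, W⁆ = W)
    (hfix : V ⊓ centralizer ({b} : Set G) = ⊥) : W ≤ centralizer (V : Set G) := by
  refine Subgroup.le_centralizer_iff.1 ((le_fittingOf_of_nilpotent hV).trans
    (fittingOf_le_of_forall fun r hr => ?_))
  haveI := Fact.mk hr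
  refine Subgroup.le_centralizer_iff.1 ?_
  rcases eq_or_ne (pOf r V) ⊥ with e | e
  · rw [e]
    exact fun w _ => Subgroup.mem_centralizer_iff.2 fun a ha => by simp [Subgroup.mem_bot.1 ha]
  have hrV : r ∣ Nat.card V := by
    obtain ⟨k, hk⟩ := (isPGroup_pOf (r := r) V).exists_card_eq
    exact (dvd_pow_self r fun e' => e (Subgroup.card_eq_one.1 (by rw [hk, e', pow_zero]))).trans
      (hk ▸ Subgroup.card_dvd_of_le (pOf_le V))
  set R := (pOf r V).subgroupOf P with hR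
  set W' := W.subgroupOf P with hW'
  set b' : P := ⟨b, hbP⟩ with hb'
  have hb'o : orderOf b' = orderOf b := (Subgroup.orderOf_coe b').symm
  haveI : R.Normal := Coprime.normal_subgroupOf_of_le_normalizer (hPV.trans (normalizer_le_normalizer_pOf V))
  have hW'p : IsPGroup p W' := hW.comap_subtype
  have key := le_centralizer_of_fpf_frattini hodd R W' (r := r) (isPGroup_pOf V).comap_subtype b'
    (hb'o ▸ hbo) (fun e' => hbV (hb'o ▸ e' ▸ hrV)) ?_ ?_ ?_ ?_ ?_
  · intro w hw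
    refine Subgroup.mem_centralizer_iff.2 fun a ha => ?_
    exact congrArg Subtype.val (Subgroup.mem_centralizer_iff.1
      (key (show (⟨w, hWP hw⟩ : P) ∈ W' from hw)) ⟨a, hVP (pOf_le V ha)⟩ ha)
  · refine Subgroup.mem_normalizer_iff.2 fun a => ?_
    exact Subgroup.mem_normalizer_iff.1 hbW a
  · obtain ⟨k, hk⟩ := hW'p.exists_card_eq
    rw [hb'o, hk]
    exact ((Nat.coprime_primes hbo Fact.out).2 hbp).pow_right k
  · obtain ⟨k, hk⟩ := hW'p.exists_card_eq
    rw [hk]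
    exact fun hd => hpV ((Nat.prime_dvd_prime_iff_eq hr Fact.out).1 (hr.dvd_of_dvd_pow hd) ▸ hrV)
  · refine Subgroup.map_injective P.subtype_injective ?_
    rw [Subgroup.map_commutator, MonoidHom.map_zpowers, hW', Subgroup.map_subgroupOf_eq_of_le hWP]
    exact hWb
  · refine eq_bot_iff.2 fun y hy => ?_
    have h2 : (y : G) ∈ V ⊓ centralizer ({b} : Set G) := ⟨pOf_le V hy.1,
      Subgroup.mem_centralizer_singleton_iff.2 (congrArg Subtype.val (Subgroup.mem_centralizer_singleton_iff.1 hy.2))⟩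
    rw [hfix, Subgroup.mem_bot] at h2
    exact Subgroup.mem_bot.2 (Subtype.ext h2)

/-- `C_H(B) ≤ H'` when `H = [H, B]`. -/
theorem inf_centralizer_le_derived_of_commutator {H B : Subgroup G} [H.Normal] (hcop : (Nat.card B).Coprime (Nat.card H))
    (hHB : ⁅H, B⁆ = H) : H ⊓ centralizer (B : Set G) ≤ ⁅H, H⁆ := by
  intro h hh
  set f := QuotientGroup.mk' ⁅H, H⁆ with hf
  haveI : IsMulCommutative (H.map f) := PGroup.isMulCommutative_of_forall fun a ha c hc => by
    obtain ⟨a, ha, rfl⟩ := ha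
    obtain ⟨c, hc, rfl⟩ := hc
    rw [← commutatorElement_eq_one_iff_mul_comm, ← map_commutatorElement]
    exact (QuotientGroup.eq_one_iff _).2 (Subgroup.commutator_mem_commutator ha hc)
  have h1 := Coprime.inf_centralizer_inf_commutator_eq_bot (A := B.map f) (V := H.map f)
    ((Subgroup.map_mono (PLengthCommutator.le_normalizer_of_normal : B ≤ normalizer (H : Set G))).trans
      (Subgroup.le_normalizer_map f))
    ((hcop.coprime_dvd_left (Subgroup.card_map_dvd _ _)).coprime_dvd_right (Subgroup.card_map_dvd _ _))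
  rw [← Subgroup.map_commutator, hHB, inf_assoc, inf_comm (centralizer _), ← inf_assoc, inf_idem] at h1
  have h2 : f h ∈ H.map f ⊓ centralizer ((B.map f : Subgroup _) : Set (G ⧸ ⁅H, H⁆)) := by
    refine ⟨Subgroup.mem_map_of_mem f hh.1, Subgroup.mem_centralizer_iff.2 ?_⟩
    rintro _ ⟨a, ha, rfl⟩
    rw [← map_mul, ← map_mul, Subgroup.mem_centralizer_iff.1 hh.2 a ha]
  rw [h1, Subgroup.mem_bot] at h2
  exact (QuotientGroup.eq_one_iff h).1 h2

/-- A perfect-by-action `H = [H, B]` dies if `z` has no fixed points on `H / H'` and `C_B(z)`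
centralises `H`. -/
theorem eq_bot_of_fixed_le_derived [Group.IsSolvable G] (hodd : Odd (Nat.card G)) {H B : Subgroup G}
    [H.Normal] {z : G} {p : ℕ} [Fact p.Prime] (hB : IsPGroup p B) (hpH : ¬ p ∣ Nat.card H)
    (hzo : (orderOf z).Prime) (hzp : orderOf z ≠ p) (hzH : ¬ orderOf z ∣ Nat.card H)
    (hzB : z ∈ normalizer (B : Set G)) (hHB : ⁅H, B⁆ = H)
    (hfix : H ⊓ centralizer ({z} : Set G) ≤ ⁅H, H⁆)
    (hC : B ⊓ centralizer ({z} : Set G) ≤ centralizer (H : Set G)) : H = ⊥ := by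
  classical
  set f := QuotientGroup.mk' ⁅H, H⁆ with hf
  haveI : Group.IsSolvable (G ⧸ ⁅H, H⁆) :=
    Group.isSolvable_of_surjective (QuotientGroup.mk'_surjective _)
  set V := H.map f with hV
  haveI hVc : IsMulCommutative V := PGroup.isMulCommutative_of_forall fun a ha c hc => by
    obtain ⟨a, ha, rfl⟩ := ha
    obtain ⟨c, hc, rfl⟩ := hc
    rw [← commutatorElement_eq_one_iff_mul_comm, ← map_commutatorElement]
    exact (QuotientGroup.eq_one_iff _).2 (Subgroup.commutator_mem_commutator ha hc)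
  haveI : V.Normal := Subgroup.Normal.map inferInstance f (QuotientGroup.mk'_surjective _)
  set Z := zpowers z with hZ
  have hZB : Z ≤ normalizer (B : Set G) := Subgroup.zpowers_le.2 hzB
  have hcopZB : (Nat.card Z).Coprime (Nat.card B) := by
    obtain ⟨k, hk⟩ := hB.exists_card_eq
    rw [hk, hZ, Nat.card_zpowers]
    exact ((Nat.coprime_primes hzo Fact.out).2 hzp).pow_right k
  have hZs : Group.IsSolvable Z := inferInstance
  have hcopZH : (Nat.card Z).Coprime (Nat.card H) := by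
    rw [hZ, Nat.card_zpowers]; exact hzo.coprime_iff_not_dvd.2 hzH
  have hzo' : orderOf (f z) = orderOf z := ((Nat.dvd_prime hzo).1 (orderOf_map_dvd f z)).resolve_left fun h => by
    have h1 : z ∈ H := Subgroup.commutator_le_self H ((QuotientGroup.eq_one_iff z).1 (orderOf_eq_one_iff.1 h))
    exact hzH (Subgroup.orderOf_dvd_natCard H h1)
  set W := ⁅B, Z⁆ with hW
  have hWB : W ≤ B := Coprime.commutator_le_left_of_le_normalizer hZB
  have hWn : z ∈ normalizer (W : Set G) := Subgroup.normalizer_commutator_ge_right B Z (Subgroup.mem_zpowers z)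
  have key : W.map f ≤ centralizer (V : Set (G ⧸ ⁅H, H⁆)) := by
    refine le_centralizer_of_fpf (P := ⊤) (p := p) (b := f z) ?_ ?_ le_top le_top (Subgroup.mem_top _) ?_
      ((hB.to_le hWB).map f) (hzo' ▸ hzo) (hzo' ▸ hzp) ?_ ?_ (Subgroup.le_normalizer_map f (Subgroup.mem_map_of_mem f hWn)) ?_ ?_
    · rw [Subgroup.card_top]
      exact hodd.of_dvd_nat (Subgroup.card_quotient_dvd_card _)
    · exact PLengthCommutator.le_normalizer_of_normal
    · exact @CommGroup.isNilpotent _ { (inferInstance : Group V) with mul_comm := fun a b => hVc.is_comm.comm a b }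
    · exact fun hd => hzH (hzo' ▸ hd.trans (Subgroup.card_map_dvd _ _))
    · exact fun hd => hpH (hd.trans (Subgroup.card_map_dvd _ _))
    · have hWW : ⁅zpowers z, W⁆ = W :=
        (Subgroup.commutator_comm _ _).trans (Coprime.commutator_commutator_eq hZB hcopZB (Or.inl hZs))
      rw [← MonoidHom.map_zpowers, ← Subgroup.map_commutator, hWW]
    · rw [eq_bot_iff]
      intro v hv
      have h2 : v ∈ V ⊓ centralizer ((Z.map f : Subgroup _) : Set (G ⧸ ⁅H, H⁆)) := ⟨hv.1, by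
        rw [hZ, MonoidHom.map_zpowers, Subgroup.zpowers_eq_closure, Subgroup.centralizer_closure]
        exact hv.2⟩
      rw [hV, ← Coprime.map_mk'_inf_centralizer _ PLengthCommutator.le_normalizer_of_normal hcopZH
        (Or.inl hZs)] at h2
      obtain ⟨h, hh, rfl⟩ := h2
      rw [Subgroup.mem_bot]
      refine (QuotientGroup.eq_one_iff h).2 (hfix ⟨hh.1, ?_⟩)
      exact Subgroup.centralizer_le (Set.singleton_subset_iff.2 (Subgroup.mem_zpowers z)) hh.2
  have hBV : B.map f ≤ centralizer (V : Set (G ⧸ ⁅H, H⁆)) := by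
    rw [← Coprime.commutator_sup_centralizer hZB hcopZB (Or.inl hZs), Subgroup.map_sup]
    refine sup_le key ?_
    rintro _ ⟨c, hc, rfl⟩
    refine Subgroup.mem_centralizer_iff.2 ?_
    rintro _ ⟨h, hh, rfl⟩
    rw [← map_mul, ← map_mul, Subgroup.mem_centralizer_iff.1
      (hC ⟨hc.1, Subgroup.centralizer_le (Set.singleton_subset_iff.2 (Subgroup.mem_zpowers z)) hc.2⟩) h hh]
  have h1 : ⁅H, B⁆.map f = ⊥ := by
    rw [Subgroup.map_commutator]
    exact Subgroup.commutator_eq_bot_iff_le_centralizer.2 (Subgroup.le_centralizer_iff.1 hBV)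
  have h2 : H ≤ ⁅H, H⁆ := by
    rw [hHB, Subgroup.map_eq_bot_iff, hf, QuotientGroup.ker_mk'] at h1
    exact h1
  by_contra hne
  haveI : Nontrivial H := (Subgroup.nontrivial_iff_ne_bot H).2 hne
  refine (IsSolvable.commutator_lt_top_of_nontrivial H).ne (Subgroup.map_injective H.subtype_injective ?_)
  rw [Subgroup.map_subtype_commutator, ← MonoidHom.range_eq_map, Subgroup.range_subtype]
  exact le_antisymm (Subgroup.commutator_le_self H) h2

/-- A square of `r`-elements acting faithfully on a square at another prime has a scalar element. -/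
theorem exists_scalar {p r : ℕ} [Fact p.Prime] [Fact r.Prime] (hrp : r ≠ p) {A B : Subgroup G}
    (hA : IsElementaryAbelian p A) (hAc : Nat.card A = p ^ 2) (hB : IsElementaryAbelian r B)
    (hBc : Nat.card B = r ^ 2) (hBA : B ≤ normalizer (A : Set G))
    (hfix : B ⊓ centralizer (A : Set G) = ⊥) :
    ∃ b ∈ B, b ≠ 1 ∧ ∀ a ∈ A, b * a * b⁻¹ ∈ zpowers a := by
  classical
  have hp : p.Prime := Fact.out
  haveI := hA.1
  haveI := hB.1
  have hcop : (Nat.card B).Coprime (Nat.card A) := by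
    rw [hBc, hAc]; exact ((Nat.coprime_primes Fact.out hp).2 hrp).pow 2 2
  obtain ⟨b₁, hb₁, hb₁1, hne⟩ : ∃ b ∈ B, b ≠ 1 ∧ A ⊓ centralizer ({b} : Set G) ≠ ⊥ := by
    by_contra h
    push Not at h
    exact square_ne_bot hA hAc (Coprime.eq_of_forall_centralizer_le (square_not_cyclic hB hBc) hBA hcop
      bot_le fun a ha ha1 => (h a ha ha1).le).symm
  set Y₁ := A ⊓ centralizer ({b₁} : Set G) with hY₁
  set Y₂ := ⁅A, zpowers b₁⁆ with hY₂
  have hzA : zpowers b₁ ≤ normalizer (A : Set G) := Subgroup.zpowers_le.2 (hBA hb₁)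
  have hcop₁ : (Nat.card (zpowers b₁)).Coprime (Nat.card A) :=
    hcop.coprime_dvd_left (Subgroup.card_dvd_of_le (Subgroup.zpowers_le.2 hb₁))
  have hYB₁ : B ≤ normalizer (Y₁ : Set G) := square_inf_centralizer_le_normalizer hB hBA hb₁
  have hYB₂ : B ≤ normalizer (Y₂ : Set G) := by
    intro b hb
    rw [Subgroup.mem_normalizer_iff_map_conj_eq, hY₂, Subgroup.map_commutator,
      Subgroup.mem_normalizer_iff_map_conj_eq.1 (hBA hb), MonoidHom.map_zpowers]
    congr 2
    show b * b₁ * b⁻¹ = b₁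
    rw [PGroup.mul_comm_of_elementaryAbelian hB hb hb₁, mul_inv_cancel_right]
  have hY₂A : Y₂ ≤ A := Coprime.commutator_le_left_of_le_normalizer hzA
  have hY₂1 : Y₂ ≠ ⊥ := fun e => by
    refine hb₁1 (Subgroup.mem_bot.1 (hfix ▸ ⟨hb₁, ?_⟩))
    have h1 : zpowers b₁ ≤ centralizer (A : Set G) := Coprime.le_centralizer_iff_commutator_eq_bot.2 e
    exact h1 (Subgroup.mem_zpowers b₁)
  have hinf : Y₁ ⊓ Y₂ = ⊥ := by
    have h1 := Coprime.inf_centralizer_inf_commutator_eq_bot hzA hcop₁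
    rwa [Subgroup.zpowers_eq_closure b₁, Subgroup.centralizer_closure, ← Subgroup.zpowers_eq_closure] at h1
  obtain ⟨a₁, ha₁, ha₁1⟩ := (Subgroup.bot_or_exists_ne_one _).resolve_left hne
  obtain ⟨a₂, ha₂, ha₂1⟩ := (Subgroup.bot_or_exists_ne_one _).resolve_left hY₂1
  have h12 : a₂ ∉ zpowers a₁ := fun h => ha₂1 (Subgroup.mem_bot.1
    (hinf ▸ ⟨Subgroup.zpowers_le.2 ha₁ h, ha₂⟩))
  have h21 : a₁ ∉ zpowers a₂ := fun h => ha₁1 (Subgroup.mem_bot.1
    (hinf ▸ ⟨ha₁, Subgroup.zpowers_le.2 ha₂ h⟩))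
  have hsup := square_eq_sup hA hAc ha₁.1 ha₁1 (hY₂A ha₂) h12
  have hline : ∀ {Y : Subgroup G} {a b' : G}, Y ≤ A → a ∈ Y → a ≠ 1 → b' ∈ A → b' ∉ Y →
      Y = zpowers a := by
    intro Y a b' hYA ha ha1 hb' hb'Y
    refine (Subgroup.eq_of_le_of_card_ge (Subgroup.zpowers_le.2 ha) ?_).symm
    rw [card_zpowers_eq (hA.2 a (hYA ha)) ha1]
    obtain ⟨i, hi, hi'⟩ := (Nat.dvd_prime_pow hp).1 (hAc ▸ Subgroup.card_dvd_of_le hYA)
    rw [hi']
    rcases lt_or_eq_of_le hi with hlt | rfl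
    · exact (Nat.pow_le_pow_right hp.pos (show i ≤ 1 by omega)).trans_eq (pow_one p)
    · exact absurd ((Subgroup.eq_of_le_of_card_ge hYA (by rw [hAc, hi'])).ge hb') hb'Y
  have he₁ : Y₁ = zpowers a₁ := hline inf_le_left ha₁ ha₁1 (hY₂A ha₂) fun h =>
    ha₂1 (Subgroup.mem_bot.1 (hinf ▸ ⟨h, ha₂⟩))
  have he₂ : Y₂ = zpowers a₂ := hline hY₂A ha₂ ha₂1 ha₁.1 fun h =>
    ha₁1 (Subgroup.mem_bot.1 (hinf ▸ ⟨ha₁, h⟩))
  -- exponents
  have hexp : ∀ a : G, a ∈ A → a ≠ 1 → B ≤ normalizer (zpowers a : Set G) → ∀ b ∈ B,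
      ∃ m : ZMod p, m ^ r = 1 ∧ b * a * b⁻¹ = a ^ m.val := by
    intro a ha ha1 hn b hb
    obtain ⟨i, hi⟩ := (Subgroup.mem_normalizer_iff.1 (hn hb) a).1 (Subgroup.mem_zpowers a)
    have hao : orderOf a = p := orderOf_eq_prime (hA.2 a ha) ha1
    have hval : b * a * b⁻¹ = a ^ ((i : ZMod p)).val := by
      rw [← hi, ← zpow_natCast, ZMod.val_intCast]
      show a ^ i = a ^ (i % (p : ℤ))
      rw [← hao, zpow_mod_orderOf]
    refine ⟨(i : ZMod p), ?_, hval⟩
    have hpow : ∀ n : ℕ, b ^ n * a * (b ^ n)⁻¹ = a ^ ((i : ZMod p).val ^ n) := by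
      intro n
      induction n with
      | zero => simp
      | succ n ih =>
        rw [pow_succ' b, show b * b ^ n * a * (b * b ^ n)⁻¹ = b * (b ^ n * a * (b ^ n)⁻¹) * b⁻¹ by group,
          ih, ← conj_pow, hval, ← pow_mul, pow_succ']
    have h1 := hpow r
    rw [hB.2 b hb] at h1
    simp only [one_mul, inv_one, mul_one] at h1
    have h2' := pow_eq_pow_iff_modEq.1
      (show a ^ ((i : ZMod p).val ^ r) = a ^ 1 by rw [pow_one]; exact h1.symm)
    have h2 : (i : ZMod p).val ^ r ≡ 1 [MOD p] := hao ▸ h2'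
    have h3 := (ZMod.natCast_eq_natCast_iff _ _ _).2 h2
    simpa using h3
  set R := {m : ZMod p // m ^ r = 1} with hR
  have hm₁ := hexp a₁ ha₁.1 ha₁1 (he₁ ▸ hYB₁)
  have hm₂ := hexp a₂ (hY₂A ha₂) ha₂1 (he₂ ▸ hYB₂)
  let φ : B → R × R := fun b =>
    (⟨(hm₁ b b.2).choose, (hm₁ b b.2).choose_spec.1⟩, ⟨(hm₂ b b.2).choose, (hm₂ b b.2).choose_spec.1⟩)
  have hφ : ∀ b : B, (b : G) * a₁ * (b : G)⁻¹ = a₁ ^ ((φ b).1 : ZMod p).val ∧
      (b : G) * a₂ * (b : G)⁻¹ = a₂ ^ ((φ b).2 : ZMod p).val :=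
    fun b => ⟨(hm₁ b b.2).choose_spec.2, (hm₂ b b.2).choose_spec.2⟩
  have hinj : Function.Injective φ := by
    intro b c he
    have h : ∀ a : G, (b : G) * a * (b : G)⁻¹ = (c : G) * a * (c : G)⁻¹ →
        a ∈ centralizer ({(c : G)⁻¹ * b} : Set G) := fun a e => by
      refine Subgroup.mem_centralizer_singleton_iff.2 ?_
      calc a * ((c : G)⁻¹ * b) = (c : G)⁻¹ * ((c : G) * a * (c : G)⁻¹) * b := by group
        _ = (c : G)⁻¹ * b * a := by rw [← e]; group
    have hA' : A ≤ centralizer ({(c : G)⁻¹ * b} : Set G) := by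
      rw [← hsup]
      refine sup_le (Subgroup.zpowers_le.2 (h a₁ ?_)) (Subgroup.zpowers_le.2 (h a₂ ?_))
      · rw [(hφ b).1, (hφ c).1, he]
      · rw [(hφ b).2, (hφ c).2, he]
    have h2 : (c : G)⁻¹ * b ∈ B ⊓ centralizer (A : Set G) := ⟨B.mul_mem (B.inv_mem c.2) b.2,
      Subgroup.mem_centralizer_iff.2 fun a ha => Subgroup.mem_centralizer_singleton_iff.1 (hA' ha)⟩
    rw [hfix, Subgroup.mem_bot, inv_mul_eq_one] at h2
    exact Subtype.ext h2.symm
  have hRr : Nat.card R ≤ r := by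
    rw [Nat.card_eq_fintype_card]
    refine le_trans ?_ ((Multiset.toFinset_card_le _).trans (Polynomial.card_nthRoots r (1 : ZMod p)))
    rw [Fintype.card_subtype]
    refine Finset.card_le_card fun m hm => ?_
    rw [Multiset.mem_toFinset, Polynomial.mem_nthRoots (Fact.out : r.Prime).pos]
    exact (Finset.mem_filter.1 hm).2
  have hcard := Nat.card_le_card_of_injective φ hinj
  rw [hBc, Nat.card_prod, sq] at hcard
  have hr1 : 1 < r := (Fact.out : r.Prime).one_lt
  have hReq : Nat.card R = r := le_antisymm hRr (by nlinarith)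
  have hbij := (Nat.bijective_iff_injective_and_card φ).2 ⟨hinj, by rw [hBc, Nat.card_prod, hReq, sq]⟩
  obtain ⟨m, hm⟩ : ∃ m : R, (m : ZMod p) ≠ 1 := by
    by_contra h
    push Not at h
    haveI : Subsingleton R := ⟨fun a b => Subtype.ext ((h a).trans (h b).symm)⟩
    have := Finite.card_le_one_iff_subsingleton.2 (inferInstance : Subsingleton R)
    omega
  obtain ⟨b, hb⟩ := hbij.2 (m, m)
  obtain ⟨e₁, e₂⟩ := hφ b
  rw [hb] at e₁ e₂
  refine ⟨b, b.2, fun e => hm ?_, fun a ha => ?_⟩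
  · rw [e, one_mul, inv_one, mul_one] at e₁
    have h2' := pow_eq_pow_iff_modEq.1
      (show a₁ ^ (m : ZMod p).val = a₁ ^ 1 by rw [pow_one]; exact e₁.symm)
    have h2 : (m : ZMod p).val ≡ 1 [MOD p] := orderOf_eq_prime (hA.2 a₁ ha₁.1) ha₁1 ▸ h2'
    simpa using (ZMod.natCast_eq_natCast_iff _ _ _).2 h2
  · obtain ⟨_, ⟨i, rfl⟩, _, ⟨j, rfl⟩, rfl⟩ := (Coprime.mem_sup_iff_of_le_normalizer
      (Subgroup.zpowers_le.2 (Subgroup.centralizer_le_normalizer _ (Subgroup.mem_centralizer_iff.2 fun c hc =>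
        PGroup.mul_comm_of_elementaryAbelian hA (Subgroup.zpowers_le.2 (hY₂A ha₂) hc) ha₁.1)))).1
      (hsup.ge ha : a ∈ zpowers a₁ ⊔ zpowers a₂)
    refine Subgroup.mem_zpowers_iff.2 ⟨((m : ZMod p).val : ℤ), ?_⟩
    have hc : Commute (a₁ ^ i) (a₂ ^ j) :=
      PGroup.mul_comm_of_elementaryAbelian hA (A.zpow_mem ha₁.1 i) (A.zpow_mem (hY₂A ha₂) j)
    show (a₁ ^ i * a₂ ^ j) ^ ((m : ZMod p).val : ℤ) = (b : G) * (a₁ ^ i * a₂ ^ j) * (b : G)⁻¹
    rw [hc.mul_zpow, ← zpow_mul, ← zpow_mul, mul_comm i, mul_comm j, zpow_mul, zpow_mul, zpow_natCast,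
      zpow_natCast, ← e₁, ← e₂, conj_zpow, conj_zpow]
    group

end Cfsg.Agent.OddOrder
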