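import Cfsg.Agent.Lib.OddOrder.TauTwo
import Cfsg.Agent.Lib.OddOrder.SylowSetting
import Cfsg.Agent.S1451

/-!
# Bender–Glauberman 12.7: `p ∈ τ₂(M)` with nonabelian Sylow `p`-subgroups in `G`
-/

set_option autoImplicit false
set_option linter.unusedSectionVars false

namespace Cfsg.Agent.OddOrder

open Cfsg
open Subgroup (centralizer normalizer zpowers)
open scoped Pointwise commutatorElement

universe u
variable {G : Type u} [Group G] [Finite G] {p : ℕ} [Fact p.Prime]

/-- The Sylow subgroup of `G` over `A ≤ M`, a `p`-element outside `M` normalising `A`, and the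
central line it fixes. -/
structure MovingData (p : ℕ) (M A : Subgroup G) (R : Sylow p G) (n z : G) : Prop where
  le : A ≤ (R : Subgroup G)
  mem : n ∈ (R : Subgroup G)
  not_mem : n ∉ M
  normalizes : n ∈ normalizer (A : Set G)
  normalizes_inf : n ∈ normalizer (((R : Subgroup G) ⊓ M : Subgroup G) : Set G)
  sylow_le : ∀ T : Sylow p M, (R : Subgroup G) ⊓ M ≤ (T : Subgroup M).map M.subtype →
    (T : Subgroup M).map M.subtype ≤ (R : Subgroup G)
  central_mem : z ∈ A
  central_ne : z ≠ 1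
  central : (R : Subgroup G) ≤ centralizer ({z} : Set G)
  central_fpf : sigmaCore M ⊓ centralizer ({z} : Set G) = ⊥
  fix : ∀ a ∈ A, Commute n a → a ∈ zpowers z
  shift : ∀ a ∈ A, n * a * n⁻¹ * a⁻¹ ∈ zpowers z

/-- The elements of order `p` of a complement lie in `A`. -/
theorem Exc.mem_of_compl {M A A₀ : Subgroup G} (h : Exc p M A A₀) {E : Subgroup G}
    (hE : IsComplIn E (sigmaCore M) M) (hAE : A ≤ E) {x : G} (hx : x ∈ E) (hxp : x ^ p = 1) : x ∈ A := by
  have hxP : IsPGroup p (zpowers x) := by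
    obtain ⟨i, -, hi⟩ := (Nat.dvd_prime_pow (Fact.out : p.Prime)).1
      (show orderOf x ∣ p ^ 1 by rw [pow_one]; exact orderOf_dvd_of_pow_eq_one hxp)
    exact IsPGroup.of_card (n := i) (by rw [Nat.card_zpowers, hi])
  obtain ⟨S, hS⟩ := exists_sylow_map_ge
    (hxP.to_sup_of_normal_right' (PGroup.isPGroup_of_elementaryAbelian h.elem)
      ((Subgroup.zpowers_le.2 hx).trans (h.complement_le_normalizer hE hAE)))
    (sup_le ((Subgroup.zpowers_le.2 hx).trans hE.1) h.le)
  exact h.mem_of_sylow S (le_sup_right.trans hS) (hS (Subgroup.mem_sup_left (Subgroup.mem_zpowers x))) hxp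

theorem Exc.exists_movingData_sylow {M A A₀ : Subgroup G} (h : Exc p M A A₀)
    (hS : ∀ S : Sylow p G, ¬ IsMulCommutative (S : Subgroup G)) (S : Sylow p M)
    (hAS : A ≤ (S : Subgroup M).map M.subtype) :
    ∃ (R : Sylow p G) (n z : G), MovingData p M A R n z ∧ (S : Subgroup M).map M.subtype ≤ (R : Subgroup G) := by
  set P := (S : Subgroup M).map M.subtype with hP
  have hPp : IsPGroup p P := S.2.map _
  have hPM : P ≤ M := Subgroup.map_subtype_le _
  obtain ⟨R, hPR⟩ := hPp.exists_le_sylow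
  have hlt : P < (R : Subgroup G) := lt_of_le_of_ne hPR fun e =>
    hS R (e ▸ PGroup.isMulCommutative_of_forall (h.sylow_comm S hAS))
  obtain ⟨n, ⟨hnR, hnP⟩, hnP'⟩ := SetLike.exists_of_lt (lt_inf_normalizer R.2.isNilpotent hlt)
  obtain ⟨T, hT⟩ := exists_sylow_map_ge (R.2.to_le inf_le_left : IsPGroup p ↥((R : Subgroup G) ⊓ M)) inf_le_right
  have eP : (R : Subgroup G) ⊓ M = P := le_antisymm (by
    have e : P = (T : Subgroup M).map M.subtype := Subgroup.eq_of_le_of_card_ge
      ((le_inf hPR hPM).trans hT) (by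
        rw [hP, Subgroup.card_map_of_injective M.subtype_injective, Subgroup.card_map_of_injective M.subtype_injective,
          T.card_eq_multiplicity, S.card_eq_multiplicity])
    exact hT.trans e.ge) (le_inf hPR hPM)
  have hnM : n ∉ M := fun hm => hnP' (eP.le ⟨hnR, hm⟩)
  have hΩ : omegaOne p P = A := le_antisymm
    (PGroup.omegaOne_le_iff.2 fun x hx hxp => h.mem_of_sylow S hAS hx hxp)
    fun a ha => PGroup.mem_omegaOne_of_pow_eq_one (hAS ha) (h.elem.2 a ha)
  have hnA : n ∈ normalizer (A : Set G) := by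
    have h1 := normalizer_le_normalizer_omegaOne p P hnP
    rwa [hΩ] at h1
  have hAR : A ≤ (R : Subgroup G) := hAS.trans hPR
  obtain ⟨z, hzR, hz1, hzp, hzc⟩ := exists_central_pow_eq_one R.2 fun e =>
    square_ne_bot h.elem h.card (le_bot_iff.1 (e ▸ hAR))
  have hzA : z ∈ A := h.setting.hmax z (Subgroup.mem_centralizer_iff.2 fun a ha =>
    Subgroup.mem_centralizer_singleton_iff.1 (hzc (hAR ha))) hzp
  have hnz : Commute n z := Subgroup.mem_centralizer_singleton_iff.1 (hzc hnR)
  refine ⟨R, n, z, ⟨hAR, hnR, hnM, hnA, eP.symm ▸ hnP, fun T' hT' => ?_, hzA, hz1, hzc, ?_, fun a ha hna => ?_, fun a ha => ?_⟩, hPR⟩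
  · rw [← Subgroup.eq_of_le_of_card_ge hT' (by
      rw [eP, hP, Subgroup.card_map_of_injective M.subtype_injective, Subgroup.card_map_of_injective M.subtype_injective,
        T'.card_eq_multiplicity, S.card_eq_multiplicity])]
    exact inf_le_left
  · refine h.setting.sigmaCore_inf_centralizer_eq_bot hPM hPp hAS hnM hnP hz1 (hPR.trans hzc) ?_
    rw [show n * z * n⁻¹ = z by rw [hnz.eq, mul_inv_cancel_right]]
  · by_contra hne
    refine hnM (h.centralizer_le (Subgroup.mem_centralizer_iff.2 fun b hb => ?_))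
    exact (commute_of_sup hnz hna ((square_eq_sup h.elem h.card hzA hz1 ha hne).ge hb)).symm.eq
  · exact mul_conj_inv_mem_zpowers h.elem h.card (R.2.to_le (Subgroup.zpowers_le.2 hnR)) hnA hzA hz1 hnz ha

theorem Exc.exists_movingData {M A A₀ : Subgroup G} (h : Exc p M A A₀)
    (hS : ∀ S : Sylow p G, ¬ IsMulCommutative (S : Subgroup G)) :
    ∃ (R : Sylow p G) (n z : G), MovingData p M A R n z := by
  obtain ⟨S, hAS⟩ := h.exists_sylow
  obtain ⟨R, n, z, hd, -⟩ := h.exists_movingData_sylow hS S hAS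
  exact ⟨R, n, z, hd⟩

/-- Squares of a complement at distinct primes centralise each other. -/
theorem Exc.le_centralizer_square {M A A₀ : Subgroup G} (h : Exc p M A A₀) {q : ℕ} [Fact q.Prime]
    {B B₀ : Subgroup G} (h' : Exc q M B B₀) (hqp : q ≠ p) {E : Subgroup G}
    (hE : IsComplIn E (sigmaCore M) M) (hAE : A ≤ E) (hBE : B ≤ E) : B ≤ centralizer (A : Set G) :=
  le_centralizer_of_normalize
    (inf_eq_bot_of_pgroup hqp (PGroup.isPGroup_of_elementaryAbelian h'.elem) (PGroup.isPGroup_of_elementaryAbelian h.elem))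
    (hBE.trans (h.complement_le_normalizer hE hAE)) (hAE.trans (h'.complement_le_normalizer hE hBE))

/-- A second `τ₂`-prime cannot be smaller than `p`. -/
theorem Exc.false_of_lt {M A A₀ : Subgroup G} (h : Exc p M A A₀)
    (hS : ∀ S : Sylow p G, ¬ IsMulCommutative (S : Subgroup G)) {q : ℕ} [Fact q.Prime] (hqp : q < p)
    {B B₀ : Subgroup G} (h' : Exc q M B B₀) {E : Subgroup G} (hE : IsComplIn E (sigmaCore M) M)
    (hAE : A ≤ E) (hBE : B ≤ E) : False := by
  have hG := h.minSimple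
  obtain ⟨R, n, z, hd⟩ := h.exists_movingData hS
  have hBA := h.le_centralizer_square h' hqp.ne hE hAE hBE
  have hnB : n ∈ normalizer (B : Set G) := by
    refine Coprime.mem_normalizer_of_conj_smul_eq (Subgroup.eq_of_le_of_card_ge ?_ (Coprime.card_conj_smul _ _).ge)
    intro y hy
    have hyA : y ∈ centralizer (A : Set G) := by
      have := (Subgroup.pointwise_smul_le_pointwise_smul_iff.2 hBA : MulAut.conj n • B ≤ _) hy
      rwa [Coprime.conj_smul_eq_self_of_mem (Coprime.le_normalizer_centralizer le_rfl hd.normalizes)] at this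
    have hyE : y ∈ E := by
      rw [← h.inf_normalizer_eq hE hAE]
      exact ⟨h.centralizer_le hyA, Subgroup.centralizer_le_normalizer _ hyA⟩
    refine h'.mem_of_compl hE hBE hyE ?_
    rw [Coprime.mem_conj_smul_iff] at hy
    have h2 := h'.elem.2 _ hy
    have h3 : (n⁻¹ * y * n⁻¹⁻¹) ^ q = 1 := by rwa [inv_inv]
    rwa [conj_pow, mul_inv_eq_one, mul_eq_left] at h3
  obtain ⟨Y, hY1, hYA, hYn⟩ := S1416.omega_center h.setting.hmax R hd.le (square_ne_bot h.elem h.card)
  obtain ⟨L, hL, hNL⟩ := exists_coatom_ge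
    (normalizer_ne_top_of_pgroup hG ((PGroup.isPGroup_of_elementaryAbelian h.elem).to_le hYA) hY1)
  have hRL : (R : Subgroup G) ≤ L := Subgroup.le_normalizer.trans (hYn.trans hNL)
  have hBL : B ≤ L := hBA.trans ((Subgroup.centralizer_le hYA).trans ((Subgroup.centralizer_le_normalizer _).trans hNL))
  haveI := isSolvable_of_coatom hG hL
  haveI : (pPrimeCore q ↥L).Normal := PCore.pPrimeCore_normal
  obtain ⟨-, -, -, -, hkey⟩ := S1414.result hG L hL
  obtain ⟨-, -, hq2⟩ := hkey q Fact.out ((square_dvd_card h'.elem h'.card).trans (Subgroup.card_dvd_of_le hBL))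
    fun hb => not_ideal_of_square h'.elem h'.card h'.setting.hmax hb.2
  have hRK : (R : Subgroup G) ≤ OddOrder.core q L :=
    le_map_of_not_dvd_index hRL R.2 fun hdv => absurd (hq2 p Fact.out hdv) (by omega)
  have hnC : n ∈ centralizer (B : Set G) := by
    refine Subgroup.mem_centralizer_iff.2 fun b hb => ?_
    have hKn : L ≤ normalizer (OddOrder.core q L : Set G) := le_normalizer_core L
    have h1 : n * b * n⁻¹ * b⁻¹ ∈ B ⊓ OddOrder.core q L := by
      refine ⟨B.mul_mem ((Subgroup.mem_normalizer_iff.1 hnB b).1 hb) (B.inv_mem hb), ?_⟩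
      have := (OddOrder.core q L).mul_mem (hRK hd.mem)
        ((Subgroup.mem_normalizer_iff.1 (hKn (hBL hb)) n⁻¹).1 ((OddOrder.core q L).inv_mem (hRK hd.mem)))
      simpa [mul_assoc] using this
    have hdis : B ⊓ OddOrder.core q L = ⊥ := Coprime.disjoint_of_coprime_card
      (coprime_of_isPGroup (PGroup.isPGroup_of_elementaryAbelian h'.elem) fun hdv =>
        (Fact.out : q.Prime).coprime_iff_not_dvd.1 (coprime_card_core (p := q) L).symm hdv)
    rw [hdis, Subgroup.mem_bot, mul_inv_eq_one, mul_inv_eq_iff_eq_mul] at h1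
    exact h1.symm
  exact hd.not_mem (h'.centralizer_le hnC)

/-- BG 12.7 (a): `τ₂(M) = {p}`. -/
theorem Exc.not_second_prime {M A A₀ : Subgroup G} (h : Exc p M A A₀)
    (hS : ∀ S : Sylow p G, ¬ IsMulCommutative (S : Subgroup G)) {q : ℕ} [Fact q.Prime] (hqp : q ≠ p)
    {B B₀ : Subgroup G} (h' : Exc q M B B₀) {E : Subgroup G} (hE : IsComplIn E (sigmaCore M) M)
    (hAE : A ≤ E) (hBE : B ≤ E) : False := by
  have hG := h.minSimple
  rcases lt_or_gt_of_ne hqp with hlt | hlt
  · exact h.false_of_lt hS hlt h' hE hAE hBE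
  by_cases hSq : ∀ S : Sylow q G, ¬ IsMulCommutative (S : Subgroup G)
  · exact h'.false_of_lt hSq hlt h hE hBE hAE
  -- abelian Sylow `q`-subgroups
  push Not at hSq
  obtain ⟨S₀, hS₀⟩ := hSq
  have hBq := PGroup.isPGroup_of_elementaryAbelian h'.elem
  obtain ⟨Q, hBQ⟩ := hBq.exists_le_sylow
  have hQc : IsMulCommutative (Q : Subgroup G) := by
    obtain ⟨g, hg⟩ := MulAction.exists_smul_eq G S₀ Q
    refine PGroup.isMulCommutative_of_forall fun x hx y hy => ?_
    rw [← hg, Sylow.coe_subgroup_smul, Coprime.mem_conj_smul_iff] at hx hy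
    have h1 := congrArg (fun w => g * w * g⁻¹) (PGroup.mul_comm_of_isMulCommutative hS₀ hx hy)
    simpa [mul_assoc] using h1
  have hQB : (Q : Subgroup G) ≤ centralizer (B : Set G) := fun x hx => Subgroup.mem_centralizer_iff.2 fun b hb =>
    PGroup.mul_comm_of_isMulCommutative hQc (hBQ hb) hx
  have hQE : (Q : Subgroup G) ≤ E := by
    rw [← h'.inf_normalizer_eq hE hBE]
    exact le_inf (hQB.trans h'.centralizer_le) (hQB.trans (Subgroup.centralizer_le_normalizer _))
  have hQA : (Q : Subgroup G) ≤ centralizer (A : Set G) := by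
    intro x hx
    obtain ⟨k, hk⟩ := Q.2 ⟨x, hx⟩
    haveI : Group.IsSolvable E := Coprime.isSolvable_of_le hE.1 (isSolvable_of_coatom hG h.coatom)
    haveI : (A.subgroupOf E).Normal :=
      Coprime.normal_subgroupOf_of_le_normalizer (h.complement_le_normalizer hE hAE)
    have h2 := S1451.mem_centralizer_of_lt (G := E) (odd_subgroup hG.1 E) (Fact.out : q.Prime) hlt
      (A.subgroupOf E) (PGroup.isPGroup_of_elementaryAbelian h.elem).comap_subtype
      (fun C _ _ => by
        refine C.card_le_card_group.trans (le_of_eq ?_)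
        rw [Coprime.card_subgroupOf hAE, h.card])
      (x := (⟨x, hQE hx⟩ : E)) (k := k) (Subtype.ext (congrArg Subtype.val hk :))
    exact Subgroup.mem_centralizer_iff.2 fun a ha =>
      congrArg Subtype.val (Subgroup.mem_centralizer_iff.1 h2 ⟨a, hAE ha⟩ ha)
  obtain ⟨R, n, z, hd⟩ := h.exists_movingData hS
  obtain ⟨Y, hY1, hYA, hYn⟩ := S1416.omega_center h.setting.hmax R hd.le (square_ne_bot h.elem h.card)
  obtain ⟨L, hL, hNL⟩ := exists_coatom_ge
    (normalizer_ne_top_of_pgroup hG ((PGroup.isPGroup_of_elementaryAbelian h.elem).to_le hYA) hY1)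
  have hNRL : normalizer ((R : Subgroup G) : Set G) ≤ L := hYn.trans hNL
  have hRL : (R : Subgroup G) ≤ L := Subgroup.le_normalizer.trans hNRL
  have hQL : (Q : Subgroup G) ≤ L :=
    hQA.trans ((Subgroup.centralizer_le hYA).trans ((Subgroup.centralizer_le_normalizer _).trans hNL))
  haveI := isSolvable_of_coatom hG hL
  haveI : (pPrimeCore p ↥L).Normal := PCore.pPrimeCore_normal
  obtain ⟨-, -, -, -, hkey⟩ := S1414.result hG L hL
  obtain ⟨-, -, hp2⟩ := hkey p Fact.out ((square_dvd_card h.elem h.card).trans (Subgroup.card_dvd_of_le (hd.le.trans hRL)))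
    fun hb => not_ideal_of_square h.elem h.card h.setting.hmax hb.2
  set K := OddOrder.core p L with hK
  have hKL : K ≤ L := core_le L
  have hQK : (Q : Subgroup G) ≤ K :=
    le_map_of_not_dvd_index hQL Q.2 fun hdv => absurd (hp2 q Fact.out hdv) (by omega)
  -- Frattini
  set N := L ⊓ normalizer ((Q : Subgroup G) : Set G) with hN
  set N' := N.subgroupOf L with hN'
  set K' := pPrimeCore p ↥L with hK'
  have hfr : N' ⊔ K' = ⊤ := by
    rw [eq_top_iff]
    rintro ⟨g, hg⟩ -
    obtain ⟨k, hk, hk'⟩ := exists_conj_sylow Q (g • Q) hQK (by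
      rw [Sylow.coe_subgroup_smul]
      exact (Subgroup.pointwise_smul_le_pointwise_smul_iff.2 hQK).trans
        (Coprime.conj_smul_eq_self_of_mem (le_normalizer_core L hg)).le)
    have hkg : k⁻¹ * g ∈ N := by
      refine ⟨L.mul_mem (L.inv_mem (hKL hk)) hg, Coprime.mem_normalizer_of_conj_smul_eq ?_⟩
      rw [← Coprime.conj_smul_smul, ← Sylow.coe_subgroup_smul (g := g) (P := Q), hk', Coprime.conj_smul_smul,
        inv_mul_cancel, map_one, one_smul]
    obtain ⟨k₀, hk₀, hk₀'⟩ := hk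
    have e : (⟨g, hg⟩ : L) = k₀ * ⟨k⁻¹ * g, hkg.1⟩ := Subtype.ext (by
      show g = (k₀ : G) * (k⁻¹ * g)
      rw [← hk₀']
      simp)
    rw [e]
    exact mul_mem (Subgroup.mem_sup_right hk₀) (Subgroup.mem_sup_left hkg)
  set π := QuotientGroup.mk' K'
  have hNtop : N'.map π = ⊤ := by
    rw [← Subgroup.map_top_of_surjective π (QuotientGroup.mk'_surjective K'), ← hfr, Subgroup.map_sup,
      show K'.map π = ⊥ from (Subgroup.map_eq_bot_iff K').2 (by rw [QuotientGroup.ker_mk']), sup_bot_eq]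
  have hRD : (R : Subgroup G).subgroupOf L ≤ ⁅N', N'⁆ ⊔ K' := by
    intro r hr
    have h1 : (r : G) ∈ ⁅L, L⁆ :=
      ((sylow_le_commutator_normalizer hG R).trans (Subgroup.commutator_mono hNRL hNRL)) hr
    rw [← Subgroup.map_subtype_commutator] at h1
    obtain ⟨r', hr', hrr⟩ := h1
    have h2 : r ∈ _root_.commutator L := Subtype.ext hrr ▸ hr'
    have h3 : π r ∈ ⁅N', N'⁆.map π := by
      rw [Subgroup.map_commutator, hNtop]
      have := Subgroup.mem_map_of_mem π h2
      rw [commutator_def, Subgroup.map_commutator, Subgroup.map_top_of_surjective π (QuotientGroup.mk'_surjective K')] at this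
      exact this
    have h4 := Subgroup.mem_comap.2 h3
    rwa [Subgroup.comap_map_eq, QuotientGroup.ker_mk'] at h4
  obtain ⟨a, ha⟩ := R.2.exists_card_eq
  have hdvd : p ^ a ∣ Nat.card ↥⁅N', N'⁆ := by
    have h1 : p ^ a ∣ Nat.card ↥(⁅N', N'⁆ ⊔ K') := by
      rw [← ha, ← Coprime.card_subgroupOf hRL]
      exact Subgroup.card_dvd_of_le hRD
    have h2 : Nat.card ↥(⁅N', N'⁆ ⊔ K') ∣ Nat.card K' * Nat.card ↥⁅N', N'⁆ := by
      have h3 := Subgroup.relIndex_mul_relIndex ⊥ K' (⁅N', N'⁆ ⊔ K') bot_le le_sup_right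
      rw [Subgroup.relIndex_bot_left, Subgroup.relIndex_bot_left, sup_comm, Subgroup.relIndex_sup_left] at h3
      rw [sup_comm, ← h3]
      exact mul_dvd_mul_left _ (Subgroup.relIndex_dvd_card K' _)
    refine (Nat.Coprime.pow_left a ?_).dvd_of_dvd_mul_left (h1.trans h2)
    exact (PCore.coprime_card_pPrimeCore (p := p) (G := ↥L)).symm
  obtain ⟨R₁, hR₁⟩ := Sylow.exists_subgroup_card_pow_prime p hdvd
  set R₂ := (R₁.map (⁅N', N'⁆).subtype).map L.subtype with hR₂
  have hR₂c : Nat.card R₂ = Nat.card (R : Subgroup G) := by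
    rw [hR₂, Subgroup.card_map_of_injective L.subtype_injective,
      Subgroup.card_map_of_injective (⁅N', N'⁆).subtype_injective, hR₁, ha]
  have hR₂p : IsPGroup p R₂ := IsPGroup.of_card (n := a) (hR₂c.trans ha)
  have hR₂N : R₂ ≤ ⁅N, N⁆ := by
    refine (Subgroup.map_mono (Subgroup.map_subtype_le _)).trans (le_of_eq ?_)
    rw [Subgroup.map_commutator, hN', Subgroup.map_subgroupOf_eq_of_le inf_le_left]
  -- `N` acts on `B`
  have hΩ : omegaOne q (Q : Subgroup G) = B := le_antisymm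
    (PGroup.omegaOne_le_iff.2 fun x hx hxq => h'.setting.hmax x (hQB hx) hxq)
    fun b hb => PGroup.mem_omegaOne_of_pow_eq_one (hBQ hb) (h'.elem.2 b hb)
  have hNB : N ≤ normalizer (B : Set G) :=
    hΩ ▸ inf_le_right.trans (normalizer_le_normalizer_omegaOne q (Q : Subgroup G))
  have hBN : B ≤ N := le_inf (hBQ.trans hQL) (hBQ.trans Subgroup.le_normalizer)
  haveI : (B.subgroupOf N).Normal := Coprime.normal_subgroupOf_of_le_normalizer hNB
  haveI : Group.IsSolvable N := Coprime.isSolvable_of_le inf_le_left inferInstance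
  have hR₂C : R₂ ≤ centralizer (B : Set G) := by
    intro x hx
    obtain ⟨k, hk⟩ := hR₂p ⟨x, hx⟩
    have h1 := hR₂N hx
    rw [← Subgroup.map_subtype_commutator] at h1
    obtain ⟨y, hy, rfl⟩ := h1
    have hy1 : y ^ p ^ k = 1 := Subtype.ext (congrArg Subtype.val hk :)
    have h2 := commutator_mem_centralizer_of_rankTwo (G := N) (odd_subgroup hG.1 N) (B.subgroupOf N)
      hBq.comap_subtype (fun C _ _ => by
        refine C.card_le_card_group.trans (le_of_eq ?_)
        rw [Coprime.card_subgroupOf hBN, h'.card]) hy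
      (((Nat.coprime_primes Fact.out Fact.out).2 hqp.symm).pow_left k |>.coprime_dvd_left
        (orderOf_dvd_of_pow_eq_one hy1))
    exact Subgroup.mem_centralizer_iff.2 fun b hb =>
      congrArg Subtype.val (Subgroup.mem_centralizer_iff.1 h2 ⟨b, hBN hb⟩ hb)
  obtain ⟨R₃, hR₃⟩ := hR₂p.exists_le_sylow
  have e : R₂ = (R₃ : Subgroup G) := Subgroup.eq_of_le_of_card_ge hR₃ (by
    rw [hR₂c, R₃.card_eq_multiplicity, R.card_eq_multiplicity])
  exact hS R₃ (e ▸ PGroup.isMulCommutative_of_forall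
    (pgroup_comm hG h.coatom h.sigma (hR₂C.trans h'.centralizer_le) hR₂p))

/-- BG 12.7: the lines of `A`. -/
theorem Exc.lines_spec {M A A₀ : Subgroup G} (h : Exc p M A A₀) {R : Sylow p G} {n z : G}
    (hd : MovingData p M A R n z) :
    (∀ a ∈ A, a ∉ A₀ → sigmaCore M ⊓ centralizer ({a} : Set G) = ⊥ ∧ ¬ centralizer ({a} : Set G) ≤ M) ∧
      sigmaCore M ≤ centralizer (A₀ : Set G) ∧ A ⊓ centralizer (sigmaCore M : Set G) = A₀ := by
  have hG := h.minSimple
  haveI := h.elem.1
  obtain ⟨x, hx0, hx1, hx⟩ := h.exists_gen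
  have hxA := h.line_le hx0
  have hxz : x ∉ zpowers z := fun e => by
    refine hd.not_mem (h.centralizer_line_le ?_)
    rw [← hx, Subgroup.zpowers_eq_closure, Subgroup.centralizer_closure]
    exact Subgroup.mem_centralizer_singleton_iff.2 (commute_of_mem_zpowers
      (Subgroup.mem_centralizer_singleton_iff.1 (hd.central hd.mem)) e).eq
  set c := n * x * n⁻¹ * x⁻¹ with hc
  have hcz : c ∈ zpowers z := hd.shift x hxA
  have hc1 : c ≠ 1 := fun e => hxz (hd.fix x hxA (show n * x = x * n by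
    rwa [hc, mul_inv_eq_one, mul_inv_eq_iff_eq_mul] at e))
  have hcA : c ∈ A := Subgroup.zpowers_le.2 hd.central_mem hcz
  have hline : ∀ {b d : G}, b ∈ A → d ≠ 1 → d ∈ zpowers b → zpowers d = zpowers b := fun {b d} hb hd1 hdb => by
    have hb1 : b ≠ 1 := fun e => hd1 (by rwa [e, Subgroup.zpowers_one_eq_bot, Subgroup.mem_bot] at hdb)
    exact Subgroup.eq_of_le_of_card_ge (Subgroup.zpowers_le.2 hdb) (by
      rw [Nat.card_zpowers, Nat.card_zpowers, orderOf_eq_prime (h.elem.2 b hb) hb1,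
        orderOf_eq_prime (h.elem.2 d (Subgroup.zpowers_le.2 hb hdb)) hd1])
  have hcen : ∀ {b d : G}, b ∈ zpowers d → centralizer ({d} : Set G) ≤ centralizer ({b} : Set G) :=
    fun {b d} hb y hy => Subgroup.mem_centralizer_singleton_iff.2
      (commute_of_mem_zpowers (Subgroup.mem_centralizer_singleton_iff.1 hy) hb).eq
  have hzc : zpowers c = zpowers z := hline hd.central_mem hc1 hcz
  have hnc : Commute n c := commute_of_mem_zpowers (Subgroup.mem_centralizer_singleton_iff.1 (hd.central hd.mem)) hcz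
  have hconj : ∀ k : ℕ, n ^ k * x * (n ^ k)⁻¹ = c ^ k * x := by
    intro k
    induction k with
    | zero => simp
    | succ k ih =>
      calc n ^ (k + 1) * x * (n ^ (k + 1))⁻¹ = n * (n ^ k * x * (n ^ k)⁻¹) * n⁻¹ := by group
        _ = n * c ^ k * x * n⁻¹ := by rw [ih]; group
        _ = c ^ k * (n * x * n⁻¹) := by rw [(hnc.pow_right k).eq]; group
        _ = c ^ (k + 1) * x := by rw [show n * x * n⁻¹ = c * x by rw [hc]; group, pow_succ]; group
  -- the lines outside `A₀`
  have key : ∀ a ∈ A, a ∉ A₀ → a ∉ zpowers z → ∃ k : ℕ, n ^ k ∉ M ∧ c ^ k * x ∈ zpowers a ∧ c ^ k * x ≠ 1 := by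
    intro a ha ha0 haz
    have ha' : a ∈ zpowers c ⊔ zpowers x := by
      rw [hzc]; exact (square_eq_sup h.elem h.card hd.central_mem hd.central_ne hxA hxz).ge ha
    obtain ⟨_, ⟨i, rfl⟩, _, ⟨j, rfl⟩, hij⟩ := (Coprime.mem_sup_iff_of_le_normalizer (H := zpowers c) (N := zpowers x)
      (Subgroup.zpowers_le.2 (Subgroup.centralizer_le_normalizer _ (Subgroup.mem_centralizer_iff.2 fun y hy =>
        PGroup.mul_comm_of_elementaryAbelian h.elem (Subgroup.zpowers_le.2 hxA hy) hcA)))).1 ha'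
    have hxo : orderOf x = p := orderOf_eq_prime (h.elem.2 x hxA) hx1
    have hj : ¬ ((p : ℤ) ∣ j) := by
      intro hdv
      refine haz ?_
      show a ∈ zpowers z
      rw [← hij]
      show c ^ i * x ^ j ∈ zpowers z
      rw [show x ^ j = 1 from orderOf_dvd_iff_zpow_eq_one.1 (by rwa [hxo]), mul_one]
      exact Subgroup.zpow_mem _ hcz i
    obtain ⟨l, m, hlm⟩ : IsCoprime (p : ℤ) j :=
      (Nat.prime_iff_prime_int.1 (Fact.out : p.Prime)).coprime_iff_not_dvd.2 hj
    have hcx : Commute c x := PGroup.mul_comm_of_elementaryAbelian h.elem hcA hxA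
    have hpow : a ^ m = c ^ (i * m) * x := by
      rw [← hij, (hcx.zpow_zpow i j).mul_zpow, ← zpow_mul, ← zpow_mul,
        show j * m = 1 - (p : ℤ) * l by linarith, zpow_sub, zpow_one, zpow_mul x (p : ℤ) l,
        show x ^ (p : ℤ) = 1 by rw [zpow_natCast]; exact h.elem.2 x hxA, one_zpow, inv_one, mul_one]
    obtain ⟨k, hk⟩ := IsOfFinOrder.mem_powers_iff_mem_zpowers (isOfFinOrder_of_finite c) |>.2
      (Subgroup.zpow_mem _ (Subgroup.mem_zpowers c) (i * m))
    have hk' : c ^ k = c ^ (i * m) := hk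
    have hmem : c ^ k * x ∈ zpowers a := by rw [hk', ← hpow]; exact Subgroup.zpow_mem _ (Subgroup.mem_zpowers a) m
    have hne : c ^ k * x ≠ 1 := fun e => hxz (by
      rw [show x = (c ^ k)⁻¹ from eq_inv_of_mul_eq_one_right e]
      exact inv_mem (Subgroup.pow_mem _ hcz k))
    refine ⟨k, fun hkM => ?_, hmem, hne⟩
    have hcomm : n ^ k * x = x * n ^ k := pgroup_comm hG h.coatom h.sigma inf_le_right
      (R.2.to_le inf_le_left : IsPGroup p ↥((R : Subgroup G) ⊓ M)) _ ⟨Subgroup.pow_mem _ hd.mem k, hkM⟩ x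
      ⟨hd.le hxA, h.le hxA⟩
    have hck : c ^ k = 1 := by
      have h1 := hconj k
      rw [hcomm, mul_inv_cancel_right] at h1
      exact mul_eq_right.1 h1.symm
    rw [hck, one_mul] at hmem
    exact ha0 (hx ▸ (hline ha hx1 hmem).ge (Subgroup.mem_zpowers a))
  have hfpf : ∀ a ∈ A, a ∉ A₀ → sigmaCore M ⊓ centralizer ({a} : Set G) = ⊥ := by
    intro a ha ha0
    by_cases haz : a ∈ zpowers z
    · rw [eq_bot_iff, ← hd.central_fpf]
      have ha1 : a ≠ 1 := fun e => ha0 (e ▸ one_mem _)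
      exact inf_le_inf_left _ (hcen ((hline hd.central_mem ha1 haz).ge (Subgroup.mem_zpowers z)))
    obtain ⟨k, hkM, hmem, -⟩ := key a ha ha0 haz
    have h1 := h.fpf_conj (P := (R : Subgroup G) ⊓ M) inf_le_right (le_inf hd.le h.le) hkM
      (Subgroup.pow_mem _ hd.normalizes_inf k) hx
    rw [hconj k] at h1
    rw [eq_bot_iff, ← h1]
    exact inf_le_inf_left _ (hcen hmem)
  have hσ : sigmaCore M ≤ centralizer (A₀ : Set G) := by
    rw [← hx, Subgroup.zpowers_eq_closure, Subgroup.centralizer_closure]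
    refine inf_eq_left.1 (Coprime.eq_of_forall_centralizer_le (square_not_cyclic h.elem h.card)
      (h.le.trans (le_normalizer_sigmaCore M)) (h.setting.coprime_sigmaCore (PGroup.isPGroup_of_elementaryAbelian h.elem))
      (inf_le_left : sigmaCore M ⊓ centralizer ({x} : Set G) ≤ sigmaCore M) fun a ha ha1 => ?_)
    by_cases ha0 : a ∈ A₀
    · refine inf_le_inf_left _ (hcen ((hline hxA ha1 (hx ▸ ha0)).ge (Subgroup.mem_zpowers x)))
    · rw [hfpf a ha ha0]
      exact bot_le
  have hne := sigmaCore_ne_bot hG h.coatom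
  refine ⟨fun a ha ha0 => ⟨hfpf a ha ha0, fun hle => ?_⟩, hσ,
    le_antisymm (fun a ha => ?_) (le_inf h.line_le (Subgroup.le_centralizer_iff.1 hσ))⟩
  · by_cases haz : a ∈ zpowers z
    · exact hd.not_mem (hle (hcen haz (hd.central hd.mem)))
    obtain ⟨k, hkM, hmem, hne'⟩ := key a ha ha0 haz
    set g := (n ^ k)⁻¹ with hg
    have hy : centralizer ({c ^ k * x} : Set G) ≤ M :=
      (hcen ((hline ha hne' hmem).ge (Subgroup.mem_zpowers a))).trans hle
    have hxy : centralizer ({x} : Set G) ≤ MulAut.conj g • M := by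
      refine le_trans (le_of_eq ?_) (Subgroup.pointwise_smul_le_pointwise_smul_iff.2 hy)
      rw [conj_smul_centralizer, ← hconj k, hg]
      congr 2
      group
    have hLne : MulAut.conj g • M ≠ M := fun e => by
      refine hkM (inv_mem_iff.1 (?_ : g ∈ M))
      by_contra hgM
      have hMN : normalizer (M : Set G) = M := normalizer_eq_of_normal hG h.coatom le_rfl Subgroup.le_normalizer
        fun e' => hne (le_bot_iff.1 (e' ▸ sigmaCore_le M))
      exact hgM (hMN ▸ Coprime.mem_normalizer_of_conj_smul_eq e)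
    have hAx : A ≤ centralizer ({x} : Set G) := fun b hb =>
      Subgroup.mem_centralizer_singleton_iff.2 (PGroup.mul_comm_of_elementaryAbelian h.elem hb hxA)
    refine hne (le_bot_iff.1 ?_)
    rw [← h.sigmaCore_inf_eq_bot (L := MulAut.conj g • M) ((OrderIso.isCoatom_iff (MulEquiv.mapSubgroup (MulAut.conj g)) M).2 h.coatom) hLne (hAx.trans hxy)]
    exact le_inf le_rfl ((hσ.trans (Subgroup.centralizer_le (Set.singleton_subset_iff.2 hx0))).trans hxy)
  · by_contra ha0
    refine hne (le_bot_iff.1 ?_)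
    rw [← hfpf a ha.1 ha0]
    exact le_inf le_rfl fun y hy => Subgroup.mem_centralizer_singleton_iff.2
      (Subgroup.mem_centralizer_iff.1 ha.2 y hy)

/-- BG 12.7 (b): `O_p(M) = A₀`. -/
theorem Exc.pOf_le_line {M A A₀ : Subgroup G} (h : Exc p M A A₀) {R : Sylow p G} {n z : G}
    (hd : MovingData p M A R n z) : pOf p M ≤ A₀ := by
  have hG := h.minSimple
  obtain ⟨hfpf, hσ, hA0⟩ := h.lines_spec hd
  set U := pOf p M with hU
  have hUp : IsPGroup p U := isPGroup_pOf M
  obtain ⟨T, hT⟩ := exists_sylow_map_ge (R.2.to_le inf_le_left : IsPGroup p ↥((R : Subgroup G) ⊓ M)) inf_le_right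
  have hAT : A ≤ (T : Subgroup M).map M.subtype := (le_inf hd.le h.le).trans hT
  have hUT : U ≤ (T : Subgroup M).map M.subtype := le_sylow_of_normal (pOf_le M) hUp (le_normalizer_pOf M) T
  have hUc : U ≤ centralizer (sigmaCore M : Set G) := le_centralizer_of_normalize
    (Coprime.disjoint_of_coprime_card (h.setting.coprime_sigmaCore hUp))
    ((pOf_le M).trans (le_normalizer_sigmaCore M)) ((sigmaCore_le M).trans (le_normalizer_pOf M))
  intro u hu
  have hmemA : ∀ w ∈ U, w ^ p = 1 → w ∈ A₀ := fun w hw hwp => hA0 ▸ ⟨h.mem_of_sylow T hAT (hUT hw) hwp, hUc hw⟩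
  refine hmemA u hu ?_
  by_contra hup
  obtain ⟨k, hk⟩ := hUp ⟨u, hu⟩
  obtain ⟨i, -, hi⟩ := (Nat.dvd_prime_pow (Fact.out : p.Prime)).1 (orderOf_dvd_of_pow_eq_one (congrArg Subtype.val hk :))
  have hi2 : 2 ≤ i := by
    by_contra hlt
    refine hup (orderOf_dvd_iff_pow_eq_one.1 ?_)
    rw [hi]
    exact (pow_dvd_pow p (by omega : i ≤ 1)).trans (pow_one p).dvd
  set v := u ^ p ^ (i - 2) with hv
  have hvU : v ∈ U := U.pow_mem hu _
  have hvp : v ^ p ≠ 1 := by
    rw [hv, ← pow_mul, ← pow_succ]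
    refine pow_ne_one_of_lt_orderOf (pow_pos (Fact.out : p.Prime).pos _).ne' ?_
    rw [hi]
    exact Nat.pow_lt_pow_right (Fact.out : p.Prime).one_lt (by omega)
  have hvpp : (v ^ p) ^ p = 1 := by
    rw [hv, ← pow_mul, ← pow_mul, show p ^ (i - 2) * (p * p) = p ^ i by
      rw [← mul_assoc, ← pow_succ, ← pow_succ, show i - 2 + 1 + 1 = i by omega], ← hi]
    exact pow_orderOf_eq_one u
  -- `R` centralises `v ^ p`
  have hTR : (T : Subgroup M).map M.subtype ≤ (R : Subgroup G) := hd.sylow_le T hT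
  obtain ⟨X, -, hXA, hdec, hXcen⟩ := h.exists_decomp R hd.le
  obtain ⟨a, ha, t, ht, hat⟩ := hdec v ⟨hTR (hUT hvU), h.le_centralizer_of_sylow T hAT (hUT hvU)⟩
  have hvt : v ^ p = t ^ p := by rw [← hat, (hXA t ht a ha).mul_pow, h.elem.2 a ha, one_mul]
  have hnv : Commute n (v ^ p) := by
    rw [hvt]
    exact hXcen _ (X.pow_mem ht p) (by rw [← hvt]; exact hvpp) n hd.mem
  have hvz : v ^ p ∈ zpowers z :=
    hd.fix _ (h.line_le (hmemA _ (U.pow_mem hvU p) hvpp)) hnv
  refine sigmaCore_ne_bot hG h.coatom (le_bot_iff.1 ?_)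
  rw [← hd.central_fpf]
  refine le_inf le_rfl fun y hy => Subgroup.mem_centralizer_singleton_iff.2 ?_
  have hzp : z ∈ zpowers (v ^ p) := by
    have e : zpowers (v ^ p) = zpowers z := Subgroup.eq_of_le_of_card_ge (Subgroup.zpowers_le.2 hvz) (by
      rw [Nat.card_zpowers, Nat.card_zpowers, orderOf_eq_prime hvpp hvp,
        orderOf_eq_prime (h.elem.2 z hd.central_mem) hd.central_ne])
    exact e ▸ Subgroup.mem_zpowers z
  exact (commute_of_mem_zpowers (Subgroup.mem_centralizer_iff.1 (hUc (U.pow_mem hvU p)) y hy) hzp).eq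

end Cfsg.Agent.OddOrder
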