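import Cfsg.Agent.Lib.OddOrder.KappaConsequences
import Cfsg.Agent.Lib.OddOrder.FpfTools
import Cfsg.Agent.Lib.Frobenius.Basic
import Cfsg.Agent.S1419

/-!
# Bender–Glauberman 14.4 (c): the supported subgroup when `κ(N)` is nonempty

`M` is a Frobenius group with cyclic complement, `κ(M) = ∅`, and `M_F` is not a TI subset.
-/

set_option autoImplicit false
set_option linter.unusedSectionVars false
set_option linter.style.haveILetI false

namespace Cfsg.Agent.OddOrder

open Cfsg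
open Subgroup (centralizer normalizer zpowers)
open scoped Pointwise commutatorElement

universe u
variable {G : Type u} [Group G] [Finite G]

theorem zpowers_card_prime {x : G} {p : ℕ} (h : orderOf x = p) : Nat.card (zpowers x) = p := by
  rw [Nat.card_zpowers, h]

/-- An element normalising `⟨y⟩` lies in the only maximal subgroup over `C(y)`. -/
theorem mem_of_normalizer_of_unique (hG : IsMinSimpleOddOrder G) {N : Subgroup G} (hN : IsCoatom N)
    {y : G} (hy1 : y ≠ 1) (hle : centralizer ({y} : Set G) ≤ N)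
    (huniq : ∀ L : Subgroup G, IsCoatom L → centralizer ({y} : Set G) ≤ L → L = N)
    {g : G} (hg : g ∈ normalizer (zpowers y : Set G)) : g ∈ N := by
  have hCg : MulAut.conj g • centralizer ({y} : Set G) = centralizer ({y} : Set G) := by
    rw [← Subgroup.centralizer_closure, ← Subgroup.zpowers_eq_closure]
    exact Coprime.conj_smul_eq_self_of_mem (Coprime.le_normalizer_centralizer le_rfl hg)
  have hLN := huniq (MulAut.conj g • N) (isCoatom_conj hN g)
    (hCg.ge.trans (Subgroup.pointwise_smul_le_pointwise_smul_iff.2 hle))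
  exact (normalizer_eq_of_normal hG hN le_rfl Subgroup.le_normalizer
    (fun e => hy1 (Subgroup.mem_bot.1 (e ▸ hle (Subgroup.mem_centralizer_singleton_iff.2 rfl))))).le
    (Coprime.mem_normalizer_of_conj_smul_eq hLN)

/-- An element of prime order `y` of `M_σ`, supported by `N` with `κ(N)` nonempty. -/
structure SupConfig (p : ℕ) (M N : Subgroup G) (y : G) : Prop where
  minSimple : IsMinSimpleOddOrder G
  h13 : BG13 G
  coatom : IsCoatom M
  supp : Supporting M y N
  mem : y ∈ Cfsg.sigmaCore M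
  order : orderOf y = p
  nonempty : (Cfsg.kappa N).Nonempty

namespace SupConfig

variable {p : ℕ} [Fact p.Prime] {M N : Subgroup G} {y : G} (c : SupConfig p M N y)
include c

theorem ne_one : y ≠ 1 := fun e => (Fact.out : p.Prime).ne_one (by rw [← c.order, e, orderOf_one])

theorem p_sigma : p ∈ Cfsg.sigma M := isPiGrp_piCoreOf (Cfsg.sigma M) M p Fact.out
  (c.order ▸ Subgroup.orderOf_dvd_natCard _ c.mem)

theorem p_tau2 : p ∈ Cfsg.tau2 N := c.supp.tau2 p Fact.out (c.order ▸ dvd_rfl)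

theorem not_mem_sigma {s : ℕ} (hs : s ∈ Cfsg.sigma M) : s ∉ Cfsg.sigma N := fun hsN => by
  obtain ⟨g, hg⟩ := c.h13.partition M N c.coatom c.supp.coatom ⟨s, hs, hsN⟩
  have h : p ∈ Cfsg.sigma N := hg ▸ (sigma_conj g M).ge c.p_sigma
  exact c.p_tau2.2.1 h

theorem centralizer_inf_le : M ⊓ centralizer ({y} : Set G) ≤ M ⊓ N := inf_le_inf_left M c.supp.centralizer_le

theorem normalizer_le {g : G} (hg : g ∈ normalizer (zpowers y : Set G)) : g ∈ N :=
  mem_of_normalizer_of_unique c.minSimple c.supp.coatom c.ne_one c.supp.centralizer_le c.supp.unique hg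

theorem mem_inf : y ∈ M ⊓ N :=
  c.centralizer_inf_le ⟨sigmaCore_le M c.mem, Subgroup.mem_centralizer_singleton_iff.2 rfl⟩

theorem exists_hall {X : Subgroup G} (hX : X ≤ M ⊓ N)
    (hXk : ∀ l : ℕ, l.Prime → l ∣ Nat.card X → l ∈ Cfsg.kappa N) :
    ∃ K : Subgroup G, X ≤ K ∧ PData N K (M ⊓ N) := by
  have hG := c.minSimple
  have hc := c.supp.compl
  obtain ⟨K, hXK, hKH⟩ := exists_piHallOf_ge (Cfsg.kappa N)
    (Coprime.isSolvable_of_le hc.1 (isSolvable_of_coatom hG c.supp.coatom)) hX hXk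
  have hidx : (M ⊓ N).relIndex N = Nat.card (Cfsg.sigmaCore N) := by
    have h1 := Subgroup.relIndex_mul_relIndex ⊥ (M ⊓ N) N bot_le hc.1
    rw [Subgroup.relIndex_bot_left, Subgroup.relIndex_bot_left, ← card_eq_of_isComplIn hc] at h1
    exact Nat.eq_of_mul_eq_mul_left Nat.card_pos h1
  have hK : IsPiHallOf (Cfsg.kappa N) K N := by
    refine ⟨hKH.1.trans hc.1, hKH.2.1, fun l hl hlk hd => ?_⟩
    rw [← Subgroup.relIndex_mul_relIndex K (M ⊓ N) N hKH.1 hc.1, hidx] at hd
    rcases hl.dvd_mul.1 hd with h | h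
    · exact hKH.2.2 l hl hlk h
    · exact hlk.2.2.1 (isPiGrp_piCoreOf (Cfsg.sigma N) N l hl h)
  refine ⟨K, hXK, hG, c.h13, c.supp.coatom, hK, fun e => ?_, hc, hKH.1⟩
  obtain ⟨l, hl⟩ := c.nonempty
  exact hK.2.2 l hl.1 hl (by rw [e, Subgroup.relIndex_bot_left]; exact hl.2.1)

theorem exists_square : ∃ A A₀ : Subgroup G, A ≤ M ⊓ N ∧ Exc p N A A₀ ∧ y ∈ A ∧ A ≤ Cfsg.sigmaCore M := by
  obtain ⟨-, hps, -, hr1⟩ := c.p_tau2
  obtain ⟨A, hAH, hA, hAc⟩ := exists_square_le_compl c.supp.compl hps hr1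
  obtain ⟨A₀, h⟩ := exists_exc c.minSimple c.supp.coatom hps (hAH.trans inf_le_right) hA hAc
  refine ⟨A, A₀, hAH, h, h.mem_of_compl c.supp.compl hAH c.mem_inf (c.order ▸ pow_orderOf_eq_one y), ?_⟩
  obtain ⟨T, hT⟩ := exists_sylow_map_ge (PGroup.isPGroup_of_elementaryAbelian hA) (hAH.trans inf_le_left)
  exact hT.trans (sylow_le_sigmaCore c.minSimple c.coatom c.p_sigma T)

/-- An element of prime order in `κ(N)` of `M ∩ N` commutes with no other prime-order element. -/
theorem not_commute {q : ℕ} [Fact q.Prime] {b : G} (hb : b ∈ M ⊓ N) (hbo : orderOf b = q)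
    (hq : q ∈ Cfsg.kappa N) {r : ℕ} [Fact r.Prime] {w : G} (hw : w ∈ M ⊓ N) (hwo : orderOf w = r)
    (hr : r ∉ Cfsg.kappa N) : ¬ Commute w b := by
  intro hcomm
  obtain ⟨K, hbK, d⟩ := c.exists_hall (Subgroup.zpowers_le.2 hb) fun l hl hd => by
    rw [(Nat.prime_dvd_prime_iff_eq hl Fact.out).1 (zpowers_card_prime hbo ▸ hd)]; exact hq
  exact d.no_fixed (hbK (Subgroup.mem_zpowers b)) hbo hr (zpowers_card_prime hwo)
    (Subgroup.zpowers_le.2 ⟨hw, Subgroup.mem_centralizer_singleton_iff.2 hcomm.eq⟩)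

end SupConfig

/-- The auxiliary data: `xq` of order `q` in a Hall `κ(N)`-subgroup `K`, `L` over `N(⟨xq⟩)`, and `z` of
order `rz` in `C_{N_σ}(K)`. -/
structure KapAux (p q rz : ℕ) (M N K L : Subgroup G) (y xq z : G) : Prop where
  config : SupConfig p M N y
  pdata : PData N K (M ⊓ N)
  qprime : q.Prime
  rzprime : rz.Prime
  mem : xq ∈ K
  order : orderOf xq = q
  coatom : IsCoatom L
  normalizer_le : normalizer (zpowers xq : Set G) ≤ L
  z_mem : z ∈ Cfsg.sigmaCore N ⊓ centralizer (K : Set G)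
  z_order : orderOf z = rz

namespace KapAux

variable {p q rz : ℕ} [Fact p.Prime] {M N K L : Subgroup G} {y xq z : G} (a : KapAux p q rz M N K L y xq z)
include a

theorem xq_ne : xq ≠ 1 := fun e => a.qprime.ne_one (by rw [← a.order, e, orderOf_one])

theorem z_ne : z ≠ 1 := fun e => a.rzprime.ne_one (by rw [← a.z_order, e, orderOf_one])

theorem xq_inf : xq ∈ M ⊓ N := a.pdata.le a.mem

theorem q_kappa : q ∈ Cfsg.kappa N :=
  a.pdata.hall.2.1 q a.qprime (a.order ▸ Subgroup.orderOf_dvd_natCard K a.mem)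

theorem centralizer_le : centralizer ({xq} : Set G) ≤ L := by
  rw [← Subgroup.centralizer_closure, ← Subgroup.zpowers_eq_closure]
  exact (Subgroup.centralizer_le_normalizer _).trans a.normalizer_le

theorem xq_L : xq ∈ L := a.centralizer_le (Subgroup.mem_centralizer_singleton_iff.2 rfl)

theorem z_cent : z ∈ centralizer ({xq} : Set G) :=
  Subgroup.centralizer_le (Set.singleton_subset_iff.2 a.mem) a.z_mem.2

theorem q_sigmaL : q ∈ Cfsg.sigma L := by
  haveI := Fact.mk a.qprime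
  exact a.pdata.mem_sigma_of_normalizer (Subgroup.zpowers_le.2 a.mem) (zpowers_card_prime a.order) a.coatom
    a.normalizer_le

theorem xq_sigmaL : xq ∈ Cfsg.sigmaCore L := by
  haveI := Fact.mk a.qprime
  exact a.pdata.le_sigmaCore_of_normalizer (Subgroup.zpowers_le.2 a.mem) (zpowers_card_prime a.order) a.coatom
    a.normalizer_le (Subgroup.mem_zpowers xq)

theorem q_sigmaN : q ∉ Cfsg.sigma N := a.q_kappa.2.2.1

theorem sigmaL_N {s : ℕ} (hs : s ∈ Cfsg.sigma L) : s ∉ Cfsg.sigma N := fun hsN => by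
  obtain ⟨g, hg⟩ := a.config.h13.partition L N a.coatom a.config.supp.coatom ⟨s, hs, hsN⟩
  have h : q ∈ Cfsg.sigma N := hg ▸ (sigma_conj g L).ge a.q_sigmaL
  exact a.q_sigmaN h

theorem q_sigmaM : q ∉ Cfsg.sigma M := by
  have c := a.config
  haveI := Fact.mk a.qprime
  intro hq
  obtain ⟨A, A₀, hAH, h, hyA, hAσ⟩ := c.exists_square
  have hAp := PGroup.isPGroup_of_elementaryAbelian h.elem
  obtain ⟨T, hT⟩ := exists_sylow_map_ge (isPGroup_zpowers (p := q) (u := xq)
    ⟨1, by rw [pow_one, ← a.order, pow_orderOf_eq_one]⟩) (Subgroup.zpowers_le.2 a.xq_inf.1)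
  have hxA := mem_centralizer_of_sigma c.minSimple c.coatom
    (fun hb => not_ideal_of_square h.elem h.card h.setting.hmax hb.2) hAp hAσ
    (sylow_le_sigmaCore c.minSimple c.coatom hq T (hT (Subgroup.mem_zpowers xq)))
    (fun hd => c.p_tau2.2.1 |> fun _ => not_mem_tau2_of_kappa a.q_kappa
      (((Nat.prime_dvd_prime_iff_eq Fact.out a.qprime).1 (a.order ▸ hd)) ▸ c.p_tau2))
    (h.complement_le_normalizer c.supp.compl hAH a.xq_inf)
  exact c.not_commute a.xq_inf a.order a.q_kappa c.mem_inf c.order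
    (fun hk => not_mem_tau2_of_kappa hk c.p_tau2) (Subgroup.mem_centralizer_iff.1 hxA y hyA)

theorem sigmaL_M {s : ℕ} (hs : s ∈ Cfsg.sigma L) : s ∉ Cfsg.sigma M := fun hsM => by
  obtain ⟨g, hg⟩ := a.config.h13.partition L M a.coatom a.config.coatom ⟨s, hs, hsM⟩
  have h : q ∈ Cfsg.sigma M := hg ▸ (sigma_conj g L).ge a.q_sigmaL
  exact a.q_sigmaM h

theorem L_ne_M : L ≠ M := fun e => a.sigmaL_M a.q_sigmaL (e ▸ a.q_sigmaL)

theorem L_ne_N : L ≠ N := fun e => a.q_sigmaN (e ▸ a.q_sigmaL)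

theorem unique_z : centralizer ({z} : Set G) ≤ N ∧
    ∀ L' : Subgroup G, IsCoatom L' → centralizer ({z} : Set G) ≤ L' → L' = N := by
  haveI := Fact.mk a.rzprime
  have h := a.pdata.unique_centralizer (Subgroup.zpowers_le.2 a.z_mem) (zpowers_card_prime a.z_order)
  rwa [Subgroup.zpowers_eq_closure, Subgroup.centralizer_closure] at h

theorem rz_sigmaN : rz ∈ Cfsg.sigma N :=
  isPiGrp_piCoreOf (Cfsg.sigma N) N rz a.rzprime (a.z_order ▸ Subgroup.orderOf_dvd_natCard _ a.z_mem.1)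

theorem rz_sigmaL : rz ∉ Cfsg.sigma L := fun h => a.sigmaL_N h a.rz_sigmaN

theorem z_not_M : z ∉ M := fun h =>
  a.z_ne (Subgroup.mem_bot.1 (a.config.supp.inf_eq_bot ▸ ⟨a.z_mem.1, h⟩))

/-- Elements of prime order outside `σ(L)` commuting with `xq`. -/
theorem cases {g : G} {s : ℕ} [Fact s.Prime] (hg : g ∈ centralizer ({xq} : Set G)) (hgo : orderOf g = s)
    (hs : s ∉ Cfsg.sigma L) :
    s ∈ Cfsg.kappa L ∨ (centralizer ({g} : Set G) ≤ L ∧
      ∀ L' : Subgroup G, IsCoatom L' → centralizer ({g} : Set G) ≤ L' → L' = L) := by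
  have hg1 : g ≠ 1 := fun e => (Fact.out : s.Prime).ne_one (by rw [← hgo, e, orderOf_one])
  rcases sigma'_centralizer a.config.minSimple a.config.h13 a.coatom a.xq_sigmaL a.xq_ne
    (x' := g) ⟨a.centralizer_le hg, hg⟩ hg1 (fun l hl hd => by
      rw [(Nat.prime_dvd_prime_iff_eq hl Fact.out).1 (hgo ▸ hd)]; exact hs) with ⟨h, -⟩ | ⟨-, -, h⟩
  · exact Or.inl (h s Fact.out (hgo ▸ dvd_rfl))
  · exact Or.inr h

theorem rz_kappaL : rz ∈ Cfsg.kappa L := by
  haveI := Fact.mk a.rzprime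
  refine (a.cases a.z_cent a.z_order a.rz_sigmaL).resolve_right fun h => a.L_ne_N ?_
  exact (h.2 N a.config.supp.coatom a.unique_z.1).symm

/-- Primes of `κ(L)` in `C(xq)` are primes of `K K*`. -/
theorem kappa_or_sigma {g : G} {s : ℕ} [Fact s.Prime] (hg : g ∈ centralizer ({xq} : Set G))
    (hgo : orderOf g = s) (hs : s ∈ Cfsg.kappa L) : s ∈ Cfsg.kappa N ∨ s ∈ Cfsg.sigma N := by
  have hG := a.config.minSimple
  haveI := Fact.mk a.qprime
  have hCs : Group.IsSolvable ↥(centralizer ({xq} : Set G)) :=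
    Coprime.isSolvable_of_le a.centralizer_le (isSolvable_of_coatom hG a.coatom)
  obtain ⟨H₁, hzH, hH₁⟩ := exists_piHallOf_ge (Cfsg.kappa L) hCs (Subgroup.zpowers_le.2 a.z_cent)
    fun l hl hd => by
      rw [(Nat.prime_dvd_prime_iff_eq hl a.rzprime).1 (zpowers_card_prime a.z_order ▸ hd)]
      exact a.rz_kappaL
  obtain ⟨KL, hHK, hKL⟩ := exists_piHallOf_ge (Cfsg.kappa L) (isSolvable_of_coatom hG a.coatom)
    (hH₁.1.trans a.centralizer_le) hH₁.2.1
  have hKL1 : KL ≠ ⊥ := fun e => a.z_ne (Subgroup.mem_bot.1 (e ▸ hHK (hzH (Subgroup.mem_zpowers z))))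
  obtain ⟨EL, dL⟩ := exists_pData hG a.config.h13 a.coatom hKL hKL1
  -- a Sylow subgroup of `H₁` is one of `C(xq)`
  obtain ⟨T, hT, -⟩ := exists_isSyl_ge (p := s) (A := H₁) (IsPGroup.of_bot) bot_le
  obtain ⟨T₂, hT₂, hTT₂⟩ := exists_isSyl_ge hT.isPGroup (hT.le.trans hH₁.1)
  have hTC : ¬ s ∣ T.relIndex (centralizer ({xq} : Set G)) := by
    rw [← Subgroup.relIndex_mul_relIndex T H₁ _ hT.le hH₁.1]
    intro hd
    rcases (Fact.out : s.Prime).dvd_mul.1 hd with h | h
    · exact hT.not_dvd_relIndex h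
    · exact hH₁.2.2 s Fact.out hs h
  have hT₂T : T₂ ≤ T := by
    refine Subgroup.relIndex_eq_one.1 ?_
    obtain ⟨k, hk⟩ := hT₂.isPGroup.exists_card_eq
    have h1 : T.relIndex T₂ ∣ s ^ k := hk ▸ by
      have h := Subgroup.relIndex_mul_relIndex ⊥ T T₂ bot_le hTT₂
      rw [Subgroup.relIndex_bot_left, Subgroup.relIndex_bot_left] at h
      exact h ▸ dvd_mul_left _ _
    obtain ⟨i, -, hi⟩ := (Nat.dvd_prime_pow Fact.out).1 h1
    rcases Nat.eq_zero_or_pos i with rfl | hi0
    · simpa using hi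
    · exact absurd ((hi ▸ dvd_pow_self s hi0.ne').trans
        (Subgroup.relIndex_mul_relIndex T T₂ _ hTT₂ hT₂.le ▸ dvd_mul_right _ _)) hTC
  obtain ⟨d, hd, hdg⟩ := hT₂.exists_conj_le (IsPGroup.of_card (n := 1) (by rw [zpowers_card_prime hgo, pow_one]))
    (Subgroup.zpowers_le.2 hg)
  have hg' : d * g * d⁻¹ ∈ H₁ := hT.le (hT₂T (hdg
    (Subgroup.smul_mem_pointwise_smul g (MulAut.conj d) _ (Subgroup.mem_zpowers g))))
  have hgz : d * g * d⁻¹ ∈ centralizer ({z} : Set G) := Subgroup.mem_centralizer_singleton_iff.2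
    (Subgroup.mem_centralizer_iff.1 (mem_centralizer_of_isCyclic dL.cyclic (hHK hg')) z
      (hHK (hzH (Subgroup.mem_zpowers z)))).symm
  have hmem : d * g * d⁻¹ ∈ K ⊔ (Cfsg.sigmaCore N ⊓ centralizer (K : Set G)) := by
    rw [← a.pdata.inf_normalizer (Subgroup.zpowers_le.2 a.mem) (zpowers_card_prime a.order)]
    refine ⟨a.unique_z.1 hgz, Subgroup.centralizer_le_normalizer _ ?_⟩
    rw [Subgroup.zpowers_eq_closure, Subgroup.centralizer_closure]
    exact mul_mem (mul_mem hd hg) (inv_mem hd)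
  have hord : orderOf (d * g * d⁻¹) = s := by
    rw [← hgo]; exact (MulAut.conj d).orderOf_eq g
  have hKn : K ≤ normalizer ((Cfsg.sigmaCore N ⊓ centralizer (K : Set G) : Subgroup G) : Set G) :=
    Coprime.le_normalizer_inf_of_le (a.pdata.hall.1.trans (le_normalizer_sigmaCore N))
      (Coprime.le_normalizer_centralizer le_rfl |>.trans' Subgroup.le_normalizer)
  have hdvd : s ∣ Nat.card K * Nat.card ↥(Cfsg.sigmaCore N ⊓ centralizer (K : Set G)) := by
    rw [← Coprime.card_sup_of_le_normalizer hKn (Coprime.disjoint_of_coprime_card (Nat.coprime_of_dvd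
      fun l hl h1 h2 => (a.pdata.hall.2.1 l hl h1).2.2.1 (isPiGrp_piCoreOf (Cfsg.sigma N) N l hl
        (h2.trans (Subgroup.card_dvd_of_le inf_le_left)))))]
    exact hord ▸ Subgroup.orderOf_dvd_natCard _ hmem
  rcases (Fact.out : s.Prime).dvd_mul.1 hdvd with h | h
  · exact Or.inl (a.pdata.hall.2.1 s Fact.out h)
  · exact Or.inr (isPiGrp_piCoreOf (Cfsg.sigma N) N s Fact.out (h.trans (Subgroup.card_dvd_of_le inf_le_left)))

/-- `xq` is fixed-point-free on `M_σ`. -/
theorem fpf : Cfsg.sigmaCore M ⊓ centralizer ({xq} : Set G) = ⊥ := by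
  have c := a.config
  by_contra hne
  obtain ⟨s, hs, hsd⟩ := Nat.exists_prime_and_dvd (fun e => hne (Subgroup.card_eq_one.1 e))
  haveI := Fact.mk hs
  obtain ⟨g, hg⟩ := exists_prime_orderOf_dvd_card' s hsd
  rw [← Subgroup.orderOf_coe] at hg
  have hg1 : (g : G) ≠ 1 := fun e => hs.ne_one (by rw [← hg, e, orderOf_one])
  have hsM : s ∈ Cfsg.sigma M :=
    isPiGrp_piCoreOf (Cfsg.sigma M) M s hs (hg ▸ Subgroup.orderOf_dvd_natCard _ g.2.1)
  rcases a.cases g.2.2 hg (fun h => a.sigmaL_M h hsM) with h | ⟨-, hu⟩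
  · rcases a.kappa_or_sigma g.2.2 hg h with h' | h'
    · obtain ⟨b, hb⟩ := exists_prime_orderOf_dvd_card' (G := K) s (by
        by_contra hnd
        refine a.pdata.hall.2.2 s hs h' ?_
        have h1 := Subgroup.relIndex_mul_relIndex ⊥ K N bot_le a.pdata.hall.1
        rw [Subgroup.relIndex_bot_left, Subgroup.relIndex_bot_left] at h1
        exact (hs.dvd_mul.1 (h1.symm ▸ h'.2.1)).resolve_left hnd)
      rw [← Subgroup.orderOf_coe] at hb
      obtain ⟨L', hL', hNL⟩ := exists_coatom_ge (normalizer_ne_top_of_pgroup c.minSimple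
        (IsPGroup.of_card (n := 1) (by rw [zpowers_card_prime hb, pow_one]) : IsPGroup s (zpowers (b : G)))
        fun e => hs.ne_one (by rw [← zpowers_card_prime hb, e, Subgroup.card_bot]))
      exact (⟨c, a.pdata, hs, a.rzprime, b.2, hb, hL', hNL, a.z_mem, a.z_order⟩ :
        KapAux p s rz M N K L' y (b : G) z).q_sigmaM hsM
    · exact c.not_mem_sigma hsM h'
  · by_cases hgM : centralizer ({(g : G)} : Set G) ≤ M
    · exact a.L_ne_M (hu M c.coatom hgM).symm
    · obtain ⟨N', hN'⟩ := exists_supporting c.minSimple c.h13.partition c.h13.transfer c.coatom g.2.1 hg1 hgM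
      obtain rfl := hu N' hN'.coatom hN'.centralizer_le
      exact a.xq_ne (Subgroup.mem_bot.1 (hN'.inf_eq_bot ▸ ⟨a.xq_sigmaL, a.xq_inf.1⟩))

theorem fpf_zpowers : Cfsg.sigmaCore M ⊓ centralizer (zpowers xq : Set G) = ⊥ := by
  rw [inf_centralizer_zpowers]; exact a.fpf

theorem not_kappaM : q ∉ Cfsg.kappa M := fun h => by
  haveI := Fact.mk a.qprime
  exact fixed_of_kappa h (Subgroup.zpowers_le.2 a.xq_inf.1) (zpowers_card_prime a.order) a.fpf_zpowers

theorem nilpotent : Group.IsNilpotent (Cfsg.sigmaCore M) := by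
  haveI := Fact.mk a.qprime
  exact isNilpotent_sigmaCore_of_fpf (Subgroup.zpowers_le.2 a.xq_inf.1) (zpowers_card_prime a.order) a.fpf_zpowers

/-- `C(xq)` meets `M ∩ N` in `K`. -/
theorem inf_centralizer_le : M ⊓ N ⊓ centralizer ({xq} : Set G) ≤ K := by
  intro g hg
  haveI := Fact.mk a.qprime
  have hmem : g ∈ K ⊔ (Cfsg.sigmaCore N ⊓ centralizer (K : Set G)) := by
    rw [← a.pdata.inf_normalizer (Subgroup.zpowers_le.2 a.mem) (zpowers_card_prime a.order)]
    refine ⟨hg.1.2, Subgroup.centralizer_le_normalizer _ ?_⟩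
    rw [Subgroup.zpowers_eq_closure, Subgroup.centralizer_closure]
    exact hg.2
  have hKn : K ≤ normalizer ((Cfsg.sigmaCore N ⊓ centralizer (K : Set G) : Subgroup G) : Set G) :=
    Coprime.le_normalizer_inf_of_le (a.pdata.hall.1.trans (le_normalizer_sigmaCore N))
      (Coprime.le_normalizer_centralizer le_rfl |>.trans' Subgroup.le_normalizer)
  obtain ⟨k, hk, w, hw, rfl⟩ := (Coprime.mem_sup_iff_of_le_normalizer hKn).1 hmem
  have hw1 : w ∈ (M ⊓ N) ⊓ Cfsg.sigmaCore N :=
    ⟨by simpa using (M ⊓ N).mul_mem ((M ⊓ N).inv_mem (a.pdata.le hk)) hg.1, hw.1⟩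
  rw [a.config.supp.compl.2.2.1, Subgroup.mem_bot] at hw1
  rwa [hw1, mul_one]

end KapAux

namespace SupConfig

variable {p : ℕ} [Fact p.Prime] {M N : Subgroup G} {y : G} (c : SupConfig p M N y)
include c

theorem exists_aux {K : Subgroup G} (d : PData N K (M ⊓ N)) {q : ℕ} [Fact q.Prime] (hq : q ∈ Cfsg.kappa N) :
    ∃ (L : Subgroup G) (xq z : G) (rz : ℕ), KapAux p q rz M N K L y xq z := by
  have hqK : q ∣ Nat.card K := by
    by_contra hnd
    refine d.hall.2.2 q Fact.out hq ?_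
    have h1 := Subgroup.relIndex_mul_relIndex ⊥ K N bot_le d.hall.1
    rw [Subgroup.relIndex_bot_left, Subgroup.relIndex_bot_left] at h1
    exact ((Fact.out : q.Prime).dvd_mul.1 (h1.symm ▸ hq.2.1)).resolve_left hnd
  obtain ⟨b, hb⟩ := exists_prime_orderOf_dvd_card' (G := K) q hqK
  rw [← Subgroup.orderOf_coe] at hb
  obtain ⟨L, hL, hNL⟩ := exists_coatom_ge (normalizer_ne_top_of_pgroup c.minSimple
    (IsPGroup.of_card (n := 1) (by rw [zpowers_card_prime hb, pow_one]) : IsPGroup q (zpowers (b : G)))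
    fun e => (Fact.out : q.Prime).ne_one (by rw [← zpowers_card_prime hb, e, Subgroup.card_bot]))
  have hne : Cfsg.sigmaCore N ⊓ centralizer (K : Set G) ≠ ⊥ := by
    rw [← d.inf_centralizer_eq (Subgroup.zpowers_le.2 b.2) (zpowers_card_prime hb)]
    exact d.fixed (Subgroup.zpowers_le.2 b.2) (zpowers_card_prime hb)
  obtain ⟨rz, hrz, hrd⟩ := Nat.exists_prime_and_dvd (fun e => hne (Subgroup.card_eq_one.1 e))
  haveI := Fact.mk hrz
  obtain ⟨z, hz⟩ := exists_prime_orderOf_dvd_card' rz hrd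
  rw [← Subgroup.orderOf_coe] at hz
  exact ⟨L, b, z, rz, c, d, Fact.out, hrz, b.2, hb, hL, hNL, z.2, hz⟩

end SupConfig

namespace KapAux

variable {p q rz : ℕ} [Fact p.Prime] {M N K L : Subgroup G} {y xq z : G} (a : KapAux p q rz M N K L y xq z)
include a

/-- At a prime of `τ₂(M)` the square is centralised by `xq` and lies in `L_σ`. -/
theorem square_spec {r : ℕ} [Fact r.Prime] {E B B₀ : Subgroup G} (hE : IsComplIn E (Cfsg.sigmaCore M) M)
    (hxE : xq ∈ E) (hBE : B ≤ E) (h : Exc r M B B₀) (hqr : r ∈ Cfsg.kappa N → q = r) :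
    B ≤ centralizer ({xq} : Set G) ∧ r ∈ Cfsg.sigma L := by
  have c := a.config
  have hG := c.minSimple
  have hM := c.coatom
  haveI := h.elem.1
  haveI := Fact.mk a.qprime
  have hBp := PGroup.isPGroup_of_elementaryAbelian h.elem
  have hexcl : ∀ {g : G}, g ∈ B → centralizer ({g} : Set G) ≤ L → r ∈ Cfsg.sigma L := by
    intro g hg hle
    by_contra hrL
    have hBL : B ≤ L := fun b hb => hle (Subgroup.mem_centralizer_singleton_iff.2
      (PGroup.mul_comm_of_elementaryAbelian h.elem hb hg))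
    obtain ⟨B₁, h'⟩ := exists_exc hG a.coatom hrL hBL h.elem h.card
    exact a.xq_ne (Subgroup.mem_bot.1
      (h'.sigmaCore_inf_eq_bot hM a.L_ne_M.symm h.le ▸ ⟨a.xq_sigmaL, a.xq_inf.1⟩))
  suffices hc : B ≤ centralizer ({xq} : Set G) by
    refine ⟨hc, ?_⟩
    by_contra hrL
    obtain ⟨B₁, h'⟩ := exists_exc hG a.coatom hrL (hc.trans a.centralizer_le) h.elem h.card
    exact a.xq_ne (Subgroup.mem_bot.1
      (h'.sigmaCore_inf_eq_bot hM a.L_ne_M.symm h.le ▸ ⟨a.xq_sigmaL, a.xq_inf.1⟩))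
  by_cases hrq : q = r
  · intro b hb
    refine Subgroup.mem_centralizer_singleton_iff.2 ?_
    exact PGroup.mul_comm_of_elementaryAbelian h.elem hb (h.mem_of_compl hE hBE hxE
      (by rw [← hrq, ← a.order, pow_orderOf_eq_one]))
  have hrk : r ∉ Cfsg.kappa N := fun hk => hrq (hqr hk)
  by_contra hc
  set Z := zpowers xq with hZ
  have hxB : xq ∈ normalizer (B : Set G) := h.complement_le_normalizer hE hBE hxE
  have hZB : Z ≤ normalizer (B : Set G) := Subgroup.zpowers_le.2 hxB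
  have hcop : (Nat.card Z).Coprime (Nat.card B) := by
    rw [hZ, zpowers_card_prime a.order, h.card]
    exact ((Nat.coprime_primes a.qprime Fact.out).2 hrq).pow_right 2
  set W := ⁅B, Z⁆ with hW
  have hWB : W ≤ B := Coprime.commutator_le_left_of_le_normalizer hZB
  have hWW : ⁅Z, W⁆ = W :=
    (Subgroup.commutator_comm _ _).trans (Coprime.commutator_commutator_eq hZB hcop (Or.inl inferInstance))
  have hWc : W ≤ centralizer (Cfsg.sigmaCore M : Set G) := le_centralizer_sigmaCore_of_fpf hG hM a.nilpotent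
    (hBp.to_le hWB) (hWB.trans h.le) h.sigma a.xq_inf.1 (a.order ▸ a.qprime) (a.order ▸ hrq)
    (a.order ▸ a.q_sigmaM) (Subgroup.normalizer_commutator_ge_right B Z (Subgroup.mem_zpowers xq)) hWW a.fpf
  have hW1 : W ≠ ⊥ := fun e => hc (by
    have h1 : Z ≤ centralizer (B : Set G) := Coprime.le_centralizer_iff_commutator_eq_bot.2 e
    rw [Subgroup.le_centralizer_iff, hZ, Subgroup.zpowers_eq_closure, Subgroup.centralizer_closure] at h1
    exact h1)
  have hrN : r ∉ Cfsg.sigma N := by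
    obtain ⟨w, hw, hw1⟩ := (Subgroup.bot_or_exists_ne_one _).resolve_left hW1
    have hwH : w ∈ M ⊓ N := c.centralizer_inf_le ⟨h.le (hWB hw), Subgroup.mem_centralizer_singleton_iff.2
      (Subgroup.mem_centralizer_iff.1 (hWc hw) y c.mem).symm⟩
    exact not_mem_sigma_of_compl hG c.supp.coatom c.supp.compl Fact.out
      ((orderOf_eq_prime (h.elem.2 w (hWB hw)) hw1).symm.dvd.trans (Subgroup.orderOf_dvd_natCard _ hwH))
  -- a fixed line
  have hfix : B ⊓ centralizer ({xq} : Set G) ≠ ⊥ := fun e => by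
    have hBW : ⁅B, Z⁆ = B := commutator_eq_of_fpf hZB hcop inferInstance (by
      rw [hZ, inf_centralizer_zpowers]; exact e)
    rw [hW, hBW] at hWc
    refine sigmaCore_ne_bot hG hM (le_bot_iff.1 ?_)
    rw [← h.sigmaCore_inf_centralizer]
    exact le_inf le_rfl (Subgroup.le_centralizer_iff.1 hWc)
  obtain ⟨v, ⟨hvB, hvC⟩, hv1⟩ := (Subgroup.bot_or_exists_ne_one _).resolve_left hfix
  have hvo : orderOf v = r := orderOf_eq_prime (h.elem.2 v hvB) hv1
  by_cases hrL : r ∈ Cfsg.sigma L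
  · -- then `xq` centralises `B`
    obtain ⟨L', hL', hNL⟩ := exists_coatom_ge
      (normalizer_ne_top_of_pgroup hG hBp (square_ne_bot h.elem h.card))
    have hBL : B ≤ L' := Subgroup.le_normalizer.trans hNL
    have hrL' : r ∈ Cfsg.sigma L' := by
      by_contra hr
      obtain ⟨B₁, h'⟩ := exists_exc hG hL' hr hBL h.elem h.card
      exact h'.not_normalizer_le hNL
    obtain ⟨g, hg⟩ := c.h13.partition L L' a.coatom hL' ⟨r, hrL, hrL'⟩
    have hqL' : q ∈ Cfsg.sigma L' := hg ▸ (sigma_conj g L).ge a.q_sigmaL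
    obtain ⟨T, hT⟩ := exists_sylow_map_ge hBp hBL
    obtain ⟨T', hT'⟩ := exists_sylow_map_ge (isPGroup_zpowers (p := q) (u := xq)
      ⟨1, by rw [pow_one, ← a.order, pow_orderOf_eq_one]⟩) (Subgroup.zpowers_le.2 (hNL hxB))
    have hxc := mem_centralizer_of_sigma hG hL'
      (fun hb => not_ideal_of_square h.elem h.card h.setting.hmax hb.2) hBp
      (hT.trans (sylow_le_sigmaCore hG hL' hrL' T))
      (sylow_le_sigmaCore hG hL' hqL' T' (hT' (Subgroup.mem_zpowers xq)))
      (fun hd => hrq ((Nat.prime_dvd_prime_iff_eq Fact.out a.qprime).1 (a.order ▸ hd)).symm) hxB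
    exact hc fun b hb => Subgroup.mem_centralizer_singleton_iff.2 (Subgroup.mem_centralizer_iff.1 hxc b hb)
  rcases a.cases hvC hvo hrL with hk | ⟨hle, -⟩
  · exact (a.kappa_or_sigma hvC hvo hk).elim hrk hrN
  · exact hrL (hexcl hvB hle)

/-- `xq` centralising `B` forces `B ∩ N ≤ K`. -/
theorem square_inf_le {r : ℕ} [Fact r.Prime] {B B₀ : Subgroup G} (h : Exc r M B B₀)
    (hc : B ≤ centralizer ({xq} : Set G)) : B ⊓ N ≤ K := fun b hb =>
  a.inf_centralizer_le ⟨⟨h.le hb.1, hb.2⟩, hc hb.1⟩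

end KapAux

namespace KapAux

variable {p q rz : ℕ} [Fact p.Prime] {M N K L : Subgroup G} {y xq z : G} (a : KapAux p q rz M N K L y xq z)
include a

/-- The contradiction from a prime of `τ₂(M)`, given that `z` centralises `y`. -/
theorem false_of_square {r : ℕ} [Fact r.Prime] {E B B₀ : Subgroup G} (hxE : xq ∈ E) (hKE : K ≤ E)
    (d : AbelianTau r M E B B₀) (hzy : Commute z y) (hc : B ≤ centralizer ({xq} : Set G))
    (hrL : r ∈ Cfsg.sigma L) (hqr : r ∈ Cfsg.kappa N → q = r) : False := by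
  classical
  have c := a.config
  have hG := c.minSimple
  have h := d.exc
  have hE := d.compl
  have hBE := d.le_compl
  haveI := Fact.mk a.qprime
  haveI := Fact.mk a.rzprime
  have hBp := PGroup.isPGroup_of_elementaryAbelian h.elem
  have hLs := isSolvable_of_coatom hG a.coatom
  have hrrz : rz ≠ r := fun e => a.rz_sigmaL (e ▸ hrL)
  set C := centralizer ({xq} : Set G) with hC
  set T := Cfsg.sigmaCore L ⊓ C with hT
  have hTL : T ≤ L := inf_le_left.trans (sigmaCore_le L)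
  have hBL : B ≤ L := hc.trans a.centralizer_le
  have hBT : B ≤ T := by
    obtain ⟨S, hS⟩ := exists_sylow_map_ge hBp hBL
    exact le_inf (hS.trans (sylow_le_sigmaCore hG a.coatom hrL S)) hc
  have hnT : ∀ g ∈ C, g ∈ normalizer (T : Set G) := fun g hg =>
    Coprime.le_normalizer_inf_of_le (a.centralizer_le.trans (le_normalizer_sigmaCore L)) Subgroup.le_normalizer hg
  have hzT : z ∈ normalizer (T : Set G) := hnT z a.z_cent
  -- `C_T(z) ≤ K`
  have hTK : ∀ t ∈ T, t ∈ centralizer ({z} : Set G) → t ∈ K := by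
    intro t ht htz
    have hmem : t ∈ K ⊔ (Cfsg.sigmaCore N ⊓ centralizer (K : Set G)) := by
      rw [← a.pdata.inf_normalizer (Subgroup.zpowers_le.2 a.mem) (zpowers_card_prime a.order)]
      refine ⟨a.unique_z.1 htz, Subgroup.centralizer_le_normalizer _ ?_⟩
      rw [Subgroup.zpowers_eq_closure, Subgroup.centralizer_closure]
      exact ht.2
    have hKn : K ≤ normalizer ((Cfsg.sigmaCore N ⊓ centralizer (K : Set G) : Subgroup G) : Set G) :=
      Coprime.le_normalizer_inf_of_le (a.pdata.hall.1.trans (le_normalizer_sigmaCore N))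
        (Coprime.le_normalizer_centralizer le_rfl |>.trans' Subgroup.le_normalizer)
    obtain ⟨k, hk, w, hw, rfl⟩ := (Coprime.mem_sup_iff_of_le_normalizer hKn).1 hmem
    have hkw : Commute k w := Subgroup.mem_centralizer_iff.1 hw.2 k hk
    have hcop : (Nat.card K).Coprime (orderOf w) := Nat.coprime_of_dvd fun l hl h1 h2 =>
      (a.pdata.hall.2.1 l hl h1).2.2.1 (isPiGrp_piCoreOf (Cfsg.sigma N) N l hl
        (h2.trans (Subgroup.orderOf_dvd_natCard _ hw.1)))
    have hw' : w ^ Nat.card K ∈ Cfsg.sigmaCore L := by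
      have := (Cfsg.sigmaCore L).pow_mem ht.1 (Nat.card K)
      rwa [hkw.mul_pow, orderOf_dvd_iff_pow_eq_one.1 (Subgroup.orderOf_dvd_natCard K hk), one_mul] at this
    have h1 : w ^ Nat.card K = 1 := by
      rw [← orderOf_eq_one_iff]
      by_contra hne
      obtain ⟨l, hl, hld⟩ := Nat.exists_prime_and_dvd hne
      exact a.sigmaL_N (isPiGrp_piCoreOf (Cfsg.sigma L) L l hl (hld.trans (Subgroup.orderOf_dvd_natCard _ hw')))
        (isPiGrp_piCoreOf (Cfsg.sigma N) N l hl
          (hld.trans (Subgroup.orderOf_dvd_natCard _ ((Cfsg.sigmaCore N).pow_mem hw.1 _))))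
    have h2 : w = 1 := orderOf_eq_one_iff.1
      (Nat.eq_one_of_dvd_coprimes hcop (orderOf_dvd_of_pow_eq_one h1) dvd_rfl)
    rwa [h2, mul_one]
  -- the normal `r`-complement
  have hrb : r ∉ beta L := fun hb => not_ideal_of_square h.elem h.card h.setting.hmax hb.2
  have hrdL : r ∣ Nat.card L := hrL.2.1
  obtain ⟨K₀, -, hK₀r, hK₀m⟩ := exists_normal_complement_mem
    ((S1414.result hG L a.coatom).2.2.2.2 r Fact.out hrdL hrb).2.1
  set T₀ := K₀.map (Cfsg.sigmaCore L).subtype ⊓ C with hT₀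
  have hT₀T : T₀ ≤ T := inf_le_inf_right _ (Subgroup.map_subtype_le _)
  have hT₀r : ¬ r ∣ Nat.card T₀ := fun hd => hK₀r (by
    rw [← Subgroup.card_map_of_injective (Cfsg.sigmaCore L).subtype_injective]
    exact hd.trans (Subgroup.card_dvd_of_le inf_le_left))
  have hT₀m : ∀ t ∈ T, ¬ r ∣ orderOf t → t ∈ T₀ := fun t ht hr =>
    ⟨⟨⟨t, ht.1⟩, hK₀m _ (by rwa [← Subgroup.orderOf_coe]), rfl⟩, ht.2⟩
  have hnT₀ : normalizer (T : Set G) ≤ normalizer (T₀ : Set G) := by
    intro g hg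
    refine Subgroup.mem_normalizer_iff.2 fun t => ⟨fun ht => hT₀m _ ((Subgroup.mem_normalizer_iff.1 hg t).1 (hT₀T ht))
      fun hd => ?_, fun ht => hT₀m _ ((Subgroup.mem_normalizer_iff.1 hg t).2 (hT₀T ht)) fun hd => ?_⟩
    · rw [show g * t * g⁻¹ = MulAut.conj g t from rfl, (MulAut.conj g).orderOf_eq] at hd
      exact hT₀r (hd.trans (Subgroup.orderOf_dvd_natCard T₀ ht))
    · refine hT₀r (dvd_trans ?_ (Subgroup.orderOf_dvd_natCard T₀ ht))
      rwa [show g * t * g⁻¹ = MulAut.conj g t from rfl, (MulAut.conj g).orderOf_eq]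
  -- an invariant Sylow subgroup
  have hzcop : (Nat.card (zpowers z)).Coprime (Nat.card T) := by
    rw [zpowers_card_prime a.z_order, a.rzprime.coprime_iff_not_dvd]
    exact fun hd => a.rz_sigmaL (isPiGrp_piCoreOf (Cfsg.sigma L) L rz a.rzprime
      (hd.trans (Subgroup.card_dvd_of_le inf_le_left)))
  obtain ⟨S₀, hS₀⟩ := Coprime.exists_invariant_sylow (Subgroup.zpowers_le.2 hzT) hzcop (Or.inl inferInstance) r
  set Sz := (S₀ : Subgroup T).map T.subtype with hSz
  have hSyl : IsSyl r Sz T := ⟨S₀, rfl⟩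
  obtain ⟨t, ht, htB⟩ := hSyl.exists_conj_le hBp hBT
  set B' := MulAut.conj t • B with hB'
  obtain ⟨R, hRE, hBR, hRc, hΩ, -, -, -⟩ := d.spec
  -- `Sz` is abelian
  have hSc : ∀ u ∈ Sz, ∀ v ∈ Sz, Commute u v := by
    obtain ⟨R', hR'⟩ := hSyl.isPGroup.exists_le_sylow
    obtain ⟨g, hg⟩ := MulAction.exists_smul_eq G R R'
    intro u hu v hv
    have hu' := hR' hu
    have hv' := hR' hv
    rw [← hg, Sylow.coe_subgroup_smul, Coprime.mem_conj_smul_iff] at hu' hv'
    have h1 := congrArg (fun w => g * w * g⁻¹) (PGroup.mul_comm_of_isMulCommutative hRc hu' hv')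
    simpa [Commute, SemiconjBy, mul_assoc] using h1
  have hB'el : ∀ v ∈ Sz, v ^ r = 1 → v ∈ B' := by
    intro v hv hvr
    rw [hB', Coprime.mem_conj_smul_iff]
    refine h.setting.hmax _ (Subgroup.mem_centralizer_iff.2 fun b hb => ?_) ?_
    · have h1 := (hSc _ (htB (Subgroup.smul_mem_pointwise_smul b (MulAut.conj t) _ hb)) v hv).eq
      have h2 := congrArg (fun w => t⁻¹ * w * t) h1
      simpa [MulAut.smul_def, mul_assoc] using h2
    · rw [show t⁻¹ * v * t = t⁻¹ * v * t⁻¹⁻¹ by rw [inv_inv], conj_pow, hvr, mul_one, mul_inv_cancel]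
  have hB'e : IsElementaryAbelian r B' := by
    refine ⟨PGroup.isMulCommutative_of_forall fun u hu v hv => (hSc u (htB hu) v (htB hv)).eq, fun u hu => ?_⟩
    rw [hB', Coprime.mem_conj_smul_iff] at hu
    have h1 := h.elem.2 _ hu
    rw [show t⁻¹ * u * t = t⁻¹ * u * t⁻¹⁻¹ by rw [inv_inv], conj_pow, mul_inv_eq_one, mul_eq_left] at h1
    exact h1
  have hzB' : z ∈ normalizer (B' : Set G) := by
    refine Coprime.mem_normalizer_of_conj_smul_eq (Subgroup.eq_of_le_of_card_ge (fun v hv => ?_)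
      (le_of_eq (Coprime.card_conj_smul _ _).symm))
    rw [Coprime.mem_conj_smul_iff] at hv
    have h1 : z * (z⁻¹ * v * z) * z⁻¹ ∈ Sz :=
      (Subgroup.mem_normalizer_iff.1 (hS₀ (Subgroup.mem_zpowers z)) _).1 (htB hv)
    rw [show z * (z⁻¹ * v * z) * z⁻¹ = v by group] at h1
    refine hB'el v h1 ?_
    have h2 := hB'e.2 _ hv
    rwa [show z⁻¹ * v * z = z⁻¹ * v * z⁻¹⁻¹ by rw [inv_inv], conj_pow, mul_inv_eq_one, mul_eq_left] at h2
  have hB'T : B' ≤ T := htB.trans hSyl.le
  have hSn : Sz ≤ normalizer (T₀ : Set G) := (hSyl.le.trans Subgroup.le_normalizer).trans hnT₀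
  have hSB : Sz ≤ centralizer (B' : Set G) := fun v hv =>
    Subgroup.mem_centralizer_iff.2 fun u hu => (hSc u (htB hu) v hv).eq
  have hB'n : B' ≤ normalizer (T₀ : Set G) := htB.trans hSn
  have hB'p : IsPGroup r B' := hBp.map _
  have hcopT₀ : (Nat.card B').Coprime (Nat.card T₀) := coprime_of_isPGroup hB'p hT₀r
  have hsupT : T₀ ⊔ Sz = T := by
    refine le_antisymm (sup_le hT₀T hSyl.le) ?_
    refine Subgroup.subgroupOf_eq_top.1 (Components.eq_top_of_forall_sylow fun l hl _ => ?_)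
    haveI := Fact.mk hl
    rcases eq_or_ne l r with rfl | hlr
    · exact ⟨S₀, fun v hv => Subgroup.mem_sup_right (Subgroup.mem_map_of_mem _ hv)⟩
    · refine ⟨default, fun v hv => Subgroup.mem_sup_left (hT₀m _ v.2 fun hd => hlr ?_)⟩
      obtain ⟨k, hk⟩ := (default : Sylow l T).2 ⟨v, hv⟩
      exact ((Nat.prime_dvd_prime_iff_eq Fact.out hl).1 ((Fact.out : r.Prime).dvd_of_dvd_pow
        (hd.trans (orderOf_dvd_of_pow_eq_one (congrArg Subtype.val (congrArg Subtype.val hk) :
          (v : G) ^ l ^ k = 1))))).symm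
  set H₀ := ⁅T₀, B'⁆ with hH₀
  have hH₀T₀ : H₀ ≤ T₀ := Coprime.commutator_le_left_of_le_normalizer hB'n
  have hTH : T ≤ normalizer (H₀ : Set G) := by
    rw [← hsupT]
    refine sup_le (Subgroup.normalizer_commutator_ge_left T₀ B') fun v hv => ?_
    rw [Subgroup.mem_normalizer_iff_map_conj_eq, hH₀, Subgroup.map_commutator,
      Subgroup.mem_normalizer_iff_map_conj_eq.1 (hSn hv),
      Subgroup.mem_normalizer_iff_map_conj_eq.1 (Subgroup.centralizer_le_normalizer _ (hSB hv))]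
  have hzH : z ∈ normalizer (H₀ : Set G) := by
    rw [Subgroup.mem_normalizer_iff_map_conj_eq, hH₀, Subgroup.map_commutator,
      Subgroup.mem_normalizer_iff_map_conj_eq.1 (hnT₀ hzT), Subgroup.mem_normalizer_iff_map_conj_eq.1 hzB']
  -- `B'` centralises `T₀`
  have hH₀bot : H₀ = ⊥ := by
    by_contra hne
    set P := L ⊓ normalizer (H₀ : Set G) with hP
    have hTP : T ≤ P := le_inf hTL hTH
    have hzP : z ∈ P := ⟨a.centralizer_le a.z_cent, hzH⟩
    haveI hPs : Group.IsSolvable P := Coprime.isSolvable_of_le inf_le_left hLs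
    set H' := H₀.subgroupOf P with hH'
    haveI : H'.Normal := Coprime.normal_subgroupOf_of_le_normalizer inf_le_right
    set W' := B'.subgroupOf P with hW'
    have hmapH : H'.map P.subtype = H₀ := Subgroup.map_subgroupOf_eq_of_le ((hH₀T₀.trans hT₀T).trans hTP)
    have hmapW : W'.map P.subtype = B' := Subgroup.map_subgroupOf_eq_of_le (hB'T.trans hTP)
    have hHW : ⁅H', W'⁆ = H' := Subgroup.map_injective P.subtype_injective (by
      rw [Subgroup.map_commutator, hmapH, hmapW, hH₀,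
        Coprime.commutator_commutator_eq hB'n hcopT₀ (Or.inl (square_solvable hB'e))])
    have hcardH : Nat.card H' = Nat.card H₀ := Coprime.card_subgroupOf ((hH₀T₀.trans hT₀T).trans hTP)
    have hcopH : (Nat.card W').Coprime (Nat.card H') := by
      rw [hcardH, Coprime.card_subgroupOf (hB'T.trans hTP)]
      exact hcopT₀.coprime_dvd_right (Subgroup.card_dvd_of_le hH₀T₀)
    have hder : ∀ v : P, v ∈ normalizer (H' : Set P) := fun v => by
      rw [Subgroup.normalizer_eq_top]; exact Subgroup.mem_top v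
    have hbot : H' = ⊥ := by
      refine eq_bot_of_fixed_le_derived (p := r) (z := (⟨z, hzP⟩ : P)) (odd_subgroup hG.1 P) (B := W')
        hB'p.comap_subtype ?_ ?_ ?_ ?_ ?_ hHW ?_ ?_
      · rw [hcardH]; exact fun hd => hT₀r (hd.trans (Subgroup.card_dvd_of_le hH₀T₀))
      · rw [← Subgroup.orderOf_coe]; exact a.z_order ▸ a.rzprime
      · rw [← Subgroup.orderOf_coe]; exact a.z_order ▸ hrrz
      · rw [hcardH, ← Subgroup.orderOf_coe]
        intro hd
        exact a.rz_sigmaL (isPiGrp_piCoreOf (Cfsg.sigma L) L rz a.rzprime ((a.z_order ▸ hd).trans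
          (Subgroup.card_dvd_of_le ((hH₀T₀.trans hT₀T).trans inf_le_left))))
      · refine Subgroup.mem_normalizer_iff.2 fun v => ?_
        exact Subgroup.mem_normalizer_iff.1 hzB' v
      · -- fixed points of `z`
        rintro v ⟨hv, hvz⟩
        have hvT : (v : G) ∈ T := hT₀T (hH₀T₀ hv)
        have hvK : (v : G) ∈ K := hTK v hvT (Subgroup.mem_centralizer_singleton_iff.2
          (congrArg Subtype.val (Subgroup.mem_centralizer_singleton_iff.1 hvz)))
        have hvB : (v : G) ∈ centralizer (B : Set G) := by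
          refine Subgroup.mem_centralizer_iff.2 fun b hb => ?_
          have h1 : b * v * b⁻¹ * (v : G)⁻¹ ∈ B ⊓ T₀ := by
            refine ⟨?_, T₀.mul_mem ((Subgroup.mem_normalizer_iff.1
              (hnT₀ (Subgroup.le_normalizer (hBT hb))) _).1 (hH₀T₀ hv)) (T₀.inv_mem (hH₀T₀ hv))⟩
            have := B.mul_mem hb ((Subgroup.mem_normalizer_iff.1
              (h.complement_le_normalizer hE hBE (hKE hvK)) b⁻¹).1 (B.inv_mem hb))
            simpa [mul_assoc] using this
          rw [Coprime.disjoint_of_coprime_card (coprime_of_isPGroup hBp hT₀r), Subgroup.mem_bot,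
            mul_inv_eq_one, mul_inv_eq_iff_eq_mul] at h1
          exact h1
        set tP : P := ⟨t, hTP ht⟩ with htP
        have h1 : tP * v * tP⁻¹ ∈ H' ⊓ centralizer (W' : Set P) := by
          refine ⟨(Subgroup.mem_normalizer_iff.1 (hder tP) v).1 hv, Subgroup.mem_centralizer_iff.2 fun u hu => ?_⟩
          refine Subtype.ext ?_
          have hu' : t⁻¹ * (u : G) * t ∈ B := Coprime.mem_conj_smul_iff.1 hu
          have h2 := congrArg (fun w => t * w * t⁻¹) (Subgroup.mem_centralizer_iff.1 hvB _ hu')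
          simpa [htP, mul_assoc] using h2
        have h3 := inf_centralizer_le_derived_of_commutator hcopH hHW h1
        have h4 := (Subgroup.mem_normalizer_iff.1
          ((Subgroup.normalizer_eq_top ⁅H', H'⁆).ge (Subgroup.mem_top tP⁻¹)) _).1 h3
        simpa [mul_assoc] using h4
      · -- `C_{B'}(z)` centralises `H₀`
        rintro v ⟨hv, hvz⟩
        refine Subgroup.mem_centralizer_iff.2 fun u hu => Subtype.ext ?_
        rcases eq_or_ne (v : G) 1 with e | hv1
        · simp [e]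
        have hvK : (v : G) ∈ K := hTK v (hB'T hv) (Subgroup.mem_centralizer_singleton_iff.2
          (congrArg Subtype.val (Subgroup.mem_centralizer_singleton_iff.1 hvz)))
        have hvo : orderOf (v : G) = r := orderOf_eq_prime (hB'e.2 _ hv) hv1
        have hqe := hqr (a.pdata.hall.2.1 r Fact.out (hvo ▸ Subgroup.orderOf_dvd_natCard K hvK))
        subst hqe
        have hze := zpowers_eq_of_isCyclic a.pdata.cyclic a.mem hvK
          (by rw [← a.order, pow_orderOf_eq_one]) (hB'e.2 _ hv) a.xq_ne hv1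
        obtain ⟨i, hi⟩ := hze.le (Subgroup.mem_zpowers (v : G))
        show (u : G) * (v : G) = (v : G) * (u : G)
        rw [← hi]
        exact (Commute.zpow_right (Subgroup.mem_centralizer_singleton_iff.1 (hT₀T (hH₀T₀ hu)).2) i).eq
    exact hne (by rw [← hmapH, hbot, Subgroup.map_bot])
  -- so `B' = B` and `z` normalises `B`
  have hT₀c : T₀ ≤ centralizer (B' : Set G) := by
    rw [Subgroup.le_centralizer_iff]
    exact Coprime.le_centralizer_iff_commutator_eq_bot.2 hH₀bot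
  have hTc : T ≤ centralizer (B' : Set G) := hsupT ▸ sup_le hT₀c hSB
  have hBB : B' = B := by
    refine (Subgroup.eq_of_le_of_card_ge (fun v hv => ?_) (le_of_eq (Coprime.card_conj_smul _ _).symm))
    have h1 := Subgroup.mem_centralizer_iff.1 (hTc ht) v hv
    rw [hB', Coprime.mem_conj_smul_iff] at hv
    rwa [mul_assoc, h1, inv_mul_cancel_left] at hv
  rw [hBB] at hzB'
  -- `B` normalises the cyclic group `M_σ ∩ M^z`
  have hDc := ((S1426.result hG M c.coatom E hE).2.2 z a.z_not_M).1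
  set D := Cfsg.sigmaCore M ⊓ M.map (MulAut.conj z).toMonoidHom with hD
  have hyD : y ∈ D := ⟨c.mem, y, sigmaCore_le M c.mem, by
    show z * y * z⁻¹ = y
    rw [hzy.eq, mul_inv_cancel_right]⟩
  have hBN : B ≤ N := by
    intro b hb
    refine c.normalizer_le ?_
    have hb' : z⁻¹ * b * z ∈ B := by
      have := (Subgroup.mem_normalizer_iff.1 ((normalizer (B : Set G)).inv_mem hzB') b).1 hb
      simpa using this
    have h1 : b * y * b⁻¹ ∈ D := by
      refine ⟨(Subgroup.mem_normalizer_iff.1 (le_normalizer_sigmaCore M (h.le hb)) y).1 c.mem,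
        z⁻¹ * b * z * y * (z⁻¹ * b * z)⁻¹, M.mul_mem (M.mul_mem (h.le hb') (sigmaCore_le M c.mem))
          (M.inv_mem (h.le hb')), ?_⟩
      show z * (z⁻¹ * b * z * y * (z⁻¹ * b * z)⁻¹) * z⁻¹ = b * y * b⁻¹
      rw [mul_assoc (z⁻¹ * b) z y, hzy.eq]
      group
    refine mem_normalizer_zpowers ?_
    rcases eq_or_ne (b * y * b⁻¹) 1 with e | e
    · rw [e]; exact one_mem _
    rw [← zpowers_eq_of_isCyclic hDc hyD h1 (c.order ▸ pow_orderOf_eq_one y)
      (by rw [conj_pow, ← c.order, pow_orderOf_eq_one, mul_one, mul_inv_cancel]) c.ne_one e]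
    exact Subgroup.mem_zpowers _
  have hBK : B ≤ K := fun b hb => a.square_inf_le h hc ⟨hb, hBN hb⟩
  haveI := a.pdata.cyclic
  exact square_not_cyclic h.elem h.card
    (isCyclic_of_injective (Subgroup.inclusion hBK) (Subgroup.inclusion_injective hBK))

end KapAux

namespace SupConfig

variable {p : ℕ} [Fact p.Prime] {M N : Subgroup G} {y : G} (c : SupConfig p M N y)
include c

/-- `τ₂(M)` is empty. -/
theorem tau2_empty : Cfsg.tau2 M = ∅ := by
  classical
  have hG := c.minSimple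
  refine Set.eq_empty_iff_forall_notMem.2 fun r hrt => ?_
  haveI := Fact.mk hrt.1
  obtain ⟨K, -, d⟩ := c.exists_hall (bot_le : (⊥ : Subgroup G) ≤ M ⊓ N)
    (fun l hl h => absurd (Subgroup.card_bot (G := G) ▸ h) hl.not_dvd_one)
  obtain ⟨q, hq, hqr⟩ : ∃ q : ℕ, q ∈ Cfsg.kappa N ∧ (r ∈ Cfsg.kappa N → q = r) := by
    by_cases hr : r ∈ Cfsg.kappa N
    · exact ⟨r, hr, fun _ => rfl⟩
    · obtain ⟨q, hq⟩ := c.nonempty
      exact ⟨q, hq, fun h => absurd h hr⟩
  haveI := Fact.mk hq.1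
  obtain ⟨L, xq, z₀, rz₀, a₀⟩ := c.exists_aux d hq
  have hKcop : (Nat.card K).Coprime (Nat.card (Cfsg.sigmaCore M)) := Nat.coprime_of_dvd fun l hl h1 h2 => by
    haveI := Fact.mk hl
    obtain ⟨L', x', z', r', a'⟩ := c.exists_aux d (d.hall.2.1 l hl h1)
    exact a'.q_sigmaM (isPiGrp_piCoreOf (Cfsg.sigma M) M l hl h2)
  obtain ⟨E, hE, hKE⟩ := exists_compl hG c.coatom (d.le.trans inf_le_left) hKcop
  obtain ⟨B, hBE, hB, hBc⟩ := exists_square_le_compl hE hrt.2.1 hrt.2.2.2
  obtain ⟨B₀, h⟩ := exists_exc hG c.coatom hrt.2.1 (hBE.trans hE.1) hB hBc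
  obtain ⟨hc, hrL⟩ := a₀.square_spec hE (hKE a₀.mem) hBE h hqr
  -- `B` meets `C(y)` trivially
  have hBy : ∀ b ∈ B, Commute b y → b = 1 := by
    intro b hb hby
    by_contra hb1
    have hbo : orderOf b = r := orderOf_eq_prime (hB.2 b hb) hb1
    have hbH : b ∈ M ⊓ N := c.centralizer_inf_le ⟨h.le hb, Subgroup.mem_centralizer_singleton_iff.2 hby.eq⟩
    have hbK : b ∈ K := a₀.square_inf_le h hc ⟨hb, hbH.2⟩
    exact c.not_commute hbH hbo (d.hall.2.1 r Fact.out (hbo ▸ Subgroup.orderOf_dvd_natCard K hbK))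
      c.mem_inf c.order (fun hk => not_mem_tau2_of_kappa hk c.p_tau2) hby.symm
  have hab : ∃ S : Sylow r G, IsMulCommutative (S : Subgroup G) := by
    by_contra hna
    push Not at hna
    obtain ⟨-, ⟨hcard, -⟩, -⟩ := S1419.result hG M c.coatom E hE r hrt hna B ⟨hBE, hB, hBc⟩
    obtain ⟨b, ⟨hb, hbc⟩, hb1⟩ := (Subgroup.bot_or_exists_ne_one _).resolve_left
      (fun e => hrt.1.ne_one (by rw [← hcard, e, Subgroup.card_bot]) :
        B ⊓ centralizer (Cfsg.sigmaCore M : Set G) ≠ ⊥)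
    exact hb1 (hBy b hb (Subgroup.mem_centralizer_iff.1 hbc y c.mem).symm)
  -- an element of `C_{N_σ}(K)` commuting with `y`
  suffices hz : ∃ z ∈ Cfsg.sigmaCore N ⊓ centralizer (K : Set G), z ≠ 1 ∧ Commute z y by
    obtain ⟨z, hz, hz1, hzy⟩ := hz
    obtain ⟨rz, hrz, hrd⟩ := Nat.exists_prime_and_dvd (fun e => hz1 (orderOf_eq_one_iff.1 e))
    haveI := Fact.mk hrz
    obtain ⟨w, hw⟩ := exists_prime_orderOf_dvd_card' (G := zpowers z) rz (by rwa [Nat.card_zpowers])
    rw [← Subgroup.orderOf_coe] at hw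
    have hwy : Commute (w : G) y := by
      obtain ⟨i, hi⟩ := w.2
      rw [← hi]; exact hzy.zpow_left i
    exact (⟨c, d, hq.1, hrz, a₀.mem, a₀.order, a₀.coatom, a₀.normalizer_le,
      Subgroup.zpowers_le.2 hz w.2, hw⟩ : KapAux p q rz M N K L y xq (w : G)).false_of_square
        (hKE a₀.mem) hKE ⟨h, hE, hBE, hab⟩ hwy hc hrL hqr
  obtain ⟨A, A₀, hAH, hex, hyA, hAσ⟩ := c.exists_square
  have hN := c.supp.coatom
  by_cases habp : ∃ S : Sylow p G, IsMulCommutative (S : Subgroup G)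
  swap
  · push Not at habp
    obtain ⟨-, -, hlines⟩ := S1419.result hG N hN (M ⊓ N) c.supp.compl p c.p_tau2 habp A
      ⟨hAH, hex.elem, hex.card⟩
    have hY : zpowers y = A ⊓ centralizer (Cfsg.sigmaCore N : Set G) := by
      by_contra hne
      have h1 := (hlines (zpowers y) (Subgroup.zpowers_le.2 c.mem_inf) (zpowers_card_prime c.order) hne).1
      rw [inf_centralizer_zpowers] at h1
      exact c.supp.fixed_ne h1
    obtain ⟨z, hz, hz1⟩ := (Subgroup.bot_or_exists_ne_one _).resolve_left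
      (fun e => a₀.z_ne (Subgroup.mem_bot.1 (e ▸ a₀.z_mem)) :
        Cfsg.sigmaCore N ⊓ centralizer (K : Set G) ≠ ⊥)
    exact ⟨z, hz, hz1, Subgroup.mem_centralizer_iff.1 (hY.le (Subgroup.mem_zpowers y)).2 z hz.1⟩
  -- `A` is normal in `M`
  have dA : AbelianTau p N (M ⊓ N) A A₀ := ⟨hex, c.supp.compl, hAH, habp⟩
  obtain ⟨R, hRH, hAR, hRc, hΩ, -, -, -⟩ := dA.spec
  have hRM : (R : Subgroup G) ≤ M := hRH.le.trans ((pOf_le _).trans inf_le_left)
  have hRσ : (R : Subgroup G) ≤ Cfsg.sigmaCore M := by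
    obtain ⟨T, hT⟩ := exists_sylow_map_ge R.2 hRM
    exact hT.trans (sylow_le_sigmaCore hG c.coatom c.p_sigma T)
  have hRe : pOf p (Cfsg.sigmaCore M) = (R : Subgroup G) := R.is_maximal' (isPGroup_pOf _) fun v hv => by
    obtain ⟨k, hk⟩ := R.2 ⟨v, hv⟩
    exact mem_pOf (le_fittingOf_of_nilpotent a₀.nilpotent (hRσ hv)) (congrArg Subtype.val hk :)
  have hMA : M ≤ normalizer (A : Set G) := by
    have h1 : M ≤ normalizer ((R : Subgroup G) : Set G) :=
      hRe ▸ (le_normalizer_sigmaCore M).trans (normalizer_le_normalizer_pOf _)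
    exact hΩ ▸ h1.trans (normalizer_le_normalizer_omegaOne p (R : Subgroup G))
  have hrp : r ≠ p := fun e => hrt.2.1 (e ▸ c.p_sigma)
  obtain ⟨b, hb, hb1, hbs⟩ := exists_scalar hrp hex.elem hex.card hB hBc ((hBE.trans hE.1).trans hMA)
    ((Subgroup.eq_bot_iff_forall _).2 fun b hb => hBy b hb.1
      (Subgroup.mem_centralizer_iff.1 hb.2 y hyA).symm)
  have hbY : b ∈ normalizer (zpowers y : Set G) := mem_normalizer_zpowers (hbs y hyA)
  have hbK : b ∈ K := a₀.square_inf_le h hc ⟨hb, c.normalizer_le hbY⟩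
  have hbo : orderOf b = r := orderOf_eq_prime (hB.2 b hb) hb1
  have hqe := hqr (d.hall.2.1 r Fact.out (hbo ▸ Subgroup.orderOf_dvd_natCard K hbK))
  subst hqe
  have hxY : xq ∈ normalizer (zpowers y : Set G) := by
    have hze := zpowers_eq_of_isCyclic d.cyclic hbK a₀.mem (hB.2 b hb)
      (by rw [← a₀.order, pow_orderOf_eq_one]) hb1 a₀.xq_ne
    exact (Subgroup.zpowers_le.2 hbY) (hze.le (Subgroup.mem_zpowers xq))
  set V := Cfsg.sigmaCore N ⊓ centralizer ({y} : Set G) with hV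
  by_cases hne : V ⊓ centralizer ({xq} : Set G) = ⊥
  swap
  · obtain ⟨v, ⟨⟨hv, hvy⟩, hvx⟩, hv1⟩ := (Subgroup.bot_or_exists_ne_one _).resolve_left hne
    exact ⟨v, (d.primeAction a₀.mem a₀.xq_ne).le ⟨hv, hvx⟩, hv1, Subgroup.mem_centralizer_singleton_iff.1 hvy⟩
  exfalso
  haveI := hex.elem.1
  set P := N ⊓ normalizer (V : Set G) with hP
  haveI : Group.IsSolvable P := Coprime.isSolvable_of_le inf_le_left (isSolvable_of_coatom hG hN)
  have hxA : xq ∈ normalizer (A : Set G) := hMA a₀.xq_inf.1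
  have hxV : xq ∈ normalizer (V : Set G) := by
    refine Coprime.le_normalizer_inf_of_le (Subgroup.zpowers_le.2 (le_normalizer_sigmaCore N a₀.xq_inf.2))
      ?_ (Subgroup.mem_zpowers xq)
    rw [← Subgroup.centralizer_closure, ← Subgroup.zpowers_eq_closure]
    exact Coprime.le_normalizer_centralizer (Subgroup.zpowers_le.2 hxY)
  have hAV : A ≤ normalizer (V : Set G) := Coprime.le_normalizer_inf_of_le
    (hex.le.trans (le_normalizer_sigmaCore N)) fun v hv => Subgroup.le_normalizer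
      (Subgroup.mem_centralizer_singleton_iff.2 (PGroup.mul_comm_of_elementaryAbelian hex.elem hv hyA))
  have hqp : q ≠ p := fun e => not_mem_tau2_of_kappa (e ▸ hq) c.p_tau2
  have hcop : (Nat.card (zpowers xq)).Coprime (Nat.card A) := by
    rw [zpowers_card_prime a₀.order, hex.card]
    exact ((Nat.coprime_primes hq.1 Fact.out).2 hqp).pow_right 2
  have hWW : ⁅zpowers xq, A⁆ = A := by
    rw [Subgroup.commutator_comm]
    refine commutator_eq_of_fpf (Subgroup.zpowers_le.2 hxA) hcop inferInstance ?_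
    rw [inf_centralizer_zpowers, Subgroup.eq_bot_iff_forall]
    intro v hv
    by_contra hv1
    have hvK := a₀.inf_centralizer_le ⟨hAH hv.1, hv.2⟩
    exact not_mem_tau2_of_kappa (d.hall.2.1 p Fact.out ((orderOf_eq_prime (hex.elem.2 v hv.1) hv1) ▸
      Subgroup.orderOf_dvd_natCard K hvK)) c.p_tau2
  have hle := le_centralizer_of_fpf (P := P) (V := V) (W := A) (odd_subgroup hG.1 P) inf_le_right
    (le_inf (inf_le_left.trans (sigmaCore_le N)) Subgroup.le_normalizer) (le_inf hex.le hAV)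
    (b := xq) ⟨a₀.xq_inf.2, hxV⟩ ?_ (p := p) (PGroup.isPGroup_of_elementaryAbelian hex.elem)
    (a₀.order ▸ hq.1) (a₀.order ▸ hqp) ?_ ?_ hxA hWW hne
  · refine c.supp.fixed_ne (le_bot_iff.1 ?_)
    rw [← hex.sigmaCore_inf_centralizer]
    exact le_inf inf_le_left (Subgroup.le_centralizer_iff.1 hle)
  · haveI := c.supp.nilpotent
    exact Group.nilpotent_of_mulEquiv (Subgroup.subgroupOfEquivOfLe (inf_le_left : V ≤ Cfsg.sigmaCore N))
  · exact fun hd => a₀.q_sigmaN (isPiGrp_piCoreOf (Cfsg.sigma N) N q hq.1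
      ((a₀.order ▸ hd).trans (Subgroup.card_dvd_of_le inf_le_left)))
  · exact fun hd => c.p_tau2.2.1 (isPiGrp_piCoreOf (Cfsg.sigma N) N p Fact.out
      (hd.trans (Subgroup.card_dvd_of_le inf_le_left)))

end SupConfig

/-- The conclusion of the frozen statement S1376 (BG 14.4 (c)). -/
theorem kappa_supporting (hG : IsMinSimpleOddOrder G) (h13 : BG13 G) {M : Subgroup G} (hM : IsCoatom M)
    {x : G} (hx : x ∈ sigmaCore M) (hx1 : x ≠ 1) (hxM : ¬ centralizer ({x} : Set G) ≤ M)
    {N : Subgroup G} (hN : IsCoatom N) (hxN : centralizer ({x} : Set G) ≤ N) (hkN : (kappa N).Nonempty) :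
    kappa M = ∅ ∧ (∃ E : Subgroup ↥M, IsFrobeniusComplement E ∧ IsCyclic E) ∧
      ¬ IsTISubset (fittingHallOf M : Set G) := by
  classical
  obtain ⟨N₀, h₀⟩ := exists_supporting hG h13.partition h13.transfer hM hx hx1 hxM
  obtain rfl := h₀.unique N hN hxN
  obtain ⟨p, hp, hpd⟩ := Nat.exists_prime_and_dvd (fun e => hx1 (orderOf_eq_one_iff.1 e))
  haveI := Fact.mk hp
  obtain ⟨w, hw⟩ := exists_prime_orderOf_dvd_card' (G := zpowers x) p (by rwa [Nat.card_zpowers])
  rw [← Subgroup.orderOf_coe] at hw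
  set y : G := (w : G) with hy
  have hy1 : y ≠ 1 := fun e => hp.ne_one (by rw [← hw, e, orderOf_one])
  have hyσ : y ∈ sigmaCore M := Subgroup.zpowers_le.2 hx w.2
  have hCy : centralizer ({x} : Set G) ≤ centralizer ({y} : Set G) := fun g hg => by
    obtain ⟨i, hi⟩ := w.2
    refine Subgroup.mem_centralizer_singleton_iff.2 ?_
    rw [hy, ← hi]
    exact (Commute.zpow_right (Subgroup.mem_centralizer_singleton_iff.1 hg) i).eq
  obtain ⟨N₁, h₁⟩ := exists_supporting hG h13.partition h13.transfer hM hyσ hy1 fun e => hxM (hCy.trans e)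
  obtain rfl := h₀.unique N₁ h₁.coatom (hCy.trans h₁.centralizer_le)
  have c : SupConfig p M N₁ y := ⟨hG, h13, hM, h₁, hyσ, hw, hkN⟩
  obtain ⟨K, -, d⟩ := c.exists_hall (bot_le : (⊥ : Subgroup G) ≤ M ⊓ N₁)
    (fun l hl h => absurd (Subgroup.card_bot (G := G) ▸ h) hl.not_dvd_one)
  obtain ⟨q, hq⟩ := hkN
  haveI := Fact.mk hq.1
  obtain ⟨L, xq, z, rz, a⟩ := c.exists_aux d hq
  have hnil := a.nilpotent
  have hFσ := sigmaCore_eq_fittingHallOf hG hM hnil
  have hnM : normalizer (sigmaCore M : Set G) = M :=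
    normalizer_eq_of_normal hG hM (sigmaCore_le M) (le_normalizer_sigmaCore M) (sigmaCore_ne_bot hG hM)
  obtain ⟨E, hE, hxE⟩ := exists_compl hG hM (Subgroup.zpowers_le.2 a.xq_inf.1) (by
    rw [zpowers_card_prime a.order]
    exact hq.1.coprime_iff_not_dvd.2 (not_dvd_sigmaCore a.q_sigmaM))
  have ht2 := c.tau2_empty
  have hσE : ∀ {l : ℕ}, l.Prime → l ∣ Nat.card E → l ∉ sigma M := fun hl hd =>
    not_mem_sigma_of_compl hG hM hE hl hd
  -- a normal `p`-subgroup of rank at most two in `M_σ`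
  obtain ⟨u, hu, hu1, hEu⟩ : ∃ u ∈ sigmaCore M, u ≠ 1 ∧
      ∀ e ∈ ⁅E, E⁆, Commute e u := by
    set P := pOf p (sigmaCore M) with hP
    have hyP : y ∈ P := mem_pOf (k := 1) (le_fittingOf_of_nilpotent hnil hyσ)
      (by rw [pow_one, ← hw, pow_orderOf_eq_one])
    have hPp : IsPGroup p P := isPGroup_pOf _
    haveI : Nontrivial P := (Subgroup.nontrivial_iff_ne_bot P).2 fun e =>
      hy1 (Subgroup.mem_bot.1 (e ▸ hyP))
    set D := P ⊓ centralizer (P : Set G) with hD
    obtain ⟨u, hu, hu1⟩ : ∃ u ∈ D, u ≠ 1 := by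
      haveI := hPp.center_nontrivial
      obtain ⟨⟨v, hv⟩, hv1⟩ := exists_ne (1 : Subgroup.center P)
      refine ⟨v, ⟨v.2, Subgroup.mem_centralizer_iff.2 fun g hg => ?_⟩, fun e => hv1 (Subtype.ext (Subtype.ext e))⟩
      exact congrArg Subtype.val (Subgroup.mem_center_iff.1 hv ⟨g, hg⟩)
    have hDσ : D ≤ sigmaCore M := inf_le_left.trans (pOf_le _)
    refine ⟨u, hDσ hu, hu1, fun e he => ?_⟩
    have hPn : M ≤ normalizer (P : Set G) :=
      (le_normalizer_sigmaCore M).trans (normalizer_le_normalizer_pOf _)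
    have hDn : M ≤ normalizer (D : Set G) :=
      Coprime.le_normalizer_inf_of_le hPn (Coprime.le_normalizer_centralizer hPn)
    have hDM : D ≤ M := hDσ.trans (sigmaCore_le M)
    have hDN : D ≤ N₁ := fun v hv => h₁.centralizer_le
      (Subgroup.mem_centralizer_singleton_iff.2 (Subgroup.mem_centralizer_iff.1 hv.2 y hyP).symm)
    haveI : (D.subgroupOf M).Normal := Coprime.normal_subgroupOf_of_le_normalizer hDn
    have hr : PRankLE p 2 ↥(D.subgroupOf M) := pRankLE_of_injective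
      (f := (Subgroup.inclusion hDN).comp (Subgroup.subgroupOfEquivOfLe hDM).toMonoidHom)
      ((Subgroup.inclusion_injective hDN).comp (Subgroup.subgroupOfEquivOfLe hDM).injective) c.p_tau2.2.2.1
    have heE : e ∈ E := Subgroup.commutator_le_self E he
    have hec : e ∈ ⁅M, M⁆ := Subgroup.commutator_mono hE.1 hE.1 he
    rw [← Subgroup.map_subtype_commutator] at hec
    obtain ⟨v, hv, rfl⟩ := hec
    have hcop : (orderOf v).Coprime p := by
      refine (hp.coprime_iff_not_dvd.2 fun hd => ?_).symm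
      rw [← Subgroup.orderOf_coe] at hd
      exact hσE hp (hd.trans (Subgroup.orderOf_dvd_natCard E heE)) c.p_sigma
    haveI := isSolvable_of_coatom hG hM
    have h2 := commutator_mem_centralizer_of_rankTwo (G := M) (odd_subgroup hG.1 M) (D.subgroupOf M)
      (hPp.to_le inf_le_left).comap_subtype hr hv hcop
    exact (congrArg Subtype.val (Subgroup.mem_centralizer_iff.1 h2 ⟨u, hDM hu⟩ hu)).symm
  -- `E' = ⊥`
  have hE' : ⁅E, E⁆ = ⊥ := by
    by_contra hne
    obtain ⟨l, hl, hld⟩ := Nat.exists_prime_and_dvd (fun e => hne (Subgroup.card_eq_one.1 e))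
    haveI := Fact.mk hl
    obtain ⟨e, he⟩ := exists_prime_orderOf_dvd_card' l hld
    rw [← Subgroup.orderOf_coe] at he
    have hlE : l ∣ Nat.card E := hld.trans (Subgroup.card_dvd_of_le (Subgroup.commutator_le_self E))
    have hfix : sigmaCore M ⊓ centralizer (zpowers (e : G) : Set G) ≠ ⊥ := fun e0 => hu1 (Subgroup.mem_bot.1
      (e0 ▸ ⟨hu, by
        rw [Subgroup.zpowers_eq_closure, Subgroup.centralizer_closure]
        exact Subgroup.mem_centralizer_singleton_iff.2 (hEu e e.2).eq.symm⟩))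
    rcases mem_tau hG hM (hlE.trans (Subgroup.card_dvd_of_le hE.1)) (hσE hl hlE) with h1 | h2 | h3
    · exact h1.2.2.2.1 (hld.trans (Subgroup.card_dvd_of_le (Subgroup.commutator_mono hE.1 hE.1)))
    · rw [ht2] at h2; exact h2
    · exact hfix (h13.tau3_regular M hM l h3 _
        (Subgroup.zpowers_le.2 (hE.1 (Subgroup.commutator_le_self E e.2))) (zpowers_card_prime he))
  have ht1 : ∀ l : ℕ, l.Prime → l ∣ Nat.card E → l ∈ tau1 M := by
    intro l hl hd
    haveI := Fact.mk hl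
    rcases mem_tau hG hM (hd.trans (Subgroup.card_dvd_of_le hE.1)) (hσE hl hd) with h1 | h2 | h3
    · exact h1
    · rw [ht2] at h2; exact absurd h2 id
    · exfalso
      obtain ⟨e, he⟩ := exists_prime_orderOf_dvd_card' (G := E) l hd
      rw [← Subgroup.orderOf_coe] at he
      obtain ⟨E₃, heE₃, hE₃⟩ := exists_piHallOf_ge (tau3 M)
        (Coprime.isSolvable_of_le hE.1 (isSolvable_of_coatom hG hM)) (Subgroup.zpowers_le.2 e.2)
        fun l' hl' hd' => by
          rw [(Nat.prime_dvd_prime_iff_eq hl' hl).1 (zpowers_card_prime he ▸ hd')]; exact h3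
      have h4 := ((S1415.result hG M hM E hE).2.2 E₃ hE₃).2.1 (heE₃ (Subgroup.mem_zpowers _))
      rw [hE', Subgroup.mem_bot] at h4
      exact hl.ne_one (by rw [← he, h4, orderOf_one])
  have hcyc : IsCyclic E := (S1415.result hG M hM E hE).2.1 E ⟨le_rfl, ht1, fun l hl _ hd =>
    hl.not_dvd_one (Subgroup.relIndex_self E ▸ hd)⟩
  have hκ : kappa M = ∅ := by
    by_contra hne
    refine a.not_kappaM ((kappa_eq_tau1 hG h13 hM (Set.nonempty_iff_ne_empty.2 hne)).ge (ht1 q hq.1 ?_))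
    rw [← zpowers_card_prime a.order]
    exact Subgroup.card_dvd_of_le hxE
  have hfpf : ∀ e ∈ E, e ≠ 1 → sigmaCore M ⊓ centralizer ({e} : Set G) = ⊥ := by
    intro e he he1
    obtain ⟨l, hl, hld⟩ := Nat.exists_prime_and_dvd (fun e' => he1 (orderOf_eq_one_iff.1 e'))
    haveI := Fact.mk hl
    obtain ⟨Z, hZ, hZc⟩ := exists_card_le_zpowers hld
    have ht := ht1 l hl (hld.trans (Subgroup.orderOf_dvd_natCard E he))
    refine le_bot_iff.1 (le_trans ?_ (le_of_eq ?_ : sigmaCore M ⊓ centralizer (Z : Set G) ≤ ⊥))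
    · rw [← inf_centralizer_zpowers]
      exact inf_le_inf_left _ (Subgroup.centralizer_le hZ)
    · by_contra hZfix
      have := mem_kappa_of_fixed hG ht.2.2.2.2 ht.2.1 (hZ.trans (Subgroup.zpowers_le.2 (hE.1 he))) hZc hZfix
      rw [hκ] at this
      exact this
  refine ⟨hκ, ⟨E.subgroupOf M, ?_, ?_⟩, ?_⟩
  · haveI : ((sigmaCore M).subgroupOf M).Normal := sigmaCore_normal_subgroupOf
    have hcc : Subgroup.IsComplement' ((sigmaCore M).subgroupOf M) (E.subgroupOf M) := by
      refine Subgroup.isComplement'_of_coprime ?_ ?_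
      · rw [Coprime.card_subgroupOf (sigmaCore_le M), Coprime.card_subgroupOf hE.1, mul_comm,
          card_eq_of_isComplIn hE]
      · rw [Coprime.card_subgroupOf (sigmaCore_le M), Coprime.card_subgroupOf hE.1]
        exact Nat.coprime_of_dvd fun l hl h1 h2 => hσE hl h2 (isPiGrp_piCoreOf (sigma M) M l hl h1)
    refine (Frobenius.isFrobeniusComplement_iff hcc (fun e => sigmaCore_ne_bot hG hM ?_) fun e => a.xq_ne ?_).2
      fun e he he1 => ?_
    · rw [← Subgroup.map_subgroupOf_eq_of_le (sigmaCore_le M), e, Subgroup.map_bot]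
    · have h1 : (⟨xq, a.xq_inf.1⟩ : M) ∈ E.subgroupOf M := hxE (Subgroup.mem_zpowers xq)
      rw [e, Subgroup.mem_bot] at h1
      exact congrArg Subtype.val h1
    · rw [Subgroup.eq_bot_iff_forall]
      intro v hv
      refine Subtype.ext (Subgroup.mem_bot.1 (hfpf e he (fun h' => he1 (Subtype.ext h')) ▸
        (⟨hv.1, Subgroup.mem_centralizer_singleton_iff.2
          (congrArg Subtype.val (Subgroup.mem_centralizer_singleton_iff.1 hv.2))⟩ :
          (v : G) ∈ sigmaCore M ⊓ centralizer ({(e : G)} : Set G))))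
  · exact isCyclic_of_injective (Subgroup.subgroupOfEquivOfLe hE.1).toMonoidHom (MulEquiv.injective _)
  · intro hTI
    obtain ⟨g, hg, hgM⟩ := SetLike.not_le_iff_exists.1 hxM
    rw [← hFσ] at hTI
    refine hx1 (hTI g (fun hgn => hgM (hnM.le hgn)) x hx ?_)
    rw [Subgroup.mem_centralizer_singleton_iff.1 hg, mul_inv_cancel_right]
    exact hx

end Cfsg.Agent.OddOrder
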