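import Cfsg.Agent.Lib.Coprime.Gaschutz
import Cfsg.Agent.Lib.Coprime.Basic
import Cfsg.Agent.Lib.IsolatedP.Cyclic
import Cfsg.Agent.Lib.PGroup.Basic
import Cfsg.Agent.Lib.PGroup.ElementaryAbelian

/-!
# Invariant cyclic subgroups of abelian `p`-groups of rank two under coprime action
-/

set_option autoImplicit false
set_option linter.unusedSectionVars false

namespace Cfsg.Agent.InvariantCyclic

open Subgroup (centralizer normalizer zpowers)
open scoped Pointwise

universe u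
variable {G : Type u} [Group G] [Finite G]

/-- An invariant direct factor has an invariant complement. -/
theorem exists_invariant_complement {V K F C : Subgroup G} (hV : IsMulCommutative V)
    (hKV : K ≤ normalizer (V : Set G)) (hcop : (Nat.card K).Coprime (Nat.card V)) (hFV : F ≤ V)
    (hKF : K ≤ normalizer (F : Set G)) (hCF : C ⊔ F = V) (hdis : C ⊓ F = ⊥) :
    ∃ C' : Subgroup G, C' ≤ V ∧ C' ⊔ F = V ∧ C' ⊓ F = ⊥ ∧ K ≤ normalizer (C' : Set G) := by
  set H := V ⊔ K with hH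
  have hVH : V ≤ H := le_sup_left
  have hKH : K ≤ H := le_sup_right
  have hCV : C ≤ V := hCF ▸ le_sup_left
  have hVF : V ≤ normalizer (F : Set G) := fun v hv => Subgroup.centralizer_le_normalizer _
    (Subgroup.mem_centralizer_iff.2 fun f hf => PGroup.mul_comm_of_isMulCommutative hV (hFV hf) hv)
  haveI : (F.subgroupOf H).Normal := Coprime.normal_subgroupOf_of_le_normalizer (sup_le hVF hKF)
  haveI : IsMulCommutative (F.subgroupOf H) := PGroup.isMulCommutative_of_forall fun a ha b hb =>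
    Subtype.ext (PGroup.mul_comm_of_isMulCommutative hV (hFV ha) (hFV hb))
  have hidx : (Nat.card (F.subgroupOf H)).Coprime (V.subgroupOf H).index := by
    have h1 : (V.subgroupOf H).index ∣ Nat.card K := by
      haveI : (V.subgroupOf H).Normal := Coprime.normal_subgroupOf_of_le_normalizer (sup_le Subgroup.le_normalizer hKV)
      have htop : K.subgroupOf H ⊔ V.subgroupOf H = ⊤ := by
        rw [← Subgroup.subgroupOf_sup hKH hVH, sup_comm, Subgroup.subgroupOf_self]
      rw [← Subgroup.relIndex_top_right, ← htop, Subgroup.relIndex_sup_right, Subgroup.relIndex_subgroupOf hKH]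
      exact Subgroup.relIndex_dvd_card V K
    rw [Coprime.card_subgroupOf (hFV.trans hVH)]
    exact (hcop.symm.coprime_dvd_left (Subgroup.card_dvd_of_le hFV)).coprime_dvd_right h1
  obtain ⟨Hc, hHc⟩ := Coprime.exists_complement_of_gaschutz (F.subgroupOf H) (V.subgroupOf H)
    (Subgroup.subgroupOf_mono H hFV) hidx (C.subgroupOf H) (Subgroup.subgroupOf_mono H hCV)
    (by
      rw [eq_bot_iff]
      intro x hx
      exact Subgroup.mem_bot.2 (Subtype.ext (Subgroup.mem_bot.1 (hdis.le hx))))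
    (by rw [← Subgroup.subgroupOf_sup (hFV.trans hVH) (hCV.trans hVH), sup_comm, hCF])
  set C' := (Hc ⊓ V.subgroupOf H).map H.subtype with hC'
  have hC'V : C' ≤ V := by
    rintro _ ⟨x, hx, rfl⟩
    exact hx.2
  have hC'F : C' ⊔ F = V := by
    refine le_antisymm (sup_le hC'V hFV) fun v hv => ?_
    obtain ⟨⟨f, c⟩, hfc⟩ := hHc.2 (⟨v, hVH hv⟩ : H)
    have hfc' : ((f : H) : G) * ((c : H) : G) = v := congrArg Subtype.val hfc
    have hcV : ((c : H) : G) ∈ V := by
      have := V.mul_mem (V.inv_mem (hFV f.2)) hv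
      rw [← hfc'] at this
      simpa using this
    rw [← hfc']
    exact Subgroup.mul_mem _ (Subgroup.mem_sup_right f.2)
      (Subgroup.mem_sup_left ⟨(c : H), ⟨c.2, hcV⟩, rfl⟩)
  have hC'dis : C' ⊓ F = ⊥ := by
    rw [eq_bot_iff]
    rintro _ ⟨⟨x, hx, rfl⟩, hxF⟩
    have := hHc.disjoint.le_bot (show x ∈ F.subgroupOf H ⊓ Hc from ⟨hxF, hx.1⟩)
    rw [Subgroup.mem_bot] at this
    subst this
    exact one_mem _
  refine ⟨C', hC'V, hC'F, hC'dis, fun k hk => ?_⟩
  have one : ∀ k ∈ K, ∀ x ∈ C', k * x * k⁻¹ ∈ C' := by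
    rintro k hk _ ⟨x, hx, rfl⟩
    obtain ⟨⟨f, m⟩, hfm⟩ := hHc.2 (⟨k, hKH hk⟩ : H)
    have hk' : ((f : H) : G) * ((m : H) : G) = k := congrArg Subtype.val hfm
    have hyV : k * (x : G) * k⁻¹ ∈ V := (Subgroup.mem_normalizer_iff.1 (hKV hk) _).1 hx.2
    have hmf : ((m : H) : G) * x * ((m : H) : G)⁻¹ = ((f : H) : G)⁻¹ * (k * x * k⁻¹) * ((f : H) : G) := by
      rw [← hk']; group
    have hmV : ((m : H) : G) * x * ((m : H) : G)⁻¹ ∈ V := by
      rw [hmf]
      exact V.mul_mem (V.mul_mem (V.inv_mem (hFV f.2)) hyV) (hFV f.2)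
    refine ⟨(m : H) * x * (m : H)⁻¹, ⟨Hc.mul_mem (Hc.mul_mem m.2 hx.1) (Hc.inv_mem m.2), hmV⟩, ?_⟩
    show ((m : H) : G) * x * ((m : H) : G)⁻¹ = k * x * k⁻¹
    have hcomm : ((f : H) : G) * (k * x * k⁻¹) = k * x * k⁻¹ * ((f : H) : G) :=
      PGroup.mul_comm_of_isMulCommutative hV (hFV f.2) hyV
    rw [hmf, mul_assoc (((f : H) : G)⁻¹), ← hcomm, inv_mul_cancel_left]
  refine Subgroup.mem_normalizer_iff.2 fun x => ⟨fun hx => one k hk x hx, fun hx => ?_⟩
  have := one k⁻¹ (K.inv_mem hk) _ hx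
  simpa [mul_assoc] using this

variable {p : ℕ} [Fact p.Prime]

/-- Elements of order dividing `p` in the line `F`: the subgroup is cyclic. -/
theorem isCyclic_of_omega_le {F Z : Subgroup G} (hp : p ≠ 2) (hZ : IsPGroup p Z)
    (hFc : Nat.card F = p) (h : ∀ x ∈ Z, x ^ p = 1 → x ∈ F) : IsCyclic Z :=
  IsolatedP.isCyclic_of_pRankLE_one hp hZ fun B _ hB => by
    rw [pow_one, ← hFc, ← Subgroup.card_map_of_injective Z.subtype_injective]
    refine Subgroup.card_le_of_le ?_
    rintro _ ⟨b, hb, rfl⟩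
    exact h b b.2 (congrArg Subtype.val (hB b hb))

/-- Lifting an invariant line `F` to an invariant cyclic subgroup. -/
theorem exists_invariant_cyclic (hp : p ≠ 2) {K A F : Subgroup G} (hA : IsMulCommutative A)
    (hAp : ∀ a ∈ A, a ^ p = 1) (hAc : Nat.card A = p ^ 2) (hKA : K ≤ normalizer (A : Set G))
    (hFA : F ≤ A) (hFc : Nat.card F = p) (hKF : K ≤ normalizer (F : Set G))
    (hKp : (Nat.card K).Coprime p) :
    ∀ (a : ℕ) (R : Subgroup G), IsPGroup p R → IsMulCommutative R → K ≤ normalizer (R : Set G) →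
      (∀ x ∈ R, x ^ p = 1 → x ∈ A) → ∀ w ∈ R, w ^ p ^ a ∈ F → w ^ p ^ a ≠ 1 →
      ∃ Z : Subgroup G, Z ≤ R ∧ K ≤ normalizer (Z : Set G) ∧ (∀ x ∈ Z, x ^ p = 1 → x ∈ F) ∧
        ∃ z : G, zpowers z = Z ∧ z ^ p ^ a ≠ 1 := by
  intro a
  induction a with
  | zero =>
    intro R _ _ _ _ w hw hwF hw1
    rw [pow_zero, pow_one] at hwF hw1
    have e : zpowers w = F := by
      refine Subgroup.eq_of_le_of_card_ge (Subgroup.zpowers_le.2 hwF) ?_
      rw [hFc, Nat.card_zpowers, orderOf_eq_prime (hAp w (hFA hwF)) hw1]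
    exact ⟨F, e ▸ Subgroup.zpowers_le.2 hw, hKF, fun x hx _ => hx, w, e, by rwa [pow_zero, pow_one]⟩
  | succ a ih =>
    intro R hR hRc hKR hRA w hw hwF hw1
    have hcomm : ∀ x ∈ R, ∀ y ∈ R, x * y = y * x := fun x hx y hy => PGroup.mul_comm_of_isMulCommutative hRc hx hy
    by_cases hAR : A ≤ R
    swap
    · -- `R` is cyclic already
      have hO : ∀ x ∈ R, x ^ p = 1 → x ∈ F := by
        intro x hx hxp
        by_contra hxF
        have hFR : F ≤ R := by
          have e : zpowers (w ^ p ^ (a + 1)) = F := by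
            refine Subgroup.eq_of_le_of_card_ge (Subgroup.zpowers_le.2 hwF) ?_
            rw [hFc, Nat.card_zpowers, orderOf_eq_prime (hAp _ (hFA hwF)) hw1]
          exact e ▸ Subgroup.zpowers_le.2 (R.pow_mem hw _)
        refine hAR ?_
        have hlt : F < F ⊔ zpowers x :=
          lt_of_le_of_ne le_sup_left fun e => hxF (e.ge (Subgroup.mem_sup_right (Subgroup.mem_zpowers x)))
        have hle : F ⊔ zpowers x ≤ A := sup_le hFA (Subgroup.zpowers_le.2 (hRA x hx hxp))
        have : F ⊔ zpowers x = A := by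
          refine Subgroup.eq_of_le_of_card_ge hle ?_
          obtain ⟨i, hi2, hi⟩ := (Nat.dvd_prime_pow (Fact.out : p.Prime)).1 (hAc ▸ Subgroup.card_dvd_of_le hle)
          rw [hAc, hi]
          refine Nat.pow_le_pow_right (Fact.out : p.Prime).pos ?_
          by_contra hi'
          refine hlt.not_ge (Subgroup.eq_of_le_of_card_ge hlt.le ?_).ge
          rw [hi, hFc]
          exact (Nat.pow_le_pow_right (Fact.out : p.Prime).pos (by omega : i ≤ 1)).trans_eq (pow_one p)
        exact this ▸ sup_le hFR (Subgroup.zpowers_le.2 hx)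
      have hcyc := isCyclic_of_omega_le hp hR hFc hO
      obtain ⟨g, hg⟩ := (Subgroup.isCyclic_iff_exists_zpowers_eq_top R).1 hcyc
      refine ⟨R, le_rfl, hKR, hO, g, hg, fun e => hw1 ?_⟩
      obtain ⟨i, rfl⟩ : w ∈ zpowers g := hg.symm ▸ hw
      show (g ^ i) ^ p ^ (a + 1) = 1
      rw [← zpow_natCast, ← zpow_mul, mul_comm, zpow_mul, zpow_natCast, e, one_zpow]
    -- the `p`-th powers
    let f : R →* G :=
      { toFun := fun x => (x : G) ^ p
        map_one' := one_pow p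
        map_mul' := fun x y => (show Commute (x : G) y from hcomm x x.2 y y.2).mul_pow p }
    set R' := f.range with hR'
    have hR'R : R' ≤ R := by
      rintro _ ⟨x, rfl⟩
      exact R.pow_mem x.2 p
    have hKR' : K ≤ normalizer (R' : Set G) := by
      have one : ∀ k ∈ K, ∀ y ∈ R', k * y * k⁻¹ ∈ R' := by
        rintro k hk _ ⟨x, rfl⟩
        exact ⟨⟨k * x * k⁻¹, (Subgroup.mem_normalizer_iff.1 (hKR hk) _).1 x.2⟩, conj_pow⟩
      exact fun k hk => Subgroup.mem_normalizer_iff.2 fun x => ⟨fun hx => one k hk x hx, fun hx => by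
        simpa [mul_assoc] using one k⁻¹ (K.inv_mem hk) _ hx⟩
    have hR'c : IsMulCommutative R' :=
      PGroup.isMulCommutative_of_forall fun x hx y hy => hcomm x (hR'R hx) y (hR'R hy)
    obtain ⟨Z₁, hZ₁R, hKZ₁, hZ₁F, z₁, hz₁, hz₁a⟩ := ih R' (hR.to_le hR'R) hR'c hKR'
      (fun x hx hxp => hRA x (hR'R hx) hxp) (w ^ p) ⟨⟨w, hw⟩, rfl⟩ (by rwa [← pow_mul, ← pow_succ'])
      (by rwa [← pow_mul, ← pow_succ'])
    obtain ⟨⟨v, hv⟩, hvz⟩ := hZ₁R (hz₁ ▸ Subgroup.mem_zpowers z₁)
    have hvz' : v ^ p = z₁ := hvz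
    -- the preimage of `Z₁`
    let X : Subgroup G :=
      { carrier := {x | x ∈ R ∧ x ^ p ∈ Z₁}
        one_mem' := ⟨one_mem R, by rw [one_pow]; exact one_mem Z₁⟩
        mul_mem' := fun {x y} hx hy => ⟨R.mul_mem hx.1 hy.1, by
          rw [(show Commute x y from hcomm x hx.1 y hy.1).mul_pow]; exact Z₁.mul_mem hx.2 hy.2⟩
        inv_mem' := fun {x} hx => ⟨R.inv_mem hx.1, by rw [inv_pow]; exact Z₁.inv_mem hx.2⟩ }
    have hXR : X ≤ R := fun x hx => hx.1
    have hAX : A ≤ X := fun b hb => ⟨hAR hb, by rw [hAp b hb]; exact one_mem _⟩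
    have hvX : v ∈ X := ⟨hv, hvz' ▸ hz₁ ▸ Subgroup.mem_zpowers z₁⟩
    have hKX : K ≤ normalizer (X : Set G) := by
      have one : ∀ k ∈ K, ∀ y ∈ X, k * y * k⁻¹ ∈ X := fun k hk y hy =>
        ⟨(Subgroup.mem_normalizer_iff.1 (hKR hk) _).1 hy.1, by
          rw [conj_pow]; exact (Subgroup.mem_normalizer_iff.1 (hKZ₁ hk) _).1 hy.2⟩
      exact fun k hk => Subgroup.mem_normalizer_iff.2 fun x => ⟨fun hx => one k hk x hx, fun hx => by
        simpa [mul_assoc] using one k⁻¹ (K.inv_mem hk) _ hx⟩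
    have hXc : IsMulCommutative X :=
      PGroup.isMulCommutative_of_forall fun x hx y hy => hcomm x hx.1 y hy.1
    have hcopA : (Nat.card K).Coprime (Nat.card A) := hAc ▸ hKp.pow_right 2
    -- an invariant complement of `F` in `A`
    have hCA : ∃ C : Subgroup G, C ⊔ F = A ∧ C ⊓ F = ⊥ ∧ Nat.card C = p := by
      obtain ⟨b, hb, hbF⟩ := SetLike.exists_of_lt (lt_of_le_of_ne hFA fun e => by
        rw [e, hAc] at hFc
        exact absurd hFc (lt_self_pow₀ (Fact.out : p.Prime).one_lt (by norm_num)).ne')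
      have hb1 : b ≠ 1 := fun e => hbF (e ▸ one_mem F)
      have hbc : Nat.card (zpowers b) = p := by rw [Nat.card_zpowers, orderOf_eq_prime (hAp b hb) hb1]
      have hdis : zpowers b ⊓ F = ⊥ := by
        rcases (Nat.dvd_prime (Fact.out : p.Prime)).1
          (hbc ▸ Subgroup.card_dvd_of_le (inf_le_left : zpowers b ⊓ F ≤ zpowers b)) with e | e
        · exact Subgroup.card_eq_one.1 e
        · exact absurd ((Subgroup.eq_of_le_of_card_ge (inf_le_left : zpowers b ⊓ F ≤ zpowers b)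
            (by rw [hbc, e])).ge (Subgroup.mem_zpowers b)).2 hbF
      refine ⟨zpowers b, Subgroup.eq_of_le_of_card_ge (sup_le (Subgroup.zpowers_le.2 hb) hFA) ?_, hdis, hbc⟩
      have hlt : F < zpowers b ⊔ F :=
        lt_of_le_of_ne le_sup_right fun e => hbF (e.ge (Subgroup.mem_sup_left (Subgroup.mem_zpowers b)))
      obtain ⟨i, hi2, hi⟩ := (Nat.dvd_prime_pow (Fact.out : p.Prime)).1
        (hAc ▸ Subgroup.card_dvd_of_le (sup_le (Subgroup.zpowers_le.2 hb) hFA))
      rw [hAc, hi]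
      refine Nat.pow_le_pow_right (Fact.out : p.Prime).pos ?_
      by_contra hi'
      refine hlt.not_ge (Subgroup.eq_of_le_of_card_ge hlt.le ?_).ge
      rw [hi, hFc]
      exact (Nat.pow_le_pow_right (Fact.out : p.Prime).pos (by omega : i ≤ 1)).trans_eq (pow_one p)
    obtain ⟨C, hC1, hC2, -⟩ := hCA
    obtain ⟨F', hF'A, hF'F, hF'dis, hKF'⟩ := exists_invariant_complement hA hKA hcopA hFA hKF hC1 hC2
    -- the powers of `v` of order `p` lie in `F`
    have hvF : ∀ x ∈ zpowers v, x ^ p = 1 → x ∈ F := by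
      intro x hx hxp
      obtain ⟨i, rfl⟩ := hx
      have h1 : z₁ ^ i = 1 := by
        rw [← hvz', ← zpow_natCast v p, ← zpow_mul, mul_comm, zpow_mul, zpow_natCast]
        exact hxp
      have hd : (p : ℤ) ∣ i := by
        have h2 : p ∣ orderOf z₁ := by
          obtain ⟨k, hk⟩ := (hR.to_le ((hz₁ ▸ hZ₁R : zpowers z₁ ≤ R').trans hR'R)).exists_card_eq
          rw [← Nat.card_zpowers, hk]
          refine dvd_pow_self p fun e => hz₁a ?_
          rw [e, pow_zero, Subgroup.card_eq_one, Subgroup.zpowers_eq_bot] at hk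
          rw [hk, one_pow]
        exact (Int.natCast_dvd_natCast.2 h2).trans (orderOf_dvd_iff_zpow_eq_one.2 h1)
      obtain ⟨j, rfl⟩ := hd
      show v ^ ((p : ℤ) * j) ∈ F
      refine hZ₁F _ ?_ (by simpa using hxp)
      rw [zpow_mul, zpow_natCast, hvz']
      exact hz₁ ▸ Subgroup.zpow_mem _ (Subgroup.mem_zpowers z₁) j
    have hvF' : zpowers v ⊓ F' = ⊥ := by
      rw [eq_bot_iff]
      rintro x ⟨hx1, hx2⟩
      exact hF'dis.le ⟨hx2, hvF x hx1 (hAp x (hF'A hx2))⟩
    have hvX' : zpowers v ⊔ F' = X := by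
      refine le_antisymm (sup_le (Subgroup.zpowers_le.2 hvX) (hF'A.trans hAX)) fun x hx => ?_
      obtain ⟨i, hi⟩ : x ^ p ∈ zpowers z₁ := hz₁.symm ▸ hx.2
      have hi' : z₁ ^ i = x ^ p := hi
      have hc : Commute x ((v ^ i)⁻¹) := hcomm x hx.1 _ (R.inv_mem (R.zpow_mem hv i))
      have h1 : (x * (v ^ i)⁻¹) ^ p = 1 := by
        rw [hc.mul_pow, inv_pow, ← hi', ← hvz', ← zpow_natCast v p, ← zpow_natCast (v ^ i) p, ← zpow_mul,
          ← zpow_mul, mul_comm (p : ℤ) i, mul_inv_cancel]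
      have h2 : x * (v ^ i)⁻¹ ∈ A := hRA _ (R.mul_mem hx.1 (R.inv_mem (R.zpow_mem hv i))) h1
      rw [← hF'F] at h2
      have hFv : F ≤ zpowers v := by
        obtain ⟨k, hk⟩ := (hR.to_le (Subgroup.zpowers_le.2 hv)).exists_card_eq
        have hd : p ∣ Nat.card (zpowers v) := by
          rw [hk]
          refine dvd_pow_self p fun e => hz₁a ?_
          rw [e, pow_zero, Subgroup.card_eq_one, Subgroup.zpowers_eq_bot] at hk
          rw [← hvz', hk, one_pow, one_pow]
        obtain ⟨y, hy⟩ := exists_prime_orderOf_dvd_card' p hd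
        rw [← Subgroup.orderOf_coe] at hy
        have hyF := hvF y y.2 (hy ▸ pow_orderOf_eq_one (y : G))
        exact (Subgroup.eq_of_le_of_card_ge (Subgroup.zpowers_le.2 hyF)
          (by rw [hFc, Nat.card_zpowers, hy])).ge.trans (Subgroup.zpowers_le.2 y.2)
      have h3 : x * (v ^ i)⁻¹ ∈ zpowers v ⊔ F' := sup_le le_sup_right (hFv.trans le_sup_left) h2
      have h4 := Subgroup.mul_mem _ h3 (Subgroup.mem_sup_left (Subgroup.zpow_mem _ (Subgroup.mem_zpowers v) i))
      rwa [inv_mul_cancel_right] at h4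
    have hcopX : (Nat.card K).Coprime (Nat.card X) := by
      obtain ⟨k, hk⟩ := (hR.to_le hXR).exists_card_eq
      exact hk ▸ hKp.pow_right k
    obtain ⟨Z, hZX, hZF', hZdis, hKZ⟩ :=
      exists_invariant_complement hXc hKX hcopX (hF'A.trans hAX) hKF' hvX' hvF'
    -- `v ^ p` lies in `Z`
    have hz₁Z : z₁ ∈ Z := by
      have hv' : v ∈ Z ⊔ F' := hZF'.symm ▸ hvX
      have hn : Z ≤ normalizer (F' : Set G) := fun y hy => Subgroup.centralizer_le_normalizer _
        (Subgroup.mem_centralizer_iff.2 fun f hf => hcomm f (hXR (hAX (hF'A hf))) y (hXR (hZX hy)))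
      obtain ⟨y, hy, f, hf, hyf⟩ := (Coprime.mem_sup_iff_of_le_normalizer hn).1 hv'
      rw [← hvz', ← hyf, (show Commute y f from hcomm y (hXR (hZX hy)) f (hXR (hAX (hF'A hf)))).mul_pow,
        hAp f (hF'A hf), mul_one]
      exact Z.pow_mem hy p
    -- `Z` has its elements of order `p` in `F`
    have hZF : ∀ x ∈ Z, x ^ p = 1 → x ∈ F := by
      intro x hx hxp
      have hxA : x ∈ A := hRA x (hXR (hZX hx)) hxp
      by_contra hxF
      have hFZ : F ≤ Z := by
        obtain ⟨k, hk⟩ := (hR.to_le ((hz₁ ▸ hZ₁R : zpowers z₁ ≤ R').trans hR'R)).exists_card_eq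
        have hd : p ∣ Nat.card (zpowers z₁) := by
          rw [hk]
          refine dvd_pow_self p fun e => hz₁a ?_
          rw [e, pow_zero, Subgroup.card_eq_one, Subgroup.zpowers_eq_bot] at hk
          rw [hk, one_pow]
        obtain ⟨y, hy⟩ := exists_prime_orderOf_dvd_card' p hd
        rw [← Subgroup.orderOf_coe] at hy
        exact (Subgroup.eq_of_le_of_card_ge (Subgroup.zpowers_le.2 (hZ₁F y (hz₁ ▸ y.2) (hy ▸ pow_orderOf_eq_one (y : G))))
          (by rw [hFc, Nat.card_zpowers, hy])).ge.trans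
          ((Subgroup.zpowers_le.2 y.2).trans (Subgroup.zpowers_le.2 hz₁Z))
      have hFx : F ⊔ zpowers x = A := by
        refine Subgroup.eq_of_le_of_card_ge (sup_le hFA (Subgroup.zpowers_le.2 hxA)) ?_
        have hlt : F < F ⊔ zpowers x :=
          lt_of_le_of_ne le_sup_left fun e => hxF (e.ge (Subgroup.mem_sup_right (Subgroup.mem_zpowers x)))
        obtain ⟨i, hi2, hi⟩ := (Nat.dvd_prime_pow (Fact.out : p.Prime)).1
          (hAc ▸ Subgroup.card_dvd_of_le (sup_le hFA (Subgroup.zpowers_le.2 hxA)))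
        rw [hAc, hi]
        refine Nat.pow_le_pow_right (Fact.out : p.Prime).pos ?_
        by_contra hi'
        refine hlt.not_ge (Subgroup.eq_of_le_of_card_ge hlt.le ?_).ge
        rw [hi, hFc]
        exact (Nat.pow_le_pow_right (Fact.out : p.Prime).pos (by omega : i ≤ 1)).trans_eq (pow_one p)
      have h5 : F' = ⊥ :=
        le_bot_iff.1 (hZdis ▸ le_inf (hF'A.trans (hFx.ge.trans (sup_le hFZ (Subgroup.zpowers_le.2 hx)))) le_rfl)
      rw [h5, bot_sup_eq] at hF'F
      · rw [← hF'F] at hxA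
        exact hxF (by simpa [h5] using hxA)
    have hcyc := isCyclic_of_omega_le hp (hR.to_le (hZX.trans hXR)) hFc hZF
    obtain ⟨g, hg⟩ := (Subgroup.isCyclic_iff_exists_zpowers_eq_top Z).1 hcyc
    refine ⟨Z, hZX.trans hXR, hKZ, hZF, g, hg, fun e => ?_⟩
    -- the generator is long enough
    have hv' : v ∈ Z ⊔ F' := hZF'.symm ▸ hvX
    have hn : Z ≤ normalizer (F' : Set G) := fun y hy => Subgroup.centralizer_le_normalizer _
      (Subgroup.mem_centralizer_iff.2 fun f hf => hcomm f (hXR (hAX (hF'A hf))) y (hXR (hZX hy)))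
    obtain ⟨y, hy, f, hf, hyf⟩ := (Coprime.mem_sup_iff_of_le_normalizer hn).1 hv'
    refine hz₁a ?_
    rw [← hvz', ← hyf, (show Commute y f from hcomm y (hXR (hZX hy)) f (hXR (hAX (hF'A hf)))).mul_pow,
      hAp f (hF'A hf), mul_one, ← pow_mul, ← pow_succ']
    obtain ⟨i, rfl⟩ : y ∈ zpowers g := hg.symm ▸ hy
    show (g ^ i) ^ p ^ (a + 1) = 1
    rw [← zpow_natCast, ← zpow_mul, mul_comm, zpow_mul, zpow_natCast, e, one_zpow]

end Cfsg.Agent.InvariantCyclic
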