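import Cfsg.Agent.Lib.OddOrder.TauTwoNonabelian
import Cfsg.Agent.Lib.OddOrder.InvariantCyclic
import Cfsg.Agent.Lib.OddOrder.FixedPoint

/-!
# `τ₂`-primes with abelian Sylow subgroups: invariant fixed-point-free cyclic subgroups (BG 12.11)
-/

set_option autoImplicit false
set_option linter.unusedSectionVars false

namespace Cfsg.Agent.OddOrder

open Cfsg
open Subgroup (centralizer normalizer zpowers)
open scoped Pointwise commutatorElement

universe u
variable {G : Type u} [Group G] [Finite G] {p : ℕ} [Fact p.Prime]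

theorem isPGroup_zpowers_of_pow {r k : ℕ} (hr : r.Prime) {u : G} (hk : u ^ r ^ k = 1) :
    IsPGroup r (zpowers u) := by
  obtain ⟨i, -, hi⟩ := (Nat.dvd_prime_pow hr).1 (orderOf_dvd_of_pow_eq_one hk)
  exact IsPGroup.of_card (n := i) (by rw [Nat.card_zpowers, hi])

theorem mem_normalizer_zpowers {a e : G} (h : e * a * e⁻¹ ∈ zpowers a) :
    e ∈ normalizer (zpowers a : Set G) := by
  refine Coprime.mem_normalizer_of_conj_smul_eq (Subgroup.eq_of_le_of_card_ge ?_ (Coprime.card_conj_smul _ _).ge)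
  intro y hy
  rw [Coprime.mem_conj_smul_iff] at hy
  obtain ⟨i, hi⟩ := hy
  have h2 : (e * a * e⁻¹) ^ i = y := by rw [conj_zpow, show a ^ i = e⁻¹ * y * e from hi]; group
  exact h2 ▸ Subgroup.zpow_mem _ h i

/-- `W = [b, W]` centralises `M_σ` when `b` is fixed-point-free on the nilpotent `M_σ`. -/
theorem le_centralizer_sigmaCore_of_fpf (hG : IsMinSimpleOddOrder G) {M : Subgroup G} (hM : IsCoatom M)
    (hnil : Group.IsNilpotent (sigmaCore M)) {W : Subgroup G} {b : G} (hW : IsPGroup p W) (hWM : W ≤ M)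
    (hp : p ∉ Cfsg.sigma M) (hbM : b ∈ M) (hbo : (orderOf b).Prime) (hbp : orderOf b ≠ p)
    (hbσ : orderOf b ∉ Cfsg.sigma M) (hbW : b ∈ normalizer (W : Set G)) (hWb : ⁅zpowers b, W⁆ = W)
    (hfix : sigmaCore M ⊓ centralizer ({b} : Set G) = ⊥) : W ≤ centralizer (sigmaCore M : Set G) := by
  haveI := isSolvable_of_coatom hG hM
  set K := piCore (Cfsg.sigma M) ↥M with hK
  haveI hKnil : Group.IsNilpotent K := by
    haveI : Group.IsNilpotent ↥(K.map M.subtype) := hnil
    exact Group.nilpotent_of_mulEquiv (K.equivMapOfInjective M.subtype M.subtype_injective).symm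
  set W' := W.subgroupOf M with hW'
  set b' : M := ⟨b, hbM⟩ with hb'
  have hWb' : ⁅zpowers b', W'⁆ = W' := Subgroup.map_injective M.subtype_injective (by
    rw [Subgroup.map_commutator, MonoidHom.map_zpowers, hW', Subgroup.map_subgroupOf_eq_of_le hWM]
    exact hWb)
  have hb'o : orderOf b' = orderOf b := (Subgroup.orderOf_coe b').symm
  have hkey : ∀ r : ℕ, r.Prime → W' ≤ centralizer (((pCore r K).map K.subtype : Subgroup M) : Set M) := by
    intro r hr
    haveI := Fact.mk hr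
    set R := (pCore r K).map K.subtype with hR
    rcases eq_or_ne R ⊥ with e | e
    · rw [e]
      intro w _
      exact Subgroup.mem_centralizer_iff.2 fun y hy => by rw [Subgroup.mem_bot.1 hy, one_mul, mul_one]
    haveI : (pCore r K).Characteristic := PCore.pCore_characteristic
    haveI : R.Normal := ConjAct.normal_of_characteristic_of_normal
    have hRp : IsPGroup r R := PCore.isPGroup_pCore.map _
    have hrs : r ∈ Cfsg.sigma M := by
      obtain ⟨k, hk⟩ := hRp.exists_card_eq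
      exact isPiGrp_piCore (Cfsg.sigma M) ↥M r hr ((dvd_pow_self r fun e' =>
        e (Subgroup.card_eq_one.1 (by rw [hk, e', pow_zero]))).trans
          (hk ▸ Subgroup.card_dvd_of_le (Subgroup.map_subtype_le _)))
    have hW'q : IsPGroup p W' := hW.comap_subtype
    refine le_centralizer_of_fpf_frattini (odd_subgroup hG.1 M) R W' hRp b' (hb'o ▸ hbo)
      (fun e' => hbσ (hb'o ▸ e' ▸ hrs)) ?_ ?_ ?_ hWb' ?_
    · refine Subgroup.mem_normalizer_iff.2 fun y => ?_
      simp only [hW', Subgroup.mem_subgroupOf]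
      exact Subgroup.mem_normalizer_iff.1 hbW y
    · obtain ⟨k, hk⟩ := hW'q.exists_card_eq
      rw [hb'o, hk]
      exact ((Nat.coprime_primes hbo Fact.out).2 hbp).pow_right k
    · obtain ⟨k, hk⟩ := hW'q.exists_card_eq
      rw [hk]
      exact fun hd => hp ((Nat.prime_dvd_prime_iff_eq hr Fact.out).1 (hr.dvd_of_dvd_pow hd) ▸ hrs)
    · refine eq_bot_iff.2 fun y hy => ?_
      have h2 : (y : G) ∈ sigmaCore M ⊓ centralizer ({b} : Set G) :=
        ⟨⟨y, (Subgroup.map_subtype_le _) hy.1, rfl⟩, Subgroup.mem_centralizer_singleton_iff.2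
          (congrArg Subtype.val (Subgroup.mem_centralizer_singleton_iff.1 hy.2))⟩
      rw [hfix, Subgroup.mem_bot] at h2
      exact Subgroup.mem_bot.2 (Subtype.ext h2)
  intro w hw
  refine Subgroup.mem_centralizer_iff.2 ?_
  rintro _ ⟨y, hy, rfl⟩
  suffices hh : y ∈ centralizer ({(⟨w, hWM hw⟩ : M)} : Set M) from
    congrArg Subtype.val (Subgroup.mem_centralizer_singleton_iff.1 hh)
  refine mem_of_forall_primePart fun r hr _ u hu ⟨k, hk⟩ => ?_
  haveI := Fact.mk hr
  have huK : u ∈ K := Subgroup.zpowers_le.2 hy hu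
  obtain ⟨T, hT⟩ := exists_sylow_map_ge (isPGroup_zpowers_of_pow hr hk) (Subgroup.zpowers_le.2 huK)
  haveI : (T : Subgroup K).Normal :=
    Sylow.normal_of_normalizerCondition Group.normalizerCondition_of_isNilpotent T
  have huR : u ∈ (pCore r K).map K.subtype :=
    Subgroup.map_mono (PCore.le_pCore T.2) (hT (Subgroup.mem_zpowers u))
  exact Subgroup.mem_centralizer_singleton_iff.2
    (Subgroup.mem_centralizer_iff.1 (hkey r hr (show (⟨w, hWM hw⟩ : M) ∈ W' from hw)) u huR)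

/-- The Frattini argument for a normal `K ≤ L` containing a Sylow subgroup `Q` of `G`. -/
theorem frattini_split {L K : Subgroup G} (hLK : L ≤ normalizer (K : Set G)) (hKL : K ≤ L)
    (Q : Sylow p G) (hQK : (Q : Subgroup G) ≤ K) {g : G} (hg : g ∈ L) :
    ∃ k ∈ K, ∃ n ∈ L ⊓ normalizer ((Q : Subgroup G) : Set G), g = k * n := by
  obtain ⟨k, hk, hk'⟩ := exists_conj_sylow Q (g • Q) hQK (by
    rw [Sylow.coe_subgroup_smul]
    exact (Subgroup.pointwise_smul_le_pointwise_smul_iff.2 hQK).trans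
      (Coprime.conj_smul_eq_self_of_mem (hLK hg)).le)
  refine ⟨k, hk, k⁻¹ * g, ⟨L.mul_mem (L.inv_mem (hKL hk)) hg, Coprime.mem_normalizer_of_conj_smul_eq ?_⟩,
    (mul_inv_cancel_left k g).symm⟩
  rw [← Coprime.conj_smul_smul, ← Sylow.coe_subgroup_smul (g := g) (P := Q), hk', Coprime.conj_smul_smul,
    inv_mul_cancel, map_one, one_smul]

theorem commutator_le_of_split {L K N : Subgroup G} (hLK : L ≤ normalizer (K : Set G)) (hKL : K ≤ L)
    (hNL : N ≤ L) (h : ∀ g ∈ L, ∃ k ∈ K, ∃ n ∈ N, g = k * n) : ⁅L, L⁆ ≤ ⁅N, N⁆ ⊔ K := by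
  refine Subgroup.commutator_le.2 fun x hx y hy => ?_
  obtain ⟨k, hk, n, hn, rfl⟩ := h x hx
  obtain ⟨k', hk', n', hn', rfl⟩ := h y hy
  have e : ⁅k * n, k' * n'⁆ = k * (n * k' * n⁻¹) * ⁅n, n'⁆ * (n' * k⁻¹ * n'⁻¹) * k'⁻¹ := by
    simp only [commutatorElement_def]; group
  have hK : ∀ z ∈ K, z ∈ ⁅N, N⁆ ⊔ K := fun z hz => Subgroup.mem_sup_right hz
  rw [e]
  exact mul_mem (mul_mem (mul_mem (mul_mem (hK k hk)
    (hK _ ((Subgroup.mem_normalizer_iff.1 (hLK (hNL hn)) k').1 hk')))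
    (Subgroup.mem_sup_left (Subgroup.commutator_mem_commutator hn hn')))
    (hK _ ((Subgroup.mem_normalizer_iff.1 (hLK (hNL hn')) k⁻¹).1 (inv_mem hk)))) (hK _ (inv_mem hk'))

/-- The data at a prime of `τ₂(M)` with abelian Sylow subgroups in `G`. -/
structure AbelianTau (p : ℕ) (M E A A₀ : Subgroup G) : Prop where
  exc : Exc p M A A₀
  compl : IsComplIn E (Cfsg.sigmaCore M) M
  le_compl : A ≤ E
  abelian : ∃ S : Sylow p G, IsMulCommutative (S : Subgroup G)

namespace AbelianTau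

variable {M E A A₀ : Subgroup G} (h : AbelianTau p M E A A₀)
include h

theorem centralizer_le_compl : centralizer (A : Set G) ≤ E :=
  (le_inf h.exc.centralizer_le (Subgroup.centralizer_le_normalizer _)).trans
    (h.exc.inf_normalizer_eq h.compl h.le_compl).le

theorem spec : ∃ R : Sylow p G, (R : Subgroup G) = pOf p E ∧ A ≤ (R : Subgroup G) ∧
    IsMulCommutative (R : Subgroup G) ∧ omegaOne p (R : Subgroup G) = A ∧
    normalizer (A : Set G) ≤ normalizer ((R : Subgroup G) : Set G) ∧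
    (∀ x ∈ normalizer (A : Set G), ∀ k : ℕ, x ^ p ^ k = 1 → x ∈ (R : Subgroup G)) ∧
    ⁅normalizer (A : Set G), normalizer (A : Set G)⁆ ≤ centralizer (A : Set G) := by
  have hG := h.exc.minSimple
  have hAp := PGroup.isPGroup_of_elementaryAbelian h.exc.elem
  obtain ⟨R, hAR⟩ := hAp.exists_le_sylow
  have hRc : IsMulCommutative (R : Subgroup G) := by
    obtain ⟨S, hS⟩ := h.abelian
    obtain ⟨g, hg⟩ := MulAction.exists_smul_eq G S R
    refine PGroup.isMulCommutative_of_forall fun x hx y hy => ?_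
    rw [← hg, Sylow.coe_subgroup_smul, Coprime.mem_conj_smul_iff] at hx hy
    have h1 := congrArg (fun w => g * w * g⁻¹) (PGroup.mul_comm_of_isMulCommutative hS hx hy)
    simpa [mul_assoc] using h1
  have hRA : (R : Subgroup G) ≤ centralizer (A : Set G) := fun x hx => Subgroup.mem_centralizer_iff.2 fun a ha =>
    PGroup.mul_comm_of_isMulCommutative hRc (hAR ha) hx
  set D := centralizer (A : Set G) with hD
  have hDE : D ≤ E := h.centralizer_le_compl
  have hΩ : omegaOne p (R : Subgroup G) = A := le_antisymm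
    (PGroup.omegaOne_le_iff.2 fun x hx hxp => h.exc.setting.hmax x (hRA hx) hxp)
    fun a ha => PGroup.mem_omegaOne_of_pow_eq_one (hAR ha) (h.exc.elem.2 a ha)
  set N := normalizer (A : Set G) with hN
  have hNRN : normalizer ((R : Subgroup G) : Set G) ≤ N := by
    have h1 := normalizer_le_normalizer_omegaOne p (R : Subgroup G)
    rwa [hΩ] at h1
  have hND : N ≤ normalizer (D : Set G) := Coprime.le_normalizer_centralizer le_rfl
  have hAN : A ≤ N := Subgroup.le_normalizer
  haveI : Group.IsSolvable N := hG.2.2.2 N (normalizer_ne_top_of_pgroup hG hAp (square_ne_bot h.exc.elem h.exc.card))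
  haveI : Group.IsSolvable D := Coprime.isSolvable_of_le (Subgroup.centralizer_le_normalizer _) inferInstance
  have hRmax : ∀ U : Subgroup G, IsPGroup p U → (R : Subgroup G) ≤ normalizer (U : Set G) → U ≤ (R : Subgroup G) :=
    fun U hU hn => le_sup_right.trans (R.is_maximal' (R.2.to_sup_of_normal_right' hU hn) le_sup_left).le
  -- `R` centralises the other `O_r(D)`
  have hRF : (R : Subgroup G) ≤ centralizer (fittingOf D : Set G) := by
    refine Subgroup.le_centralizer_iff.1 (fittingOf_le_of_forall fun r hr => ?_)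
    haveI := Fact.mk hr
    refine Subgroup.le_centralizer_iff.1 ?_
    rcases eq_or_ne r p with rfl | hne
    · have hU := hRmax _ (isPGroup_pOf (r := r) D) (hRA.trans (le_normalizer_pOf D))
      exact fun x hx => Subgroup.mem_centralizer_iff.2 fun d hd =>
        PGroup.mul_comm_of_isMulCommutative hRc (hU hd) hx
    · intro x hx
      set U := pOf r D with hU
      have hUN : N ≤ normalizer (U : Set G) := hND.trans (normalizer_le_normalizer_pOf D)
      have hUle : U ≤ N := (pOf_le D).trans (Subgroup.centralizer_le_normalizer _)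
      haveI : (U.subgroupOf N).Normal := Coprime.normal_subgroupOf_of_le_normalizer hUN
      have hx1 : x ∈ ⁅N, N⁆ :=
        (Subgroup.commutator_mono hNRN hNRN) (sylow_le_commutator_normalizer hG R hx)
      rw [← Subgroup.map_subtype_commutator] at hx1
      obtain ⟨y, hy, rfl⟩ := hx1
      obtain ⟨k, hk⟩ := R.2 ⟨(y : G), hx⟩
      have hy1 : y ^ p ^ k = 1 := Subtype.ext (congrArg Subtype.val hk :)
      have hUE : U ≤ E := (pOf_le D).trans hDE
      have hrk : PRankLE r 2 ↥(U.subgroupOf N) := by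
        refine pRankLE_of_injective (H := ↥(U.subgroupOf N))
          (f := (Subgroup.inclusion hUE).comp (Subgroup.subgroupOfEquivOfLe hUle).toMonoidHom)
          ((Subgroup.inclusion_injective hUE).comp (Subgroup.subgroupOfEquivOfLe hUle).injective)
          (rankLE_of_compl hG h.exc.coatom h.compl r hr)
      have h2 := commutator_mem_centralizer_of_rankTwo (G := N) (odd_subgroup hG.1 N) (U.subgroupOf N)
        (isPGroup_pOf D).comap_subtype hrk hy (((Nat.coprime_primes Fact.out hr).2 hne.symm).pow_left k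
          |>.coprime_dvd_left (orderOf_dvd_of_pow_eq_one hy1))
      exact Subgroup.mem_centralizer_iff.2 fun d hd =>
        congrArg Subtype.val (Subgroup.mem_centralizer_iff.1 h2 ⟨d, hUle hd⟩ hd)
  have hRD : (R : Subgroup G) = pOf p D := le_antisymm
    (fun x hx => by
      obtain ⟨k, hk⟩ := R.2 ⟨x, hx⟩
      exact mem_pOf (inf_centralizer_fittingOf_le D ⟨hRA hx, hRF hx⟩) (congrArg Subtype.val hk :))
    (hRmax _ (isPGroup_pOf D) (hRA.trans (le_normalizer_pOf D)))
  have hNR : N ≤ normalizer ((R : Subgroup G) : Set G) :=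
    hRD ▸ hND.trans (normalizer_le_normalizer_pOf D)
  have hmemR : ∀ x ∈ N, ∀ k : ℕ, x ^ p ^ k = 1 → x ∈ (R : Subgroup G) := fun x hx k hk =>
    mem_sylow_of_normalizer R (hNR hx) hk
  refine ⟨R, le_antisymm (le_pOf (hRA.trans hDE) ((h.exc.complement_le_normalizer h.compl h.le_compl).trans hNR) R.2)
    (hRmax _ (isPGroup_pOf E) ((hRA.trans hDE).trans (le_normalizer_pOf E))), hAR, hRc, hΩ, hNR, hmemR, ?_⟩
  haveI : (A.subgroupOf N).Normal := Coprime.normal_subgroupOf_of_le_normalizer le_rfl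
  intro x hx
  rw [← Subgroup.map_subtype_commutator] at hx
  obtain ⟨y, hy, rfl⟩ := hx
  suffices hh : y ∈ centralizer ((A.subgroupOf N : Subgroup N) : Set N) from
    Subgroup.mem_centralizer_iff.2 fun a ha =>
      congrArg Subtype.val (Subgroup.mem_centralizer_iff.1 hh ⟨a, hAN ha⟩ ha)
  refine mem_of_forall_primePart fun r hr _ u hu ⟨k, hk⟩ => ?_
  rcases eq_or_ne r p with rfl | hne
  · exact Subgroup.mem_centralizer_iff.2 fun a ha => Subtype.ext (Subgroup.mem_centralizer_iff.1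
      (hRA (hmemR u u.2 k (congrArg Subtype.val hk :))) a ha)
  · exact commutator_mem_centralizer_of_rankTwo (odd_subgroup hG.1 N) (A.subgroupOf N)
      hAp.comap_subtype (fun C _ _ => C.card_le_card_group.trans (le_of_eq (by
        rw [Coprime.card_subgroupOf hAN, h.exc.card])))
      (Subgroup.zpowers_le.2 hy hu)
      (((Nat.coprime_primes hr Fact.out).2 hne).pow_left k |>.coprime_dvd_left (orderOf_dvd_of_pow_eq_one hk))

/-- A line invariant under `N(A)` is fixed-point-free on `M_σ`. -/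
theorem fpf_of_invariant {b : G} (hb : b ∈ A) (hb1 : b ≠ 1)
    (hn : normalizer (A : Set G) ≤ normalizer (zpowers b : Set G)) :
    sigmaCore M ⊓ centralizer ({b} : Set G) = ⊥ := by
  by_contra hne
  obtain ⟨y, ⟨hy, hyb⟩, hy1⟩ := (Subgroup.bot_or_exists_ne_one _).resolve_left hne
  obtain ⟨hle, huniq⟩ := h.exc.unique_of_fixed (X := ({b} : Set G))
    (centralizer_singleton_ne_top_of_minSimple h.exc.minSimple hb1)
    (fun a ha => Subgroup.mem_centralizer_singleton_iff.2 (PGroup.mul_comm_of_elementaryAbelian h.exc.elem ha hb))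
    hy hy1 hyb
  refine h.exc.not_normalizer_le fun g hg => ?_
  have hCg : MulAut.conj g • centralizer ({b} : Set G) = centralizer ({b} : Set G) := by
    rw [← Subgroup.centralizer_closure, ← Subgroup.zpowers_eq_closure]
    exact Coprime.conj_smul_eq_self_of_mem (Coprime.le_normalizer_centralizer le_rfl (hn hg))
  have hLM := huniq (MulAut.conj g • M)
    ((OrderIso.isCoatom_iff (MulEquiv.mapSubgroup (MulAut.conj g)) M).2 h.exc.coatom)
    (hCg.ge.trans (Subgroup.pointwise_smul_le_pointwise_smul_iff.2 hle))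
  exact (normalizer_eq_of_normal h.exc.minSimple h.exc.coatom le_rfl Subgroup.le_normalizer
    (fun e => square_ne_bot h.exc.elem h.exc.card (le_bot_iff.1 (e ▸ h.exc.le)))).le
    (Coprime.mem_normalizer_of_conj_smul_eq hLM)

/-- An element fixing three lines fixes all of them. -/
theorem scalar_of_three {e a b c : G} (ha : a ∈ A) (hb : b ∈ A) (hc : c ∈ A) (ha1 : a ≠ 1)
    (hb1 : b ≠ 1) (hba : b ∉ zpowers a) (hca : c ∉ zpowers a) (hcb : c ∉ zpowers b)
    (hea : e * a * e⁻¹ ∈ zpowers a) (heb : e * b * e⁻¹ ∈ zpowers b) (hec : e * c * e⁻¹ ∈ zpowers c) :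
    ∀ d ∈ A, e * d * e⁻¹ ∈ zpowers d := by
  have hab : Commute a b := PGroup.mul_comm_of_elementaryAbelian h.exc.elem ha hb
  have hsup : ∀ d ∈ A, ∃ s t : ℤ, a ^ s * b ^ t = d := fun d hd => by
    obtain ⟨_, ⟨s, rfl⟩, _, ⟨t, rfl⟩, hst⟩ := (Coprime.mem_sup_iff_of_le_normalizer (H := zpowers a) (N := zpowers b)
      (Subgroup.zpowers_le.2 (Subgroup.centralizer_le_normalizer _ (Subgroup.mem_centralizer_iff.2 fun y hy =>
        PGroup.mul_comm_of_elementaryAbelian h.exc.elem (Subgroup.zpowers_le.2 hb hy) ha)))).1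
      ((square_eq_sup h.exc.elem h.exc.card ha ha1 hb hba).ge hd)
    exact ⟨s, t, hst⟩
  obtain ⟨i, hi⟩ := hea
  obtain ⟨j, hj⟩ := heb
  obtain ⟨m, hm⟩ := hec
  have hi' : e * a * e⁻¹ = a ^ i := hi.symm
  have hj' : e * b * e⁻¹ = b ^ j := hj.symm
  have hm' : e * c * e⁻¹ = c ^ m := hm.symm
  have hconj : ∀ s t : ℤ, e * (a ^ s * b ^ t) * e⁻¹ = a ^ (i * s) * b ^ (j * t) := fun s t => by
    rw [zpow_mul, zpow_mul, ← hi', ← hj', conj_zpow, conj_zpow]
    group
  obtain ⟨s, t, hst⟩ := hsup c hc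
  have h1 : a ^ (i * s) * b ^ (j * t) = a ^ (s * m) * b ^ (t * m) := by
    rw [← hconj, hst, hm', ← hst, (hab.zpow_zpow s t).mul_zpow, ← zpow_mul, ← zpow_mul]
  have h2 : a ^ (i * s - s * m) = b ^ (t * m - j * t) := by
    rw [zpow_sub, zpow_sub]
    refine mul_inv_eq_of_eq_mul ?_
    calc a ^ (i * s) = a ^ (i * s) * b ^ (j * t) * (b ^ (j * t))⁻¹ := (mul_inv_cancel_right _ _).symm
      _ = a ^ (s * m) * (b ^ (t * m) * (b ^ (j * t))⁻¹) := by rw [h1, mul_assoc]
      _ = b ^ (t * m) * (b ^ (j * t))⁻¹ * a ^ (s * m) :=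
        ((hab.zpow_zpow (s * m) (t * m)).mul_right (hab.zpow_zpow (s * m) (j * t)).inv_right).eq
  have hao : orderOf a = p := orderOf_eq_prime (h.exc.elem.2 a ha) ha1
  have hbo : orderOf b = p := orderOf_eq_prime (h.exc.elem.2 b hb) hb1
  have h3 : b ^ (t * m - j * t) = 1 := by
    by_contra hne
    refine hba ((zpowers_eq_of_mem (h.exc.elem.2 b hb) (Subgroup.zpow_mem _ (Subgroup.mem_zpowers b) _) hne).symm.le.trans
      ?_ (Subgroup.mem_zpowers b))
    exact Subgroup.zpowers_le.2 (h2 ▸ Subgroup.zpow_mem _ (Subgroup.mem_zpowers a) _)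
  have hp' : Prime (p : ℤ) := Nat.prime_iff_prime_int.1 Fact.out
  have hs : ¬ (p : ℤ) ∣ s := fun hd => hcb (by
    rw [← hst, show a ^ s = 1 from orderOf_dvd_iff_zpow_eq_one.1 (by rwa [hao]), one_mul]
    exact Subgroup.zpow_mem _ (Subgroup.mem_zpowers b) t)
  have ht : ¬ (p : ℤ) ∣ t := fun hd => hca (by
    rw [← hst, show b ^ t = 1 from orderOf_dvd_iff_zpow_eq_one.1 (by rwa [hbo]), mul_one]
    exact Subgroup.zpow_mem _ (Subgroup.mem_zpowers a) s)
  have hdi : (p : ℤ) ∣ i - m := by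
    refine (hp'.dvd_or_dvd (?_ : (p : ℤ) ∣ s * (i - m))).resolve_left hs
    rw [← hao, orderOf_dvd_iff_zpow_eq_one, show s * (i - m) = i * s - s * m by ring, h2, h3]
  have hdj : (p : ℤ) ∣ j - m := by
    refine (hp'.dvd_or_dvd (?_ : (p : ℤ) ∣ t * (j - m))).resolve_left ht
    rw [← hbo, orderOf_dvd_iff_zpow_eq_one, show t * (j - m) = -(t * m - j * t) by ring, zpow_neg, h3, inv_one]
  have ha' : a ^ i = a ^ m := zpow_eq_zpow_iff_modEq.2 ((Int.modEq_iff_dvd.2 (hao.symm ▸ hdi)).symm)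
  have hb' : b ^ j = b ^ m := zpow_eq_zpow_iff_modEq.2 ((Int.modEq_iff_dvd.2 (hbo.symm ▸ hdj)).symm)
  intro d hd
  obtain ⟨s', t', rfl⟩ := hsup d hd
  refine ⟨m, ?_⟩
  show (a ^ s' * b ^ t') ^ m = _
  rw [hconj, (hab.zpow_zpow s' t').mul_zpow, zpow_mul, zpow_mul, ha', hb', ← zpow_mul, ← zpow_mul,
    ← zpow_mul, ← zpow_mul, mul_comm s', mul_comm t']

/-- An `r`-element of `E` without invariant lines in `A` is impossible. -/
theorem irreducible_false {r : ℕ} [Fact r.Prime] (hrp : r ≠ p) (hr1 : PRankLE r 1 M)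
    (hfpf : ∀ u ∈ E, u ≠ 1 → u ^ r = 1 → sigmaCore M ⊓ centralizer ({u} : Set G) = ⊥)
    {e : G} (he : e ∈ E) {k : ℕ} (hek : e ^ r ^ k = 1)
    (hirr : ∀ a ∈ A, a ≠ 1 → e * a * e⁻¹ ∉ zpowers a) : False := by
  have hG := h.exc.minSimple
  have hAp := PGroup.isPGroup_of_elementaryAbelian h.exc.elem
  haveI := h.exc.elem.1
  obtain ⟨R, hRE, hAR, hRc, hΩ, hNR, hmemR, hder⟩ := h.spec
  set N := normalizer (A : Set G) with hN
  set D := centralizer (A : Set G) with hD
  have hDE : D ≤ E := h.centralizer_le_compl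
  have hEN := h.exc.complement_le_normalizer h.compl h.le_compl
  have heN : e ∈ N := hEN he
  obtain ⟨a₁, ha₁, ha₁1⟩ := (Subgroup.bot_or_exists_ne_one A).resolve_left (square_ne_bot h.exc.elem h.exc.card)
  have heC : e ∉ D := fun hc => hirr a₁ ha₁ ha₁1 (by
    rw [← Subgroup.mem_centralizer_iff.1 hc a₁ ha₁, mul_inv_cancel_right]
    exact Subgroup.mem_zpowers a₁)
  have he1 : e ≠ 1 := fun e' => heC (e' ▸ one_mem D)
  have hlt : r < p := by
    rcases lt_or_gt_of_ne hrp with hlt | hlt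
    · exact hlt
    exfalso
    haveI : Group.IsSolvable E := Coprime.isSolvable_of_le h.compl.1 (isSolvable_of_coatom hG h.exc.coatom)
    haveI : (A.subgroupOf E).Normal := Coprime.normal_subgroupOf_of_le_normalizer hEN
    have h2 := S1451.mem_centralizer_of_lt (G := E) (odd_subgroup hG.1 E) (Fact.out : r.Prime) hlt
      (A.subgroupOf E) hAp.comap_subtype
      (fun C _ _ => by
        refine C.card_le_card_group.trans (le_of_eq ?_)
        rw [Coprime.card_subgroupOf h.le_compl, h.exc.card])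
      (x := (⟨e, he⟩ : E)) (k := k) (Subtype.ext hek)
    exact heC (Subgroup.mem_centralizer_iff.2 fun a ha =>
      congrArg Subtype.val (Subgroup.mem_centralizer_iff.1 h2 ⟨a, h.le_compl ha⟩ ha))
  -- an element of order `r` in `⟨e⟩`
  obtain ⟨i, -, hi⟩ := (Nat.dvd_prime_pow (Fact.out : r.Prime)).1 (orderOf_dvd_of_pow_eq_one hek)
  have hrd : r ∣ Nat.card (zpowers e) := by
    rw [Nat.card_zpowers, hi]
    exact dvd_pow_self r fun e' => he1 (orderOf_eq_one_iff.1 (by rw [hi, e', pow_zero]))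
  obtain ⟨⟨ω, hωe⟩, hωo⟩ := exists_prime_orderOf_dvd_card' r hrd
  rw [Subgroup.orderOf_mk] at hωo
  have hωE : ω ∈ E := Subgroup.zpowers_le.2 he hωe
  have hω1 : ω ≠ 1 := fun e' => (Fact.out : r.Prime).ne_one (by rw [← hωo, e', orderOf_one])
  have hωr : ω ^ r = 1 := hωo ▸ pow_orderOf_eq_one ω
  have hω := hfpf ω hωE hω1 hωr
  have heω : Commute e ω := commute_of_mem_zpowers (Commute.refl e) hωe
  have hrM : r ∣ Nat.card E := hωo ▸ Subgroup.orderOf_dvd_natCard E hωE
  have hrs : r ∉ Cfsg.sigma M := not_mem_sigma_of_compl hG h.exc.coatom h.compl Fact.out hrM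
  have hωD : ω ∈ D := by
    by_contra hωD
    have hωA : zpowers ω ≤ normalizer (A : Set G) := Subgroup.zpowers_le.2 (hEN hωE)
    have hcop : (Nat.card (zpowers ω)).Coprime (Nat.card A) := by
      rw [Nat.card_zpowers, hωo, h.exc.card]
      exact ((Nat.coprime_primes Fact.out Fact.out).2 hrp).pow_right 2
    set W := ⁅A, zpowers ω⁆ with hW
    have hWA : W ≤ A := Coprime.commutator_le_left_of_le_normalizer hωA
    have hW1 : W ≠ ⊥ := fun e' => hωD (by
      have := Coprime.le_centralizer_iff_commutator_eq_bot.2 e'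
      first
        | exact this (Subgroup.mem_zpowers ω)
        | exact Subgroup.le_centralizer_iff.1 this (Subgroup.mem_zpowers ω))
    have hWω : ⁅zpowers ω, W⁆ = W := by
      rw [Subgroup.commutator_comm, hW]
      exact Coprime.commutator_commutator_eq hωA hcop (Or.inl (Group.isSolvable_of_comm fun x y =>
        (IsCyclic.commGroup (α := zpowers ω)).mul_comm x y))
    have hWc := le_centralizer_sigmaCore_of_fpf (p := p) hG h.exc.coatom h.exc.isNilpotent_sigmaCore
      (W := W) (b := ω) (hAp.to_le hWA) (hWA.trans h.exc.le) h.exc.sigma (h.compl.1 hωE) (hωo ▸ Fact.out)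
      (hωo ▸ hrp) (hωo ▸ hrs)
      (Subgroup.normalizer_commutator_ge_right A (zpowers ω) (Subgroup.mem_zpowers ω)) hWω hω
    have hWne : W ≠ A := fun e' => sigmaCore_ne_bot hG h.exc.coatom (le_bot_iff.1
      (h.exc.sigmaCore_inf_centralizer ▸ le_inf le_rfl (e' ▸ Subgroup.le_centralizer_iff.1 hWc)))
    obtain ⟨w, hw, hw1⟩ := (Subgroup.bot_or_exists_ne_one W).resolve_left hW1
    have hWw : zpowers w = W := by
      by_contra hne'
      obtain ⟨w', hw', hw'n⟩ := SetLike.exists_of_lt (lt_of_le_of_ne (Subgroup.zpowers_le.2 hw) hne')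
      exact hWne (le_antisymm hWA ((square_eq_sup h.exc.elem h.exc.card (hWA hw) hw1 (hWA hw') hw'n).ge.trans
        (sup_le (Subgroup.zpowers_le.2 hw) (Subgroup.zpowers_le.2 hw'))))
    refine hirr w (hWA hw) hw1 ?_
    have heW : e ∈ normalizer (W : Set G) := by
      rw [hW, Subgroup.mem_normalizer_iff_map_conj_eq, Subgroup.map_commutator,
        Subgroup.mem_normalizer_iff_map_conj_eq.1 (hEN he), MonoidHom.map_zpowers]
      congr 2
      show e * ω * e⁻¹ = ω
      rw [heω.eq, mul_inv_cancel_right]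
    have := (Subgroup.mem_normalizer_iff.1 heW w).1 hw
    rwa [← hWw] at this
  -- the maximal subgroup over `N(⟨ω⟩)`
  have hWp : IsPGroup r (zpowers ω) := isPGroup_zpowers_of_pow (k := 1) Fact.out (by rwa [pow_one])
  obtain ⟨L, hL, hNL⟩ := exists_coatom_ge (normalizer_ne_top_of_pgroup hG hWp
    (fun e' => hω1 (Subgroup.zpowers_eq_bot.1 e')))
  have hCL : centralizer ({ω} : Set G) ≤ L := by
    refine le_trans ?_ hNL
    rw [← Subgroup.centralizer_closure, ← Subgroup.zpowers_eq_closure]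
    exact Subgroup.centralizer_le_normalizer _
  have hAL : A ≤ L := fun a ha => hCL (Subgroup.mem_centralizer_singleton_iff.2
    (Subgroup.mem_centralizer_iff.1 hωD a ha))
  have heL : e ∈ L := hCL (Subgroup.mem_centralizer_singleton_iff.2 heω.eq)
  have hDL : D ≤ L := (S1416.result hG L hL p A ⟨hAL, h.exc.elem, h.exc.card⟩).1
  have hcycM : ∀ X : Subgroup G, IsPGroup r X → X ≤ M → IsCyclic X := fun X hX hXM =>
    IsolatedP.isCyclic_of_pRankLE_one (ne_two_of_odd_of_dvd hG.1 (hrM.trans E.card_subgroup_dvd_card)) hX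
      (pRankLE_of_le hXM hr1)
  have huniq : ∀ X : Subgroup G, IsPGroup r X → X ≤ M → ∀ a ∈ X, ∀ b ∈ X, a ^ r = 1 → b ^ r = 1 → a ≠ 1 →
      b ∈ zpowers a := fun X hX hXM a ha b hb har hbr ha1 => by
    rcases eq_or_ne b 1 with rfl | hb1
    · exact one_mem _
    have := eq_of_card_eq_cyclic (hcycM X hX hXM) (Subgroup.zpowers_le.2 hb) (Subgroup.zpowers_le.2 ha)
      (by rw [Nat.card_zpowers, Nat.card_zpowers, orderOf_eq_prime hbr hb1, orderOf_eq_prime har ha1])
    exact this ▸ Subgroup.mem_zpowers b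
  have hDn : N ≤ normalizer (D : Set G) := Coprime.le_normalizer_centralizer le_rfl
  have hNle : N ≤ L := by
    intro g hg
    have hω' : g * ω * g⁻¹ ∈ D := (Subgroup.mem_normalizer_iff.1 (hDn hg) ω).1 hωD
    have hω'r : (g * ω * g⁻¹) ^ r = 1 := by rw [conj_pow, hωr, mul_one, mul_inv_cancel]
    obtain ⟨S, hS⟩ := exists_sylow_map_ge hWp (Subgroup.zpowers_le.2 hωD)
    obtain ⟨S', hS'⟩ := exists_sylow_map_ge (isPGroup_zpowers_of_pow (k := 1) Fact.out (by rwa [pow_one]))
      (Subgroup.zpowers_le.2 hω')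
    obtain ⟨d, hd⟩ := MulAction.exists_smul_eq D S' S
    have h1 : (d : G) * (g * ω * g⁻¹) * (d : G)⁻¹ ∈ (S : Subgroup D).map D.subtype := by
      rw [← hd, Sylow.coe_subgroup_smul, Coprime.map_conj_smul, Coprime.mem_conj_smul_iff]
      show (d : G)⁻¹ * ((d : G) * (g * ω * g⁻¹) * (d : G)⁻¹) * (d : G) ∈ _
      rw [show (d : G)⁻¹ * ((d : G) * (g * ω * g⁻¹) * (d : G)⁻¹) * (d : G) = g * ω * g⁻¹ by group]
      exact hS' (Subgroup.mem_zpowers _)
    have h2 := huniq _ (S.2.map D.subtype) ((Subgroup.map_subtype_le _).trans h.exc.centralizer_le) ω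
      (hS (Subgroup.mem_zpowers ω)) _ h1 hωr (by rw [conj_pow, hω'r, mul_one, mul_inv_cancel]) hω1
    have h3 : (d : G) * g ∈ normalizer (zpowers ω : Set G) := mem_normalizer_zpowers (by
      rwa [show (d : G) * g * ω * ((d : G) * g)⁻¹ = (d : G) * (g * ω * g⁻¹) * (d : G)⁻¹ by group])
    have := L.mul_mem (L.inv_mem (hDL d.2)) (hNL h3)
    rwa [inv_mul_cancel_left] at this
  have hps : p ∈ Cfsg.sigma L := by
    by_contra hps
    obtain ⟨A₁, hE⟩ := exists_exc hG hL hps hAL h.exc.elem h.exc.card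
    exact hE.not_normalizer_le hNle
  have hRL : (R : Subgroup G) ≤ L := fun x hx => hNle (Subgroup.centralizer_le_normalizer _
    (Subgroup.mem_centralizer_iff.2 fun a ha => PGroup.mul_comm_of_isMulCommutative hRc (hAR ha) hx))
  have hNeq : L ⊓ normalizer ((R : Subgroup G) : Set G) = N := by
    refine le_antisymm (fun g hg => ?_) (le_inf hNle hNR)
    have h1 := normalizer_le_normalizer_omegaOne p (R : Subgroup G) hg.2
    rwa [hΩ] at h1
  have hrdL : r ∣ Nat.card L := hωo ▸ Subgroup.orderOf_dvd_natCard L (hCL (Subgroup.mem_centralizer_singleton_iff.2 rfl))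
  have hrb : r ∉ beta L := by
    intro hb
    have hpb : p ∉ beta L := fun hb' => not_ideal_of_square h.exc.elem h.exc.card h.exc.setting.hmax hb'.2
    obtain ⟨hhall, -, -⟩ := S1414.result hG L hL
    haveI : (piCore (beta L) ↥L).Normal := inferInstance
    have heK : e ∈ piCoreOf (beta L) L :=
      le_map_of_not_dvd_index (Subgroup.zpowers_le.2 heL) (isPGroup_zpowers_of_pow Fact.out hek) (fun hd =>
        hhall.2.2 r Fact.out hb (by
          rwa [Subgroup.relIndex, show (piCoreOf (beta L) L).subgroupOf L = piCore (beta L) ↥L from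
            Subgroup.comap_map_eq_self_of_injective L.subtype_injective _])) (Subgroup.mem_zpowers e)
    refine heC (Subgroup.mem_centralizer_iff.2 fun a ha => ?_)
    have h1 : e * a * e⁻¹ * a⁻¹ ∈ A ⊓ piCoreOf (beta L) L := by
      refine ⟨A.mul_mem ((Subgroup.mem_normalizer_iff.1 heN a).1 ha) (A.inv_mem ha), ?_⟩
      have := (piCoreOf (beta L) L).mul_mem heK
        ((Subgroup.mem_normalizer_iff.1 (le_normalizer_piCoreOf _ L (hAL ha)) e⁻¹).1 (inv_mem heK))
      simpa [mul_assoc] using this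
    have hdis : A ⊓ piCoreOf (beta L) L = ⊥ := Coprime.disjoint_of_coprime_card
      (coprime_of_isPGroup hAp fun hd => hpb (isPiGrp_piCoreOf (beta L) L p Fact.out hd))
    rw [hdis, Subgroup.mem_bot, mul_inv_eq_one, mul_inv_eq_iff_eq_mul] at h1
    exact h1.symm
  haveI := isSolvable_of_coatom hG hL
  haveI : (pPrimeCore r ↥L).Normal := PCore.pPrimeCore_normal
  obtain ⟨-, -, -, -, hkey⟩ := S1414.result hG L hL
  obtain ⟨-, -, hr2⟩ := hkey r Fact.out hrdL hrb
  set K := core r L with hK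
  have hRK : (R : Subgroup G) ≤ K :=
    le_map_of_not_dvd_index hRL R.2 fun hdv => absurd (hr2 p Fact.out hdv) (by omega)
  have hsplit : ∀ g ∈ L, ∃ k ∈ K, ∃ n ∈ N, g = k * n := fun g hg => by
    obtain ⟨k', hk', n, hn, hg'⟩ := frattini_split (le_normalizer_core L) (core_le L) R hRK hg
    exact ⟨k', hk', n, hNeq ▸ hn, hg'⟩
  have hKr : ∀ x ∈ K, (orderOf x).Coprime r := fun x hx =>
    (coprime_card_core (p := r) L).coprime_dvd_left (Subgroup.orderOf_dvd_natCard K hx)
  -- `e` is not in `L'`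
  have heder : e ∉ ⁅L, L⁆ := by
    intro hed
    have h1 := commutator_le_of_split (le_normalizer_core L) (core_le L) hNle hsplit hed
    obtain ⟨c, hc, x, hx, hcx⟩ := (Coprime.mem_sup_iff_of_le_normalizer
      ((Subgroup.commutator_le_self N).trans (hNle.trans (le_normalizer_core L)))).1 h1
    have hcD : c ∈ D := hder hc
    have hxN : x ∈ N := by
      have := N.mul_mem (N.inv_mem (Subgroup.commutator_le_self N hc)) heN
      rwa [← hcx, inv_mul_cancel_left] at this
    haveI : (D.subgroupOf N).Normal := Coprime.normal_subgroupOf_of_le_normalizer hDn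
    set π := QuotientGroup.mk' (D.subgroupOf N)
    have he' : π ⟨e, heN⟩ = π ⟨x, hxN⟩ := by
      have e1 : (⟨e, heN⟩ : N) = ⟨c, Subgroup.commutator_le_self N hc⟩ * ⟨x, hxN⟩ := Subtype.ext hcx.symm
      rw [e1, map_mul, show π ⟨c, Subgroup.commutator_le_self N hc⟩ = 1 from
        (QuotientGroup.eq_one_iff _).2 hcD, one_mul]
    have h2 : orderOf (π ⟨e, heN⟩) = 1 := by
      refine Nat.eq_one_of_dvd_coprimes ((hKr x hx).pow_right k)
        (he' ▸ (orderOf_map_dvd π _).trans (Subgroup.orderOf_mk x hxN).dvd) ?_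
      refine (orderOf_map_dvd π _).trans ?_
      rw [Subgroup.orderOf_mk]
      exact orderOf_dvd_of_pow_eq_one hek
    have h3 : π ⟨e, heN⟩ = 1 := orderOf_eq_one_iff.1 h2
    have h4 := (QuotientGroup.eq_one_iff (N := D.subgroupOf N) (⟨e, heN⟩ : N)).1 h3
    exact heC (Subgroup.mem_subgroupOf.1 h4)
  have hrL : r ∉ Cfsg.sigma L := by
    intro hs
    obtain ⟨S, hS⟩ := exists_sylow_map_ge (isPGroup_zpowers_of_pow Fact.out hek) (Subgroup.zpowers_le.2 heL)
    exact heder (sigmaCore_le_commutator hG hL (sylow_le_sigmaCore hG hL hs S (hS (Subgroup.mem_zpowers e))))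
  -- a Sylow subgroup of `N` is one of `L`
  obtain ⟨S, hS⟩ := exists_sylow_map_ge (isPGroup_zpowers_of_pow Fact.out hek) (Subgroup.zpowers_le.2 heN)
  set T := (S : Subgroup N).map N.subtype with hT
  have hTN : T ≤ N := Subgroup.map_subtype_le _
  obtain ⟨S', hS'⟩ := exists_sylow_map_ge (S.2.map N.subtype : IsPGroup r T) (hTN.trans hNle)
  have hTS : T = (S' : Subgroup L).map L.subtype := by
    refine Subgroup.eq_of_le_of_card_ge hS' (Nat.le_of_dvd Nat.card_pos ?_)
    set K' := pPrimeCore r ↥L with hK'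
    have htop : K' ⊔ N.subgroupOf L = ⊤ := eq_top_iff.2 fun g _ => by
      obtain ⟨x, hx, n, hn, hg⟩ := hsplit g g.2
      obtain ⟨x', hx', hxx⟩ := hx
      have e1 : g = x' * ⟨n, hNle hn⟩ := Subtype.ext (by rw [hg, ← hxx]; rfl)
      rw [e1]
      exact mul_mem (Subgroup.mem_sup_left hx') (Subgroup.mem_sup_right hn)
    have hdvd : Nat.card L ∣ Nat.card K' * Nat.card (N.subgroupOf L) := by
      have h3 := Subgroup.relIndex_mul_relIndex ⊥ K' (K' ⊔ N.subgroupOf L) bot_le le_sup_left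
      rw [Subgroup.relIndex_bot_left, Subgroup.relIndex_bot_left, Subgroup.relIndex_sup_left, htop,
        Subgroup.card_top] at h3
      exact h3 ▸ mul_dvd_mul_left _ (Subgroup.relIndex_dvd_card K' _)
    obtain ⟨j, hj⟩ := S'.2.exists_card_eq
    have h4 : r ^ j ∣ Nat.card N := by
      rw [← Coprime.card_subgroupOf hNle]
      exact ((PCore.coprime_card_pPrimeCore (p := r) (G := ↥L)).symm.pow_left j).dvd_of_dvd_mul_left
        ((hj ▸ Subgroup.card_subgroup_dvd_card _).trans hdvd)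
    rw [Subgroup.card_map_of_injective L.subtype_injective, hj, hT,
      Subgroup.card_map_of_injective N.subtype_injective]
    exact S.pow_dvd_card_of_pow_dvd_card h4
  have hTp : IsPGroup r T := S.2.map _
  have heT : e ∈ T := hS (Subgroup.mem_zpowers e)
  have hωT : ω ∈ T := Subgroup.zpowers_le.2 heT hωe
  have hTc : ∀ a ∈ T, ∀ b ∈ T, a * b = b * a := pgroup_comm hG hL hrL (hTN.trans hNle) hTp
  by_cases hone : ∀ y ∈ T, y ^ r = 1 → y ∈ zpowers ω
  · have hTcyc : IsCyclic T := IsolatedP.isCyclic_of_pRankLE_one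
      (ne_two_of_minSimple hG hTp fun e' => he1 (Subgroup.mem_bot.1 (e' ▸ heT))) hTp fun B _ hB => by
        rw [pow_one, ← hωo, ← Nat.card_zpowers, ← Subgroup.card_map_of_injective T.subtype_injective]
        refine Subgroup.card_le_of_le ?_
        rintro _ ⟨b, hb, rfl⟩
        exact hone b b.2 (congrArg Subtype.val (hB b hb))
    refine hrL ⟨Fact.out, hrdL, S', ?_⟩
    rw [← hTS]
    exact (normalizer_le_of_cyclic hTcyc (Subgroup.zpowers_le.2 hωT)).trans hNL
  push Not at hone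
  obtain ⟨y, hyT, hyr, hyω⟩ := hone
  have hyM : y ∉ M := fun hm => hyω (huniq (T ⊓ M) (hTp.to_le inf_le_left) inf_le_right ω
    ⟨hωT, h.compl.1 hωE⟩ y ⟨hyT, hm⟩ hωr hyr hω1)
  have hey : Commute e y := hTc e heT y hyT
  -- a power of `e` of order `r` modulo `C(A)`
  classical
  have hex : ∃ j : ℕ, e ^ r ^ j ∈ D := ⟨k, by rw [hek]; exact one_mem D⟩
  have hj0 : Nat.find hex ≠ 0 := fun e' => heC (by
    have := Nat.find_spec hex
    rwa [e', pow_zero, pow_one] at this)
  set f := e ^ r ^ (Nat.find hex - 1) with hf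
  have hfD : f ∉ D := Nat.find_min hex (by omega)
  have hfr : f ^ r ∈ D := by
    rw [hf, ← pow_mul, ← pow_succ, show Nat.find hex - 1 + 1 = Nat.find hex by omega]
    exact Nat.find_spec hex
  have hfN : f ∈ N := N.pow_mem heN _
  have hey' : Commute f y := hey.pow_left _
  have hef : Commute e f := (Commute.refl e).pow_right _
  -- a fixed point gives an invariant line
  have hfix : ∀ γ : G, γ ∈ N → Commute e γ → γ ∉ D → ∀ a ∈ A, a ≠ 1 → γ * a * γ⁻¹ = a → False := by
    intro γ hγ heγ hγD a ha ha1 hγa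
    set C := A ⊓ centralizer ({γ} : Set G) with hC
    have haC : a ∈ C := ⟨ha, Subgroup.mem_centralizer_singleton_iff.2 (mul_inv_eq_iff_eq_mul.1 hγa).symm⟩
    have hCA : C ≠ A := fun e' => hγD (Subgroup.mem_centralizer_iff.2 fun b hb =>
      Subgroup.mem_centralizer_singleton_iff.1 (e'.ge hb).2)
    refine hirr a ha ha1 ?_
    have hmem : e * a * e⁻¹ ∈ C := by
      refine ⟨(Subgroup.mem_normalizer_iff.1 heN a).1 ha, Subgroup.mem_centralizer_singleton_iff.2 ?_⟩
      have h1 : Commute a γ := Subgroup.mem_centralizer_singleton_iff.1 haC.2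
      exact ((heγ.mul_left h1).mul_left heγ.inv_left).eq
    by_contra hne'
    exact hCA (le_antisymm inf_le_left ((square_eq_sup h.exc.elem h.exc.card ha ha1 hmem.1 hne').ge.trans
      (sup_le (Subgroup.zpowers_le.2 haC) (Subgroup.zpowers_le.2 hmem))))
  letI : CommGroup A := { (inferInstance : Group A) with mul_comm := fun a b => mul_comm' a b }
  let ρ := Subgroup.normalizerMonoidHom A
  let y' : N := ⟨y, hTN hyT⟩
  let f' : N := ⟨f, hfN⟩
  have hρf : ρ f' ^ r = 1 := by
    rw [← map_pow]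
    refine MulEquiv.ext fun a => Subtype.ext ?_
    show f ^ r * (a : G) * (f ^ r)⁻¹ = a
    rw [← Subgroup.mem_centralizer_iff.1 hfr a a.2, mul_inv_cancel_right]
  rcases exists_fixed_of_two_commuting_aux (p := r) (ρ y') (ρ f')
      ((show Commute y' f' from Subtype.ext hey'.symm.eq).map ρ)
      (by rw [← map_pow, show y' ^ r = 1 from Subtype.ext hyr, map_one]) hρf
      (v := (⟨a₁, ha₁⟩ : A)) (fun e' => ha₁1 (by
        have h1 : a₁ ^ r = 1 := congrArg Subtype.val e'
        rw [← orderOf_eq_one_iff]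
        refine Nat.eq_one_of_dvd_coprimes ((Nat.coprime_primes Fact.out Fact.out).2 hrp)
          (orderOf_dvd_of_pow_eq_one h1) (orderOf_dvd_of_pow_eq_one (h.exc.elem.2 a₁ ha₁)))) with
    ⟨j, w, hw, hw'⟩ | ⟨j, hj0', hjr, w, hw, hw'⟩
  · rw [← map_pow, ← map_mul] at hw'
    refine hfix (y * f ^ j) (N.mul_mem (hTN hyT) (N.pow_mem hfN j)) (hey.mul_right (hef.pow_right j))
      (fun hD' => hyM ?_) w w.2 (fun e' => hw (Subtype.ext e')) (congrArg Subtype.val hw')
    have hfM : f ∈ M := M.pow_mem (h.compl.1 he) _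
    have := M.mul_mem (h.exc.centralizer_le hD') (M.inv_mem (M.pow_mem hfM j))
    rwa [mul_inv_cancel_right] at this
  · rw [← map_pow] at hw'
    refine hfix (f ^ j) (N.pow_mem hfN j) (hef.pow_right j) (fun hD' => hfD ?_) w w.2
      (fun e' => hw (Subtype.ext e')) (congrArg Subtype.val hw')
    have hco : j.Coprime r := ((Fact.out : r.Prime).coprime_iff_not_dvd.2 fun hd =>
      absurd (Nat.le_of_dvd hj0' hd) (not_le.2 hjr)).symm
    have h1 := (Int.gcd_eq_gcd_ab j r)
    rw [show Int.gcd j r = 1 from hco] at h1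
    rw [← zpow_one f, show (1 : ℤ) = _ from h1, zpow_add, zpow_mul, zpow_mul, zpow_natCast, zpow_natCast]
    exact D.mul_mem (D.zpow_mem hD' _) (D.zpow_mem hfr _)

/-- An invariant fixed-point-free line. -/
theorem exists_invariant_line
    (hfpf : ∀ r : ℕ, r.Prime → r ∉ Cfsg.tau2 M → ∀ u ∈ E, u ≠ 1 → u ^ r = 1 →
      sigmaCore M ⊓ centralizer ({u} : Set G) = ⊥)
    (hother : ∀ q : ℕ, q ∈ Cfsg.tau2 M → q ≠ p → ∀ u ∈ E, (∃ k : ℕ, u ^ q ^ k = 1) → u ∈ pOf q E) :
    ∃ b ∈ A, b ≠ 1 ∧ E ≤ normalizer (zpowers b : Set G) ∧ sigmaCore M ⊓ centralizer ({b} : Set G) = ⊥ := by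
  classical
  have hEN := h.exc.complement_le_normalizer h.compl h.le_compl
  obtain ⟨R, hRE, hAR, hRc, hΩ, hNR, hmemR, hder⟩ := h.spec
  set S : Subgroup G := ⨅ a : A, normalizer (zpowers (a : G) : Set G) with hS
  by_cases hsc : E ≤ S
  · obtain ⟨b, hb, -, hbo, hbf⟩ := h.exc.exists_fpf
    refine ⟨b, hb, fun e => ?_, hsc.trans (iInf_le _ (⟨b, hb⟩ : A)), hbf⟩
    rw [e, orderOf_one] at hbo
    exact (Fact.out : p.Prime).ne_one hbo.symm
  obtain ⟨x, hxE, hxS⟩ := SetLike.not_le_iff_exists.1 hsc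
  obtain ⟨r, hr, e, he, ⟨k, hek⟩, heS⟩ : ∃ r : ℕ, r.Prime ∧ ∃ e ∈ E, (∃ k : ℕ, e ^ r ^ k = 1) ∧ e ∉ S := by
    by_contra hno
    push Not at hno
    exact hxS (mem_of_forall_primePart fun r hr _ u hu ⟨k, hk⟩ =>
      hno r hr u (Subgroup.zpowers_le.2 hxE hu) ⟨k, hk⟩)
  haveI := Fact.mk hr
  have heC : e ∉ centralizer (A : Set G) := fun hc => heS (Subgroup.mem_iInf.2 fun a => mem_normalizer_zpowers (by
    rw [← Subgroup.mem_centralizer_iff.1 hc a a.2, mul_inv_cancel_right]
    exact Subgroup.mem_zpowers _))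
  have hrt : r ∉ Cfsg.tau2 M := by
    intro hrt
    rcases eq_or_ne r p with rfl | hne
    · exact heC (Subgroup.mem_centralizer_iff.2 fun a ha =>
        PGroup.mul_comm_of_isMulCommutative hRc (hAR ha) (hmemR e (hEN he) k hek))
    · exact heC (Subgroup.mem_centralizer_iff.2 fun a ha =>
        (Subgroup.mem_centralizer_iff.1 (pOf_le_centralizer_pOf (p := r) (q := p) hne E (hother r hrt hne e he ⟨k, hek⟩))
          a (hRE.le (hAR ha))))
  have hre : r ∣ Nat.card E := by
    obtain ⟨i, -, hi⟩ := (Nat.dvd_prime_pow hr).1 (orderOf_dvd_of_pow_eq_one hek)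
    exact (dvd_pow_self r fun e0 => heS (by
      rw [orderOf_eq_one_iff.1 (by rw [hi, e0, pow_zero] : orderOf e = 1)]
      exact one_mem S)).trans (hi ▸ Subgroup.orderOf_dvd_natCard E he)
  have hrs := not_mem_sigma_of_compl h.exc.minSimple h.exc.coatom h.compl hr hre
  have hr2 : PRankLE r 2 M := by
    by_contra h2
    exact hrs (alpha_subset_sigma h.exc.minSimple h.exc.coatom ⟨hr, h2⟩)
  have hr1 : PRankLE r 1 M := by
    by_contra h1
    exact hrt ⟨hr, hrs, hr2, h1⟩
  have hrp : r ≠ p := fun e' => hrt (e' ▸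
    ⟨Fact.out, h.exc.sigma, h.exc.setting.rank, not_pRankLE_of_elementary h.exc.elem h.exc.le (by rw [h.exc.card])⟩)
  by_cases hirr : ∀ a ∈ A, a ≠ 1 → e * a * e⁻¹ ∉ zpowers a
  · exact (h.irreducible_false hrp hr1 (hfpf r hr hrt) he hek hirr).elim
  push Not at hirr
  obtain ⟨b, hb, hb1, heb⟩ := hirr
  have hNb : normalizer (A : Set G) ≤ normalizer (zpowers b : Set G) := by
    intro g hg
    by_contra hgb
    have hfixed : ∀ n ∈ normalizer (A : Set G), e * (n * b * n⁻¹) * e⁻¹ ∈ zpowers (n * b * n⁻¹) := fun n hn => by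
      obtain ⟨i, hi⟩ := heb
      refine ⟨i, ?_⟩
      show (n * b * n⁻¹) ^ i = e * (n * b * n⁻¹) * e⁻¹
      have hc : ⁅n⁻¹, e⁆ ∈ centralizer (A : Set G) :=
        hder (Subgroup.commutator_mem_commutator (inv_mem hn) (hEN he))
      have hbA : e * b * e⁻¹ ∈ A := (Subgroup.mem_normalizer_iff.1 (hEN he) b).1 hb
      rw [conj_zpow, show b ^ i = e * b * e⁻¹ from hi]
      have h2 := Subgroup.mem_centralizer_iff.1 hc _ hbA
      calc n * (e * b * e⁻¹) * n⁻¹ = n * ((e * b * e⁻¹) * ⁅n⁻¹, e⁆) * ⁅n⁻¹, e⁆⁻¹ * n⁻¹ := by group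
        _ = n * (⁅n⁻¹, e⁆ * (e * b * e⁻¹)) * ⁅n⁻¹, e⁆⁻¹ * n⁻¹ := by rw [h2]
        _ = _ := by simp only [commutatorElement_def]; group
    set c := g * b * g⁻¹ with hc
    set d := (g * g) * b * (g * g)⁻¹ with hd
    have hcA : c ∈ A := (Subgroup.mem_normalizer_iff.1 hg b).1 hb
    have hdA : d ∈ A := (Subgroup.mem_normalizer_iff.1 (mul_mem hg hg) b).1 hb
    have hcb : c ∉ zpowers b := fun hm => hgb (mem_normalizer_zpowers hm)
    have hdb : d ∉ zpowers b := fun hm => by
      refine hgb ?_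
      obtain ⟨m, hm2⟩ := exists_pow_eq_self_of_coprime (n := 2) (x := g) (by
        rw [Nat.coprime_two_left]
        exact h.exc.minSimple.1.of_dvd_nat (orderOf_dvd_natCard g))
      rw [← hm2, pow_two]
      exact Subgroup.pow_mem _ (mem_normalizer_zpowers hm) m
    have hdc : d ∉ zpowers c := fun hm => hcb (by
      obtain ⟨m, hm'⟩ := hm
      refine ⟨m, ?_⟩
      show b ^ m = c
      have h2 : g * b ^ m * g⁻¹ = d := by rw [← conj_zpow]; exact hm'
      rw [hc, show b ^ m = g⁻¹ * (g * b ^ m * g⁻¹) * g by group, h2, hd]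
      group)
    exact heS (Subgroup.mem_iInf.2 fun a => mem_normalizer_zpowers (h.scalar_of_three hb hcA hdA hb1
      (fun e' => hb1 (by simpa [hc] using e')) hcb hdb hdc heb (hfixed g hg) (hfixed _ (mul_mem hg hg)) a a.2))
  exact ⟨b, hb, hb1, hEN.trans hNb, h.fpf_of_invariant hb hb1 hNb⟩

/-- A `K`-invariant cyclic subgroup of `O_p(E)` of full exponent, fixed-point-free on `M_σ`. -/
theorem exists_fpf_cyclic {K : Subgroup G} (hKE : K ≤ E) (hKp : (Nat.card K).Coprime p)
    (hfpf : ∀ r : ℕ, r.Prime → r ∉ Cfsg.tau2 M → ∀ u ∈ E, u ≠ 1 → u ^ r = 1 →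
      sigmaCore M ⊓ centralizer ({u} : Set G) = ⊥)
    (hother : ∀ q : ℕ, q ∈ Cfsg.tau2 M → q ≠ p → ∀ u ∈ E, (∃ k : ℕ, u ^ q ^ k = 1) → u ∈ pOf q E) :
    ∃ Z : Subgroup G, Z ≤ pOf p E ∧ K ≤ normalizer (Z : Set G) ∧
      (∀ z ∈ Z, z ≠ 1 → sigmaCore M ⊓ centralizer ({z} : Set G) = ⊥) ∧
      ∃ z ∈ Z, ∀ v ∈ pOf p E, orderOf v ∣ orderOf z := by
  have hEN := h.exc.complement_le_normalizer h.compl h.le_compl
  obtain ⟨R, hRE, hAR, hRc, hΩ, hNR, hmemR, hder⟩ := h.spec
  haveI : Nonempty (R : Subgroup G) := ⟨1⟩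
  obtain ⟨⟨w, hw⟩, hwmax⟩ := Finite.exists_max (fun x : (R : Subgroup G) => orderOf (x : G))
  have hpow : ∀ x ∈ (R : Subgroup G), ∃ i : ℕ, orderOf x = p ^ i := fun x hx => by
    obtain ⟨j, hj⟩ := R.2 ⟨x, hx⟩
    obtain ⟨i, -, hi⟩ := (Nat.dvd_prime_pow (Fact.out : p.Prime)).1
      (orderOf_dvd_of_pow_eq_one (congrArg Subtype.val hj :))
    exact ⟨i, hi⟩
  obtain ⟨n, hn⟩ := hpow w hw
  obtain ⟨a₁, ha₁, ha₁1⟩ := (Subgroup.bot_or_exists_ne_one A).resolve_left (square_ne_bot h.exc.elem h.exc.card)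
  have hn0 : n ≠ 0 := fun e => by
    have h1 := hwmax ⟨a₁, hAR ha₁⟩
    simp only at h1
    rw [hn, e, pow_zero, orderOf_eq_prime (h.exc.elem.2 a₁ ha₁) ha₁1] at h1
    exact absurd h1 (not_le.2 (Fact.out : p.Prime).one_lt)
  obtain ⟨a, rfl⟩ := Nat.exists_eq_succ_of_ne_zero hn0
  have hexp : ∀ v ∈ (R : Subgroup G), orderOf v ∣ p ^ (a + 1) := fun v hv => by
    obtain ⟨i, hi⟩ := hpow v hv
    have h1 := hwmax ⟨v, hv⟩
    simp only at h1
    rw [hn, hi] at h1
    rw [hi]
    exact pow_dvd_pow p ((Nat.pow_le_pow_iff_right (Fact.out : p.Prime).one_lt).1 h1)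
  set t := w ^ p ^ a with ht
  have htp : t ^ p = 1 := by rw [ht, ← pow_mul, ← pow_succ]; exact orderOf_dvd_iff_pow_eq_one.1 (hn ▸ dvd_rfl)
  have ht1 : t ≠ 1 := by
    refine pow_ne_one_of_lt_orderOf (pow_pos (Fact.out : p.Prime).pos _).ne' ?_
    rw [hn]
    exact Nat.pow_lt_pow_right (Fact.out : p.Prime).one_lt (Nat.lt_succ_self a)
  have htA : t ∈ A := hΩ.le (PGroup.mem_omegaOne_of_pow_eq_one ((R : Subgroup G).pow_mem hw _) htp)
  obtain ⟨b, hbA, hb1, hbE, hbf, w', hw', hw'b⟩ : ∃ b ∈ A, b ≠ 1 ∧ E ≤ normalizer (zpowers b : Set G) ∧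
      sigmaCore M ⊓ centralizer ({b} : Set G) = ⊥ ∧ ∃ w' ∈ (R : Subgroup G), w' ^ p ^ a = b := by
    by_cases hti : normalizer (A : Set G) ≤ normalizer (zpowers t : Set G)
    · exact ⟨t, htA, ht1, hEN.trans hti, h.fpf_of_invariant htA ht1 hti, w, hw, rfl⟩
    obtain ⟨g, hg, hgt⟩ := SetLike.not_le_iff_exists.1 hti
    obtain ⟨b, hbA, hb1, hbE, hbf⟩ := h.exists_invariant_line hfpf hother
    refine ⟨b, hbA, hb1, hbE, hbf, ?_⟩
    let f : (R : Subgroup G) →* G :=
      { toFun := fun x => (x : G) ^ p ^ a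
        map_one' := one_pow _
        map_mul' := fun x y =>
          (show Commute (x : G) y from PGroup.mul_comm_of_isMulCommutative hRc x.2 y.2).mul_pow _ }
    have h1 : t ∈ f.range := ⟨⟨w, hw⟩, rfl⟩
    have h2 : g * t * g⁻¹ ∈ f.range :=
      ⟨⟨g * w * g⁻¹, (Subgroup.mem_normalizer_iff.1 (hNR hg) w).1 hw⟩, conj_pow⟩
    have h3 : b ∈ f.range := by
      have := (square_eq_sup h.exc.elem h.exc.card htA ht1 ((Subgroup.mem_normalizer_iff.1 hg t).1 htA)
        fun hm => hgt (mem_normalizer_zpowers hm)).ge hbA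
      exact (sup_le (Subgroup.zpowers_le.2 h1) (Subgroup.zpowers_le.2 h2)) this
    obtain ⟨⟨w', hw'⟩, hw''⟩ := h3
    exact ⟨w', hw', hw''⟩
  obtain ⟨Z, hZR, hKZ, hZF, z, hz, hza⟩ := InvariantCyclic.exists_invariant_cyclic h.exc.setting.ne_two
    (K := K) (A := A) (F := zpowers b) h.exc.elem.1 h.exc.elem.2 h.exc.card (hKE.trans hEN)
    (Subgroup.zpowers_le.2 hbA) (by rw [Nat.card_zpowers, orderOf_eq_prime (h.exc.elem.2 b hbA) hb1])
    (hKE.trans hbE) hKp a (R : Subgroup G) R.2 hRc ((hKE.trans hEN).trans hNR)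
    (fun x hx hxp => hΩ.le (PGroup.mem_omegaOne_of_pow_eq_one hx hxp)) w' hw'
    (hw'b ▸ Subgroup.mem_zpowers b) (hw'b ▸ hb1)
  refine ⟨Z, hZR.trans hRE.le, hKZ, fun u hu hu1 => ?_, z, hz ▸ Subgroup.mem_zpowers z, fun v hv => ?_⟩
  · obtain ⟨i, hi⟩ := hpow u (hZR hu)
    obtain ⟨i, rfl⟩ := Nat.exists_eq_succ_of_ne_zero fun e : i = 0 =>
      hu1 (orderOf_eq_one_iff.1 (by rw [hi, e, pow_zero]))
    set u' := u ^ p ^ i with hu'
    have hu'p : u' ^ p = 1 := by rw [hu', ← pow_mul, ← pow_succ]; exact orderOf_dvd_iff_pow_eq_one.1 (hi ▸ dvd_rfl)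
    have hu'1 : u' ≠ 1 := by
      refine pow_ne_one_of_lt_orderOf (pow_pos (Fact.out : p.Prime).pos _).ne' ?_
      rw [hi]
      exact Nat.pow_lt_pow_right (Fact.out : p.Prime).one_lt (Nat.lt_succ_self i)
    have hbu : b ∈ zpowers u' := (zpowers_eq_of_mem (h.exc.elem.2 b hbA)
      (hZF u' (Z.pow_mem hu _) hu'p) hu'1).ge (Subgroup.mem_zpowers b)
    rw [eq_bot_iff, ← hbf]
    refine inf_le_inf_left _ fun y hy => Subgroup.mem_centralizer_singleton_iff.2 ?_
    exact (commute_of_mem_zpowers (Commute.pow_right (Subgroup.mem_centralizer_singleton_iff.1 hy) _) hbu).eq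
  · obtain ⟨i, hi⟩ := hpow z (hZR (hz ▸ Subgroup.mem_zpowers z))
    refine (hexp v (hRE.ge hv)).trans ?_
    rw [hi]
    refine pow_dvd_pow p ?_
    by_contra hlt
    refine hza (orderOf_dvd_iff_pow_eq_one.1 ?_)
    rw [hi]
    exact pow_dvd_pow p (by omega)

end AbelianTau

end Cfsg.Agent.OddOrder
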