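import Cfsg.Agent.Lib.OddOrder.PTypeConj
import Cfsg.Agent.Lib.OddOrder.RankTwoStructure
import Cfsg.Agent.Lib.OddOrder.TauTwoAbelian

/-!
# Bender–Glauberman 14.4 (e): `σ(N) ∩ π(M)` for a supporting subgroup `N`

* `exists_omega_center`: for `q ∈ σ(M) ∩ τ₂(N)`, a normal `q`-subgroup of `M` in `M_σ` of order at most `q²`;
* `tau2_lt`: `b ∈ τ₂(M)`, `a ∈ σ(M) ∩ τ₂(N)` give `b < a`;
* `PData.not_tau2_of_mem_sigma`: if `U ≠ 1` no prime of `σ(M)` lies in any `τ₂(N)`;
* `supporting_pair`: the conclusion of S1436.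
-/

set_option autoImplicit false
set_option linter.unusedSectionVars false
set_option linter.style.haveILetI false

namespace Cfsg.Agent.OddOrder

open Cfsg
open Subgroup (centralizer normalizer zpowers)
open scoped Pointwise

universe u
variable {G : Type u} [Group G] [Finite G] {M N : Subgroup G}

/-- For nilpotent `M_σ` and `q ∈ σ(M) ∩ τ₂(N)`, `Ω₁(Z(Q))` is normal in `M` of order at most `q²`. -/
theorem exists_omega_center (hG : IsMinSimpleOddOrder G) (hM : IsCoatom M) {q : ℕ} [Fact q.Prime]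
    (hq : q ∈ sigma M) (hnil : Group.IsNilpotent (sigmaCore M)) (hN : IsCoatom N) (hqN : q ∈ tau2 N) :
    ∃ Z : Subgroup G, Z ≤ sigmaCore M ∧ Z ≠ ⊥ ∧ M ≤ normalizer (Z : Set G) ∧ IsPGroup q Z ∧
      Nat.card Z ≤ q ^ 2 := by
  obtain ⟨T⟩ : Nonempty (Sylow q M) := inferInstance
  obtain ⟨P, hP⟩ := sigma_sylow_eq hq T
  have hPσ : (P : Subgroup G) ≤ sigmaCore M := hP.le.trans (sylow_le_sigmaCore hG hM hq T)
  have hPn : M ≤ normalizer ((P : Subgroup G) : Set G) := fun g hg => by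
    refine Coprime.mem_normalizer_of_conj_smul_eq ?_
    have h' : ((g • P : Sylow q G) : Subgroup G) ≤ sigmaCore M := by
      rw [Sylow.coe_subgroup_smul]
      exact (Subgroup.pointwise_smul_le_pointwise_smul_iff.2 hPσ).trans
        (Coprime.conj_smul_eq_self_of_mem (le_normalizer_sigmaCore M hg)).le
    haveI := hnil
    haveI hn : ((P.subtype hPσ : Sylow q ↥(sigmaCore M)) : Subgroup ↥(sigmaCore M)).Normal :=
      Sylow.normal_of_normalizerCondition Group.normalizerCondition_of_isNilpotent _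
    haveI := Sylow.unique_of_normal _ hn
    have e : ((g • P : Sylow q G).subtype h' : Sylow q ↥(sigmaCore M)) = P.subtype hPσ := Subsingleton.elim _ _
    have e' := congrArg (fun S : Sylow q ↥(sigmaCore M) => (S : Subgroup ↥(sigmaCore M)).map (sigmaCore M).subtype) e
    simp only [Sylow.coe_subtype, Subgroup.map_subgroupOf_eq_of_le h', Subgroup.map_subgroupOf_eq_of_le hPσ] at e'
    rwa [Sylow.coe_subgroup_smul] at e'
  obtain ⟨S⟩ : Nonempty (Sylow q N) := inferInstance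
  obtain ⟨A, hAS, hA, hAc⟩ := exists_square_le hqN.2.2.2 S
  obtain ⟨A₀, hexc⟩ := exists_exc hG hN hqN.2.1 (hAS.trans (Subgroup.map_subtype_le _)) hA hAc
  obtain ⟨R, hR⟩ := (PGroup.isPGroup_of_elementaryAbelian hA).exists_le_sylow
  obtain ⟨g, hg⟩ := MulAction.exists_smul_eq G R P
  let Z : Subgroup G :=
    { carrier := {z | z ∈ (P : Subgroup G) ∧ z ∈ centralizer ((P : Subgroup G) : Set G) ∧ z ^ q = 1}
      one_mem' := ⟨one_mem _, one_mem _, one_pow _⟩
      mul_mem' := fun {a b} ha hb => ⟨mul_mem ha.1 hb.1, mul_mem ha.2.1 hb.2.1, by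
        rw [(show Commute a b from (Subgroup.mem_centralizer_iff.1 ha.2.1 b hb.1).symm).mul_pow, ha.2.2, hb.2.2,
          one_mul]⟩
      inv_mem' := fun {a} ha => ⟨inv_mem ha.1, inv_mem ha.2.1, by rw [inv_pow, ha.2.2, inv_one]⟩ }
  have hZA : Z ≤ MulAut.conj g • A := by
    intro z hz
    rw [Coprime.mem_conj_smul_iff]
    refine hexc.setting.hmax _ (Subgroup.mem_centralizer_iff.2 fun a ha => ?_) ?_
    · have haP : g * a * g⁻¹ ∈ (P : Subgroup G) := by
        rw [← hg, Sylow.coe_subgroup_smul, Coprime.mem_conj_smul_iff]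
        simpa [mul_assoc] using hR ha
      have h := congrArg (fun t => g⁻¹ * t * g) (Subgroup.mem_centralizer_iff.1 hz.2.1 _ haP)
      simpa [mul_assoc] using h
    · rw [show g⁻¹ * z * g = g⁻¹ * z * g⁻¹⁻¹ by rw [inv_inv], conj_pow, hz.2.2, mul_one, mul_inv_cancel]
  have hP1 : (P : Subgroup G) ≠ ⊥ := P.ne_bot_of_dvd_card (hq.2.1.trans M.card_subgroup_dvd_card)
  obtain ⟨z, hz, hz1, hzq, hPz⟩ := exists_central_pow_eq_one P.2 hP1
  have hzZ : z ∈ Z := ⟨hz, Subgroup.mem_centralizer_iff.2 fun a ha =>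
    Subgroup.mem_centralizer_singleton_iff.1 (hPz ha), hzq⟩
  refine ⟨Z, fun y hy => hPσ hy.1, fun e => hz1 (Subgroup.mem_bot.1 (e ▸ hzZ)), fun m hm => ?_,
    P.2.to_le fun y hy => hy.1, ?_⟩
  · refine Coprime.mem_normalizer_of_conj_smul_eq (Subgroup.eq_of_le_of_card_ge (fun y hy => ?_)
      (le_of_eq (Coprime.card_conj_smul _ _).symm))
    rw [Coprime.mem_conj_smul_iff] at hy
    obtain ⟨h1, h2, h3⟩ := hy
    refine ⟨?_, Subgroup.mem_centralizer_iff.2 fun a ha => ?_, ?_⟩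
    · have h := (Subgroup.mem_normalizer_iff.1 (hPn hm) _).1 h1
      simpa [mul_assoc] using h
    · have h := congrArg (fun t => m * t * m⁻¹)
        (Subgroup.mem_centralizer_iff.1 h2 (m⁻¹ * a * m) ((Subgroup.mem_normalizer_iff''.1 (hPn hm) a).1 ha))
      simpa [mul_assoc] using h
    · rwa [show m⁻¹ * y * m = m⁻¹ * y * m⁻¹⁻¹ by rw [inv_inv], conj_pow, mul_inv_eq_one, mul_eq_left] at h3
  · refine (Nat.le_of_dvd Nat.card_pos (Subgroup.card_dvd_of_le hZA)).trans (le_of_eq ?_)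
    rw [Coprime.card_conj_smul, hAc]

/-- `τ₂(M)` lies below `σ(M) ∩ τ₂(N)`. -/
theorem tau2_lt (hG : IsMinSimpleOddOrder G) (hM : IsCoatom M) {a b : ℕ} (hb : b ∈ tau2 M) (ha : a ∈ sigma M)
    (hN : IsCoatom N) (haN : a ∈ tau2 N) : b < a := by
  haveI := Fact.mk hb.1
  haveI := Fact.mk ha.1
  haveI := isSolvable_of_coatom hG hM
  obtain ⟨S⟩ : Nonempty (Sylow b M) := inferInstance
  obtain ⟨B, hBS, hB, hBc⟩ := exists_square_le hb.2.2.2 S
  have hBM : B ≤ M := hBS.trans (Subgroup.map_subtype_le _)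
  obtain ⟨B₀, h⟩ := exists_exc hG hM hb.2.1 hBM hB hBc
  obtain ⟨Z, hZσ, hZ1, hZn, hZp, hZc⟩ := exists_omega_center hG hM ha h.isNilpotent_sigmaCore hN haN
  obtain ⟨x, hxB, hxZ⟩ : ∃ x ∈ B, x ∉ centralizer (Z : Set G) := by
    by_contra hcon
    push Not at hcon
    refine hZ1 (le_bot_iff.1 ?_)
    rw [← h.sigmaCore_inf_centralizer]
    exact le_inf hZσ (Subgroup.le_centralizer_iff.1 hcon)
  have hZM : Z ≤ M := hZσ.trans (sigmaCore_le M)
  haveI : (Z.subgroupOf M).Normal := (Subgroup.normal_subgroupOf_iff_le_normalizer hZM).2 hZn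
  have hbM : b ∣ Nat.card M := (square_dvd_card hB hBc).trans (Subgroup.card_dvd_of_le hBM)
  refine prime_lt_of_small_action (G := M) (ne_two_of_odd_of_dvd (odd_subgroup hG.1 M) ha.2.1) hb.1
    (ne_two_of_odd_of_dvd (odd_subgroup hG.1 M) hbM) (fun e => hb.2.1 (e ▸ ha)) (Z.subgroupOf M)
    hZp.comap_subtype (by rwa [Coprime.card_subgroupOf hZM]) (x := ⟨x, hBM hxB⟩) ?_ fun hc => hxZ ?_
  · rw [show (⟨x, hBM hxB⟩ : M) ^ b = 1 from Subtype.ext (hB.2 x hxB)]
    exact one_mem _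
  · exact Subgroup.mem_centralizer_iff.2 fun z hz => congrArg Subtype.val
      (Subgroup.mem_centralizer_iff.1 hc ⟨z, hZM hz⟩ (show (⟨z, hZM hz⟩ : M) ∈ Z.subgroupOf M from hz))

namespace PData

variable {K E : Subgroup G} (d : PData M K E)
include d

/-- With `U ≠ 1`, no prime of `σ(M)` is a `τ₂`-prime of a maximal subgroup. -/
theorem not_tau2_of_mem_sigma (hne : Nat.card M ≠ Nat.card (Cfsg.sigmaCore M) * Nat.card K) {q : ℕ}
    (hq : q ∈ Cfsg.sigma M) {L : Subgroup G} (hL : IsCoatom L) : q ∉ Cfsg.tau2 L := by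
  intro hqL
  haveI := Fact.mk hq.1
  have hG := d.minSimple
  have hM := d.coatom
  haveI := isSolvable_of_coatom hG hM
  obtain ⟨U, -, hUhall, hKn, hUc, hfix⟩ := d.exists_U
  have hU1 : U ≠ ⊥ := fun e => hne (by
    rw [← card_eq_of_isComplIn d.compl, ← card_eq_of_isComplIn hUc, e, Subgroup.card_bot, one_mul, mul_comm])
  obtain ⟨r, hr, hrd⟩ := Nat.exists_prime_and_dvd (fun e => hU1 (Subgroup.card_eq_one.1 e))
  haveI := Fact.mk hr
  have hrk := (hUhall.2.1 r hr hrd).2.1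
  have hrs := (hUhall.2.1 r hr hrd).2.2
  have hnil := isNilpotent_sigmaCore_of_prime hG hM (hrd.trans (Subgroup.card_dvd_of_le hUhall.1)) hrs hrk
  obtain ⟨Z, hZσ, hZ1, hZn, hZp, hZc⟩ := exists_omega_center hG hM hq hnil hL hqL
  have hZM : Z ≤ M := hZσ.trans (sigmaCore_le M)
  haveI : (Z.subgroupOf M).Normal := (Subgroup.normal_subgroupOf_iff_le_normalizer hZM).2 hZn
  haveI : Group.IsSolvable K := Coprime.isSolvable_of_le d.hall.1 inferInstance
  have hUE : U ≤ ⁅M, M⁆ := by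
    have h1 := Coprime.commutator_sup_centralizer hKn
      (Nat.coprime_of_dvd fun l hl ha hb => (hUhall.2.1 l hl hb).2.1 (d.hall.2.1 l hl ha)) (Or.inl inferInstance)
    obtain ⟨k, hk, hk1⟩ := (Subgroup.bot_or_exists_ne_one _).resolve_left d.ne_bot
    rw [show U ⊓ centralizer (K : Set G) = ⊥ from le_bot_iff.1
      (hfix k hk hk1 ▸ inf_le_inf_left U (Subgroup.centralizer_le (Set.singleton_subset_iff.2 hk))), sup_bot_eq] at h1
    exact h1 ▸ Subgroup.commutator_mono hUhall.1 d.hall.1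
  have hUZ : U ≤ centralizer (Z : Set G) := by
    intro u hu
    have hcop : (orderOf u).Coprime q := by
      refine ((hq.1).coprime_iff_not_dvd.2 fun h => ?_).symm
      exact (hUhall.2.1 q hq.1 (h.trans (Subgroup.orderOf_dvd_natCard U hu))).2.2 hq
    have h1 := hUE hu
    rw [← Subgroup.map_subtype_commutator] at h1
    obtain ⟨v, hv, rfl⟩ := h1
    have h2 := commutator_mem_centralizer_of_rankTwo (G := M) (odd_subgroup hG.1 M) (Z.subgroupOf M)
      hZp.comap_subtype (fun C _ _ => C.card_le_card_group.trans (by rwa [Coprime.card_subgroupOf hZM]))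
      hv (by rwa [M.coe_subtype, Subgroup.orderOf_coe] at hcop)
    exact Subgroup.mem_centralizer_iff.2 fun z hz => congrArg Subtype.val
      (Subgroup.mem_centralizer_iff.1 h2 ⟨z, hZM hz⟩ (show (⟨z, hZM hz⟩ : M) ∈ Z.subgroupOf M from hz))
  refine hZ1 (le_bot_iff.1 ?_)
  by_cases hr1 : PRankLE r 1 M
  · obtain ⟨w, hw⟩ := exists_prime_orderOf_dvd_card' (G := U) r hrd
    rw [← Subgroup.orderOf_coe] at hw
    rw [← sigmaCore_inf_centralizer_eq_bot_of_not_kappa hG hr1 hrs hrk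
      (Subgroup.zpowers_le.2 (hUhall.1 w.2)) (by rw [Nat.card_zpowers, hw])]
    exact le_inf hZσ (Subgroup.le_centralizer_iff.1 ((Subgroup.zpowers_le.2 w.2).trans hUZ))
  · obtain ⟨A, hAE, hA, hAc⟩ := exists_square_le_compl d.compl hrs hr1
    obtain ⟨A₀, h⟩ := exists_exc hG hM hrs (hAE.trans d.compl.1) hA hAc
    rw [← h.sigmaCore_inf_centralizer]
    refine le_inf hZσ (Subgroup.le_centralizer_iff.1 (le_trans (fun a ha => ?_) hUZ))
    have hEn : E ≤ normalizer (U : Set G) := fun e he => by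
      obtain ⟨u, hu, k, hk, rfl⟩ := hUc.2.2.2 e he
      exact Subgroup.mul_mem _ (Subgroup.le_normalizer hu) (hKn hk)
    haveI : (U.subgroupOf E).Normal := (Subgroup.normal_subgroupOf_iff_le_normalizer hUc.1).2 hEn
    refine Subgroup.mem_subgroupOf.1 (mem_of_coprime_index (x := (⟨a, hAE ha⟩ : E)) (N := U.subgroupOf E) ?_)
    have h1 := Subgroup.relIndex_mul_relIndex ⊥ U E bot_le hUc.1
    rw [Subgroup.relIndex_bot_left, Subgroup.relIndex_bot_left, ← card_eq_of_isComplIn hUc] at h1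
    have hidx : (U.subgroupOf E).index = Nat.card K := Nat.eq_of_mul_eq_mul_left Nat.card_pos h1
    rw [hidx, ← Subgroup.orderOf_coe]
    refine Nat.coprime_of_dvd fun l hl ha' hb => hrk ?_
    have hlr : l = r := (Nat.prime_dvd_prime_iff_eq hl hr).1
      (ha'.trans (orderOf_dvd_of_pow_eq_one (hA.2 a ha)))
    exact hlr ▸ d.hall.2.1 l hl hb

end PData

/-- An element moving the `s`-group `S` without fixed points on `H_σ` puts `[S, b]` in `C(H_σ)`. -/
theorem commutator_le_centralizer_sigmaCore (hG : IsMinSimpleOddOrder G) {H : Subgroup G} (hH : IsCoatom H)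
    (hnil : Group.IsNilpotent (sigmaCore H)) {s : ℕ} [Fact s.Prime] {S : Subgroup G} (hS : IsPGroup s S)
    (hSH : S ≤ H) (hs : s ∉ sigma H) {b : G} (hbH : b ∈ H) (hbo : (orderOf b).Prime) (hbs : orderOf b ≠ s)
    (hbσ : orderOf b ∉ sigma H) (hbS : b ∈ normalizer (S : Set G))
    (hfix : sigmaCore H ⊓ centralizer ({b} : Set G) = ⊥) :
    ⁅S, zpowers b⁆ ≤ centralizer (sigmaCore H : Set G) := by
  have hb : zpowers b ≤ normalizer (S : Set G) := Subgroup.zpowers_le.2 hbS
  have hle : ⁅S, zpowers b⁆ ≤ S := Coprime.commutator_le_left_of_le_normalizer hb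
  have hcop : (Nat.card (zpowers b)).Coprime (Nat.card S) := by
    obtain ⟨k, hk⟩ := hS.exists_card_eq
    rw [Nat.card_zpowers, hk]
    exact ((Nat.coprime_primes hbo Fact.out).2 hbs).pow_right k
  haveI : Group.IsSolvable S := Coprime.isSolvable_of_le hSH (isSolvable_of_coatom hG hH)
  refine le_centralizer_sigmaCore_of_fpf hG hH hnil (hS.to_le hle) (hle.trans hSH) hs hbH hbo hbs hbσ
    (Subgroup.normalizer_commutator_ge_right S (zpowers b) (Subgroup.mem_zpowers b)) ?_ hfix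
  rw [Subgroup.commutator_comm]
  exact Coprime.commutator_commutator_eq hb hcop (Or.inr inferInstance)

/-- A maximal subgroup with nonempty `κ` has the data of 14.2 over any `κ`-subgroup. -/
theorem exists_hall_kappa (hG : IsMinSimpleOddOrder G) {H : Subgroup G} (hH : IsCoatom H) {l : ℕ}
    (hl : l ∈ kappa H) {Y : Subgroup G} (hY : Y ≤ H) (hYc : Nat.card Y = l) :
    ∃ KH : Subgroup G, Y ≤ KH ∧ IsPiHallOf (kappa H) KH H ∧ KH ≠ ⊥ := by
  obtain ⟨KH, hYK, hKH⟩ := exists_piHallOf_ge (kappa H) (isSolvable_of_coatom hG hH) hY fun q hq hd => by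
    rw [hYc] at hd
    rwa [(Nat.prime_dvd_prime_iff_eq hq hl.1).1 hd]
  exact ⟨KH, hYK, hKH, fun e => hl.1.ne_one (by
    rw [← hYc, le_bot_iff.1 (hYK.trans e.le), Subgroup.card_bot])⟩

/-- BG 14.4 (e), first part. -/
theorem supporting_sigma_dvd (hG : IsMinSimpleOddOrder G) (h13 : BG13 G) (hM : IsCoatom M) {x : G}
    (hx : x ∈ sigmaCore M) (hx1 : x ≠ 1) (hS : Supporting M x N) {p : ℕ} (hpN : p ∈ sigma N)
    (hpM : p ∣ Nat.card M) : kappa M = ∅ ∧ tau2 M = ∅ := by
  haveI := Fact.mk hpN.1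
  obtain ⟨q, hq, hqd⟩ := Nat.exists_prime_and_dvd (fun e => hx1 (orderOf_eq_one_iff.1 e))
  haveI := Fact.mk hq
  have hqM : q ∈ sigma M := primes_of_mem (isPiGrp_piCoreOf (sigma M) M) hx q hq hqd
  have hqN : q ∈ tau2 N := hS.tau2 q hq hqd
  have hNM : ∀ l : ℕ, l ∈ sigma M → l ∉ sigma N := fun l h h' => by
    obtain ⟨g, hg⟩ := h13.partition M N hM hS.coatom ⟨l, h, h'⟩
    exact hqN.2.1 (by rw [show N = MulAut.conj g • M from hg, sigma_conj]; exact hqM)
  have hpMs : p ∉ sigma M := fun h => hNM p h hpN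
  have hκ : kappa M = ∅ := by
    rw [Set.eq_empty_iff_forall_notMem]
    intro l hl
    haveI := Fact.mk hl.1
    obtain ⟨w, hw⟩ := exists_prime_orderOf_dvd_card' (G := M) l hl.2.1
    rw [← Subgroup.orderOf_coe] at hw
    obtain ⟨K, -, hK, hK1⟩ := exists_hall_kappa hG hM hl (Subgroup.zpowers_le.2 w.2)
      (by rw [Nat.card_zpowers, hw])
    obtain ⟨E, d⟩ := exists_pData hG h13 hM hK hK1
    by_cases hne : Nat.card M = Nat.card (sigmaCore M) * Nat.card K
    · obtain ⟨Mstar, P⟩ := exists_dualPair hG h13 hM hK hK1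
      have hpK : p ∣ Nat.card K := (hpN.1.dvd_mul.1 (hne ▸ hpM)).resolve_left
        fun h => hpMs (isPiGrp_piCoreOf (sigma M) M p hpN.1 h)
      have hps : p ∈ sigma Mstar := isPiGrp_piCoreOf (sigma Mstar) Mstar p hpN.1
        (hpK.trans (Subgroup.card_dvd_of_le P.K_le_sigmaCore))
      obtain ⟨g, hg⟩ := h13.partition Mstar N P.mem'.coatom hS.coatom ⟨p, hps, hpN⟩
      have hg' : N = MulAut.conj g • Mstar := hg
      obtain ⟨S⟩ : Nonempty (Sylow q N) := inferInstance
      obtain ⟨A, hA, hA', hAc⟩ := exists_square_le hqN.2.2.2 S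
      have hqs : q ∣ Nat.card Mstar := by
        rw [← Coprime.card_conj_smul g, ← hg']
        exact (square_dvd_card hA' hAc).trans (Subgroup.card_dvd_of_le (hA.trans (Subgroup.map_subtype_le _)))
      have hh := P.kstar_hall
      have h1 := Subgroup.relIndex_mul_relIndex ⊥ _ Mstar bot_le hh.1
      rw [Subgroup.relIndex_bot_left, Subgroup.relIndex_bot_left] at h1
      have hqk : q ∈ kappa Mstar := P.mem'.hall.2.1 q hq
        ((hq.dvd_mul.1 (h1.symm ▸ hqs)).resolve_right (hh.2.2 q hq hqM))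
      exact hqN.2.2.2 (hg' ▸ pRankLE_conj g (mem_kappa_rank_one hqk))
    · exact d.not_tau2_of_mem_sigma hne hqM hS.coatom hqN
  refine ⟨hκ, ?_⟩
  rw [Set.eq_empty_iff_forall_notMem]
  intro t ht
  haveI := Fact.mk ht.1
  have htN : ∀ l : ℕ, l ∈ tau2 M → l ∉ sigma N := fun l hl hl' =>
    absurd (tau2_lt hG hM hl hqM hS.coatom hqN) (not_lt.2 (tau2_lt hG hS.coatom hqN hl' hM hl).le)
  have hr1 : PRankLE p 1 M := by
    by_contra hr
    exact htN p ⟨hpN.1, hpMs, pRankLE_two_of_not_sigma hG hM hpMs, hr⟩ hpN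
  obtain ⟨w, hw⟩ := exists_prime_orderOf_dvd_card' (G := M) p hpM
  rw [← Subgroup.orderOf_coe] at hw
  set Y := zpowers (w : G) with hY
  have hYc : Nat.card Y = p := by rw [hY, Nat.card_zpowers, hw]
  have hYM : Y ≤ M := Subgroup.zpowers_le.2 w.2
  have hfix : sigmaCore M ⊓ centralizer (Y : Set G) = ⊥ :=
    sigmaCore_inf_centralizer_eq_bot_of_not_kappa hG hr1 hpMs (hκ ▸ Set.notMem_empty p) hYM hYc
  obtain ⟨E, hE, hYE⟩ := exists_compl hG hM hYM (by
    rw [hYc]
    exact hpN.1.coprime_iff_not_dvd.2 (not_dvd_sigmaCore hpMs))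
  obtain ⟨B, hBE, hB, hBc⟩ := exists_square_le_compl hE ht.2.1 ht.2.2.2
  obtain ⟨B₀, h⟩ := exists_exc hG hM ht.2.1 (hBE.trans hE.1) hB hBc
  have hBp := PGroup.isPGroup_of_elementaryAbelian hB
  have hYB : Y ≤ normalizer (B : Set G) := hYE.trans (h.complement_le_normalizer hE hBE)
  obtain ⟨L, hL, hNL⟩ := exists_coatom_ge (normalizer_ne_top_of_pgroup hG hBp (square_ne_bot hB hBc))
  have hBL : B ≤ L := Subgroup.le_normalizer.trans hNL
  have hYL : Y ≤ L := hYB.trans hNL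
  have htL : t ∈ sigma L := by
    by_contra hr
    obtain ⟨B₁, h'⟩ := exists_exc hG hL hr hBL hB hBc
    exact h'.not_normalizer_le hNL
  have hBσ : B ≤ sigmaCore L := by
    obtain ⟨T, hT⟩ := exists_sylow_map_ge hBp hBL
    exact hT.trans (sylow_le_sigmaCore hG hL htL T)
  have hpL : p ∉ sigma L := fun hp => by
    obtain ⟨g, hg⟩ := h13.partition L N hL hS.coatom ⟨p, hp, hpN⟩
    exact htN t ht (by rw [show N = MulAut.conj g • L from hg, sigma_conj]; exact htL)
  have hpL2 : p ∉ tau2 L := fun hp =>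
    absurd ((tau2_lt hG hM ht hqM hS.coatom hqN).trans (tau2_lt hG hS.coatom hqN hpN hL hp))
      (not_lt.2 (tau2_lt hG hL hp htL hM ht).le)
  have hcop : (Nat.card Y).Coprime (Nat.card B) := by
    rw [hYc, hBc]
    exact ((Nat.coprime_primes hpN.1 ht.1).2 fun e => htN t ht (e ▸ hpN)).pow_right 2
  haveI : Group.IsSolvable B := square_solvable hB
  have hsplit := Coprime.commutator_sup_centralizer hYB hcop (Or.inr inferInstance)
  have hWC : ⁅B, Y⁆ ≤ centralizer (sigmaCore M : Set G) :=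
    commutator_le_centralizer_sigmaCore hG hM h.isNilpotent_sigmaCore hBp (hBE.trans hE.1) ht.2.1 w.2
      (hw.symm ▸ hpN.1) (by rw [hw]; exact fun e => htN t ht (e ▸ hpN)) (by rw [hw]; exact hpMs)
      (hYB (Subgroup.mem_zpowers _)) (by rw [← inf_centralizer_zpowers]; exact hfix)
  have hBY : B ⊓ centralizer (Y : Set G) ≠ ⊥ := fun e => by
    rw [e, sup_bot_eq] at hsplit
    refine sigmaCore_ne_bot hG hM ?_
    rw [← h.sigmaCore_inf_centralizer]
    exact (inf_eq_left.2 (Subgroup.le_centralizer_iff.1 (hsplit ▸ hWC))).symm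
  have hLfix : sigmaCore L ⊓ centralizer (Y : Set G) ≠ ⊥ :=
    ne_bot_of_le_ne_bot hBY (inf_le_inf_right _ hBσ)
  have hrL : PRankLE p 1 L := by
    by_contra hr
    exact hpL2 ⟨hpN.1, hpL, pRankLE_two_of_not_sigma hG hL hpL, hr⟩
  obtain ⟨KL, hYK, hKL, hKL1⟩ := exists_hall_kappa hG hL
    (mem_kappa_of_fixed hG hrL hpL hYL hYc hLfix) hYL hYc
  obtain ⟨E', d'⟩ := exists_pData hG h13 hL hKL hKL1
  obtain ⟨L', Q⟩ := exists_dualPair hG h13 hL hKL hKL1
  rcases eq_or_ne ⁅B, Y⁆ ⊥ with hW | hW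
  · rw [hW, bot_sup_eq] at hsplit
    have hBD : B ≤ sigmaCore L ⊓ centralizer (KL : Set G) := by
      rw [← d'.inf_centralizer_eq hYK hYc]
      exact le_inf hBσ (hsplit.ge.trans inf_le_right)
    haveI := Q.mem.part_cyclic
    have hBcy : IsCyclic B := (Subgroup.subgroupOfEquivOfLe hBD).isCyclic.1 inferInstance
    exact square_not_cyclic hB hBc hBcy
  obtain ⟨X, hXW, hX⟩ := exists_le_card_prime (p := t)
    (hBp.to_le (Coprime.commutator_le_left_of_le_normalizer hYB)) hW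
  have hXB : X ≤ B := hXW.trans (Coprime.commutator_le_left_of_le_normalizer hYB)
  have hXσ : X ≤ centralizer (sigmaCore M : Set G) := hXW.trans hWC
  obtain ⟨A, hAF, hA, hAc⟩ := exists_square_le_compl hS.compl hqN.2.1 hqN.2.2.2
  obtain ⟨A₀, hN'⟩ := exists_exc hG hS.coatom hqN.2.1 (hAF.trans inf_le_right) hA hAc
  have hAσ : A ≤ sigmaCore M := by
    obtain ⟨T, hT⟩ := exists_sylow_map_ge (PGroup.isPGroup_of_elementaryAbelian hA) (hAF.trans inf_le_left)
    exact hT.trans (sylow_le_sigmaCore hG hM hqM T)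
  have hXN : X ≤ N := hXσ.trans ((Subgroup.centralizer_le hAσ).trans hN'.centralizer_le)
  obtain ⟨g, hg⟩ := h13.partition L' N Q.mem'.coatom hS.coatom ⟨p, isPiGrp_piCoreOf (sigma L') L' p hpN.1
    (hYc ▸ Subgroup.card_dvd_of_le (hYK.trans Q.K_le_sigmaCore)), hpN⟩
  have hg' : N = MulAut.conj g • L' := hg
  set X' := MulAut.conj g⁻¹ • X with hX'
  have hX'L : X' ≤ L' := by
    intro v hv
    rw [hX', Coprime.mem_conj_smul_iff, inv_inv] at hv
    have h1 := hXN hv
    rw [hg', Coprime.mem_conj_smul_iff] at h1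
    simpa [mul_assoc] using h1
  have hX'c : Nat.card X' = t := by rw [hX', Coprime.card_conj_smul, hX]
  have hh := Q.kstar_hall
  have h1 := Subgroup.relIndex_mul_relIndex ⊥ _ L' bot_le hh.1
  rw [Subgroup.relIndex_bot_left, Subgroup.relIndex_bot_left] at h1
  have htk : t ∣ Nat.card ↥(sigmaCore L ⊓ centralizer (KL : Set G)) :=
    (ht.1.dvd_mul.1 (h1.symm ▸ hX'c ▸ Subgroup.card_dvd_of_le hX'L)).resolve_right (hh.2.2 t ht.1 htL)
  obtain ⟨v, hv⟩ := exists_prime_orderOf_dvd_card' t htk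
  rw [← Subgroup.orderOf_coe] at hv
  obtain ⟨T, hT, hvT⟩ := exists_isSyl_ge (p := t) (U := zpowers (v : G))
    (IsPGroup.of_card (n := 1) (by rw [Nat.card_zpowers, hv, pow_one]))
    ((Subgroup.zpowers_le.2 v.2).trans Q.kstar_le)
  obtain ⟨a, haL, ha⟩ := hT.exists_conj_le (IsPGroup.of_card (n := 1) (by rw [hX'c, pow_one])) hX'L
  have hTc : IsCyclic T := hT.isCyclic_of_pRankLE_one
    (ne_two_of_odd_of_dvd (odd_subgroup hG.1 L') (hX'c ▸ Subgroup.card_dvd_of_le hX'L))
    (mem_kappa_rank_one (Q.mem'.hall.2.1 t ht.1 htk))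
  have he : MulAut.conj a • X' = zpowers (v : G) :=
    eq_of_card_eq_cyclic hTc ha hvT (by rw [Coprime.card_conj_smul, hX'c, Nat.card_zpowers, hv])
  have hCv : centralizer (zpowers (v : G) : Set G) ≤ L :=
    (Q.mem.normalizer_le (Subgroup.zpowers_le.2 v.2) (by rw [Nat.card_zpowers, hv])).1
  set c := g * a⁻¹ with hc
  have hCX : centralizer (X : Set G) ≤ MulAut.conj c • L := by
    intro u hu
    rw [Coprime.mem_conj_smul_iff]
    refine hCv (Subgroup.mem_centralizer_iff.2 fun z hz => ?_)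
    rw [← he, SetLike.mem_coe, hX', Coprime.conj_smul_smul, Coprime.mem_conj_smul_iff] at hz
    have h2 := congrArg (fun r => c⁻¹ * r * c) (Subgroup.mem_centralizer_iff.1 hu _ hz)
    simpa [hc, mul_assoc] using h2
  have hXfix : sigmaCore M ⊓ centralizer (X : Set G) ≠ ⊥ := by
    rw [inf_eq_left.2 (Subgroup.le_centralizer_iff.1 hXσ)]
    exact sigmaCore_ne_bot hG hM
  obtain ⟨-, huniq⟩ := (S1418.result hG M hM E hE t ht B ⟨hBE, hB, hBc⟩).2.2 X hXB hX hXfix
  refine ht.2.1 ?_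
  rw [← huniq _ (isCoatom_conj hL c) hCX, sigma_conj]
  exact htL

/-- BG 14.4 (e), second part. -/
theorem supporting_conj (hG : IsMinSimpleOddOrder G) (h13 : BG13 G) (hM : IsCoatom M) {x y : G}
    (hx : x ∈ sigmaCore M) (hx1 : x ≠ 1) (hS : Supporting M x N) {N' : Subgroup G}
    (hS' : Supporting M y N') {g : G} (hg : MulAut.conj g • N' = N) :
    ∃ m ∈ M, MulAut.conj m • N' = N := by
  obtain ⟨q, hq, hqd⟩ := Nat.exists_prime_and_dvd (fun e => hx1 (orderOf_eq_one_iff.1 e))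
  haveI := Fact.mk hq
  have hqN : q ∈ tau2 N := hS.tau2 q hq hqd
  set F := M ⊓ N with hF
  set F' := MulAut.conj g • (M ⊓ N') with hF'
  have hσ : sigmaCore N = MulAut.conj g • sigmaCore N' := by rw [← hg, sigmaCore_conj]
  have hF'N : F' ≤ N := hg ▸ Subgroup.pointwise_smul_le_pointwise_smul_iff.2 inf_le_right
  haveI : Group.IsSolvable ↥(sigmaCore N) :=
    Coprime.isSolvable_of_le (sigmaCore_le N) (isSolvable_of_coatom hG hS.coatom)
  have hle : F ≤ F' ⊔ sigmaCore N := by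
    intro n hn
    have hn' : g⁻¹ * n * g ∈ N' := by
      have h1 : n ∈ N := hn.2
      rwa [← hg, Coprime.mem_conj_smul_iff] at h1
    obtain ⟨e, he, k, hk, hek⟩ := hS'.compl.2.2.2 _ hn'
    have h1 : n = (g * e * g⁻¹) * (g * k * g⁻¹) := by
      calc n = g * (g⁻¹ * n * g) * g⁻¹ := by group
        _ = _ := by rw [hek]; group
    rw [h1]
    refine Subgroup.mul_mem_sup ?_ ?_
    · rw [hF', Coprime.mem_conj_smul_iff]; simpa [mul_assoc] using he
    · rw [hσ, Coprime.mem_conj_smul_iff]; simpa [mul_assoc] using hk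
  have hcard : Nat.card F = Nat.card F' := by
    have h1 := card_eq_of_isComplIn hS.compl
    have h2 := card_eq_of_isComplIn hS'.compl
    rw [← Coprime.card_conj_smul g N', hg, ← h1, ← Coprime.card_conj_smul g (sigmaCore N'), ← hσ,
      ← Coprime.card_conj_smul g (M ⊓ N')] at h2
    exact (Nat.eq_of_mul_eq_mul_right Nat.card_pos h2).symm
  have hcop : (Nat.card F').Coprime (Nat.card (sigmaCore N)) := by
    rw [← hcard]
    exact Nat.coprime_of_dvd fun l hl h1 h2 =>
      not_mem_sigma_of_compl hG hS.coatom hS.compl hl h1 (isPiGrp_piCoreOf (sigma N) N l hl h2)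
  obtain ⟨n, hn, hne⟩ := Coprime.exists_conj_eq_of_le_sup (hF'N.trans (le_normalizer_sigmaCore N)) hle
    hcard hcop (Or.inl inferInstance)
  set k := n * g with hk
  have hkN : MulAut.conj k • N' = N := by
    rw [hk, ← Coprime.conj_smul_smul, hg]
    exact Coprime.conj_smul_eq_self_of_mem (Subgroup.le_normalizer (sigmaCore_le N hn))
  have hkF : MulAut.conj k • (M ⊓ N') = F := by rw [hk, ← Coprime.conj_smul_smul]; exact hne
  have hFM : F ≤ MulAut.conj k • M := hkF.symm.le.trans (Subgroup.pointwise_smul_le_pointwise_smul_iff.2 inf_le_left)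
  have hxF : x ∈ F := ⟨sigmaCore_le M hx, hS.centralizer_le (Subgroup.mem_centralizer_singleton_iff.2 rfl)⟩
  obtain ⟨-, R, -, hR, hT⟩ := supporting_transitive hG h13.partition h13.transfer hM hx hx1
  obtain ⟨r, ⟨hrR, hrk⟩, -⟩ := hT k (hFM hxF)
  have hrk' : MulAut.conj r • M = MulAut.conj k • M := hrk
  have hrN : r ∈ N := hS.centralizer_le (hR.2.1 hrR)
  obtain ⟨A, hAF, hA, hAc⟩ := exists_square_le_compl hS.compl hqN.2.1 hqN.2.2.2
  have hAM : A ≤ M := hAF.trans inf_le_left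
  have hrF : MulAut.conj r • F = F := by
    calc MulAut.conj r • F = MulAut.conj r • M ⊓ MulAut.conj r • N := Subgroup.smul_inf _ _ _
      _ = MulAut.conj k • M ⊓ N := by
        rw [hrk', Coprime.conj_smul_eq_self_of_mem (Subgroup.le_normalizer hrN)]
      _ = MulAut.conj k • (M ⊓ N') := by rw [Subgroup.smul_inf, hkN]
      _ = F := hkF
  have hrM : r ∈ M := by
    obtain ⟨e, he, s, hs, rfl⟩ := hS.compl.2.2.2 r hrN
    have hsC : s ∈ centralizer (A : Set G) := by
      refine Subgroup.mem_centralizer_iff.2 fun a ha => ?_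
      have hc1 : a ∈ F := hAF ha
      have hm : s * a * s⁻¹ * a⁻¹ ∈ F ⊓ sigmaCore N := by
        constructor
        · refine F.mul_mem ?_ (F.inv_mem hc1)
          have h3 : MulAut.conj (e * s) • F = F := hrF
          have h4 : e * s * a * (e * s)⁻¹ ∈ F := by
            rw [← h3, Coprime.mem_conj_smul_iff]
            simpa [mul_assoc] using hc1
          have h5 := F.mul_mem (F.mul_mem (F.inv_mem he) h4) he
          simpa [mul_assoc] using h5
        · have h3 := (sigmaCore N).mul_mem hs ((Subgroup.mem_normalizer_iff.1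
            (le_normalizer_sigmaCore N (hc1.2)) s⁻¹).1 ((sigmaCore N).inv_mem hs))
          simpa [mul_assoc] using h3
      rw [hS.compl.2.2.1, Subgroup.mem_bot, mul_inv_eq_one, mul_inv_eq_iff_eq_mul] at hm
      exact hm.symm
    exact M.mul_mem he.1 ((S1416.result hG M hM q A ⟨hAM, hA, hAc⟩).1 hsC)
  rw [Coprime.conj_smul_eq_self_of_mem (Subgroup.le_normalizer hrM)] at hrk'
  refine ⟨k, ?_, hkN⟩
  rw [← normalizer_eq_of_normal hG hM le_rfl Subgroup.le_normalizer (fun e => sigmaCore_ne_bot hG hM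
    (le_bot_iff.1 ((sigmaCore_le M).trans e.le)))]
  exact Coprime.mem_normalizer_of_conj_smul_eq hrk'.symm

/-- The conclusion of the frozen statement S1436. -/
theorem supporting_pair (hG : IsMinSimpleOddOrder G) (h13 : BG13 G) (hM : IsCoatom M) {x : G}
    (hx : x ∈ sigmaCore M) (hx1 : x ≠ 1) (hxM : ¬ centralizer ({x} : Set G) ≤ M) (hN : IsCoatom N)
    (hxN : centralizer ({x} : Set G) ≤ N) :
    ((∃ p ∈ sigma N, p ∣ Nat.card M) → kappa M = ∅ ∧ tau2 M = ∅) ∧
      ∀ (y : G) (N' : Subgroup G) (g : G), y ∈ sigmaCore M → y ≠ 1 → ¬ centralizer ({y} : Set G) ≤ M →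
        IsCoatom N' → centralizer ({y} : Set G) ≤ N' → N'.map (MulAut.conj g).toMonoidHom = N →
        ∃ m ∈ M, N'.map (MulAut.conj m).toMonoidHom = N := by
  obtain ⟨L, hL⟩ := exists_supporting hG h13.partition h13.transfer hM hx hx1 hxM
  rw [← hL.unique N hN hxN] at hL
  refine ⟨fun ⟨p, hpN, hpM⟩ => supporting_sigma_dvd hG h13 hM hx hx1 hL hpN hpM, ?_⟩
  intro y N' g hy hy1 hyM hN' hyN' hg
  obtain ⟨L', hL'⟩ := exists_supporting hG h13.partition h13.transfer hM hy hy1 hyM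
  rw [← hL'.unique N' hN' hyN'] at hL'
  exact supporting_conj hG h13 hM hx hx1 hL hL' hg

end Cfsg.Agent.OddOrder
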