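import Cfsg.Agent.Lib.OddOrder.TameFusion
import Cfsg.Agent.Lib.OddOrder.KappaSupporting
import Cfsg.Agent.Lib.OddOrder.SupportingPair
import Cfsg.Agent.S0042

/-!
# Bender–Glauberman, Theorem II: the tame embedding of `A(M)` and `A₀(M)`

The conclusion of row 1391 for `typeA'`, `typeA0'` (Type I in the book's form, Lib/OddOrder/TypeDefs).
-/

set_option autoImplicit false
set_option linter.unusedSectionVars false
set_option linter.style.haveILetI false

namespace Cfsg.Agent.OddOrder.TameEmbedding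

open Cfsg
open Subgroup (centralizer normalizer zpowers)
open scoped Pointwise

universe u
variable {G : Type u} [Group G] [Finite G] {M K U : Subgroup G}

theorem complIn_swap {A B C : Subgroup G} (h : IsComplIn A B C) : IsComplIn B A C := by
  refine ⟨h.2.1, h.1, by rw [inf_comm]; exact h.2.2.1, fun m hm => ?_⟩
  obtain ⟨a, ha, b, hb, e⟩ := h.2.2.2 m⁻¹ (C.inv_mem hm)
  exact ⟨b⁻¹, B.inv_mem hb, a⁻¹, A.inv_mem ha, by rw [← inv_inv m, e, mul_inv_rev]⟩

theorem isNilpotent_fittingHall (M : Subgroup G) : Group.IsNilpotent (fittingHall M) := by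
  haveI : Group.IsNilpotent ↥((fittingHall M).map M.subtype) := by
    haveI := isNilpotent_fittingOf M
    exact Group.nilpotent_of_mulEquiv (Subgroup.subgroupOfEquivOfLe (fittingHallOf_le_fittingOf M))
  exact Group.nilpotent_of_mulEquiv
    ((fittingHall M).equivMapOfInjective M.subtype M.subtype_injective).symm

/-- In a group with a Frobenius complement, the kernel is the largest normal nilpotent Hall subgroup. -/
theorem frobeniusKernel_eq {A : Type u} [Group A] [Finite A] {H : Subgroup A}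
    (hH : IsFrobeniusComplement H) (hnil : Group.IsNilpotent (fittingHall A)) :
    frobeniusKernel H = ((fittingHall A : Subgroup A) : Set A) := by
  obtain ⟨N, hN, hNn, hNnil⟩ := Cfsg.Agent.S0042.result H hH
  refine Set.Subset.antisymm ?_ fun x hx => ?_
  · have hc : Nat.card N = H.index := by
      rw [← Frobenius.card_kernel hH, ← hN]
      rfl
    have hi : N.index = Nat.card H := Nat.eq_of_mul_eq_mul_left (Nat.card_pos (α := N))
      (by rw [Subgroup.card_mul_index, hc, mul_comm, Subgroup.card_mul_index])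
    have hco : (Nat.card N).Coprime N.index := by
      rw [hc, hi, Nat.coprime_comm, Nat.coprime_iff_gcd_eq_one, Nat.gcd_rec, Frobenius.index_mod_card hH,
        ← Nat.gcd_rec, Nat.gcd_one_right]
    rw [← hN]
    exact SetLike.coe_subset_coe.2 (le_sSup ⟨hNn, hNnil, hco⟩)
  · rcases eq_or_ne x 1 with rfl | hx1
    · exact Frobenius.one_mem_kernel
    rw [Frobenius.mem_kernel_iff hx1]
    intro g hg
    set F : Subgroup A := fittingHall A
    set H' := MulAut.conj g • H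
    have hH' : IsFrobeniusComplement H' := Frobenius.isFrobeniusComplement_conj hH g
    replace hg : x ∈ H' := Coprime.mem_conj_smul_iff.2 hg
    haveI := hnil
    haveI : Nontrivial F := ⟨⟨⟨x, hx⟩, 1, fun e => hx1 (congrArg Subtype.val e)⟩⟩
    haveI : Nontrivial (Subgroup.center F) :=
      (Subgroup.nontrivial_iff_ne_bot _).2 (Group.IsNilpotent.center_ne_bot F)
    obtain ⟨⟨z, hz⟩, hz1⟩ := exists_ne (1 : Subgroup.center F)
    have hz1' : (z : A) ≠ 1 := fun e => hz1 (Subtype.ext (Subtype.ext e))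
    have hzc : ∀ f ∈ F, Commute (z : A) f := fun f hf =>
      (congrArg Subtype.val (Subgroup.mem_center_iff.1 hz ⟨f, hf⟩)).symm
    have hzH : (z : A) ∈ H' := Frobenius.mem_of_commute hH' hg hx1 (hzc x hx)
    refine hH'.2.1 (top_le_iff.1 fun m _ => Frobenius.mem_of_inter hH' hg hx1 ?_)
    have hm : m⁻¹ * x * m ∈ F := by
      have h := (fittingHall_normal A).conj_mem x hx m⁻¹
      rwa [inv_inv] at h
    exact Frobenius.mem_of_commute hH' hzH hz1' (hzc _ hm).symm

variable (hG : IsMinSimpleOddOrder G) (h13 : BG13 G) (hM : IsCoatom M)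
  (hd : IsSigmaDecomposition M K U)
include hG h13 hM hd

/-- An element of `A₀(M)` whose centraliser is not in `M` is a non-identity element of `M_σ`. -/
theorem mem_sigmaCore_of_escape {x : G} (hx : x ∈ typeA0' M)
    (hxM : ¬ centralizer ({x} : Set G) ≤ M) : x ∈ sigmaCore M ∧ x ≠ 1 := by
  have ti : ∀ S : Set G, IsTISubset S → normalizer S ≤ M → x ∈ S → x ≠ 1 → False := by
    intro S hS hle hxS hx1
    refine hxM fun g hg => hle ?_
    by_contra hgn
    refine hx1 (hS g hgn x hxS ?_)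
    rw [Subgroup.mem_centralizer_singleton_iff.1 hg, mul_inv_cancel_right]
    exact hxS
  rcases hx with ha | ⟨hI, W₁, V, W₂, hP, m, hm, w, hw, hw1, hw2, rfl⟩
  · obtain ⟨hA, hx1⟩ := TameFusion.mem_sigmaA_of_typeA' hG h13 hM hd ha
    refine ⟨by_contra fun hxs => ?_, hx1⟩
    refine ti _ (Cfsg.Agent.S1362.result hG M hM K U hd) ?_ ⟨hA, hxs⟩ hx1
    refine TameFusion.normalizer_le hG hM (fun a ha => ha.1.1.1) (fun m hm a ha => ⟨⟨?_, ?_⟩, ?_⟩)
      ⟨hA, hxs⟩ hx1
    · exact conj_mem_sigmaHat ha.1.1 hm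
    · exact (Subgroup.mem_normalizer_iff.1 (Decomp.le_normalizer_sup hd hm) a).1 ha.1.2
    · exact fun h => ha.2 ((Subgroup.mem_normalizer_iff.1 (le_normalizer_sigmaCore M hm) a).2 h)
  · exfalso
    have hK : K ≠ ⊥ := fun e => hI ((TypesIff.typeI'_iff hG h13 hM hd).2
      ⟨e, fun h => TypesIff.not_both_bot hG h13 hM hd ⟨e, h⟩⟩)
    obtain ⟨hS, hTI⟩ := TheoremC.a0_diff_a hG h13 hM hd hK
    have hxS := hS.le (TameFusion.mem_hat hG h13 hM hd hK hP hm hw hw1 hw2)
    have hx1 : m * w * m⁻¹ ≠ 1 := fun e => hxS.2 (by rw [e]; exact ⟨⟨M.one_mem, (hxS.1.1).2.imp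
      fun y hy => ⟨hy.1, hy.2.1, by rw [one_mul, mul_one]⟩⟩, one_mem _⟩)
    refine ti _ hTI (TameFusion.normalizer_le hG hM (fun a ha => ha.1.1.1) (fun n hn a ha => ?_) hxS hx1)
      hxS hx1
    rw [← hS] at ha ⊢
    obtain ⟨k, hk, z, hz, rfl⟩ := ha
    exact ⟨n * k, M.mul_mem hn hk, z, hz, by group⟩

/-- `A₀(M) ⊆ M`, and for `κ(M) = ∅ = τ₂(M)` the centralisers in `M` of its elements lie in `M_σ`. -/
theorem centralizer_le_sigmaCore (hκ : kappa M = ∅) (ht : tau2 M = ∅) {y : G} (hy : y ∈ typeA0' M) :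
    M ⊓ centralizer ({y} : Set G) ≤ sigmaCore M := by
  have hK : K = ⊥ := by
    by_contra h
    obtain ⟨p, hp, hpd⟩ := Nat.exists_prime_and_dvd (fun e => h (Subgroup.card_eq_one.1 e))
    have := hd.hall.2.1 p hp hpd
    rw [hκ] at this
    exact this
  have hI : IsOfTypeI' M := (TypesIff.typeI'_iff hG h13 hM hd).2
    ⟨hK, fun h => TypesIff.not_both_bot hG h13 hM hd ⟨hK, h⟩⟩
  have key : ∀ a ∈ sigmaA M U, a ∈ sigmaCore M := fun a ha => by_contra fun has => by
    obtain ⟨r, hr, hrs, hdv, -⟩ := exists_prime_not_sigma hG hM ha.1.1 has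
    have := Decomp.mem_tau2_of_sigmaA hG hM hd ha hr hrs hdv
    rw [ht] at this
    exact this
  rcases hy with hy | ⟨hI', -⟩
  swap
  · exact absurd hI hI'
  obtain ⟨hA, hy1⟩ := TameFusion.mem_sigmaA_of_typeA' hG h13 hM hd hy
  have hys := key y hA
  intro a ha
  refine key a ⟨⟨ha.1, y, hys, hy1, Subgroup.mem_centralizer_singleton_iff.1 ha.2⟩, ?_⟩
  obtain ⟨u, hu, b, hb, rfl⟩ := hd.compl.2.2.2 a ha.1
  rw [hK, bot_sup_eq] at hb
  exact Subgroup.mul_mem_sup hu hb

omit hd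

/-- Bender–Glauberman, Theorem II, for `X = A(M)` or `A₀(M)`. -/
theorem tame_embedding {X : Set G} (hX : X = typeA' M ∨ X = typeA0' M) :
    (∀ x ∈ X, ∀ g : G, g * x * g⁻¹ ∈ X → ∃ m ∈ M, m * x * m⁻¹ = g * x * g⁻¹) ∧
      (∀ x ∈ X, ¬ centralizer ({x} : Set G) ≤ M →
        x ∈ typeA1 M ∧ ∃! L : Subgroup G, IsCoatom L ∧ centralizer ({x} : Set G) ≤ L) ∧
      ∀ x ∈ X, ¬ centralizer ({x} : Set G) ≤ M → ∀ L : Subgroup G, IsCoatom L →
        centralizer ({x} : Set G) ≤ L →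
        IsComplIn (fittingHallOf L) (M ⊓ L) L ∧
        centralizer ({x} : Set G) ≤ normalizer ((fittingHallOf L ⊓ centralizer ({x} : Set G) : Subgroup G) : Set G) ∧
        IsComplIn (fittingHallOf L ⊓ centralizer ({x} : Set G)) (M ⊓ centralizer ({x} : Set G))
          (centralizer ({x} : Set G)) ∧
        (∀ y ∈ X, (Nat.card (fittingHallOf L)).Coprime (Nat.card ↥(M ⊓ centralizer ({y} : Set G)))) ∧
        (x ∈ typeA' L ∧ x ∉ typeA1 L) ∧
        (IsOfTypeI' L ∨ IsOfTypeII L) ∧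
        (IsOfTypeII L → ∃ E : Subgroup ↥M, IsFrobeniusComplement E ∧
          frobeniusKernel E = ((fittingHall ↥M : Subgroup ↥M) : Set ↥M)) := by
  obtain ⟨K, U, hd⟩ := exists_decomposition hG h13 hM
  have hX0 : X ⊆ typeA0' M := by
    rcases hX with rfl | rfl <;> [exact fun a ha => Or.inl ha; exact subset_rfl]
  have hσ := fun x (hx : x ∈ X) hxM => mem_sigmaCore_of_escape hG h13 hM hd (hX0 hx) hxM
  refine ⟨tame_fusion hG h13 hM hX, fun x hx hxM => ?_, ?_⟩
  · obtain ⟨hxs, hx1⟩ := hσ x hx hxM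
    refine ⟨⟨(TameFusion.typeCore_eq hG h13 hM hd).ge hxs, hx1⟩, ?_⟩
    obtain ⟨N, hN, huniq, -⟩ := supporting_structure hG h13.partition h13.transfer hM hxs hx1 hxM
    exact ⟨N, hN, fun L hL => huniq L hL.1 hL.2⟩
  intro x hx hxM L hL hxL
  obtain ⟨hxs, hx1⟩ := hσ x hx hxM
  obtain ⟨N, hN, huniq, hF, hnorm, hcC, hc, hdec⟩ :=
    supporting_structure hG h13.partition h13.transfer hM hxs hx1 hxM
  obtain rfl := huniq L hL hxL
  obtain ⟨K', U', hd'⟩ := exists_decomposition hG h13 hL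
  obtain ⟨hU', hxA, hxn⟩ := hdec K' U' hd'
  rw [← hF]
  refine ⟨complIn_swap hc, hnorm, complIn_swap hcC, fun y hy => ?_, ⟨?_, ?_⟩, ?_, fun hII => ?_⟩
  · by_contra hco
    obtain ⟨p, hp, hpN, hpC⟩ := Nat.Prime.not_coprime_iff_dvd.1 hco
    have hpσ : p ∈ sigma L := isPiGrp_piCoreOf (sigma L) L p hp hpN
    obtain ⟨hκ, ht⟩ := (supporting_pair hG h13 hM hxs hx1 hxM hL hxL).1
      ⟨p, hpσ, hpC.trans (Subgroup.card_dvd_of_le inf_le_left)⟩
    have hpM : p ∈ sigma M := isPiGrp_piCoreOf (sigma M) M p hp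
      (hpC.trans (Subgroup.card_dvd_of_le (centralizer_le_sigmaCore hG h13 hM hd hκ ht (hX0 hy))))
    obtain ⟨g, hg⟩ := h13.partition M L hM hL ⟨p, hpM, hpσ⟩
    obtain ⟨q, hq, hqd⟩ := Nat.exists_prime_and_dvd (fun e => hx1 (orderOf_eq_one_iff.1 e))
    have hqM : q ∈ sigma M := isPiGrp_piCoreOf (sigma M) M q hq
      (hqd.trans (Subgroup.orderOf_dvd_natCard _ hxs))
    obtain ⟨N₀, h₀⟩ := exists_supporting hG h13.partition h13.transfer hM hxs hx1 hxM
    have hqN : q ∈ tau2 L := (h₀.unique L hL hxL).symm ▸ h₀.tau2 q hq hqd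
    exact hqN.2.1 (by rw [show L = MulAut.conj g • M from hg, sigma_conj]; exact hqM)
  · unfold typeA'
    obtain ⟨z, hz, hz1, hxz⟩ := hxA.1.2
    split_ifs with h
    · exact ⟨hxA.1.1, hx1, z, hF ▸ hz, hz1, hxz⟩
    · have hK' : K' ≠ ⊥ := fun e => h ((TypesIff.typeI'_iff hG h13 hL hd').2 ⟨e, hU'⟩)
      refine ⟨?_, hx1, z, (TameFusion.typeCore_eq hG h13 hL hd').ge hz, hz1, hxz⟩
      rw [DecompP.commutator_eq hG h13 hL hd' hK']
      exact hxA.2
  · exact fun h => hxn ((TameFusion.typeCore_eq hG h13 hL hd').le h.1)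
  · rcases eq_or_ne K' ⊥ with hK' | hK'
    · exact Or.inl ((TypesIff.typeI'_iff hG h13 hL hd').2 ⟨hK', hU'⟩)
    · exact Or.inr ((TypesIff.typeII_iff hG h13 hL hd').2 ⟨hK', hU'⟩)
  · have hK' := ((TypesIff.typeII_iff hG h13 hL hd').1 hII).1
    obtain ⟨p, hp, hpd⟩ := Nat.exists_prime_and_dvd (fun e => hK' (Subgroup.card_eq_one.1 e))
    obtain ⟨-, ⟨E, hE, -⟩, -⟩ :=
      kappa_supporting hG h13 hM hxs hx1 hxM hL hxL ⟨p, hd'.hall.2.1 p hp hpd⟩
    exact ⟨E, hE, frobeniusKernel_eq hE (isNilpotent_fittingHall M)⟩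

end Cfsg.Agent.OddOrder.TameEmbedding
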