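import Cfsg.Agent.Lib.OddOrder.TheoremB
import Cfsg.Agent.Lib.OddOrder.SigmaConj
import Cfsg.Agent.Lib.OddOrder.TypeDefs
import Cfsg.Agent.S1358
import Cfsg.Agent.S1362

/-!
# Bender–Glauberman §16, Theorems A and B in terms of the types (rows 1389, 1390)

The facts about the standard factorisation and the types are explicit hypotheses, each having the
type of the conclusion of a frozen row at the fixed maximal subgroup.
-/

set_option autoImplicit false
set_option linter.unusedSectionVars false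
set_option linter.style.haveILetI false

namespace Cfsg.Agent.OddOrder.TypeTheorems

open Cfsg
open Subgroup (centralizer normalizer zpowers)
open scoped Pointwise

universe u
variable {G : Type u} [Group G] [Finite G] {M : Subgroup G}

theorem fittingHall_hall (M : Subgroup G) :
    (Nat.card (fittingHallOf M)).Coprime ((fittingHallOf M).relIndex M) := by
  rw [Subgroup.relIndex, subgroupOf_fittingHallOf, card_fittingHallOf]
  exact fittingHall_coprime_index M

theorem coprime_index_of_sigma (hG : IsMinSimpleOddOrder G) (hM : IsCoatom M) {H : Subgroup G} (hHM : H ≤ M)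
    (hσ : ∀ p : ℕ, p.Prime → p ∣ Nat.card H → p ∈ sigma M)
    (hH : (Nat.card H).Coprime (H.relIndex M)) : (Nat.card H).Coprime H.index := by
  rw [← Subgroup.relIndex_mul_index hHM]
  refine hH.mul_right (Nat.coprime_of_dvd fun p hp h1 h2 => ?_)
  exact (sigmaCore_isPiHall hG hM).2 p hp (hσ p hp h1)
    (h2.trans (Subgroup.index_dvd_of_le (sigmaCore_le M)))

theorem sylow_normalizer_le (hG : IsMinSimpleOddOrder G) (hM : IsCoatom M) {H : Subgroup G} (hHM : H ≤ M)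
    (hσ : ∀ p : ℕ, p.Prime → p ∣ Nat.card H → p ∈ sigma M)
    (hH : (Nat.card H).Coprime (H.relIndex M)) {p : ℕ} (hp : p.Prime) (P : Sylow p H)
    (hP : (P : Subgroup H) ≠ ⊥) :
    normalizer (((P : Subgroup H).map H.subtype : Subgroup G) : Set G) ≤ M := by
  haveI := Fact.mk hp
  obtain ⟨k, hk⟩ := P.2.exists_card_eq
  have hd : p ∣ Nat.card H := (dvd_pow_self p fun e => hP (Subgroup.card_eq_one.1 (by rw [hk, e, pow_zero]))).trans
    (hk ▸ (P : Subgroup H).card_subgroup_dvd_card)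
  have hidx : ¬ p ∣ ((P : Subgroup H).map H.subtype).index := by
    rw [Subgroup.index_map_subtype]
    intro h
    rcases hp.dvd_mul.1 h with h | h
    · exact P.not_dvd_index h
    · exact hp.ne_one (Nat.eq_one_of_dvd_coprimes (coprime_index_of_sigma hG hM hHM hσ hH) hd h)
  exact normalizer_sylow_le (hσ p hp hd) ((P.2.map H.subtype).toSylow hidx)
    ((Subgroup.map_subtype_le _).trans hHM)

theorem fittingHall_sigma (hG : IsMinSimpleOddOrder G) (hM : IsCoatom M) :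
    ∀ p : ℕ, p.Prime → p ∣ Nat.card (fittingHallOf M) → p ∈ sigma M := fun p hp hd =>
  isPiGrp_piCoreOf (sigma M) M p hp (hd.trans (Subgroup.card_dvd_of_le (fittingHallOf_le_sigmaCore hG hM)))

theorem sigmaCore_hall_coprime (hG : IsMinSimpleOddOrder G) (hM : IsCoatom M) :
    (Nat.card (sigmaCore M)).Coprime ((sigmaCore M).relIndex M) :=
  Nat.coprime_of_dvd fun p hp h1 h2 =>
    (sigmaCore_hall hG hM).2.2 p hp (isPiGrp_piCoreOf (sigma M) M p hp h1) h2

/-- The frozen statement S1389, given `M' = M_σ` for Types III and IV. -/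
theorem theoremA (hG : IsMinSimpleOddOrder G) (hM : IsCoatom M)
    (hT : (IsOfTypeIII M ∨ IsOfTypeIV M) → ⁅M, M⁆ = sigmaCore M) :
    (∀ (p : ℕ), p.Prime → ∀ (P : Sylow p ↥(typeCore M)), (P : Subgroup ↥(typeCore M)) ≠ ⊥ →
        normalizer ((((P : Subgroup ↥(typeCore M)).map (typeCore M).subtype : Subgroup G)) : Set G) ≤ M) ∧
      (Nat.card (fittingHallOf M)).Coprime (fittingHallOf M).index ∧
      (Nat.card (typeCore M)).Coprime (typeCore M).index := by
  classical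
  have hF := coprime_index_of_sigma hG hM (fittingHallOf_le M) (fittingHall_sigma hG hM) (fittingHall_hall M)
  obtain ⟨hle, hσ, hH⟩ : typeCore M ≤ M ∧ (∀ p : ℕ, p.Prime → p ∣ Nat.card (typeCore M) → p ∈ sigma M) ∧
      (Nat.card (typeCore M)).Coprime ((typeCore M).relIndex M) := by
    unfold typeCore
    split_ifs with h
    · rw [hT h]
      exact ⟨sigmaCore_le M, isPiGrp_piCoreOf (sigma M) M, sigmaCore_hall_coprime hG hM⟩
    · exact ⟨fittingHallOf_le M, fittingHall_sigma hG hM, fittingHall_hall M⟩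
  exact ⟨fun p hp P hP => sylow_normalizer_le hG hM hle hσ hH hp P hP, hF,
    coprime_index_of_sigma hG hM hle hσ hH⟩

/-- A standard factorisation may be conjugated inside `M`. -/
theorem decomposition_conj {K U : Subgroup G} (h : IsSigmaDecomposition M K U) {m : G} (hm : m ∈ M) :
    IsSigmaDecomposition M (MulAut.conj m • K) (MulAut.conj m • U) := by
  haveI := h.cyclic
  have hMm : MulAut.conj m • M = M := Coprime.conj_smul_eq_self_of_mem (Subgroup.le_normalizer hm)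
  have hσm : MulAut.conj m • sigmaCore M = sigmaCore M :=
    Coprime.conj_smul_eq_self_of_mem (le_normalizer_sigmaCore M hm)
  have hle : ∀ {X : Subgroup G}, X ≤ M → MulAut.conj m • X ≤ M := fun {X} hX =>
    (Subgroup.pointwise_smul_le_pointwise_smul_iff.2 hX).trans hMm.le
  obtain ⟨hU, -, hUK, hmul⟩ := h.compl
  refine ⟨(Subgroup.equivSMul (MulAut.conj m) K).isCyclic.1 h.cyclic, ⟨hle h.hall.1, ?_, ?_⟩, ?_, ?_⟩
  · rw [Coprime.card_conj_smul]
    exact h.hall.2.1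
  · intro p hp hπ hd
    refine h.hall.2.2 p hp hπ ?_
    have e : (MulAut.conj m • K).relIndex M = K.relIndex M := by
      refine Nat.eq_of_mul_eq_mul_left (Nat.card_pos (α := K)) ?_
      conv_lhs => rw [← Coprime.card_conj_smul m K]
      rw [Subgroup.relIndex, Subgroup.relIndex, ← Coprime.card_subgroupOf (hle h.hall.1), Subgroup.card_mul_index,
        ← Coprime.card_subgroupOf h.hall.1, Subgroup.card_mul_index]
    rwa [e] at hd
  · have hsup : MulAut.conj m • K ⊔ sigmaCore M = MulAut.conj m • (K ⊔ sigmaCore M) := by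
      rw [Subgroup.smul_sup, hσm]
    refine ⟨hle hU, sup_le (hle h.hall.1) (sigmaCore_le M), ?_, fun x hx => ?_⟩
    · rw [hsup, ← Subgroup.smul_inf, hUK, Subgroup.smul_bot]
    · obtain ⟨a, ha, b, hb, he⟩ := hmul (m⁻¹ * x * m) (mul_mem (mul_mem (M.inv_mem hm) hx) hm)
      refine ⟨m * a * m⁻¹, Subgroup.smul_mem_pointwise_smul a (MulAut.conj m) U ha, m * b * m⁻¹, ?_, ?_⟩
      · rw [hsup]
        exact Subgroup.smul_mem_pointwise_smul b (MulAut.conj m) _ hb
      · calc x = m * (m⁻¹ * x * m) * m⁻¹ := by group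
          _ = m * a * m⁻¹ * (m * b * m⁻¹) := by rw [he]; group
  · exact (Subgroup.pointwise_smul_le_pointwise_smul_iff.2 h.normal).trans
      (Subgroup.map_equiv_normalizer_eq U (MulAut.conj m)).le

/-- The three parts of Theorem B for a standard factorisation with `M_F = M_σ`, where `U M_σ` is the
domain of `A(M)`. -/
theorem theoremB_core (hG : IsMinSimpleOddOrder G) (hM : IsCoatom M) {K U : Subgroup G}
    (hKU : IsSigmaDecomposition M K U) (hF : fittingHallOf M = sigmaCore M)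
    {A : Set G} (hA : A = {a | a ∈ U ⊔ sigmaCore M ∧ a ≠ 1 ∧ ∃ x ∈ sigmaCore M, x ≠ 1 ∧ a * x = x * a})
    (hA1 : typeA1 M = (sigmaCore M : Set G) \ {1}) :
    (∀ (p : ℕ), p.Prime → ∀ P : Sylow p U, IsMulCommutative (P : Subgroup U) ∧ PRankLE p 2 (P : Subgroup U)) ∧
      (∀ X : Set G, X ⊆ (U : Set G) \ {1} → X.Nonempty → fittingHallOf M ⊓ centralizer X ≠ ⊥ →
        centralizer X ≤ M ∧ ∀ L : Subgroup G, IsCoatom L → centralizer X ≤ L → L = M) ∧
      IsTISubset (A \ typeA1 M) := by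
  refine ⟨S1358.result hG M hM K U hKU, fun X hX hne hXc => ?_, ?_⟩
  · obtain ⟨x, hx⟩ := hne
    have hle : Subgroup.closure X ≤ U := (Subgroup.closure_le _).2 fun y hy => (hX hy).1
    have h1 : Subgroup.closure X ≠ ⊥ := fun e =>
      (hX hx).2 (Set.mem_singleton_iff.2 (Subgroup.mem_bot.1 (e ▸ Subgroup.subset_closure hx)))
    rw [hF, ← Subgroup.centralizer_closure] at hXc
    rw [← Subgroup.centralizer_closure]
    exact TheoremB.unique_of_tau2 hG hM (hle.trans hKU.compl.1) h1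
      (fun p hp hd => TheoremB.mem_tau2_of_fixed hG hM hKU hle hXc hp hd) hXc
  · have e : A \ typeA1 M = sigmaA M U \ (sigmaCore M : Set G) := by
      ext a
      rw [hA, hA1]
      constructor
      · rintro ⟨⟨haU, ha1, x, hx, hx1, hax⟩, hn⟩
        exact ⟨⟨⟨(sup_le hKU.compl.1 (sigmaCore_le M)) haU, x, hx, hx1, hax⟩, haU⟩,
          fun h => hn ⟨h, ha1⟩⟩
      · rintro ⟨⟨⟨-, x, hx, hx1, hax⟩, haU⟩, hn⟩
        exact ⟨⟨haU, fun e => hn (e ▸ one_mem _), x, hx, hx1, hax⟩, fun h => hn h.1⟩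
    rw [e]
    exact S1362.result hG M hM K U hKU

/-- Theorem B for a notion `T` of Type I and the set `A` it defines. -/
theorem theoremB_gen (hG : IsMinSimpleOddOrder G) (hM : IsCoatom M) {K U₀ : Subgroup G}
    (hKU : IsSigmaDecomposition M K U₀)
    (h57 : fittingHallOf M ≠ sigmaCore M → U₀ = ⊥) (h65 : K ≠ ⊥ → ⁅M, M⁆ = U₀ ⊔ sigmaCore M)
    {T : Prop} {A : Set G} (h80 : T → K = ⊥ ∧ U₀ ≠ ⊥)
    (hAT : T → A = {a | a ∈ M ∧ a ≠ 1 ∧ ∃ x ∈ fittingHallOf M, x ≠ 1 ∧ a * x = x * a})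
    (hAnT : ¬ T → A = {a | a ∈ ⁅M, M⁆ ∧ a ≠ 1 ∧ ∃ x ∈ typeCore M, x ≠ 1 ∧ a * x = x * a}) (h81 : IsOfTypeII M ↔ (K ≠ ⊥ ∧ U₀ ≠ ⊥))
    (h82 : (IsOfTypeIII M ∨ IsOfTypeIV M) ↔ (K ≠ ⊥ ∧ U₀ = ⊥ ∧ fittingHallOf M ≠ sigmaCore M))
    {U : Subgroup G} (hU : (T ∧ IsComplIn (fittingHallOf M) U M) ∨
      (IsOfTypeII M ∧ IsComplIn (fittingHallOf M) U ⁅M, M⁆)) :
    (∀ (p : ℕ), p.Prime → ∀ P : Sylow p U, IsMulCommutative (P : Subgroup U) ∧ PRankLE p 2 (P : Subgroup U)) ∧
      (∀ X : Set G, X ⊆ (U : Set G) \ {1} → X.Nonempty → fittingHallOf M ⊓ centralizer X ≠ ⊥ →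
        centralizer X ≤ M ∧ ∀ L : Subgroup G, IsCoatom L → centralizer X ≤ L → L = M) ∧
      IsTISubset (A \ typeA1 M) := by
  classical
  have hU0 : U₀ ≠ ⊥ := by
    rcases hU with ⟨h, -⟩ | ⟨h, -⟩
    · exact (h80 h).2
    · exact (h81.1 h).2
  have hF : fittingHallOf M = sigmaCore M := not_not.1 fun h => hU0 (h57 h)
  have hA1 : typeA1 M = (sigmaCore M : Set G) \ {1} := by
    rw [typeA1, typeCore, if_neg (fun h => hU0 (h82.1 h).2.1), hF]
  set D : Subgroup G := U₀ ⊔ sigmaCore M with hD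
  have hcompl : IsComplIn (sigmaCore M) U D ∧
      A = {a | a ∈ D ∧ a ≠ 1 ∧ ∃ x ∈ sigmaCore M, x ≠ 1 ∧ a * x = x * a} := by
    rcases hU with ⟨h, hc⟩ | ⟨h, hc⟩
    · have hDM : D = M := by
        refine le_antisymm (sup_le hKU.compl.1 (sigmaCore_le M)) fun m hm => ?_
        obtain ⟨a, ha, b, hb, rfl⟩ := hKU.compl.2.2.2 m hm
        rw [(h80 h).1, bot_sup_eq] at hb
        exact mul_mem (Subgroup.mem_sup_left ha) (Subgroup.mem_sup_right hb)
      rw [hDM]
      refine ⟨hF ▸ hc, ?_⟩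
      rw [hAT h, hF]
    · have hK := (h81.1 h).1
      have hder : ⁅M, M⁆ = D := h65 hK
      refine ⟨hder ▸ hF ▸ hc, ?_⟩
      rw [hAnT (fun h' => hK (h80 h').1), typeCore, if_neg (fun h' => hU0 (h82.1 h').2.1), hF, hder]
  obtain ⟨⟨-, hUD, hUdis, hmul⟩, hA⟩ := hcompl
  have hn : U₀ ≤ normalizer (sigmaCore M : Set G) := hKU.compl.1.trans (le_normalizer_sigmaCore M)
  have hdis : U₀ ⊓ sigmaCore M = ⊥ :=
    le_bot_iff.1 ((inf_le_inf_left U₀ le_sup_right).trans hKU.compl.2.2.1.le)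
  have hcard : Nat.card U = Nat.card U₀ := by
    have h1 := card_eq_of_isComplIn (show IsComplIn (sigmaCore M) U D from ⟨le_sup_right, hUD, hUdis, hmul⟩)
    rw [hD, Coprime.card_sup_of_le_normalizer hn hdis, mul_comm] at h1
    exact Nat.eq_of_mul_eq_mul_right Nat.card_pos h1
  have hcop : (Nat.card U₀).Coprime (Nat.card (sigmaCore M)) := Nat.coprime_of_dvd fun p hp h1 h2 =>
    (TheoremB.not_mem_of_dvd hG hM hKU hp h1).1 (isPiGrp_piCoreOf (sigma M) M p hp h2)
  obtain ⟨n, hnσ, hnU⟩ := Coprime.exists_le_conj_of_le_sup hn hUD hcop (hcard ▸ hcop)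
    (Or.inl (Coprime.isSolvable_of_le hKU.compl.1 (isSolvable_of_coatom hG hM)))
  have hUeq : U = MulAut.conj n • U₀ := Subgroup.eq_of_le_of_card_ge hnU (by rw [Coprime.card_conj_smul, hcard])
  subst hUeq
  refine theoremB_core hG hM (decomposition_conj hKU (sigmaCore_le M hnσ)) hF ?_ hA1
  have e : MulAut.conj n • U₀ ⊔ sigmaCore M = D := by
    refine le_antisymm (sup_le hUD le_sup_right) fun d hd => ?_
    obtain ⟨s, hs, v, hv, rfl⟩ := hmul d hd
    exact mul_mem (Subgroup.mem_sup_right hs) (Subgroup.mem_sup_left hv)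
  rw [e]
  exact hA

/-- The frozen statement S1390, given rows 1357 (first part), 1365 (first part), 1381, 1382 and one
direction of 1380 for a standard factorisation of `M`. -/
theorem theoremB (hG : IsMinSimpleOddOrder G) (hM : IsCoatom M) {K U₀ : Subgroup G}
    (hKU : IsSigmaDecomposition M K U₀)
    (h57 : fittingHallOf M ≠ sigmaCore M → U₀ = ⊥) (h65 : K ≠ ⊥ → ⁅M, M⁆ = U₀ ⊔ sigmaCore M)
    (h80 : IsOfTypeI M → K = ⊥ ∧ U₀ ≠ ⊥) (h81 : IsOfTypeII M ↔ (K ≠ ⊥ ∧ U₀ ≠ ⊥))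
    (h82 : (IsOfTypeIII M ∨ IsOfTypeIV M) ↔ (K ≠ ⊥ ∧ U₀ = ⊥ ∧ fittingHallOf M ≠ sigmaCore M))
    {U : Subgroup G} (hU : (IsOfTypeI M ∧ IsComplIn (fittingHallOf M) U M) ∨
      (IsOfTypeII M ∧ IsComplIn (fittingHallOf M) U ⁅M, M⁆)) :
    (∀ (p : ℕ), p.Prime → ∀ P : Sylow p U, IsMulCommutative (P : Subgroup U) ∧ PRankLE p 2 (P : Subgroup U)) ∧
      (∀ X : Set G, X ⊆ (U : Set G) \ {1} → X.Nonempty → fittingHallOf M ⊓ centralizer X ≠ ⊥ →
        centralizer X ≤ M ∧ ∀ L : Subgroup G, IsCoatom L → centralizer X ≤ L → L = M) ∧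
      IsTISubset (typeA M \ typeA1 M) :=
  theoremB_gen hG hM hKU h57 h65 h80 (fun h => by rw [typeA, if_pos h]) (fun h => by rw [typeA, if_neg h])
    h81 h82 hU

/-- Theorem B in the book's form of Type I. -/
theorem theoremB' (hG : IsMinSimpleOddOrder G) (hM : IsCoatom M) {K U₀ : Subgroup G}
    (hKU : IsSigmaDecomposition M K U₀)
    (h57 : fittingHallOf M ≠ sigmaCore M → U₀ = ⊥) (h65 : K ≠ ⊥ → ⁅M, M⁆ = U₀ ⊔ sigmaCore M)
    (h80 : IsOfTypeI' M → K = ⊥ ∧ U₀ ≠ ⊥) (h81 : IsOfTypeII M ↔ (K ≠ ⊥ ∧ U₀ ≠ ⊥))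
    (h82 : (IsOfTypeIII M ∨ IsOfTypeIV M) ↔ (K ≠ ⊥ ∧ U₀ = ⊥ ∧ fittingHallOf M ≠ sigmaCore M))
    {U : Subgroup G} (hU : (IsOfTypeI' M ∧ IsComplIn (fittingHallOf M) U M) ∨
      (IsOfTypeII M ∧ IsComplIn (fittingHallOf M) U ⁅M, M⁆)) :
    (∀ (p : ℕ), p.Prime → ∀ P : Sylow p U, IsMulCommutative (P : Subgroup U) ∧ PRankLE p 2 (P : Subgroup U)) ∧
      (∀ X : Set G, X ⊆ (U : Set G) \ {1} → X.Nonempty → fittingHallOf M ⊓ centralizer X ≠ ⊥ →
        centralizer X ≤ M ∧ ∀ L : Subgroup G, IsCoatom L → centralizer X ≤ L → L = M) ∧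
      IsTISubset (typeA' M \ typeA1 M) :=
  theoremB_gen hG hM hKU h57 h65 h80 (fun h => by rw [typeA', if_pos h]) (fun h => by rw [typeA', if_neg h])
    h81 h82 hU

end Cfsg.Agent.OddOrder.TypeTheorems
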