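import Cfsg.Agent.Lib.OddOrder.SigmaConj

/-!
# Counting facts about the factorisation `M = K U M_σ`, and `π`-parts of commuting products
-/

set_option autoImplicit false
set_option linter.unusedSectionVars false

namespace Cfsg.Agent.OddOrder

open Cfsg
open Subgroup (centralizer normalizer zpowers)

universe u
variable {G : Type u} [Group G] [Finite G] {M K U : Subgroup G}

theorem inf_sigmaCore_of_kappa (hK : ∀ p : ℕ, p.Prime → p ∣ Nat.card K → p ∈ kappa M) :
    K ⊓ sigmaCore M = ⊥ :=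
  Coprime.disjoint_of_coprime_card (Nat.coprime_of_dvd fun l hl h1 h2 =>
    (hK l hl h1).2.2.1 (isPiGrp_piCoreOf (sigma M) M l hl h2))

theorem card_decomposition (hd : IsSigmaDecomposition M K U) :
    Nat.card M = Nat.card U * (Nat.card K * Nat.card (sigmaCore M)) := by
  rw [← card_eq_of_isComplIn hd.compl,
    Coprime.card_sup_of_le_normalizer (hd.hall.1.trans (le_normalizer_sigmaCore M))
      (inf_sigmaCore_of_kappa hd.hall.2.1)]

theorem card_sup_decomposition (hd : IsSigmaDecomposition M K U) :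
    Nat.card ↥(K ⊔ U) = Nat.card K * Nat.card U :=
  Coprime.card_sup_of_le_normalizer hd.normal
    (le_bot_iff.1 (hd.compl.2.2.1 ▸ (inf_comm K U).le.trans (inf_le_inf_left U le_sup_left)))

/-- `U` is a `(κ(M) ∪ σ(M))'`-group. -/
theorem not_mem_of_dvd_decomposition (hG : IsMinSimpleOddOrder G) (hM : IsCoatom M)
    (hd : IsSigmaDecomposition M K U) {l : ℕ} (hl : l.Prime) (hlU : l ∣ Nat.card U) :
    l ∉ sigma M ∧ l ∉ kappa M := by
  have hc := card_decomposition hd
  constructor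
  · intro hs
    have h1 := Subgroup.relIndex_mul_relIndex ⊥ (sigmaCore M) M bot_le (sigmaCore_le M)
    rw [Subgroup.relIndex_bot_left, Subgroup.relIndex_bot_left, hc] at h1
    have h2 : (sigmaCore M).relIndex M = Nat.card U * Nat.card K :=
      Nat.eq_of_mul_eq_mul_left (n := Nat.card (sigmaCore M)) Nat.card_pos (by rw [h1]; ring)
    exact (sigmaCore_hall hG hM).2.2 l hl hs (h2 ▸ hlU.trans (dvd_mul_right _ _))
  · intro hk
    have h1 := Subgroup.relIndex_mul_relIndex ⊥ K M bot_le hd.hall.1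
    rw [Subgroup.relIndex_bot_left, Subgroup.relIndex_bot_left, hc] at h1
    have h2 : K.relIndex M = Nat.card U * Nat.card (sigmaCore M) :=
      Nat.eq_of_mul_eq_mul_left (n := Nat.card K) Nat.card_pos (by rw [h1]; ring)
    exact hd.hall.2.2 l hl hk (h2 ▸ hlU.trans (dvd_mul_right _ _))

/-- The complement `K U` of `M_σ`. -/
theorem isComplIn_sup_decomposition (hG : IsMinSimpleOddOrder G) (hM : IsCoatom M)
    (hd : IsSigmaDecomposition M K U) : IsComplIn (K ⊔ U) (sigmaCore M) M := by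
  have hKU : ∀ l : ℕ, l.Prime → l ∣ Nat.card ↥(K ⊔ U) → l ∉ sigma M := fun l hl hd' => by
    rw [card_sup_decomposition hd] at hd'
    rcases hl.dvd_mul.1 hd' with h | h
    · exact (hd.hall.2.1 l hl h).2.2.1
    · exact (not_mem_of_dvd_decomposition hG hM hd hl h).1
  refine ⟨sup_le hd.hall.1 hd.compl.1, sigmaCore_le M, Coprime.disjoint_of_coprime_card
    (Nat.coprime_of_dvd fun l hl h1 h2 => hKU l hl h1 (isPiGrp_piCoreOf (sigma M) M l hl h2)), fun m hm => ?_⟩
  obtain ⟨u, hu, b, hb, rfl⟩ := hd.compl.2.2.2 m hm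
  obtain ⟨k, hk, s, hs, rfl⟩ :=
    (Coprime.mem_sup_iff_of_le_normalizer (hd.hall.1.trans (le_normalizer_sigmaCore M))).1 hb
  exact ⟨u * k, mul_mem (Subgroup.mem_sup_right hu) (Subgroup.mem_sup_left hk), s, hs, (mul_assoc _ _ _).symm⟩

/-- The factors of a commuting product with coprime orders are its powers. -/
theorem mem_zpowers_mul_of_coprime {a b : G} (h : Commute a b) (hc : (orderOf a).Coprime (orderOf b)) :
    a ∈ zpowers (a * b) := by
  obtain ⟨m, hm⟩ := exists_pow_eq_self_of_coprime hc.symm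
  refine ⟨((orderOf b * m : ℕ) : ℤ), ?_⟩
  show (a * b) ^ ((orderOf b * m : ℕ) : ℤ) = a
  rw [zpow_natCast, h.mul_pow, pow_mul b, pow_orderOf_eq_one, one_pow, mul_one, pow_mul, hm]

/-- The `π`-part of an element is unique. -/
theorem piPart_unique {π : Set ℕ} {a b c d : G} (hab : Commute a b) (hcd : Commute c d)
    (ha : ∀ p : ℕ, p.Prime → p ∣ orderOf a → p ∈ π) (hb : ∀ p : ℕ, p.Prime → p ∣ orderOf b → p ∉ π)
    (hc : ∀ p : ℕ, p.Prime → p ∣ orderOf c → p ∈ π) (hd : ∀ p : ℕ, p.Prime → p ∣ orderOf d → p ∉ π)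
    (h : a * b = c * d) : a = c ∧ b = d := by
  have hcop : ∀ {x y : G}, (∀ p : ℕ, p.Prime → p ∣ orderOf x → p ∈ π) →
      (∀ p : ℕ, p.Prime → p ∣ orderOf y → p ∉ π) → (orderOf x).Coprime (orderOf y) :=
    fun hx hy => Nat.coprime_of_dvd fun l hl h1 h2 => hy l hl h2 (hx l hl h1)
  have comm : ∀ {x y g : G}, x ∈ zpowers g → y ∈ zpowers g → Commute x y := by
    rintro x y g ⟨i, rfl⟩ ⟨j, rfl⟩
    exact Commute.zpow_zpow_self g i j
  have h1 := mem_zpowers_mul_of_coprime hab (hcop ha hb)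
  have h2 := h ▸ mem_zpowers_mul_of_coprime hcd (hcop hc hd)
  have h3 : b ∈ zpowers (a * b) := hab.eq ▸ mem_zpowers_mul_of_coprime hab.symm (hcop ha hb).symm
  have h4 : d ∈ zpowers (a * b) := h ▸ hcd.eq ▸ mem_zpowers_mul_of_coprime hcd.symm (hcop hc hd).symm
  have e : c⁻¹ * a = d * b⁻¹ := by
    rw [eq_mul_inv_iff_mul_eq, mul_assoc, h, inv_mul_cancel_left]
  have hπ : ∀ p : ℕ, p.Prime → p ∣ orderOf (c⁻¹ * a) → p ∈ π := fun p hp hpd => by
    have := hpd.trans ((comm (inv_mem h2) h1).orderOf_mul_dvd_mul_orderOf)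
    rw [orderOf_inv] at this
    rcases hp.dvd_mul.1 this with hh | hh
    · exact hc p hp hh
    · exact ha p hp hh
  have hπ' : ∀ p : ℕ, p.Prime → p ∣ orderOf (c⁻¹ * a) → p ∉ π := fun p hp hpd => by
    rw [e] at hpd
    have := hpd.trans ((comm h4 (inv_mem h3)).orderOf_mul_dvd_mul_orderOf)
    rw [orderOf_inv] at this
    rcases hp.dvd_mul.1 this with hh | hh
    · exact hd p hp hh
    · exact hb p hp hh
  have hone : c⁻¹ * a = 1 := by
    by_contra hne
    obtain ⟨p, hp, hpd⟩ := Nat.exists_prime_and_dvd (fun e' => hne (orderOf_eq_one_iff.1 e'))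
    exact hπ' p hp hpd (hπ p hp hpd)
  have hac : a = c := (inv_mul_eq_one.1 hone).symm
  exact ⟨hac, mul_left_cancel (a := a) (h.trans (by rw [hac]))⟩

end Cfsg.Agent.OddOrder
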