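import Cfsg.Agent.Lib.OddOrder.InvariantSylow
import Cfsg.Agent.Lib.OddOrder.ExceptionalCore
import Cfsg.Agent.Lib.OddOrder.SylowSetting
import Cfsg.Agent.Lib.OddOrder.SigmaCore
import Cfsg.Agent.Lib.Solvable.Hall
import Cfsg.Agent.Lib.OddOrder.TauTwo
import Cfsg.Agent.Lib.IsolatedP.Cyclic

/-!
# Tools for maximal subgroups and the primes of `σ(M)` (Bender–Glauberman §§12–13)

* conjugation invariance of `sigma`, `alpha` and the rank; `disjoint_alpha_sigma`,
  `not_mem_sigma_of_nilpotent`: nonconjugate maximal subgroups share no prime of `α`, and none of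
  `σ` when one `M_σ` is nilpotent;
* `IsSyl p T A`: `T` is a Sylow `p`-subgroup of `A`, both subgroups of `G`;
* `le_centralizer_of_le_derived`: a subgroup of `L'` centralises the coprime invariant subgroups
  avoiding `α(L)`;
* `exists_compl_ge`: a `σ(M)'`-subgroup lies in a complement of `M_σ`;
* `exists_commutator_eq`: a coprime action has a witness `Q = [Q, R]` of prime power order.
-/

set_option autoImplicit false
set_option linter.style.haveILetI false
set_option linter.unusedSectionVars false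

namespace Cfsg.Agent.OddOrder

open Cfsg
open Subgroup (centralizer normalizer zpowers)
open scoped Pointwise commutatorElement

universe u
variable {G : Type u} [Group G] [Finite G]

/-! ### Conjugation -/

/-- `L` is not a conjugate of `M`. -/
def NotConj (M L : Subgroup G) : Prop := ∀ g : G, L ≠ MulAut.conj g • M

theorem isCoatom_conj {M : Subgroup G} (hM : IsCoatom M) (g : G) : IsCoatom (MulAut.conj g • M) :=
  (OrderIso.isCoatom_iff (MulEquiv.mapSubgroup (MulAut.conj g)) M).2 hM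

theorem NotConj.symm {M L : Subgroup G} (h : NotConj M L) : NotConj L M := fun g hg =>
  h g⁻¹ (by rw [hg, Coprime.conj_smul_smul, inv_mul_cancel, map_one, one_smul])

theorem NotConj.ne {M L : Subgroup G} (h : NotConj M L) : L ≠ M :=
  fun e => h 1 (by rw [map_one, one_smul, e])

theorem normalizer_conj_smul (g : G) (X : Subgroup G) :
    normalizer ((MulAut.conj g • X : Subgroup G) : Set G) = MulAut.conj g • normalizer (X : Set G) :=
  (Subgroup.map_equiv_normalizer_eq X (MulAut.conj g)).symm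

theorem pRankLE_conj {p k : ℕ} {M : Subgroup G} (g : G) (h : PRankLE p k M) :
    PRankLE p k (MulAut.conj g • M : Subgroup G) :=
  pRankLE_of_injective (f := (M.equivMapOfInjective _ (MulAut.conj g).injective).symm.toMonoidHom)
    (MulEquiv.injective _) h

theorem pRankLE_conj_iff {p k : ℕ} {M : Subgroup G} (g : G) :
    PRankLE p k (MulAut.conj g • M : Subgroup G) ↔ PRankLE p k M := by
  refine ⟨fun h => ?_, pRankLE_conj g⟩
  have h2 := pRankLE_conj g⁻¹ h
  rwa [Coprime.conj_smul_smul, inv_mul_cancel, map_one, one_smul] at h2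

theorem alpha_conj (g : G) (M : Subgroup G) : alpha (MulAut.conj g • M) = alpha M := by
  ext p
  exact and_congr_right fun _ => not_congr (pRankLE_conj_iff g)

theorem sigma_conj_subset (g : G) (M : Subgroup G) : sigma M ⊆ sigma (MulAut.conj g • M) := by
  rintro p ⟨hp, hd, P, hP⟩
  haveI := Fact.mk hp
  set M' : Subgroup G := MulAut.conj g • M
  set T : Subgroup G := MulAut.conj g • (P : Subgroup M).map M.subtype
  have hTM : T ≤ M' := Subgroup.pointwise_smul_le_pointwise_smul_iff.2 (Subgroup.map_subtype_le _)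
  let Q : Sylow p M' := Sylow.ofCard (T.subgroupOf M') (by
    rw [Coprime.card_subgroupOf hTM, Coprime.card_conj_smul, Subgroup.card_map_of_injective M.subtype_injective,
      P.card_eq_multiplicity, show Nat.card M' = Nat.card M from Coprime.card_conj_smul g M])
  refine ⟨hp, by rw [Coprime.card_conj_smul]; exact hd, Q, ?_⟩
  rw [show (Q : Subgroup M').map M'.subtype = T from Subgroup.map_subgroupOf_eq_of_le hTM,
    normalizer_conj_smul]
  exact Subgroup.pointwise_smul_le_pointwise_smul_iff.2 hP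

theorem sigma_conj (g : G) (M : Subgroup G) : sigma (MulAut.conj g • M) = sigma M := by
  refine Set.Subset.antisymm ?_ (sigma_conj_subset g M)
  have h := sigma_conj_subset g⁻¹ (MulAut.conj g • M)
  rwa [Coprime.conj_smul_smul, inv_mul_cancel, map_one, one_smul] at h

theorem notConj_of_mem_sigma {M L : Subgroup G} {p : ℕ} (hL : p ∈ sigma L) (hM : p ∉ sigma M) :
    NotConj M L := fun g hg => hM (by rw [hg, sigma_conj] at hL; exact hL)

theorem notConj_of_rank {M L : Subgroup G} {p k : ℕ} (hL : ¬ PRankLE p k L) (hM : PRankLE p k M) :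
    NotConj M L := fun g hg => hL (hg ▸ pRankLE_conj g hM)

/-! ### Sylow subgroups of subgroups -/

/-- `T` is a Sylow `p`-subgroup of `A`. -/
def IsSyl (p : ℕ) (T A : Subgroup G) : Prop := ∃ S : Sylow p A, (S : Subgroup A).map A.subtype = T

variable {p : ℕ} [Fact p.Prime]

omit [Fact p.Prime] in
theorem IsSyl.le {T A : Subgroup G} (h : IsSyl p T A) : T ≤ A := by
  obtain ⟨S, rfl⟩ := h; exact Subgroup.map_subtype_le _

omit [Fact p.Prime] in
theorem IsSyl.isPGroup {T A : Subgroup G} (h : IsSyl p T A) : IsPGroup p T := by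
  obtain ⟨S, rfl⟩ := h; exact S.2.map _

theorem exists_isSyl_ge {U A : Subgroup G} (hU : IsPGroup p U) (hUA : U ≤ A) :
    ∃ T, IsSyl p T A ∧ U ≤ T := by
  obtain ⟨S, hS⟩ := exists_sylow_map_ge hU hUA
  exact ⟨_, ⟨S, rfl⟩, hS⟩

omit [Fact p.Prime] in
theorem IsSyl.eq_of_le {T U A : Subgroup G} (h : IsSyl p T A) (hU : IsPGroup p U) (hUA : U ≤ A)
    (hTU : T ≤ U) : U = T := by
  obtain ⟨S, rfl⟩ := h
  refine le_antisymm ?_ hTU
  have h1 := S.3 (hU.comap_of_injective A.subtype A.subtype_injective) fun x hx => hTU ⟨x, hx, rfl⟩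
  exact (Subgroup.map_subgroupOf_eq_of_le hUA).ge.trans (Subgroup.map_mono h1.le)

theorem IsSyl.mono {T A B : Subgroup G} (h : IsSyl p T A) (hTB : T ≤ B) (hBA : B ≤ A) :
    IsSyl p T B := by
  obtain ⟨T', hT', hle⟩ := exists_isSyl_ge h.isPGroup hTB
  exact (h.eq_of_le hT'.isPGroup (hT'.le.trans hBA) hle) ▸ hT'

theorem IsSyl.exists_conj_le {T U A : Subgroup G} (h : IsSyl p T A) (hU : IsPGroup p U) (hUA : U ≤ A) :
    ∃ a ∈ A, MulAut.conj a • U ≤ T := by
  obtain ⟨S, rfl⟩ := h
  obtain ⟨S', hS'⟩ := exists_sylow_map_ge hU hUA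
  obtain ⟨k, hk⟩ := MulAction.exists_smul_eq A S' S
  refine ⟨k, k.2, ?_⟩
  rw [← hk, Sylow.coe_subgroup_smul, Coprime.map_conj_smul]
  exact Subgroup.pointwise_smul_le_pointwise_smul_iff.2 hS'

omit [Finite G] [Fact p.Prime] in
theorem IsSyl.map_eq {T A : Subgroup G} (h : IsSyl p T A) (S : Subgroup G) (hS : S = T) : IsSyl p S A := hS ▸ h

theorem IsSyl.of_normalizer_le {T A B : Subgroup G} (h : IsSyl p T B) (hTA : T ≤ A)
    (hN : A ⊓ normalizer (T : Set G) ≤ B) : IsSyl p T A := by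
  obtain ⟨U, hU, hTU⟩ := exists_isSyl_ge h.isPGroup hTA
  rcases hTU.eq_or_lt with e | hlt
  · exact e ▸ hU
  exfalso
  have h1 := lt_inf_normalizer hU.isPGroup.isNilpotent hlt
  have h2 : U ⊓ normalizer (T : Set G) ≤ B := (inf_le_inf_right _ hU.le).trans hN
  exact h1.ne' (h.eq_of_le (hU.isPGroup.to_le inf_le_left) h2 h1.le)

theorem IsSyl.not_dvd_relIndex {T A : Subgroup G} (h : IsSyl p T A) : ¬ p ∣ T.relIndex A := by
  obtain ⟨S, rfl⟩ := h
  rw [Subgroup.relIndex, Subgroup.subgroupOf,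
    Subgroup.comap_map_eq_self_of_injective A.subtype_injective]
  exact S.not_dvd_index

theorem IsSyl.exists_sylow {T M : Subgroup G} (h : IsSyl p T M) (hN : normalizer (T : Set G) ≤ M) :
    ∃ P : Sylow p G, (P : Subgroup G) = T := by
  obtain ⟨S, rfl⟩ := h
  exact exists_sylow_eq S hN

theorem IsSyl.sigma_normalizer_le {T M : Subgroup G} (hp : p ∈ sigma M) (h : IsSyl p T M) :
    normalizer (T : Set G) ≤ M := by
  obtain ⟨S, rfl⟩ := h
  exact OddOrder.sigma_normalizer_le hp S

theorem IsSyl.mem_sigma {T M : Subgroup G} (hpM : p ∣ Nat.card M) (h : IsSyl p T M)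
    (hN : normalizer (T : Set G) ≤ M) : p ∈ sigma M := by
  obtain ⟨S, rfl⟩ := h
  exact ⟨Fact.out, hpM, S, hN⟩

theorem IsSyl.isCyclic_of_pRankLE_one {T A : Subgroup G} (hp : p ≠ 2) (h : IsSyl p T A)
    (hr : PRankLE p 1 A) : IsCyclic T :=
  IsolatedP.isCyclic_of_pRankLE_one hp h.isPGroup
    (pRankLE_of_injective (f := Subgroup.inclusion h.le) (Subgroup.inclusion_injective _) hr)

theorem dvd_card_of_ne_bot {X A : Subgroup G} (hX : IsPGroup p X) (h1 : X ≠ ⊥) (hXA : X ≤ A) :
    p ∣ Nat.card A := by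
  obtain ⟨k, hk⟩ := hX.exists_card_eq
  have hk0 : k ≠ 0 := fun e => h1 (Subgroup.card_eq_one.1 (by rw [hk, e, pow_zero]))
  exact (hk ▸ dvd_pow_self p hk0).trans (Subgroup.card_dvd_of_le hXA)

theorem exists_le_card_prime {X : Subgroup G} (hX : IsPGroup p X) (h1 : X ≠ ⊥) :
    ∃ Y ≤ X, Nat.card Y = p := by
  obtain ⟨z, hz, hz1, hzp, -⟩ := exists_central_pow_eq_one hX h1
  exact ⟨zpowers z, Subgroup.zpowers_le.2 hz, by rw [Nat.card_zpowers, orderOf_eq_prime hzp hz1]⟩

/-! ### Maximal subgroups of a minimal simple group of odd order -/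

variable (hG : IsMinSimpleOddOrder G)
include hG

omit [Fact p.Prime] in
/-- Nonconjugate maximal subgroups: `α(L) ∩ σ(M) = ∅`. -/
theorem disjoint_alpha_sigma {M L : Subgroup G} (hM : IsCoatom M) (hL : IsCoatom L) (h : NotConj M L)
    {r : ℕ} (hr : r ∈ alpha L) : r ∉ sigma M := fun hs => by
  haveI := Fact.mk hr.1
  obtain ⟨S⟩ : Nonempty (Sylow r L) := inferInstance
  obtain ⟨T⟩ : Nonempty (Sylow r M) := inferInstance
  obtain ⟨P, hP⟩ := sigma_sylow_eq (alpha_subset_sigma hG hL hr) S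
  obtain ⟨Q, hQ⟩ := sigma_sylow_eq hs T
  obtain ⟨g, hg⟩ := MulAction.exists_smul_eq G Q P
  have hK : ¬ PRankLE r 2 ((S : Subgroup L).map L.subtype) := not_pRankLE_sylow hr.2 S
  have hle : (S : Subgroup L).map L.subtype ≤ MulAut.conj g • M := by
    rw [← hP, ← hg, Sylow.coe_subgroup_smul, hQ]
    exact Subgroup.pointwise_smul_le_pointwise_smul_iff.2 (Subgroup.map_subtype_le _)
  exact h g (eq_of_rank_three hG hL (Subgroup.map_subtype_le _) hK (isCoatom_conj hM g) hle).symm

omit [Fact p.Prime] in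
/-- Nonconjugate maximal subgroups share no prime of `σ` when one `M_σ` is nilpotent. -/
theorem not_mem_sigma_of_nilpotent {M L : Subgroup G} (hM : IsCoatom M) (hL : IsCoatom L)
    (h : NotConj M L) (hnil : Group.IsNilpotent (sigmaCore L)) {r : ℕ} (hr : r ∈ sigma L) :
    r ∉ sigma M := fun hs => by
  haveI := Fact.mk hr.1
  obtain ⟨S⟩ : Nonempty (Sylow r L) := inferInstance
  obtain ⟨T⟩ : Nonempty (Sylow r M) := inferInstance
  set R := (S : Subgroup L).map L.subtype
  obtain ⟨P, hP⟩ := sigma_sylow_eq hr S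
  obtain ⟨Q, hQ⟩ := sigma_sylow_eq hs T
  obtain ⟨g, hg⟩ := MulAction.exists_smul_eq G Q P
  have hRσ : R ≤ sigmaCore L := sylow_le_sigmaCore hG hL hr S
  haveI := hnil
  -- the Sylow subgroup of a nilpotent normal subgroup is normal
  have hLN : L ≤ normalizer (R : Set G) := by
    have hRsyl : IsSyl r R (sigmaCore L) :=
      IsSyl.mono (A := L) ⟨S, rfl⟩ hRσ (piCoreOf_le _ L)
    obtain ⟨R₀, hR₀⟩ := id hRsyl
    have hnR : sigmaCore L ≤ normalizer (R : Set G) := by
      haveI : (R₀ : Subgroup (sigmaCore L)).Normal := inferInstance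
      rw [← hR₀]; exact le_normalizer_map_of_normal _
    have hRp : pOf r (sigmaCore L) = R :=
      hRsyl.eq_of_le (isPGroup_pOf _) (pOf_le _) (le_pOf hRσ hnR hRsyl.isPGroup)
    rw [← hRp]
    exact (le_normalizer_piCoreOf _ L).trans (normalizer_le_normalizer_pOf _)
  have hR1 : R ≠ ⊥ := by
    rw [Ne, Subgroup.map_eq_bot_iff_of_injective _ L.subtype_injective]
    exact S.ne_bot_of_dvd_card hr.2.1
  have hNe : normalizer (R : Set G) = L :=
    normalizer_eq_of_normal hG hL (Subgroup.map_subtype_le _) hLN hR1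
  have hle : normalizer (R : Set G) ≤ MulAut.conj g • M := by
    rw [show R = (P : Subgroup G) from hP.symm, ← hg, Sylow.coe_subgroup_smul, hQ, normalizer_conj_smul]
    exact Subgroup.pointwise_smul_le_pointwise_smul_iff.2 (OddOrder.sigma_normalizer_le hs T)
  rw [hNe] at hle
  exact h g (eq_of_coatom_le hL (isCoatom_conj hM g) hle)

omit [Fact p.Prime] in
/-- A `p`-subgroup of `M` lies in `M'` for `p ∈ σ(M)`. -/
theorem le_derived_of_sigma {M X : Subgroup G} (hM : IsCoatom M) {q : ℕ} (hq : q ∈ sigma M)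
    (hX : IsPGroup q X) (hXM : X ≤ M) : X ≤ ⁅M, M⁆ := by
  haveI := Fact.mk hq.1
  obtain ⟨S, hS⟩ := exists_sylow_map_ge hX hXM
  exact hS.trans (sylow_le_commutator_of_sigma hG hM hq S)

/-- A `p`-subgroup lies in `M'` when `p` divides `|M'|` and `M` has `p`-rank one. -/
theorem le_derived_of_dvd {M X : Subgroup G} (hd : p ∣ Nat.card ↥⁅M, M⁆) (hr : PRankLE p 1 M)
    (hX : IsPGroup p X) (hXM : X ≤ M) : X ≤ ⁅M, M⁆ := by
  have hp2 : p ≠ 2 := ne_two_of_odd_of_dvd hG.1 (hd.trans (Subgroup.card_subgroup_dvd_card _))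
  obtain ⟨S, hS⟩ := exists_sylow_map_ge hX hXM
  haveI : IsCyclic (S : Subgroup M) :=
    IsolatedP.isCyclic_of_pRankLE_one hp2 S.2
      (pRankLE_of_injective (f := (S : Subgroup M).subtype) (S : Subgroup M).subtype_injective hr)
  have e : (_root_.commutator M).map M.subtype = ⁅M, M⁆ := Subgroup.map_subtype_commutator M
  have h1 : p ∣ Nat.card (_root_.commutator M) := by
    rwa [← e, Subgroup.card_map_of_injective M.subtype_injective] at hd
  have hidx := (Sylow.not_dvd_card_commutator_or_not_dvd_index_commutator S).resolve_left (not_not.2 h1)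
  have hSC : (S : Subgroup M) ≤ _root_.commutator M := fun y hy => by
    obtain ⟨k, hk⟩ := S.2 ⟨y, hy⟩
    have h2 : orderOf (QuotientGroup.mk' (_root_.commutator M) y) ∣ (_root_.commutator M).index := by
      rw [Subgroup.index_eq_card]; exact orderOf_dvd_natCard _
    have h3 : orderOf (QuotientGroup.mk' (_root_.commutator M) y) ∣ p ^ k :=
      orderOf_dvd_of_pow_eq_one (by rw [← map_pow, show y ^ p ^ k = 1 from congrArg Subtype.val hk, map_one])
    exact (QuotientGroup.eq_one_iff y).1 (orderOf_eq_one_iff.1 (Nat.eq_one_of_dvd_coprimes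
      (((Fact.out : p.Prime).coprime_iff_not_dvd.2 hidx).pow_left k) h3 h2))
  rw [← e]
  exact hS.trans (Subgroup.map_mono hSC)

omit [Fact p.Prime] in
/-- Elements of coprime prime power orders of `L'` commute modulo `L_α`. -/
theorem commutator_mem_alphaCore {L : Subgroup G} (hL : IsCoatom L) {x y : G} {q k : ℕ} [Fact q.Prime]
    (hx : x ∈ ⁅L, L⁆) (hy : y ∈ ⁅L, L⁆) (hxq : x ^ q ^ k = 1) (hyq : (orderOf y).Coprime q) :
    ⁅x, y⁆ ∈ alphaCore L := by
  have hLL : ⁅L, L⁆ ≤ L := Subgroup.commutator_le_self L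
  set N := piCore (alpha L) ↥L
  set π := QuotientGroup.mk' N
  have hmem : ∀ z (hz : z ∈ ⁅L, L⁆), π ⟨z, hLL hz⟩ ∈ fittingSubgroup (↥L ⧸ N) := fun z hz => by
    refine commutator_quotient_le_fitting hG hL ?_
    obtain ⟨z', hz', e⟩ := (Subgroup.map_subtype_commutator L ▸ hz : z ∈ (_root_.commutator L).map L.subtype)
    have hze : z' = ⟨z, hLL hz⟩ := Subtype.ext e
    have h := Subgroup.mem_map_of_mem π (hze ▸ hz')
    rw [commutator_def, Subgroup.map_commutator] at h
    exact Subgroup.commutator_mono le_top le_top h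
  haveI := Components.fittingSubgroup_isNilpotent (↥L ⧸ N)
  have hc := Subnormal.commute_of_coprime (G := ↥(fittingSubgroup (↥L ⧸ N))) (p := q) (k := k)
    (u := ⟨_, hmem x hx⟩) (y := ⟨_, hmem y hy⟩)
    (Subtype.ext (by
      show π ⟨x, hLL hx⟩ ^ q ^ k = 1
      rw [← map_pow, show (⟨x, hLL hx⟩ : L) ^ q ^ k = 1 from Subtype.ext hxq, map_one]))
    (by
      refine Nat.Coprime.coprime_dvd_left ?_ hyq
      rw [← Subgroup.orderOf_coe]
      exact (orderOf_map_dvd π ⟨y, hLL hy⟩).trans (Subgroup.orderOf_mk y _).dvd)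
  have hc' : π ⁅(⟨x, hLL hx⟩ : L), ⟨y, hLL hy⟩⁆ = 1 := by
    rw [map_commutatorElement]
    exact commutatorElement_eq_one_iff_mul_comm.2 (congrArg Subtype.val hc.symm.eq)
  exact ⟨_, (QuotientGroup.eq_one_iff _).1 hc', rfl⟩

/-- A `p`-subgroup of `L'` centralises the invariant `q`-subgroups, `q ∉ α(L)`. -/
theorem le_centralizer_of_le_derived {L R Q : Subgroup G} {q : ℕ} [Fact q.Prime] (hL : IsCoatom L)
    (hqp : q ≠ p) (hR : IsPGroup p R) (hRL : R ≤ ⁅L, L⁆) (hQ : IsPGroup q Q) (hQL : Q ≤ L)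
    (hRQ : R ≤ normalizer (Q : Set G)) (hq : q ∉ alpha L) : R ≤ centralizer (Q : Set G) := by
  have hcop : (Nat.card R).Coprime (Nat.card Q) := by
    obtain ⟨i, hi⟩ := hR.exists_card_eq
    obtain ⟨j, hj⟩ := hQ.exists_card_eq
    rw [hi, hj]
    exact ((Nat.coprime_primes Fact.out Fact.out).2 hqp.symm).pow i j
  have hs : Group.IsSolvable R ∨ Group.IsSolvable Q := Or.inl (haveI := hR.isNilpotent; inferInstance)
  set C := ⁅Q, R⁆
  have hCQ : C ≤ Q := Coprime.commutator_le_left_of_le_normalizer hRQ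
  have hCL : C ≤ ⁅L, L⁆ := Subgroup.commutator_mono hQL (hRL.trans (Subgroup.commutator_le_self L))
  have h0 : ⁅C, R⁆ ≤ alphaCore L ⊓ Q := by
    refine Subgroup.commutator_le.2 fun x hx y hy => ⟨?_, ?_⟩
    · obtain ⟨k, hk⟩ := hQ ⟨x, hCQ hx⟩
      obtain ⟨i, hi⟩ := hR ⟨y, hy⟩
      refine commutator_mem_alphaCore hG hL (hCL hx) (hRL hy) (congrArg Subtype.val hk) ?_
      exact Nat.Coprime.coprime_dvd_left (orderOf_dvd_of_pow_eq_one (congrArg Subtype.val hi))
        (((Nat.coprime_primes Fact.out Fact.out).2 hqp.symm).pow_left i)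
    · exact hCQ (Coprime.commutator_le_left_of_le_normalizer (Subgroup.normalizer_commutator_ge_right Q R)
        (Subgroup.commutator_mem_commutator hx hy))
  have hbot : alphaCore L ⊓ Q = ⊥ := by
    rw [← Subgroup.card_eq_one]
    obtain ⟨k, hk⟩ := (hQ.to_le (inf_le_right : alphaCore L ⊓ Q ≤ Q)).exists_card_eq
    rcases Nat.eq_zero_or_pos k with rfl | h
    · simpa using hk
    · exact absurd (isPiGrp_piCoreOf (alpha L) L q Fact.out
        ((hk ▸ dvd_pow_self q h.ne').trans (Subgroup.card_dvd_of_le inf_le_left))) hq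
  rw [Coprime.le_centralizer_iff_commutator_eq_bot, ← Coprime.commutator_commutator_eq hRQ hcop hs]
  exact le_bot_iff.1 (h0.trans hbot.le)

omit [Fact p.Prime] in
/-- A `σ(M)'`-subgroup of `M` lies in a complement of `M_σ`. -/
theorem exists_compl_ge {M Y : Subgroup G} (hM : IsCoatom M) (hYM : Y ≤ M)
    (hY : ∀ q : ℕ, q.Prime → q ∣ Nat.card Y → q ∉ sigma M) :
    ∃ E : Subgroup G, IsComplIn E (sigmaCore M) M ∧ Y ≤ E :=
  exists_compl hG hM hYM (Nat.coprime_of_dvd fun l hl h1 h2 =>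
    hY l hl h1 (isPiGrp_piCoreOf (sigma M) M l hl h2))

omit [Fact p.Prime] in
theorem exists_complIn {M : Subgroup G} (hM : IsCoatom M) :
    ∃ E : Subgroup G, IsComplIn E (sigmaCore M) M := by
  obtain ⟨E, hE, -⟩ := exists_compl_ge hG hM (Y := ⊥) bot_le (fun q hq hd => by
    rw [Subgroup.card_bot, Nat.dvd_one] at hd
    exact absurd hd hq.ne_one)
  exact ⟨E, hE⟩

omit [Fact p.Prime] in
/-- A witness for a nontrivial coprime action. -/
theorem exists_commutator_eq {K R : Subgroup G} (hRK : R ≤ normalizer (K : Set G))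
    (hcop : (Nat.card R).Coprime (Nat.card K)) (hK : K ≠ ⊤) (h : ¬ R ≤ centralizer (K : Set G)) :
    ∃ (q : ℕ) (Q : Subgroup G), q.Prime ∧ IsPGroup q Q ∧ Q ≤ K ∧ R ≤ normalizer (Q : Set G) ∧
      Q ≠ ⊥ ∧ ⁅Q, R⁆ = Q := by
  have hs : Group.IsSolvable R ∨ Group.IsSolvable K := Or.inr (hG.2.2.2 K hK)
  by_contra hne
  push Not at hne
  apply h
  refine Subgroup.le_centralizer_iff.1 ?_
  have e := Coprime.eq_of_forall_invariant_pgroup_le (S := K ⊓ centralizer (R : Set G)) hRK hcop hs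
    inf_le_left fun q P hq hP hPK hRP => le_inf hPK ?_
  · exact e.ge.trans inf_le_right
  · have hcP : (Nat.card R).Coprime (Nat.card P) := hcop.coprime_dvd_right (Subgroup.card_dvd_of_le hPK)
    haveI := Fact.mk hq
    have hsP : Group.IsSolvable R ∨ Group.IsSolvable P := Or.inr (haveI := hP.isNilpotent; inferInstance)
    have hbot : ⁅P, R⁆ = ⊥ := by
      by_contra hb
      have h1 : ⁅P, R⁆ ≤ P := Coprime.commutator_le_left_of_le_normalizer hRP
      exact hne q ⁅P, R⁆ hq (hP.to_le h1) (h1.trans hPK) (Subgroup.normalizer_commutator_ge_right P R) hb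
        (Coprime.commutator_commutator_eq hRP hcP hsP)
    exact Subgroup.le_centralizer_iff.1 (Coprime.le_centralizer_iff_commutator_eq_bot.2 hbot)

end Cfsg.Agent.OddOrder
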