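import Cfsg.Agent.Lib.OddOrder.SigmaConj
import Cfsg.Agent.S1404

/-!
# Bender–Glauberman 14.4: the supporting subgroup of an element of `M_σ#`
-/

set_option autoImplicit false
set_option linter.unusedSectionVars false
set_option linter.style.haveILetI false

namespace Cfsg.Agent.OddOrder

open Cfsg
open Subgroup (centralizer normalizer zpowers)
open scoped Pointwise

universe u
variable {G : Type u} [Group G] [Finite G]

/-- `N` supports `x ∈ M_σ#`: the unique maximal subgroup over `C(x)`, different from `M`. -/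
structure Supporting (M : Subgroup G) (x : G) (N : Subgroup G) : Prop where
  coatom : IsCoatom N
  ne : N ≠ M
  centralizer_le : centralizer ({x} : Set G) ≤ N
  unique : ∀ L : Subgroup G, IsCoatom L → centralizer ({x} : Set G) ≤ L → L = N
  inf_eq_bot : sigmaCore N ⊓ M = ⊥
  nilpotent : Group.IsNilpotent (sigmaCore N)
  compl : IsComplIn (M ⊓ N) (sigmaCore N) N
  complCent : IsComplIn (M ⊓ centralizer ({x} : Set G)) (sigmaCore N ⊓ centralizer ({x} : Set G))
    (centralizer ({x} : Set G))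
  fixed_ne : sigmaCore N ⊓ centralizer ({x} : Set G) ≠ ⊥
  tau2 : ∀ p : ℕ, p.Prime → p ∣ orderOf x → p ∈ tau2 N

/-- What a subgroup of order `q` of `M`, `q ∈ σ(M)`, with centralizer outside `M` gives. -/
theorem exists_local (hG : IsMinSimpleOddOrder G) (hpart : SigmaPartition G) (hloc : SigmaTransfer G)
    {M : Subgroup G} (hM : IsCoatom M) {q : ℕ} [Fact q.Prime] (hq : q ∈ sigma M) {X : Subgroup G}
    (hXM : X ≤ M) (hX : Nat.card X = q) (hC : ¬ centralizer (X : Set G) ≤ M) :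
    ∃ L A A₀ : Subgroup G, IsCoatom L ∧ L ≠ M ∧ normalizer (X : Set G) ≤ L ∧ q ∈ tau2 L ∧
      Exc q L A A₀ ∧ X ≤ A ∧ A ≤ M ∧ IsComplIn (M ⊓ L) (sigmaCore L) L := by
  have hXp : IsPGroup q X := IsPGroup.of_card (n := 1) (by rw [hX, pow_one])
  have hX1 : X ≠ ⊥ := fun e => (Fact.out : q.Prime).ne_one (by rw [← hX, e, Subgroup.card_bot])
  obtain ⟨L, hL, hNX⟩ := exists_coatom_ge (normalizer_ne_top_of_pgroup hG hXp hX1)
  have hne : L ≠ M := fun e => hC ((Subgroup.centralizer_le_normalizer _).trans (hNX.trans e.le))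
  obtain ⟨S, hXS⟩ := exists_sylow_map_ge hXp (le_inf hXM (Subgroup.le_normalizer.trans hNX))
  obtain ⟨hnc, hNS, hidx⟩ := hloc M hM q hq X hXp hX1 hXM L hL hne hNX S hXS
  set S' := (S : Subgroup ↥(M ⊓ L)).map (M ⊓ L).subtype with hS'
  have hS'L : S' ≤ L := (Subgroup.map_subtype_le _).trans inf_le_right
  have hqL : q ∉ sigma L := fun h => by
    obtain ⟨g, hg⟩ := hpart M L hM hL ⟨q, hq, h⟩
    exact hnc g hg
  obtain ⟨⟨hr2, hr1⟩, -, -⟩ := S1409.result hG L hL q hqL X hX hNX
  have hS'p : IsPGroup q S' := S.2.map _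
  set T := (hS'p.comap_of_injective L.subtype L.subtype_injective).toSylow hidx with hT
  have hTe : (T : Subgroup L).map L.subtype = S' := by
    exact Subgroup.map_subgroupOf_eq_of_le hS'L
  obtain ⟨A, hAT, hA, hAc⟩ := exists_square_le hr1 T
  have hAS : A ≤ S' := hTe ▸ hAT
  have hAM : A ≤ M := hAS.trans ((Subgroup.map_subtype_le _).trans inf_le_left)
  obtain ⟨A₀, h⟩ := exists_exc hG hL hqL (hAS.trans hS'L) hA hAc
  have hXA : X ≤ A := fun x hx => h.mem_of_sylow T hAT (hTe.symm ▸ hXS hx)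
    (orderOf_dvd_iff_pow_eq_one.1 (hX ▸ Subgroup.orderOf_dvd_natCard X hx))
  have hinf : sigmaCore L ⊓ M = ⊥ := h.sigmaCore_inf_eq_bot hM hne.symm hAM
  refine ⟨L, A, A₀, hL, hne, hNX, ⟨Fact.out, hqL, hr2, hr1⟩, h, hXA, hAM, ?_⟩
  obtain ⟨E, hE, hAE⟩ := exists_compl hG hL h.le
    (h.setting.coprime_sigmaCore (PGroup.isPGroup_of_elementaryAbelian hA))
  have hEM : E ≤ M := by
    intro n hn
    have hnA := h.complement_le_normalizer hE hAE hn
    have hCA : centralizer (A : Set G) ≤ M := (S1416.result hG M hM q A ⟨hAM, hA, hAc⟩).1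
    set C := L ⊓ centralizer (A : Set G) with hC'
    have hS'C : S' ≤ C := le_inf hS'L (hTe ▸ h.le_centralizer_of_sylow T hAT)
    have hnS : MulAut.conj n • S' ≤ C := by
      intro y hy
      rw [Coprime.mem_conj_smul_iff] at hy
      have h1 := hS'C hy
      refine ⟨?_, Subgroup.mem_centralizer_iff.2 fun a ha => ?_⟩
      · have := L.mul_mem (L.mul_mem (hE.1 hn) h1.1) (L.inv_mem (hE.1 hn))
        simpa [mul_assoc] using this
      · have h2 := Subgroup.mem_centralizer_iff.1 h1.2 (n⁻¹ * a * n)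
          ((Subgroup.mem_normalizer_iff''.1 hnA a).1 ha)
        have h3 := congrArg (fun t => n * t * n⁻¹) h2
        simpa [mul_assoc] using h3
    have hidxC : ¬ q ∣ (S'.subgroupOf C).index := fun hd => hidx
      (hd.trans ⟨C.relIndex L, (Subgroup.relIndex_mul_relIndex S' C L hS'C inf_le_left).symm⟩)
    set P₁ := (hS'p.comap_of_injective C.subtype C.subtype_injective).toSylow hidxC with hP₁
    have hnp : IsPGroup q (MulAut.conj n • S' : Subgroup G) := hS'p.map _
    obtain ⟨Q, hQ⟩ := exists_sylow_map_ge hnp hnS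
    obtain ⟨c, hc⟩ := MulAction.exists_smul_eq C P₁ Q
    have hP₁e : (P₁ : Subgroup C).map C.subtype = S' := Subgroup.map_subgroupOf_eq_of_le hS'C
    rw [← hc, Sylow.coe_subgroup_smul, Coprime.map_conj_smul, hP₁e, C.coe_subtype] at hQ
    have he := Subgroup.eq_of_le_of_card_ge hQ (by rw [Coprime.card_conj_smul, Coprime.card_conj_smul])
    have h4 : (c : G)⁻¹ * n ∈ M := hNS (Coprime.mem_normalizer_of_conj_smul_eq (by
      rw [map_mul, mul_smul, he, ← mul_smul, ← map_mul, inv_mul_cancel, map_one, one_smul]))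
    simpa using M.mul_mem (hCA c.2.2) h4
  have heq : M ⊓ L = E := by
    refine le_antisymm (fun m hm => ?_) (le_inf hEM hE.1)
    obtain ⟨e, he, k, hk, rfl⟩ := hE.2.2.2 m hm.2
    have : k ∈ sigmaCore L ⊓ M := ⟨hk, (M.mul_mem_cancel_left (hEM he)).1 hm.1⟩
    rw [hinf, Subgroup.mem_bot] at this
    rwa [this, mul_one]
  rw [heq]
  exact hE

/-- BG 14.4. -/
theorem exists_supporting (hG : IsMinSimpleOddOrder G) (hpart : SigmaPartition G) (hloc : SigmaTransfer G)
    {M : Subgroup G} (hM : IsCoatom M) {x : G} (hx : x ∈ sigmaCore M) (hx1 : x ≠ 1)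
    (hxM : ¬ centralizer ({x} : Set G) ≤ M) : ∃ N : Subgroup G, Supporting M x N := by
  have hσ : ∀ r : ℕ, r.Prime → r ∣ orderOf x → r ∈ sigma M := fun r hr hd =>
    isPiGrp_piCoreOf (sigma M) M r hr (hd.trans (Subgroup.orderOf_dvd_natCard _ hx))
  have hxM' : x ∈ M := sigmaCore_le M hx
  have hCle : ∀ X : Subgroup G, X ≤ zpowers x → centralizer ({x} : Set G) ≤ centralizer (X : Set G) :=
    fun X hX => by
      intro g hg
      refine Subgroup.mem_centralizer_iff.2 fun a ha => ?_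
      obtain ⟨i, rfl⟩ := hX ha
      exact (Commute.zpow_left (Subgroup.mem_centralizer_singleton_iff.1 hg).symm i).eq
  obtain ⟨q, hq, hqd⟩ := Nat.exists_prime_and_dvd (fun e => hx1 (orderOf_eq_one_iff.1 e))
  haveI := Fact.mk hq
  obtain ⟨X, hXx, hX⟩ := exists_card_le_zpowers hqd
  have hXM : X ≤ M := hXx.trans (Subgroup.zpowers_le.2 hxM')
  obtain ⟨N, A, A₀, hN, hne, hNX, hqt, h, hXA, hAM, hcompl⟩ :=
    exists_local hG hpart hloc hM (hσ q hq hqd) hXM hX fun e => hxM ((hCle X hXx).trans e)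
  have hCN : centralizer ({x} : Set G) ≤ N :=
    (hCle X hXx).trans ((Subgroup.centralizer_le_normalizer _).trans hNX)
  have hxN : x ∈ M ⊓ N := ⟨hxM', hCN (Subgroup.mem_centralizer_singleton_iff.2 rfl)⟩
  have hinf : sigmaCore N ⊓ M = ⊥ := h.sigmaCore_inf_eq_bot hM hne.symm hAM
  have hcC : IsComplIn (M ⊓ centralizer ({x} : Set G)) (sigmaCore N ⊓ centralizer ({x} : Set G))
      (centralizer ({x} : Set G)) := by
    refine ⟨inf_le_right, inf_le_right, ?_, fun g hg => ?_⟩
    · rw [← le_bot_iff, ← hinf]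
      exact le_inf (inf_le_right.trans inf_le_left) (inf_le_left.trans inf_le_left)
    · obtain ⟨e, he, k, hk, rfl⟩ := hcompl.2.2.2 g (hCN hg)
      obtain ⟨h1, h2⟩ := commute_parts hcompl (le_normalizer_sigmaCore N) hxN he hk
        (Subgroup.mem_centralizer_singleton_iff.1 hg).symm
      exact ⟨e, ⟨he.1, Subgroup.mem_centralizer_singleton_iff.2 h1.symm.eq⟩, k,
        ⟨hk, Subgroup.mem_centralizer_singleton_iff.2 h2.symm.eq⟩, rfl⟩
  have hR1 : sigmaCore N ⊓ centralizer ({x} : Set G) ≠ ⊥ := fun e => hxM fun g hg => by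
    obtain ⟨a, ha, b, hb, rfl⟩ := hcC.2.2.2 g hg
    rw [e, Subgroup.mem_bot] at hb
    rw [hb, mul_one]
    exact ha.1
  have htau : ∀ r : ℕ, r.Prime → r ∣ orderOf x → r ∈ tau2 N := by
    intro r hr hrd
    haveI := Fact.mk hr
    rcases eq_or_ne r q with rfl | hrq
    · exact hqt
    obtain ⟨Y, hYx, hY⟩ := exists_card_le_zpowers hrd
    have hYM : Y ≤ M := hYx.trans (Subgroup.zpowers_le.2 hxM')
    obtain ⟨L, B, B₀, hL, -, hNY, hrt, hB, -, -, -⟩ :=
      exists_local hG hpart hloc hM (hσ r hr hrd) hYM hY fun e => hxM ((hCle Y hYx).trans e)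
    suffices L = N by rwa [← this]
    have hqb : q ∉ beta M := fun hb => (S1408.result hG N hN q hqt.2.1 hqt.2.2.1 hqt.2.2.2).1 hb.2
    have hAp := PGroup.isPGroup_of_elementaryAbelian h.elem
    have hAσ : A ≤ sigmaCore M := by
      obtain ⟨T, hT⟩ := exists_sylow_map_ge hAp hAM
      exact hT.trans (sylow_le_sigmaCore hG hM (hσ q hq hqd) T)
    have hYσ : Y ≤ sigmaCore M := hYx.trans (Subgroup.zpowers_le.2 hx)
    obtain ⟨K, hKn, hKq, hKm⟩ := exists_normal_complement_mem
      ((S1414.result hG M hM).2.2.2.2 q hq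
        ((hX ▸ Subgroup.card_dvd_of_le hXM)) hqb).2.1
    have hYA : Y ≤ centralizer (A : Set G) := by
      intro y hy
      refine Subgroup.mem_centralizer_iff.2 fun a ha => ?_
      have hyn : y ∈ normalizer (A : Set G) := h.complement_le_normalizer hcompl (le_inf hAM h.le)
        (Subgroup.zpowers_le.2 hxN (hYx hy))
      have hyK : (⟨y, hYσ hy⟩ : sigmaCore M) ∈ K := hKm _ fun hd => hrq
        ((Nat.prime_dvd_prime_iff_eq hq hr).1 (hd.trans ((Subgroup.orderOf_coe _).symm.dvd.trans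
          (hY ▸ Subgroup.orderOf_dvd_natCard Y hy)))).symm
      have h1 : a * y * a⁻¹ * y⁻¹ ∈ A := by
        have := A.mul_mem ha ((Subgroup.mem_normalizer_iff.1 hyn a⁻¹).1 (A.inv_mem ha))
        simpa [mul_assoc] using this
      have h2 : (⟨a * y * a⁻¹ * y⁻¹, hAσ h1⟩ : sigmaCore M) ∈ K :=
        K.mul_mem (hKn.conj_mem _ hyK ⟨a, hAσ ha⟩) (K.inv_mem hyK)
      have h3 : a * y * a⁻¹ * y⁻¹ = 1 := by
        refine orderOf_eq_one_iff.1 (Nat.eq_one_of_dvd_coprimes ?_ (Subgroup.orderOf_dvd_natCard A h1)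
          ((Subgroup.orderOf_coe _).dvd.trans (Subgroup.orderOf_dvd_natCard K h2)))
        rw [h.card]
        exact (hq.coprime_iff_not_dvd.2 hKq).pow_left 2
      exact mul_inv_eq_iff_eq_mul.1 (mul_inv_eq_one.1 h3)
    by_contra hLN
    refine hR1 (le_bot_iff.1 ?_)
    rw [← h.sigmaCore_inf_eq_bot hL hLN ((Subgroup.le_centralizer_iff.1 hYA).trans
      ((Subgroup.centralizer_le_normalizer _).trans hNY))]
    exact inf_le_inf_left _ ((hCle Y hYx).trans ((Subgroup.centralizer_le_normalizer _).trans hNY))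
  obtain ⟨z, hz, hz1⟩ := (Subgroup.bot_or_exists_ne_one _).resolve_left hR1
  obtain ⟨-, huniq⟩ := (S1420.result hG N hN (M ⊓ N) hcompl).2.2.2 x hxN.2 hx1 htau
    ⟨hxN.2, z, hz.1, hz1, (Subgroup.mem_centralizer_singleton_iff.1 hz.2).symm⟩
  exact ⟨N, hN, hne, hCN, huniq, hinf, h.isNilpotent_sigmaCore, hcompl, hcC, hR1, htau⟩

/-- In `N = K U N_σ` an element whose order is prime to `κ(N)` lies in `U N_σ`. -/
theorem mem_sup_of_decomposition {N K U : Subgroup G} (hd : IsSigmaDecomposition N K U) {x : G}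
    (hx : x ∈ N) (hk : ∀ p : ℕ, p.Prime → p ∣ orderOf x → p ∉ kappa N) : x ∈ U ⊔ sigmaCore N := by
  obtain ⟨hUN, hKN, hinf, hdec⟩ := hd.compl
  set W := U ⊔ sigmaCore N with hW
  have hWN : W ≤ N := sup_le hUN (sigmaCore_le N)
  have hn : N ≤ normalizer (W : Set G) := by
    intro n hnn
    obtain ⟨u, hu, b, hb, rfl⟩ := hdec n hnn
    refine Subgroup.mul_mem _ (Subgroup.le_normalizer (Subgroup.mem_sup_left hu)) ?_
    refine (sup_le (fun k hk => ?_) (le_sup_right.trans Subgroup.le_normalizer) :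
      K ⊔ sigmaCore N ≤ normalizer (W : Set G)) hb
    rw [Subgroup.mem_normalizer_iff_map_conj_eq, hW, Subgroup.map_sup,
      Subgroup.mem_normalizer_iff_map_conj_eq.1 (hd.normal hk),
      Subgroup.mem_normalizer_iff_map_conj_eq.1 (le_normalizer_sigmaCore N (hd.hall.1 hk))]
  haveI : (W.subgroupOf N).Normal := (Subgroup.normal_subgroupOf_iff_le_normalizer hWN).2 hn
  have hKc : K ⊓ sigmaCore N = ⊥ := Coprime.disjoint_of_coprime_card (Nat.coprime_of_dvd fun l hl h1 h2 =>
    (hd.hall.2.1 l hl h1).2.2.1 (isPiGrp_piCoreOf (sigma N) N l hl h2))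
  have hUc : U ⊓ sigmaCore N = ⊥ := le_bot_iff.1 (hinf ▸ inf_le_inf_left U le_sup_right)
  have hWc : Nat.card W = Nat.card U * Nat.card (sigmaCore N) :=
    Coprime.card_sup_of_le_normalizer (hUN.trans (le_normalizer_sigmaCore N)) hUc
  have hNc : Nat.card N = Nat.card U * (Nat.card K * Nat.card (sigmaCore N)) := by
    rw [← card_eq_of_isComplIn hd.compl,
      Coprime.card_sup_of_le_normalizer (hd.hall.1.trans (le_normalizer_sigmaCore N)) hKc]
  have hidx : W.relIndex N = Nat.card K := by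
    have h1 := Subgroup.relIndex_mul_relIndex ⊥ W N bot_le hWN
    rw [Subgroup.relIndex_bot_left, Subgroup.relIndex_bot_left, hNc, hWc] at h1
    refine Nat.eq_of_mul_eq_mul_left (n := Nat.card U * Nat.card (sigmaCore N))
      (Nat.mul_pos Nat.card_pos Nat.card_pos) ?_
    rw [h1]
    ring
  refine Subgroup.mem_subgroupOf.1 (mem_of_coprime_index (x := (⟨x, hx⟩ : N)) (N := W.subgroupOf N) ?_)
  refine Nat.coprime_of_dvd fun l hl h1 h2 => ?_
  rw [← Subgroup.orderOf_coe] at h1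
  exact hk l hl h1 (hd.hall.2.1 l hl (h2.trans (dvd_of_eq hidx)))

/-- BG 14.4, the statement about decompositions of the supporting subgroup. -/
theorem Supporting.decomposition {M N : Subgroup G} {x : G} (h : Supporting M x N) (hx1 : x ≠ 1)
    {K U : Subgroup G} (hd : IsSigmaDecomposition N K U) :
    U ≠ ⊥ ∧ x ∈ sigmaA N U ∧ x ∉ sigmaCore N := by
  obtain ⟨q, hq, hqd⟩ := Nat.exists_prime_and_dvd (fun e => hx1 (orderOf_eq_one_iff.1 e))
  have hxN : x ∈ N := h.centralizer_le (Subgroup.mem_centralizer_singleton_iff.2 rfl)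
  have hxs : x ∉ sigmaCore N := fun hmem =>
    (h.tau2 q hq hqd).2.1 (isPiGrp_piCoreOf (sigma N) N q hq (hqd.trans (Subgroup.orderOf_dvd_natCard _ hmem)))
  have hxU : x ∈ U ⊔ sigmaCore N := mem_sup_of_decomposition hd hxN fun p hp hpd => fun hk => by
    haveI := Fact.mk hp
    exact not_mem_tau2_of_kappa hk (h.tau2 p hp hpd)
  refine ⟨fun e => hxs ?_, ⟨?_, hxU⟩, hxs⟩
  · rwa [e, bot_sup_eq] at hxU
  · obtain ⟨z, hz, hz1⟩ := (Subgroup.bot_or_exists_ne_one _).resolve_left h.fixed_ne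
    exact ⟨hxN, z, hz.1, hz1, (Subgroup.mem_centralizer_singleton_iff.1 hz.2).symm⟩

/-- The conclusion of the frozen statement S1375. -/
theorem supporting_structure (hG : IsMinSimpleOddOrder G) (hpart : SigmaPartition G) (hloc : SigmaTransfer G)
    {M : Subgroup G} (hM : IsCoatom M) {x : G} (hx : x ∈ sigmaCore M) (hx1 : x ≠ 1)
    (hxM : ¬ centralizer ({x} : Set G) ≤ M) :
    ∃ N : Subgroup G, (IsCoatom N ∧ centralizer ({x} : Set G) ≤ N) ∧
      (∀ L : Subgroup G, IsCoatom L → centralizer ({x} : Set G) ≤ L → L = N) ∧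
      sigmaCore N = fittingHallOf N ∧
      centralizer ({x} : Set G) ≤ normalizer ((sigmaCore N ⊓ centralizer ({x} : Set G) : Subgroup G) : Set G) ∧
      IsComplIn (M ⊓ centralizer ({x} : Set G)) (sigmaCore N ⊓ centralizer ({x} : Set G))
        (centralizer ({x} : Set G)) ∧
      IsComplIn (M ⊓ N) (sigmaCore N) N ∧
      ∀ K' U' : Subgroup G, IsSigmaDecomposition N K' U' →
        U' ≠ ⊥ ∧ x ∈ sigmaA N U' ∧ x ∉ sigmaCore N := by
  obtain ⟨N, h⟩ := exists_supporting hG hpart hloc hM hx hx1 hxM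
  exact ⟨N, ⟨h.coatom, h.centralizer_le⟩, h.unique, sigmaCore_eq_fittingHallOf hG h.coatom h.nilpotent,
    Coprime.le_normalizer_inf_of_le (h.centralizer_le.trans (le_normalizer_sigmaCore N)) Subgroup.le_normalizer,
    h.complCent, h.compl, fun K U hd => h.decomposition hx1 hd⟩

/-- The conclusion of the frozen statement S1374. -/
theorem supporting_transitive (hG : IsMinSimpleOddOrder G) (hpart : SigmaPartition G) (hloc : SigmaTransfer G)
    {M : Subgroup G} (hM : IsCoatom M) {x : G} (hx : x ∈ sigmaCore M) (hx1 : x ≠ 1) :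
    (Nat.card ↥(M ⊓ centralizer ({x} : Set G))).Coprime
        ((M ⊓ centralizer ({x} : Set G)).relIndex (centralizer ({x} : Set G))) ∧
      ∃ R : Subgroup G, centralizer ({x} : Set G) ≤ normalizer (R : Set G) ∧
        IsComplIn (M ⊓ centralizer ({x} : Set G)) R (centralizer ({x} : Set G)) ∧
        ∀ g : G, x ∈ M.map (MulAut.conj g).toMonoidHom →
          ∃! r : G, r ∈ R ∧ M.map (MulAut.conj r).toMonoidHom = M.map (MulAut.conj g).toMonoidHom := by
  set C := centralizer ({x} : Set G) with hC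
  have hxM' : x ∈ M := sigmaCore_le M hx
  have hxC : x ∈ C := Subgroup.mem_centralizer_singleton_iff.2 rfl
  -- conjugates of `M` through `x` come from `C`
  have htrans : ∀ g : G, x ∈ MulAut.conj g • M → ∃ c ∈ C, MulAut.conj c • M = MulAut.conj g • M := by
    intro g hg
    rw [Coprime.mem_conj_smul_iff] at hg
    obtain ⟨q, hq, hqd⟩ := Nat.exists_prime_and_dvd (fun e => hx1 (orderOf_eq_one_iff.1 e))
    haveI := Fact.mk hq
    have hqs : q ∈ sigma M := isPiGrp_piCoreOf (sigma M) M q hq (hqd.trans (Subgroup.orderOf_dvd_natCard _ hx))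
    obtain ⟨X, hXx, hX⟩ := exists_card_le_zpowers hqd
    have hX1 : X ≠ ⊥ := fun e => hq.ne_one (by rw [← hX, e, Subgroup.card_bot])
    obtain ⟨z, hz, hz1⟩ := (Subgroup.bot_or_exists_ne_one _).resolve_left hX1
    have hXz : X = zpowers z := (Subgroup.eq_of_le_of_card_ge (Subgroup.zpowers_le.2 hz) (by
      rw [Nat.card_zpowers, hX, orderOf_eq_prime (p := q) ?_ hz1]
      exact orderOf_dvd_iff_pow_eq_one.1 (hX ▸ Subgroup.orderOf_dvd_natCard X hz))).symm
    obtain ⟨m, hm, c, hc, hgc⟩ := (S1404.result hG M hM q hqs X (IsPGroup.of_card (n := 1) (by rw [hX, pow_one]))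
      hX1 (hXx.trans (Subgroup.zpowers_le.2 hxM'))).1 g⁻¹ (by
        rw [Subgroup.map_le_iff_le_comap]
        intro a ha
        obtain ⟨i, rfl⟩ := hXx ha
        show g⁻¹ * x ^ i * g⁻¹⁻¹ ∈ M
        rw [← conj_zpow, inv_inv]
        exact M.zpow_mem hg i)
    have hcz : c⁻¹ ∈ centralizer ({z} : Set G) := by
      have := (centralizer (X : Set G)).inv_mem hc
      rwa [hXz, Subgroup.zpowers_eq_closure, Subgroup.centralizer_closure] at this
    have hgM : MulAut.conj g • M = MulAut.conj c⁻¹ • M := by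
      rw [show g = c⁻¹ * m⁻¹ by rw [← mul_inv_rev, ← hgc, inv_inv], map_mul, mul_smul,
        Coprime.conj_smul_eq_self_of_mem (Subgroup.le_normalizer (M.inv_mem hm))]
    by_cases hzM : centralizer ({z} : Set G) ≤ M
    · exact ⟨1, C.one_mem, by rw [hgM, Coprime.conj_smul_eq_self_of_mem (Subgroup.le_normalizer (hzM hcz)),
        map_one, one_smul]⟩
    obtain ⟨L, hL⟩ := exists_supporting hG hpart hloc hM
      (show z ∈ sigmaCore M from (hXx.trans (Subgroup.zpowers_le.2 hx)) hz) hz1 hzM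
    obtain ⟨e, he, k, hk, hek⟩ := hL.compl.2.2.2 c⁻¹ (hL.centralizer_le hcz)
    have hek' : MulAut.conj c⁻¹ • M = MulAut.conj (e * k) • M := by rw [hek]
    -- move the factor of `M` to the right
    have hke : c⁻¹ = (e * k * e⁻¹) * e := by rw [hek]; group
    set r := e * k * e⁻¹ with hr
    have hrs : r ∈ sigmaCore L := (Subgroup.mem_normalizer_iff.1 (le_normalizer_sigmaCore L he.2) k).1 hk
    have hcM : MulAut.conj c⁻¹ • M = MulAut.conj r • M := by
      rw [hke, map_mul, mul_smul, Coprime.conj_smul_eq_self_of_mem (Subgroup.le_normalizer he.1)]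
    have hxr : r⁻¹ * x * r ∈ M := by
      rw [← Coprime.mem_conj_smul_iff, ← hcM, ← hgM, Coprime.mem_conj_smul_iff]
      exact hg
    have hxL : x ∈ L := hL.centralizer_le (by
      refine Subgroup.mem_centralizer_singleton_iff.2 ?_
      obtain ⟨i, rfl⟩ := hXx hz
      exact (Commute.self_zpow x i).eq)
    have h1 : r⁻¹ * x * r * x⁻¹ ∈ sigmaCore L ⊓ M := by
      refine ⟨?_, M.mul_mem hxr (M.inv_mem hxM')⟩
      have := (sigmaCore L).mul_mem ((sigmaCore L).inv_mem hrs)
        ((Subgroup.mem_normalizer_iff.1 (le_normalizer_sigmaCore L hxL) r).1 hrs)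
      simpa [mul_assoc] using this
    rw [hL.inf_eq_bot, Subgroup.mem_bot, mul_inv_eq_one, mul_assoc, inv_mul_eq_iff_eq_mul] at h1
    exact ⟨r, Subgroup.mem_centralizer_singleton_iff.2 h1.symm, by rw [← hcM, ← hgM]⟩
  have hself : normalizer (M : Set G) = M := by
    refine normalizer_eq_of_normal hG hM le_rfl Subgroup.le_normalizer fun e => hx1 ?_
    rw [e] at hxM'
    exact Subgroup.mem_bot.1 hxM'
  -- the two cases give `R`
  suffices h : ∃ R : Subgroup G, C ≤ normalizer (R : Set G) ∧ IsComplIn (M ⊓ C) R C ∧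
      (Nat.card ↥(M ⊓ C)).Coprime (Nat.card R) ∧ R ⊓ M = ⊥ by
    obtain ⟨R, hRn, hRc, hcop, hRM⟩ := h
    have hidx : (M ⊓ C).relIndex C = Nat.card R := by
      have h1 := Subgroup.relIndex_mul_relIndex ⊥ (M ⊓ C) C bot_le inf_le_right
      rw [Subgroup.relIndex_bot_left, Subgroup.relIndex_bot_left, ← card_eq_of_isComplIn hRc] at h1
      exact Nat.eq_of_mul_eq_mul_left Nat.card_pos h1
    refine ⟨hidx ▸ hcop, R, hRn, hRc, fun g hg => ?_⟩
    obtain ⟨c, hc, hcg⟩ := htrans g hg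
    obtain ⟨a, ha, b, hb, rfl⟩ := hRc.2.2.2 c hc
    refine ⟨a * b * a⁻¹, ⟨(Subgroup.mem_normalizer_iff.1 (hRn ha.2) b).1 hb, ?_⟩, fun r hr => ?_⟩
    · show MulAut.conj (a * b * a⁻¹) • M = MulAut.conj g • M
      rw [map_mul MulAut.conj (a * b), mul_smul,
        Coprime.conj_smul_eq_self_of_mem (Subgroup.le_normalizer (M.inv_mem ha.1))]
      exact hcg
    · set r' := a * b * a⁻¹ with hr'
      have hr'R : r' ∈ R := (Subgroup.mem_normalizer_iff.1 (hRn ha.2) b).1 hb
      have h1 : MulAut.conj r • M = MulAut.conj r' • M := by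
        refine (show MulAut.conj r • M = MulAut.conj g • M from hr.2).trans ?_
        rw [← hcg, hr', map_mul MulAut.conj (a * b), mul_smul,
          Coprime.conj_smul_eq_self_of_mem (Subgroup.le_normalizer (M.inv_mem ha.1))]
      have h2 : r'⁻¹ * r ∈ R ⊓ M := ⟨R.mul_mem (R.inv_mem hr'R) hr.1, by
        rw [← hself]
        refine Coprime.mem_normalizer_of_conj_smul_eq ?_
        rw [map_mul, mul_smul, h1, ← mul_smul, ← map_mul, inv_mul_cancel, map_one, one_smul]⟩
      rw [hRM, Subgroup.mem_bot, inv_mul_eq_one] at h2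
      exact h2.symm
  by_cases hxM : C ≤ M
  · refine ⟨⊥, fun c _ => ?_, ⟨inf_le_right, bot_le, inf_bot_eq _, fun m hm =>
      ⟨m, ⟨hxM hm, hm⟩, 1, Subgroup.one_mem _, (mul_one m).symm⟩⟩, by simp, bot_inf_eq _⟩
    rw [Subgroup.mem_normalizer_iff]
    simp
  obtain ⟨N, h⟩ := exists_supporting hG hpart hloc hM hx hx1 hxM
  refine ⟨sigmaCore N ⊓ C, Coprime.le_normalizer_inf_of_le (h.centralizer_le.trans (le_normalizer_sigmaCore N))
    Subgroup.le_normalizer, h.complCent, Nat.coprime_of_dvd fun l hl h1 h2 => ?_, ?_⟩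
  · exact not_mem_sigma_of_compl hG h.coatom h.compl hl
      (h1.trans (Subgroup.card_dvd_of_le (le_inf inf_le_left (inf_le_right.trans h.centralizer_le))))
      (isPiGrp_piCoreOf (sigma N) N l hl (h2.trans (Subgroup.card_dvd_of_le inf_le_left)))
  · rw [← le_bot_iff, ← h.inf_eq_bot]
    exact inf_le_inf_right _ inf_le_left

end Cfsg.Agent.OddOrder
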