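import Cfsg.Agent.Lib.OddOrder.PMaximal
import Cfsg.Agent.Lib.OddOrder.SignalizerR
import Cfsg.Agent.Lib.OddOrder.DecompositionFacts
import Cfsg.Agent.S1422
import Cfsg.Agent.S1423
import Cfsg.Agent.S1425
import Cfsg.Agent.S1426
import Cfsg.Agent.S1429
import Cfsg.Agent.Lib.OddOrder.SigmaTools

/-!
# Bender–Glauberman 14.2–14.5, consequences of the structure at the primes of `κ(M)`
-/

set_option autoImplicit false
set_option linter.unusedSectionVars false
set_option linter.style.haveILetI false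

namespace Cfsg.Agent.OddOrder

open Cfsg
open Subgroup (centralizer normalizer zpowers)
open scoped Pointwise commutatorElement

universe u
variable {G : Type u} [Group G] [Finite G] {M : Subgroup G}

/-- The conclusion of the frozen statement S1353. -/
theorem decomposition_fpf (hG : IsMinSimpleOddOrder G) (h13 : BG13 G) (hM : IsCoatom M) {K U : Subgroup G}
    (hd : IsSigmaDecomposition M K U) :
    ∀ k ∈ K, k ≠ 1 → U ⊓ centralizer ({k} : Set G) = ⊥ := by
  intro k hk hk1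
  have hK1 : K ≠ ⊥ := fun e => hk1 (Subgroup.mem_bot.1 (e ▸ hk))
  have d : PData M K (K ⊔ U) :=
    ⟨hG, h13, hM, hd.hall, hK1, isComplIn_sup_decomposition hG hM hd, le_sup_left⟩
  by_contra hne
  obtain ⟨p, hp, hpd⟩ := Nat.exists_prime_and_dvd (fun e => hk1 (orderOf_eq_one_iff.1 e))
  haveI := Fact.mk hp
  obtain ⟨Z, hZk, hZ⟩ := exists_card_le_zpowers hpd
  obtain ⟨z, hzZ, hz1⟩ := (Subgroup.bot_or_exists_ne_one _).resolve_left
    (fun e => hp.ne_one (by rw [← hZ, e, Subgroup.card_bot]) : Z ≠ ⊥)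
  obtain ⟨r, hr, hrd⟩ := Nat.exists_prime_and_dvd (n := Nat.card ↥(U ⊓ centralizer ({k} : Set G)))
    (fun e => hne (Subgroup.card_eq_one.1 e))
  haveI := Fact.mk hr
  obtain ⟨w, hw⟩ := exists_prime_orderOf_dvd_card' (G := ↥(U ⊓ centralizer ({k} : Set G))) r hrd
  rw [← Subgroup.orderOf_coe] at hw
  refine d.no_fixed (Subgroup.zpowers_le.2 hk (hZk hzZ))
    (orderOf_eq_prime (orderOf_dvd_iff_pow_eq_one.1 (hZ ▸ Subgroup.orderOf_dvd_natCard Z hzZ)) hz1)
    (not_mem_of_dvd_decomposition hG hM hd hr (hrd.trans (Subgroup.card_dvd_of_le inf_le_left))).2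
    (R := zpowers (w : G)) (by rw [Nat.card_zpowers, hw])
    (Subgroup.zpowers_le.2 ⟨Subgroup.mem_sup_right w.2.1, ?_⟩)
  obtain ⟨i, rfl⟩ := hZk hzZ
  exact Subgroup.mem_centralizer_singleton_iff.2
    (Commute.zpow_right (Subgroup.mem_centralizer_singleton_iff.1 w.2.2) i)

/-- The conclusion of the frozen statement S1354. -/
theorem kappa_centralizer (hG : IsMinSimpleOddOrder G) (h13 : BG13 G) (hM : IsCoatom M) {K : Subgroup G}
    (hK : IsPiHallOf (kappa M) K M) :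
    sigmaCore M ⊓ centralizer (K : Set G) ≠ ⊥ ∧
      (K ≠ ⊥ → ∀ k ∈ K, k ≠ 1 →
        M ⊓ centralizer ({k} : Set G) = K ⊔ (sigmaCore M ⊓ centralizer (K : Set G))) := by
  refine ⟨?_, fun hK1 k hk hk1 => ?_⟩
  · rcases eq_or_ne K ⊥ with rfl | hK1
    · rw [inf_eq_left.2 fun y _ => Subgroup.mem_centralizer_iff.2 fun a ha => by simp [Subgroup.mem_bot.1 ha]]
      exact sigmaCore_ne_bot hG hM
    · obtain ⟨E, d⟩ := exists_pData hG h13 hM hK hK1
      obtain ⟨p, hp, hpd⟩ := Nat.exists_prime_and_dvd (fun e => hK1 (Subgroup.card_eq_one.1 e))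
      haveI := Fact.mk hp
      obtain ⟨z, hz⟩ := exists_prime_orderOf_dvd_card' (G := K) p hpd
      rw [← Subgroup.orderOf_coe] at hz
      have hc : Nat.card (zpowers (z : G)) = p := by rw [Nat.card_zpowers, hz]
      rw [← d.inf_centralizer_eq (Subgroup.zpowers_le.2 z.2) hc]
      exact d.fixed (Subgroup.zpowers_le.2 z.2) hc
  · obtain ⟨E, d⟩ := exists_pData hG h13 hM hK hK1
    obtain ⟨p, hp, hpd⟩ := Nat.exists_prime_and_dvd (fun e => hk1 (orderOf_eq_one_iff.1 e))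
    haveI := Fact.mk hp
    obtain ⟨Z, hZk, hZ⟩ := exists_card_le_zpowers hpd
    have hZK : Z ≤ K := hZk.trans (Subgroup.zpowers_le.2 hk)
    refine le_antisymm ?_ (sup_le (le_inf hK.1 ?_) (le_inf (inf_le_left.trans (sigmaCore_le M))
      (inf_le_right.trans (Subgroup.centralizer_le (Set.singleton_subset_iff.2 hk)))))
    · rw [← d.inf_normalizer hZK hZ]
      refine inf_le_inf_left M (le_trans ?_ (Subgroup.centralizer_le_normalizer _))
      rw [← Subgroup.centralizer_closure, ← Subgroup.zpowers_eq_closure]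
      exact Subgroup.centralizer_le hZk
    · exact fun a ha => Subgroup.centralizer_le (Set.singleton_subset_iff.2 hk)
        (mem_centralizer_of_isCyclic d.cyclic ha)

/-- The conclusion of the frozen statement S1432 (BG 14.3). -/
theorem sigma'_centralizer (hG : IsMinSimpleOddOrder G) (h13 : BG13 G) (hM : IsCoatom M) {x : G}
    (hx : x ∈ sigmaCore M) (hx1 : x ≠ 1) {x' : G} (hx' : x' ∈ M ⊓ centralizer ({x} : Set G)) (hx'1 : x' ≠ 1)
    (hσ : ∀ p : ℕ, p.Prime → p ∣ orderOf x' → p ∉ sigma M) :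
    ((∀ p : ℕ, p.Prime → p ∣ orderOf x' → p ∈ kappa M) ∧ centralizer ({x} : Set G) ≤ M) ∨
      ((∀ p : ℕ, p.Prime → p ∣ orderOf x' → p ∈ tau2 M) ∧
        (∃ L : Subgroup G, IsCoatom L ∧ ∀ p : ℕ, p.Prime → p ∣ orderOf x' → p ∈ sigma L) ∧
        (centralizer ({x'} : Set G) ≤ M ∧
          ∀ L : Subgroup G, IsCoatom L → centralizer ({x'} : Set G) ≤ L → L = M)) := by
  have hcomm : Commute x' x := Subgroup.mem_centralizer_singleton_iff.1 hx'.2
  have hzp : ∀ X : Subgroup G, X ≤ zpowers x' → x ∈ sigmaCore M ⊓ centralizer (X : Set G) := fun X hX =>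
    ⟨hx, Subgroup.mem_centralizer_iff.2 fun a ha => by
      obtain ⟨i, rfl⟩ := hX ha
      exact (hcomm.zpow_left i).eq⟩
  have hclass : ∀ p : ℕ, p.Prime → p ∣ orderOf x' → p ∈ kappa M ∨ p ∈ tau2 M := by
    intro p hp hpd
    haveI := Fact.mk hp
    obtain ⟨X, hX, hXc⟩ := exists_card_le_zpowers hpd
    have hXM : X ≤ M := hX.trans (Subgroup.zpowers_le.2 hx'.1)
    have hne : sigmaCore M ⊓ centralizer (X : Set G) ≠ ⊥ :=
      fun e => hx1 (Subgroup.mem_bot.1 (e ▸ hzp X hX))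
    rcases mem_tau hG hM (hXc ▸ Subgroup.card_dvd_of_le hXM) (hσ p hp hpd) with h | h | h
    · exact Or.inl (mem_kappa_of_fixed hG h.2.2.2.2 h.2.1 hXM hXc hne)
    · exact Or.inr h
    · exact absurd (h13.tau3_regular M hM p h X hXM hXc) hne
  have hxc : Nat.card (zpowers x') = orderOf x' := Nat.card_zpowers x'
  obtain ⟨E, hE, hxE⟩ := exists_compl hG hM (Subgroup.zpowers_le.2 hx'.1) (by
    rw [hxc]
    exact Nat.coprime_of_dvd fun l hl h1 h2 => hσ l hl h1 (isPiGrp_piCoreOf (sigma M) M l hl h2))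
  have hx'E : x' ∈ E := hxE (Subgroup.mem_zpowers x')
  by_cases hκ : ∃ p : ℕ, p.Prime ∧ p ∣ orderOf x' ∧ p ∈ kappa M
  · obtain ⟨p, hp, hpd, hpk⟩ := hκ
    haveI := Fact.mk hp
    obtain ⟨Z, hZ, hZc⟩ := exists_card_le_zpowers hpd
    have hZE : Z ≤ E := hZ.trans hxE
    obtain ⟨K, hZK, hKE⟩ := exists_piHallOf_ge (kappa M)
      (Coprime.isSolvable_of_le hE.1 (isSolvable_of_coatom hG hM)) hZE fun l hl hd => by
        rw [(Nat.prime_dvd_prime_iff_eq hl hp).1 (hZc ▸ hd)]; exact hpk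
    have hK : IsPiHallOf (kappa M) K M := by
      refine ⟨hKE.1.trans hE.1, hKE.2.1, fun l hl hlk hd => ?_⟩
      rw [← Subgroup.relIndex_mul_relIndex K E M hKE.1 hE.1] at hd
      rcases hl.dvd_mul.1 hd with h | h
      · exact hKE.2.2 l hl hlk h
      · have h1 := Subgroup.relIndex_mul_relIndex ⊥ E M bot_le hE.1
        rw [Subgroup.relIndex_bot_left, Subgroup.relIndex_bot_left, ← card_eq_of_isComplIn hE] at h1
        rw [Nat.eq_of_mul_eq_mul_left Nat.card_pos h1] at h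
        exact hlk.2.2.1 (isPiGrp_piCoreOf (sigma M) M l hl h)
    have hZ1 : Z ≠ ⊥ := fun e => hp.ne_one (by rw [← hZc, e, Subgroup.card_bot])
    have d : PData M K E := ⟨hG, h13, hM, hK, fun e => hZ1 (le_bot_iff.1 (e ▸ hZK)), hE, hKE.1⟩
    refine Or.inl ⟨fun r hr hrd => (hclass r hr hrd).elim id fun ht => ?_, ?_⟩
    · exfalso
      haveI := Fact.mk hr
      obtain ⟨R, hR, hRc⟩ := exists_card_le_zpowers hrd
      obtain ⟨z, hz, hz1⟩ := (Subgroup.bot_or_exists_ne_one _).resolve_left hZ1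
      refine d.no_fixed (hZK hz)
        (orderOf_eq_prime (orderOf_dvd_iff_pow_eq_one.1 (hZc ▸ Subgroup.orderOf_dvd_natCard Z hz)) hz1)
        (fun hk => not_mem_tau2_of_kappa hk ht) hRc (le_inf (hR.trans hxE) fun w hw => ?_)
      obtain ⟨i, rfl⟩ := hR hw
      obtain ⟨j, rfl⟩ := hZ hz
      exact Subgroup.mem_centralizer_singleton_iff.2 (Commute.zpow_zpow_self x' i j)
    · obtain ⟨s, hs, hsd⟩ := Nat.exists_prime_and_dvd (fun e => hx1 (orderOf_eq_one_iff.1 e))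
      haveI := Fact.mk hs
      obtain ⟨Y, hYx, hYc⟩ := exists_card_le_zpowers hsd
      refine le_trans ?_ (h13.tau1_unique M hM p (kappa_subset_tau1 hG h13 hM hpk) Z
        (hZE.trans hE.1) hZc Y (hYx.trans (Subgroup.zpowers_le.2 (hzp Z hZ))) (hYc.symm ▸ hs)).1
      rw [← Subgroup.centralizer_closure, ← Subgroup.zpowers_eq_closure]
      exact Subgroup.centralizer_le hYx
  · push Not at hκ
    have ht : ∀ p : ℕ, p.Prime → p ∣ orderOf x' → p ∈ tau2 M := fun p hp hd =>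
      (hclass p hp hd).resolve_left (hκ p hp hd)
    refine Or.inr ⟨ht, ?_, (S1420.result hG M hM E hE).2.2.2 x' hx'.1 hx'1 ht
      ⟨hx'.1, x, hx, hx1, hcomm.eq⟩⟩
    obtain ⟨p, hp, hpd⟩ := Nat.exists_prime_and_dvd (fun e => hx'1 (orderOf_eq_one_iff.1 e))
    haveI := Fact.mk hp
    obtain ⟨A, hAE, hA, hAc⟩ := exists_square_le_compl hE (hσ p hp hpd) (ht p hp hpd).2.2.2
    obtain ⟨A₀, h⟩ := exists_exc hG hM (hσ p hp hpd) (hAE.trans hE.1) hA hAc
    have hAp := PGroup.isPGroup_of_elementaryAbelian hA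
    obtain ⟨L, hL, hNL⟩ := exists_coatom_ge (normalizer_ne_top_of_pgroup hG hAp (square_ne_bot hA hAc))
    have hne : L ≠ M := fun e => h.not_normalizer_le (e ▸ hNL)
    have hpL : p ∈ sigma L := by
      by_contra hr
      obtain ⟨A₁, h'⟩ := exists_exc hG hL hr (Subgroup.le_normalizer.trans hNL) hA hAc
      exact h'.not_normalizer_le hNL
    refine ⟨L, hL, fun q hq hqd => ?_⟩
    haveI := Fact.mk hq
    by_contra hqL
    obtain ⟨B, hBE, hB, hBc⟩ := exists_square_le_compl hE (hσ q hq hqd) (ht q hq hqd).2.2.2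
    obtain ⟨B₁, h'⟩ := exists_exc hG hL hqL ((hBE.trans (h.complement_le_normalizer hE hAE)).trans hNL) hB hBc
    obtain ⟨T, hT⟩ := exists_sylow_map_ge hAp (Subgroup.le_normalizer.trans hNL)
    refine square_ne_bot hA hAc (le_bot_iff.1 ?_)
    rw [← h'.sigmaCore_inf_eq_bot hM hne.symm (hBE.trans hE.1)]
    exact le_inf (hT.trans (sylow_le_sigmaCore hG hL hpL T)) (hAE.trans hE.1)

/-- `M_σ` is nilpotent when some prime of `|M|` lies outside `σ(M) ∪ κ(M)`. -/
theorem isNilpotent_sigmaCore_of_prime (hG : IsMinSimpleOddOrder G) (hM : IsCoatom M) {r : ℕ}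
    [Fact r.Prime] (hd : r ∣ Nat.card M) (hs : r ∉ sigma M) (hk : r ∉ kappa M) :
    Group.IsNilpotent (sigmaCore M) := by
  obtain ⟨S⟩ : Nonempty (Sylow r M) := inferInstance
  exact (S1429.result hG M hM (fun h => hk (h r Fact.out hd hs)) r hd
    (fun h => h.elim hs hk) S).2.2

namespace PData

variable {K E : Subgroup G} (d : PData M K E)
include d

theorem unique_centralizer {s : ℕ} [Fact s.Prime] {Y : Subgroup G}
    (hY : Y ≤ Cfsg.sigmaCore M ⊓ centralizer (K : Set G)) (hYc : Nat.card Y = s) :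
    centralizer (Y : Set G) ≤ M ∧ ∀ L : Subgroup G, IsCoatom L → centralizer (Y : Set G) ≤ L → L = M := by
  obtain ⟨p, hp, hpd⟩ := Nat.exists_prime_and_dvd (fun e => d.ne_bot (Subgroup.card_eq_one.1 e))
  haveI := Fact.mk hp
  obtain ⟨z, hz⟩ := exists_prime_orderOf_dvd_card' (G := K) p hpd
  rw [← Subgroup.orderOf_coe] at hz
  exact d.h13.tau1_unique M d.coatom p (d.kappa_eq ▸ d.hall.2.1 p hp hpd) (zpowers (z : G))
    (Subgroup.zpowers_le.2 (d.hall.1 z.2)) (by rw [Nat.card_zpowers, hz]) Y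
    (hY.trans (inf_le_inf_left _ (Subgroup.centralizer_le (Subgroup.zpowers_le.2 z.2)))) (hYc.symm ▸ Fact.out)

/-- `K*` is a TI subgroup with respect to `M`. -/
theorem inf_conj_eq_bot {g : G} (hg : g ∉ M) :
    (Cfsg.sigmaCore M ⊓ centralizer (K : Set G)) ⊓ M.map (MulAut.conj g).toMonoidHom = ⊥ := by
  by_contra hne
  obtain ⟨s, hs, hsd⟩ := Nat.exists_prime_and_dvd (fun e => hne (Subgroup.card_eq_one.1 e))
  haveI := Fact.mk hs
  obtain ⟨y, hy⟩ := exists_prime_orderOf_dvd_card' s hsd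
  rw [← Subgroup.orderOf_coe] at hy
  have hY : Nat.card (zpowers (y : G)) = s := by rw [Nat.card_zpowers, hy]
  have hsM : s ∈ Cfsg.sigma M := isPiGrp_piCoreOf (Cfsg.sigma M) M s hs
    (hy ▸ Subgroup.orderOf_dvd_natCard _ y.2.1.1)
  obtain ⟨m, hm, c, hc, he⟩ := (S1404.result d.minSimple M d.coatom s hsM (zpowers (y : G))
    (IsPGroup.of_card (n := 1) (by rw [hY, pow_one])) (fun e => hs.ne_one (by rw [← hY, e, Subgroup.card_bot]))
    (Subgroup.zpowers_le.2 (sigmaCore_le M y.2.1.1))).1 g⁻¹ (by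
      rw [Subgroup.map_le_iff_le_comap, Subgroup.zpowers_le]
      obtain ⟨w, hw, hwy⟩ := y.2.2
      show g⁻¹ * (y : G) * g⁻¹⁻¹ ∈ M
      rw [← hwy, show g⁻¹ * (MulAut.conj g).toMonoidHom w * g⁻¹⁻¹ = w by simp [mul_assoc]]
      exact hw)
  exact hg ((inv_mem_iff (H := M)).1 (he ▸ M.mul_mem hm
    ((d.unique_centralizer (Subgroup.zpowers_le.2 y.2.1) hY).1 hc)))

/-- `K` is a TI subgroup of `M` modulo `K K*`. -/
theorem inf_conj_self_eq_bot {g : G} (hg : g ∈ M)
    (hgK : g ∉ K ⊔ (Cfsg.sigmaCore M ⊓ centralizer (K : Set G))) :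
    K ⊓ K.map (MulAut.conj g).toMonoidHom = ⊥ := by
  by_contra hne
  obtain ⟨p, hp, hpd⟩ := Nat.exists_prime_and_dvd (fun e => hne (Subgroup.card_eq_one.1 e))
  haveI := Fact.mk hp
  obtain ⟨y, hy⟩ := exists_prime_orderOf_dvd_card' p hpd
  rw [← Subgroup.orderOf_coe] at hy
  have hY : Nat.card (zpowers (y : G)) = p := by rw [Nat.card_zpowers, hy]
  refine hgK ((d.inf_normalizer (Subgroup.zpowers_le.2 y.2.1) hY).le ⟨hg, ?_⟩)
  obtain ⟨w, hw, hwy⟩ := y.2.2
  have hwy' : g * w * g⁻¹ = (y : G) := hwy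
  have hyp : (y : G) ^ p = 1 := orderOf_dvd_iff_pow_eq_one.1 (dvd_of_eq hy)
  have hy1 : (y : G) ≠ 1 := fun e => hp.ne_one (hy.symm.trans (by rw [e, orderOf_one]))
  have hwp : w ^ p = 1 := by
    rwa [← hwy', conj_pow, mul_inv_eq_one, mul_eq_left] at hyp
  have hw1 : w ≠ 1 := fun e => hy1 (by rw [← hwy', e, mul_one, mul_inv_cancel])
  have hwe := zpowers_eq_of_isCyclic d.cyclic hw y.2.1 hwp hyp hw1 hy1
  refine Coprime.mem_normalizer_of_conj_smul_eq ?_
  rw [Subgroup.eq_of_le_of_card_ge (K := zpowers (y : G)) ?_ (le_of_eq (Coprime.card_conj_smul _ _).symm)]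
  intro v hv
  rw [Coprime.mem_conj_smul_iff, hwe, Subgroup.mem_zpowers_iff] at hv
  obtain ⟨i, hi⟩ := hv
  rw [Subgroup.mem_zpowers_iff]
  exact ⟨i, by rw [← hwy', conj_zpow, hi]; group⟩

/-- A `σ(M)`-subgroup meeting `K*` lies in `M_σ`. -/
theorem le_sigmaCore_of_meets {Y : Subgroup G}
    (hY : ∀ p : ℕ, p.Prime → p ∣ Nat.card Y → p ∈ Cfsg.sigma M)
    (hne : Y ⊓ (Cfsg.sigmaCore M ⊓ centralizer (K : Set G)) ≠ ⊥) : Y ≤ Cfsg.sigmaCore M := by
  have hY1 : Y ≠ ⊥ := fun e => hne (by rw [e, bot_inf_eq])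
  obtain ⟨g, hg⟩ := S1425.result d.minSimple M d.coatom Y hY1 hY
  by_cases hgM : g ∈ M
  · intro y hy
    have h2 := (Subgroup.mem_normalizer_iff.1 (le_normalizer_sigmaCore M (M.inv_mem hgM)) _).1
      (hg (Subgroup.mem_map_of_mem _ hy))
    simpa [mul_assoc] using h2
  · refine absurd (le_bot_iff.1 ?_) hne
    rw [← d.inf_conj_eq_bot (g := g⁻¹) (fun h => hgM ((inv_mem_iff (H := M)).1 h))]
    refine le_inf inf_le_right (inf_le_left.trans fun y hy => ?_)
    exact ⟨_, sigmaCore_le M (hg (Subgroup.mem_map_of_mem _ hy)), by simp [mul_assoc]⟩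

/-- The Sylow subgroups of `M_σ` at the primes of `K*` are uniqueness subgroups. -/
theorem sylow_unique {p : ℕ} [Fact p.Prime] (hp : p ∣ Nat.card ↥(Cfsg.sigmaCore M ⊓ centralizer (K : Set G)))
    (S : Sylow p ↥(Cfsg.sigmaCore M)) :
    InUniqueMaximal ((S : Subgroup ↥(Cfsg.sigmaCore M)).map (Cfsg.sigmaCore M).subtype) := by
  have hG := d.minSimple
  have hM := d.coatom
  obtain ⟨y, hy⟩ := exists_prime_orderOf_dvd_card' p hp
  rw [← Subgroup.orderOf_coe] at hy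
  set Y := zpowers (y : G) with hYdef
  have hY : Nat.card Y = p := by rw [hYdef, Nat.card_zpowers, hy]
  have hps : p ∈ Cfsg.sigma M := isPiGrp_piCoreOf (Cfsg.sigma M) M p Fact.out
    (hy ▸ Subgroup.orderOf_dvd_natCard _ y.2.1)
  have hYM : Y ≤ M := Subgroup.zpowers_le.2 (sigmaCore_le M y.2.1)
  set S' := (S : Subgroup ↥(Cfsg.sigmaCore M)).map (Cfsg.sigmaCore M).subtype with hS'
  have hSp : IsPGroup p S' := S.2.map _
  have hSM : S' ≤ M := (Subgroup.map_subtype_le _).trans (sigmaCore_le M)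
  by_cases hr : PRankLE p 2 S'
  swap
  · exact inUniqueMaximal_of_rank hG (ne_top_of_isPGroup hG hSp) hr
  suffices hYC : (y : G) ∈ centralizer (E : Set G) by
    refine (S1423.result hG M hM p hps Y hYM hY S (Or.inr ?_)).2.1
    exact le_trans (le_inf (Subgroup.zpowers_le.2 y.2.1) (Subgroup.zpowers_le.2 hYC))
      (S1426.result hG M hM E d.compl).1
  obtain ⟨U, -, hUhall, hKn, hUc, hfix⟩ := d.exists_U
  have hyK := Subgroup.mem_centralizer_iff.1 y.2.2
  suffices hyU : ∀ u ∈ U, u * (y : G) = y * u by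
    refine Subgroup.mem_centralizer_iff.2 fun e he => ?_
    obtain ⟨u, hu, k, hk, rfl⟩ := hUc.2.2.2 e he
    rw [mul_assoc, hyK k hk, ← mul_assoc, hyU u hu, mul_assoc]
  rcases eq_or_ne U ⊥ with hU1 | hU1
  · intro u hu
    rw [Subgroup.mem_bot.1 (hU1 ▸ hu : u ∈ (⊥ : Subgroup G)), one_mul, mul_one]
  -- `M_σ` is nilpotent, so its Sylow subgroup is normal in `M`
  obtain ⟨r, hrp, hrd⟩ := Nat.exists_prime_and_dvd (fun e => hU1 (Subgroup.card_eq_one.1 e))
  haveI := Fact.mk hrp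
  haveI := isNilpotent_sigmaCore_of_prime hG hM (hrd.trans (Subgroup.card_dvd_of_le hUhall.1))
    (hUhall.2.1 r hrp hrd).2.2 (hUhall.2.1 r hrp hrd).2.1
  have hsub : ∀ P : Subgroup G, IsPGroup p P → P ≤ Cfsg.sigmaCore M → P ≤ S' := by
    intro P hP hPσ
    obtain ⟨T, hT⟩ := exists_sylow_map_ge hP hPσ
    haveI : (S : Subgroup ↥(Cfsg.sigmaCore M)).Normal := inferInstance
    obtain ⟨c, hc⟩ := MulAction.exists_smul_eq ↥(Cfsg.sigmaCore M) S T
    rw [← hc, Sylow.smul_eq_of_normal] at hT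
    exact hT
  have hn : M ≤ normalizer (S' : Set G) := fun g hg =>
    Coprime.mem_normalizer_of_conj_smul_eq (Subgroup.eq_of_le_of_card_ge
      (hsub _ (hSp.map _) ((Subgroup.pointwise_smul_le_pointwise_smul_iff.2 (Subgroup.map_subtype_le _)).trans
        (Coprime.conj_smul_eq_self_of_mem (le_normalizer_sigmaCore M hg)).le))
      (le_of_eq (Coprime.card_conj_smul _ _).symm))
  haveI : (S'.subgroupOf M).Normal := (Subgroup.normal_subgroupOf_iff_le_normalizer hSM).2 hn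
  haveI := isSolvable_of_coatom hG hM
  have hrM : PRankLE p 2 (S'.subgroupOf M) :=
    pRankLE_of_injective (f := (Subgroup.subgroupOfEquivOfLe hSM).toMonoidHom) (MulEquiv.injective _) hr
  have hyS : (y : G) ∈ S' := hsub Y (IsPGroup.of_card (n := 1) (by rw [hY, pow_one]))
    (Subgroup.zpowers_le.2 y.2.1) (Subgroup.mem_zpowers _)
  have hUE : U ≤ ⁅M, M⁆ := by
    haveI : Group.IsSolvable K := Coprime.isSolvable_of_le d.hall.1 inferInstance
    have h1 := Coprime.commutator_sup_centralizer hKn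
      (Nat.coprime_of_dvd fun l hl ha hb => (hUhall.2.1 l hl hb).2.1 (d.hall.2.1 l hl ha)) (Or.inl inferInstance)
    have hCK : U ⊓ centralizer (K : Set G) = ⊥ := by
      obtain ⟨k, hk, hk1⟩ := (Subgroup.bot_or_exists_ne_one _).resolve_left d.ne_bot
      exact le_bot_iff.1 (hfix k hk hk1 ▸ inf_le_inf_left U (Subgroup.centralizer_le (Set.singleton_subset_iff.2 hk)))
    rw [hCK, sup_bot_eq] at h1
    exact h1 ▸ Subgroup.commutator_mono hUhall.1 d.hall.1
  intro u hu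
  have hcop : (orderOf u).Coprime p := by
    refine ((Fact.out : p.Prime).coprime_iff_not_dvd.2 fun h => ?_).symm
    exact (hUhall.2.1 p Fact.out (h.trans (Subgroup.orderOf_dvd_natCard U hu))).2.2 hps
  have h1 := hUE hu
  rw [← Subgroup.map_subtype_commutator] at h1
  obtain ⟨v, hv, rfl⟩ := h1
  have h2 := commutator_mem_centralizer_of_rankTwo (G := M) (odd_subgroup hG.1 M) (S'.subgroupOf M)
    hSp.comap_subtype hrM hv (by rwa [M.coe_subtype, Subgroup.orderOf_coe] at hcop)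
  exact (congrArg Subtype.val (Subgroup.mem_centralizer_iff.1 h2 ⟨y, hSM hyS⟩ hyS)).symm

/-- The conclusion of the frozen statement S1431. -/
theorem kstar_ti :
    (∀ g : G, g ∉ M → (Cfsg.sigmaCore M ⊓ centralizer (K : Set G)) ⊓ M.map (MulAut.conj g).toMonoidHom = ⊥) ∧
      (∀ g ∈ M, g ∉ K ⊔ (Cfsg.sigmaCore M ⊓ centralizer (K : Set G)) →
        K ⊓ K.map (MulAut.conj g).toMonoidHom = ⊥) ∧
      (∀ (p : ℕ), p.Prime → p ∣ Nat.card ↥(Cfsg.sigmaCore M ⊓ centralizer (K : Set G)) →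
        ∀ S : Sylow p ↥(Cfsg.sigmaCore M),
        InUniqueMaximal ((S : Subgroup ↥(Cfsg.sigmaCore M)).map (Cfsg.sigmaCore M).subtype) ∧
        (S : Subgroup ↥(Cfsg.sigmaCore M)).map (Cfsg.sigmaCore M).subtype ≤ M ∧
        ¬ (S : Subgroup ↥(Cfsg.sigmaCore M)).map (Cfsg.sigmaCore M).subtype ≤
          (Cfsg.sigmaCore M ⊓ centralizer (K : Set G))) ∧
      ∀ Y : Subgroup G, (∀ p : ℕ, p.Prime → p ∣ Nat.card Y → p ∈ Cfsg.sigma M) →
        Y ⊓ (Cfsg.sigmaCore M ⊓ centralizer (K : Set G)) ≠ ⊥ → Y ≤ Cfsg.sigmaCore M := by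
  refine ⟨fun g hg => d.inf_conj_eq_bot hg, fun g hg hgK => d.inf_conj_self_eq_bot hg hgK, ?_,
    fun Y hY hne => d.le_sigmaCore_of_meets hY hne⟩
  intro p hp hpd S
  haveI := Fact.mk hp
  have hu := d.sylow_unique hpd S
  have hSM := ((Subgroup.map_subtype_le (S : Subgroup ↥(Cfsg.sigmaCore M))).trans (sigmaCore_le M))
  refine ⟨hu, hSM, fun hle => ?_⟩
  obtain ⟨q, hq, hqd⟩ := Nat.exists_prime_and_dvd (fun e => d.ne_bot (Subgroup.card_eq_one.1 e))
  haveI := Fact.mk hq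
  obtain ⟨z, hz⟩ := exists_prime_orderOf_dvd_card' (G := K) q hqd
  rw [← Subgroup.orderOf_coe] at hz
  have hX : Nat.card (zpowers (z : G)) = q := by rw [Nat.card_zpowers, hz]
  have hXK : zpowers (z : G) ≤ K := Subgroup.zpowers_le.2 z.2
  obtain ⟨L, hL, hNL⟩ := exists_coatom_ge (normalizer_ne_top_of_pgroup d.minSimple
    (IsPGroup.of_card (n := 1) (by rw [hX, pow_one])) (fun e => hq.ne_one (by rw [← hX, e, Subgroup.card_bot])))
  obtain ⟨M', -, huniq⟩ := hu
  have hLM : L = M := (huniq L ⟨hL, hle.trans ((inf_le_right.trans (Subgroup.centralizer_le hXK)).trans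
    ((Subgroup.centralizer_le_normalizer _).trans hNL))⟩).trans (huniq M ⟨d.coatom, hSM⟩).symm
  exact (d.hall.2.1 q hq hqd).2.2.1 (hLM ▸ d.mem_sigma_of_normalizer hXK hX hL hNL)

end PData

/-- The data of `supportR`. -/
theorem exists_of_supportR_ne_one (hG : IsMinSimpleOddOrder G) (h13 : BG13 G) (hM : IsCoatom M) {x r : G}
    (hx : x ∈ sigmaCore M) (hx1 : x ≠ 1) (hr : r ∈ supportR M x) (hr1 : r ≠ 1) :
    ∃ N : Subgroup G, Supporting M x N ∧ r ∈ sigmaCore N ⊓ centralizer ({x} : Set G) := by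
  unfold supportR at hr
  split_ifs at hr with h
  · obtain ⟨N, hN⟩ := exists_supporting hG h13.partition h13.transfer hM hx hx1 h.1
    have hc := Classical.choose_spec h.2.exists
    rw [hN.unique _ hc.1 hc.2] at hr
    exact ⟨N, hN, fittingHallOf_le_sigmaCore hG hN.coatom hr.1, hr.2⟩
  · exact absurd (Subgroup.mem_bot.1 hr) hr1

/-- `x` is the `σ(M)`-part of `x r`. -/
theorem supportR_parts (hG : IsMinSimpleOddOrder G) (h13 : BG13 G) (hM : IsCoatom M) {x r : G}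
    (hx : x ∈ sigmaCore M) (hx1 : x ≠ 1) (hr : r ∈ supportR M x) :
    Commute x r ∧ (∀ p : ℕ, p.Prime → p ∣ orderOf x → p ∈ sigma M) ∧
      (∀ p : ℕ, p.Prime → p ∣ orderOf r → p ∉ sigma M) := by
  have hxs : ∀ p : ℕ, p.Prime → p ∣ orderOf x → p ∈ sigma M := fun p hp hd =>
    isPiGrp_piCoreOf (sigma M) M p hp (hd.trans (Subgroup.orderOf_dvd_natCard _ hx))
  rcases eq_or_ne r 1 with rfl | hr1
  · exact ⟨Commute.one_right x, hxs, fun p hp hd => absurd (orderOf_one (G := G) ▸ hd) hp.not_dvd_one⟩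
  obtain ⟨N, hN, hrN⟩ := exists_of_supportR_ne_one hG h13 hM hx hx1 hr hr1
  refine ⟨(Subgroup.mem_centralizer_singleton_iff.1 hrN.2).symm, hxs, fun p hp hpd hpM => ?_⟩
  obtain ⟨g, hg⟩ := h13.partition M N hM hN.coatom
    ⟨p, hpM, isPiGrp_piCoreOf (sigma N) N p hp (hpd.trans (Subgroup.orderOf_dvd_natCard _ hrN.1))⟩
  obtain ⟨q, hq, hqd⟩ := Nat.exists_prime_and_dvd (fun e => hx1 (orderOf_eq_one_iff.1 e))
  refine (hN.tau2 q hq hqd).2.1 ?_
  rw [show N = MulAut.conj g • M from hg, sigma_conj]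
  exact hxs q hq hqd

/-- The conclusion of the frozen statement S1433 (BG 14.5). -/
theorem support_disjoint (hG : IsMinSimpleOddOrder G) (h13 : BG13 G) {N : Subgroup G} (hM : IsCoatom M)
    (hN : IsCoatom N) {x y : G} (hx : x ∈ sigmaCore M) (hy : y ∈ sigmaCore N) (hx1 : x ≠ 1) (hy1 : y ≠ 1)
    (hxy : x ≠ y) : ∀ r ∈ supportR M x, ∀ s ∈ supportR N y, x * r ≠ y * s := by
  intro r hr s hs heq
  obtain ⟨hxr, hxM, hrM⟩ := supportR_parts hG h13 hM hx hx1 hr
  obtain ⟨hys, hyN, hsN⟩ := supportR_parts hG h13 hN hy hy1 hs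
  by_cases hint : (sigma M ∩ sigma N).Nonempty
  · obtain ⟨g, hg⟩ := h13.partition M N hM hN hint
    have he : sigma N = sigma M := by rw [show N = MulAut.conj g • M from hg, sigma_conj]
    exact hxy (piPart_unique hxr hys hxM hrM (he ▸ hyN) (he ▸ hsN) heq).1
  have hr1 : r ≠ 1 := by
    rintro rfl
    rw [mul_one] at heq
    obtain ⟨p, hp, hpd⟩ := Nat.exists_prime_and_dvd (fun e => hy1 (orderOf_eq_one_iff.1 e))
    have h1 : y ∈ zpowers (y * s) :=
      mem_zpowers_mul_of_coprime hys (Nat.coprime_of_dvd fun l hl h1 h2 => hsN l hl h2 (hyN l hl h1))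
    rw [← heq] at h1
    have h2 := (orderOf_dvd_of_mem_zpowers h1)
    exact hint ⟨p, hxM p hp (hpd.trans h2), hyN p hp hpd⟩
  obtain ⟨Nx, hNx, hrNx⟩ := exists_of_supportR_ne_one hG h13 hM hx hx1 hr hr1
  have hint' : (sigma Nx ∩ sigma N).Nonempty := by
    obtain ⟨p, hp, hpd⟩ := Nat.exists_prime_and_dvd (fun e => hy1 (orderOf_eq_one_iff.1 e))
    have h1 : y ∈ zpowers (y * s) :=
      mem_zpowers_mul_of_coprime hys (Nat.coprime_of_dvd fun l hl h1 h2 => hsN l hl h2 (hyN l hl h1))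
    rw [← heq] at h1
    have h2 := (hpd.trans (orderOf_dvd_of_mem_zpowers h1)).trans hxr.orderOf_mul_dvd_mul_orderOf
    rcases hp.dvd_mul.1 h2 with h | h
    · exact absurd ⟨p, hxM p hp h, hyN p hp hpd⟩ hint
    · exact ⟨p, isPiGrp_piCoreOf (sigma Nx) Nx p hp (h.trans (Subgroup.orderOf_dvd_natCard _ hrNx.1)),
        hyN p hp hpd⟩
  obtain ⟨g, hg⟩ := h13.partition Nx N hNx.coatom hN hint'
  have he : sigma N = sigma Nx := by rw [show N = MulAut.conj g • Nx from hg, sigma_conj]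
  obtain ⟨hry, hxs⟩ := piPart_unique hxr.symm hys
    (fun p hp hpd => he ▸ isPiGrp_piCoreOf (sigma Nx) Nx p hp (hpd.trans (Subgroup.orderOf_dvd_natCard _ hrNx.1)))
    (fun p hp hpd hs' => hint ⟨p, hxM p hp hpd, hs'⟩) hyN hsN (hxr.eq.symm.trans heq)
  subst hry
  subst hxs
  obtain ⟨Ny, hNy, hxNy⟩ := exists_of_supportR_ne_one hG h13 hN hy hr1 hs hx1
  obtain ⟨b, hb⟩ := h13.partition M Ny hM hNy.coatom (by
    obtain ⟨p, hp, hpd⟩ := Nat.exists_prime_and_dvd (fun e => hx1 (orderOf_eq_one_iff.1 e))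
    exact ⟨p, hxM p hp hpd,
      isPiGrp_piCoreOf (sigma Ny) Ny p hp (hpd.trans (Subgroup.orderOf_dvd_natCard _ hxNy.1))⟩)
  obtain ⟨-, R, hRn, hRc, hR⟩ := supporting_transitive hG h13.partition h13.transfer hM hx hx1
  obtain ⟨r', ⟨hr'R, hr'⟩, -⟩ := hR b (hb ▸ sigmaCore_le Ny hxNy.1)
  have hrNy : r ∈ M.map (MulAut.conj r').toMonoidHom := by
    rw [hr', ← hb]
    exact hNy.centralizer_le (Subgroup.mem_centralizer_singleton_iff.2 rfl)
  have hrR : r ∈ R := by
    obtain ⟨a, ha, c, hc, hac⟩ := hRc.2.2.2 r hrNx.2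
    have hcop : (Nat.card ↥(M ⊓ centralizer ({x} : Set G))).Coprime (Nat.card R) := by
      obtain ⟨h, -⟩ := supporting_transitive hG h13.partition h13.transfer hM hx hx1
      have h1 := Subgroup.relIndex_mul_relIndex ⊥ (M ⊓ centralizer ({x} : Set G)) (centralizer ({x} : Set G))
        bot_le inf_le_right
      rw [Subgroup.relIndex_bot_left, Subgroup.relIndex_bot_left, ← card_eq_of_isComplIn hRc] at h1
      rwa [Nat.eq_of_mul_eq_mul_left Nat.card_pos h1] at h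
    -- both `R` and `N_σ ∩ C(x)` are the normal Hall subgroup of `C(x)`
    haveI : ((R.subgroupOf (centralizer ({x} : Set G)))).Normal :=
      (Subgroup.normal_subgroupOf_iff_le_normalizer hRc.2.1).2 hRn
    refine Subgroup.mem_subgroupOf.1 (mem_of_coprime_index (x := (⟨r, hrNx.2⟩ : centralizer ({x} : Set G)))
      (N := R.subgroupOf (centralizer ({x} : Set G))) ?_)
    have hidx : (R.subgroupOf (centralizer ({x} : Set G))).index = Nat.card ↥(M ⊓ centralizer ({x} : Set G)) := by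
      have h1 := Subgroup.relIndex_mul_relIndex ⊥ R (centralizer ({x} : Set G)) bot_le hRc.2.1
      rw [Subgroup.relIndex_bot_left, Subgroup.relIndex_bot_left, ← card_eq_of_isComplIn hRc, mul_comm] at h1
      exact Nat.eq_of_mul_eq_mul_right Nat.card_pos h1
    rw [hidx, ← Subgroup.orderOf_coe]
    exact Nat.coprime_of_dvd fun l hl h1 h2 => not_mem_sigma_of_compl hG hNx.coatom hNx.compl hl
      (h2.trans (Subgroup.card_dvd_of_le (le_inf inf_le_left (inf_le_right.trans hNx.centralizer_le))))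
      (isPiGrp_piCoreOf (sigma Nx) Nx l hl (h1.trans (Subgroup.orderOf_dvd_natCard _ hrNx.1)))
  obtain ⟨m, hm, hmr⟩ := hrNy
  refine hr1 (Subgroup.mem_bot.1 ?_)
  rw [← hRc.2.2.1]
  have hmR : m ∈ R := by
    have h2 : m = r'⁻¹ * r * r' := by rw [← hmr]; simp [mul_assoc]
    rw [h2]
    exact R.mul_mem (R.mul_mem (R.inv_mem hr'R) hrR) hr'R
  have h3 : m ∈ (M ⊓ centralizer ({x} : Set G)) ⊓ R := ⟨⟨hm, hRc.2.1 hmR⟩, hmR⟩
  rw [hRc.2.2.1, Subgroup.mem_bot] at h3
  rw [hRc.2.2.1, Subgroup.mem_bot, ← hmr, h3, map_one]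

end Cfsg.Agent.OddOrder
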