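import Cfsg.Agent.Lib.OddOrder.SigmaPrime
import Cfsg.Agent.S1451
import Cfsg.Agent.Lib.Solvable.Hall

/-!
# Bender–Glauberman, Theorem B: the elements of `U` with fixed points on `M_σ`
-/

set_option autoImplicit false
set_option linter.unusedSectionVars false
set_option linter.style.haveILetI false

namespace Cfsg.Agent.OddOrder.TheoremB

open Cfsg
open Subgroup (centralizer normalizer zpowers)
open scoped Pointwise

universe u
variable {G : Type u} [Group G] [Finite G] {M K U : Subgroup G}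

theorem U_le (hKU : IsSigmaDecomposition M K U) : U ≤ M := hKU.compl.1

/-- The order of `U` is prime to `σ(M)` and `κ(M)`. -/
theorem not_mem_of_dvd (hG : IsMinSimpleOddOrder G) (hM : IsCoatom M) (hKU : IsSigmaDecomposition M K U)
    {p : ℕ} (hp : p.Prime) (hd : p ∣ Nat.card U) : p ∉ sigma M ∧ p ∉ kappa M := by
  have key : ∀ {π : Set ℕ} {H : Subgroup G}, IsPiHallOf π H M → H ≤ K ⊔ sigmaCore M → p ∉ π := by
    intro π H hH hle hπ
    refine hH.2.2 p hp hπ (hd.trans ?_)
    refine (Nat.mul_dvd_mul_iff_left (Nat.card_pos (α := H))).1 ?_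
    calc Nat.card H * Nat.card U ∣ Nat.card (K ⊔ sigmaCore M : Subgroup G) * Nat.card U :=
          Nat.mul_dvd_mul_right (Subgroup.card_dvd_of_le hle) _
      _ = Nat.card M := by rw [mul_comm, card_eq_of_isComplIn hKU.compl]
      _ = Nat.card H * H.relIndex M := by
          rw [Subgroup.relIndex, ← Coprime.card_subgroupOf hH.1, Subgroup.card_mul_index]
  exact ⟨key (sigmaCore_hall hG hM) le_sup_right, key hKU.hall le_sup_left⟩

/-- The prime divisors of a subgroup of `U` with a fixed point in `M_σ` are in `τ₂(M)`. -/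
theorem mem_tau2_of_fixed (hG : IsMinSimpleOddOrder G) (hM : IsCoatom M) (hKU : IsSigmaDecomposition M K U)
    {X : Subgroup G} (hXU : X ≤ U) (hX : sigmaCore M ⊓ centralizer (X : Set G) ≠ ⊥)
    {p : ℕ} (hp : p.Prime) (hd : p ∣ Nat.card X) : p ∈ tau2 M := by
  haveI := Fact.mk hp
  obtain ⟨hps, hpk⟩ := not_mem_of_dvd hG hM hKU hp (hd.trans (Subgroup.card_dvd_of_le hXU))
  refine ⟨hp, hps, pRankLE_two_of_not_sigma hG hM hps, fun hr => ?_⟩
  obtain ⟨z, hz⟩ := exists_prime_orderOf_dvd_card' p hd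
  rw [← Subgroup.orderOf_coe] at hz
  refine hX (le_bot_iff.1 ((inf_le_inf_left _ (Subgroup.centralizer_le (Subgroup.zpowers_le.2 z.2))).trans
    (sigmaCore_inf_centralizer_eq_bot_of_not_kappa hG hr hps hpk
      (Subgroup.zpowers_le.2 ((hXU.trans (U_le hKU)) z.2)) (by rw [Nat.card_zpowers, hz])).le))

theorem fixed_of_mem_sigmaHat {u : G} (hu : u ∈ sigmaHat M) :
    sigmaCore M ⊓ centralizer (zpowers u : Set G) ≠ ⊥ := by
  obtain ⟨-, y, hy, hy1, hcomm⟩ := hu
  refine fun h => hy1 (Subgroup.mem_bot.1 (h ▸ ⟨hy, Subgroup.mem_centralizer_iff.2 fun a ha => ?_⟩))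
  obtain ⟨n, rfl⟩ := ha
  exact ((show Commute u y from hcomm).zpow_left n).eq

/-- A `τ₂`-subgroup of `M` with a fixed point in `M_σ` has its centraliser only in `M` (BG 12.6, 15.2). -/
theorem unique_of_tau2 (hG : IsMinSimpleOddOrder G) (hM : IsCoatom M) {X : Subgroup G} (hXM : X ≤ M)
    (hX : X ≠ ⊥) (hπ : ∀ p : ℕ, p.Prime → p ∣ Nat.card X → p ∈ tau2 M)
    (hXc : sigmaCore M ⊓ centralizer (X : Set G) ≠ ⊥) :
    centralizer (X : Set G) ≤ M ∧ ∀ L : Subgroup G, IsCoatom L → centralizer (X : Set G) ≤ L → L = M := by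
  obtain ⟨E, hE, hXE⟩ := exists_compl hG hM hXM (Nat.coprime_of_dvd fun l hl h1 h2 =>
    (hπ l hl h1).2.1 (isPiGrp_piCoreOf (sigma M) M l hl h2))
  have hr := Nat.minFac_prime (fun e => hX (Subgroup.card_eq_one.1 e) : Nat.card X ≠ 1)
  haveI := Fact.mk hr
  obtain ⟨-, hrs, -, hr1⟩ := hπ _ hr (Nat.minFac_dvd _)
  obtain ⟨A, hAE, hA, hc⟩ := exists_square_le_compl hE hrs hr1
  have hAp := PGroup.isPGroup_of_elementaryAbelian hA
  obtain ⟨A₀, h⟩ := exists_exc hG hM hrs (hAE.trans hE.1) hA hc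
  have hEA := h.complement_le_normalizer hE hAE
  have hXA : ∀ x ∈ X, x ∈ centralizer (A : Set G) := fun x hx => by
    refine mem_of_forall_primePart fun s hs hd u hu hku => ?_
    haveI := Fact.mk hs
    obtain ⟨k, hk⟩ := hku
    have huE : u ∈ E := Subgroup.zpowers_le.2 (hXE hx) hu
    rcases eq_or_ne s (Nat.card X).minFac with rfl | hne
    · obtain ⟨i, -, hi⟩ := (Nat.dvd_prime_pow hs).1 (orderOf_dvd_of_pow_eq_one hk)
      have hup : IsPGroup (Nat.card X).minFac (zpowers u) :=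
        IsPGroup.of_card (n := i) (by rw [Nat.card_zpowers, hi])
      obtain ⟨S, hS⟩ := exists_sylow_map_ge
        (hup.to_sup_of_normal_right' hAp (Subgroup.zpowers_le.2 (hEA huE)))
        (sup_le (Subgroup.zpowers_le.2 (hE.1 huE)) h.le)
      exact h.le_centralizer_of_sylow S (le_sup_right.trans hS)
        (hS (Subgroup.mem_sup_left (Subgroup.mem_zpowers u)))
    · haveI : Group.IsSolvable E := Coprime.isSolvable_of_le hE.1 (isSolvable_of_coatom hG hM)
      haveI : (A.subgroupOf E).Normal := Coprime.normal_subgroupOf_of_le_normalizer hEA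
      have h2 := S1451.mem_centralizer_of_lt (G := E) (odd_subgroup hG.1 E) hs
        (lt_of_le_of_ne (Nat.minFac_le_of_dvd hs.two_le (hd.trans (Subgroup.orderOf_dvd_natCard X hx))) hne.symm)
        (A.subgroupOf E) hAp.comap_subtype
        (fun B _ _ => by
          refine (B.card_le_card_group).trans (le_of_eq ?_)
          rw [Coprime.card_subgroupOf hAE, hc])
        (x := (⟨u, huE⟩ : E)) (k := k) (Subtype.ext hk)
      exact Subgroup.mem_centralizer_iff.2 fun a ha =>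
        congrArg Subtype.val (Subgroup.mem_centralizer_iff.1 h2 ⟨a, hAE ha⟩ ha)
  obtain ⟨y, ⟨hy, hyX⟩, hy1⟩ := (Subgroup.bot_or_exists_ne_one _).resolve_left hXc
  obtain ⟨x, hx, hx1⟩ := (Subgroup.bot_or_exists_ne_one X).resolve_left hX
  refine h.unique_of_fixed (fun e => centralizer_singleton_ne_top_of_minSimple hG hx1
    (top_le_iff.1 (e ▸ Subgroup.centralizer_le (Set.singleton_subset_iff.2 hx)))) (fun a ha => ?_) hy hy1 hyX
  exact Subgroup.mem_centralizer_iff.2 fun z hz => (Subgroup.mem_centralizer_iff.1 (hXA z hz) a ha).symm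

/-- `U` is a Hall subgroup of `M` for the primes outside `κ(M) ∪ σ(M)`. -/
theorem hall_U (hG : IsMinSimpleOddOrder G) (hM : IsCoatom M) (hKU : IsSigmaDecomposition M K U) :
    IsPiHallOf {q | q.Prime ∧ q ∉ kappa M ∧ q ∉ sigma M} U M := by
  refine ⟨U_le hKU, fun p hp hd => ?_, fun p hp hπ hd => ?_⟩
  · exact ⟨hp, (not_mem_of_dvd hG hM hKU hp hd).2, (not_mem_of_dvd hG hM hKU hp hd).1⟩
  have h1 : Nat.card U * U.relIndex M = Nat.card U * Nat.card (K ⊔ sigmaCore M : Subgroup G) := by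
    rw [card_eq_of_isComplIn hKU.compl, Subgroup.relIndex, ← Coprime.card_subgroupOf (U_le hKU),
      Subgroup.card_mul_index]
  have hdis : K ⊓ sigmaCore M = ⊥ := Coprime.disjoint_of_coprime_card (Nat.coprime_of_dvd fun l hl ha hb =>
    (hKU.hall.2.1 l hl ha).2.2.1 (isPiGrp_piCoreOf (sigma M) M l hl hb))
  rw [Nat.eq_of_mul_eq_mul_left Nat.card_pos h1,
    Coprime.card_sup_of_le_normalizer (hKU.hall.1.trans (le_normalizer_sigmaCore M)) hdis] at hd
  rcases hp.dvd_mul.1 hd with h | h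
  · exact hπ.2.1 (hKU.hall.2.1 p hp h)
  · exact hπ.2.2 (isPiGrp_piCoreOf (sigma M) M p hp h)

theorem card_eq_of_hall {π : Set ℕ} {H₁ H₂ : Subgroup G} (h₁ : IsPiHallOf π H₁ M) (h₂ : IsPiHallOf π H₂ M) :
    Nat.card H₁ = Nat.card H₂ := by
  have key : ∀ {A B : Subgroup G}, IsPiHallOf π A M → IsPiHallOf π B M → Nat.card A ∣ Nat.card B := by
    intro A B hA hB
    refine (Nat.coprime_of_dvd fun l hl ha hb => hB.2.2 l hl (hA.2.1 l hl ha) hb : (Nat.card A).Coprime
      (B.relIndex M)).dvd_of_dvd_mul_right ?_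
    rw [Subgroup.relIndex, ← Coprime.card_subgroupOf hB.1, Subgroup.card_mul_index]
    exact Subgroup.card_dvd_of_le hA.1
  exact Nat.dvd_antisymm (key h₁ h₂) (key h₂ h₁)

/-- By Hall conjugacy `U` is abelian as soon as `M` has some abelian Hall subgroup for its primes. -/
theorem isMulCommutative_U (hG : IsMinSimpleOddOrder G) (hM : IsCoatom M) (hKU : IsSigmaDecomposition M K U)
    {U' : Subgroup G} (hc : IsMulCommutative U')
    (hU' : IsPiHallOf {q | q.Prime ∧ q ∉ kappa M ∧ q ∉ sigma M} U' M) : IsMulCommutative U := by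
  haveI := isSolvable_of_coatom hG hM
  have hU := hall_U hG hM hKU
  have hcop : (Nat.card U).Coprime (U.relIndex M) :=
    Nat.coprime_of_dvd fun l hl ha hb => hU.2.2 l hl (hU.2.1 l hl ha) hb
  obtain ⟨m, hm⟩ := Solvable.exists_conj_eq_hall (G := M) (m := Nat.card U) (n := U.relIndex M)
    (by rw [Subgroup.relIndex, ← Coprime.card_subgroupOf hU.1, Subgroup.card_mul_index]) hcop
    (H := U'.subgroupOf M) (K := U.subgroupOf M)
    (by rw [Coprime.card_subgroupOf hU'.1, card_eq_of_hall hU' hU]) (Coprime.card_subgroupOf hU.1)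
  refine PGroup.isMulCommutative_of_forall fun x hx y hy => ?_
  have conj : ∀ z ∈ U, (m : G)⁻¹ * z * m ∈ U' := fun z hz => by
    have h : (⟨z, hU.1 hz⟩ : M) ∈ U.subgroupOf M := hz
    rw [← hm, Coprime.mem_conj_smul_iff] at h
    exact h
  have h := PGroup.mul_comm_of_isMulCommutative hc (conj x hx) (conj y hy)
  calc x * y = (m : G) * (((m : G)⁻¹ * x * m) * ((m : G)⁻¹ * y * m)) * (m : G)⁻¹ := by group
    _ = y * x := by rw [h]; group

theorem fpf_of_tau13 (hG : IsMinSimpleOddOrder G) (hM : IsCoatom M) (hKU : IsSigmaDecomposition M K U)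
    {e : G} (he : e ∈ U) (he1 : e ≠ 1)
    (hπ : ∀ p : ℕ, p.Prime → p ∣ orderOf e → p ∈ tau1 M ∪ tau3 M) :
    sigmaCore M ⊓ centralizer ({e} : Set G) = ⊥ := by
  by_contra hne
  obtain ⟨p, hp, hd⟩ := Nat.exists_prime_and_dvd (n := orderOf e) (fun h => he1 (orderOf_eq_one_iff.1 h))
  have h2 := mem_tau2_of_fixed hG hM hKU (Subgroup.zpowers_le.2 he)
    (by rwa [Subgroup.zpowers_eq_closure, Subgroup.centralizer_closure]) hp (by rwa [Nat.card_zpowers])
  rcases hπ p hp hd with h | h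
  · exact h2.2.2.2 h.2.2.2.2
  · exact h2.2.2.2 h.2.2.2

/-- At each prime, an abelian `U` has an element of largest `p`-power order whose subgroup of order `p`
acts without fixed points on `M_σ`. -/
theorem exists_top_fpf (hG : IsMinSimpleOddOrder G) (hM : IsCoatom M) (hKU : IsSigmaDecomposition M K U)
    (hc : IsMulCommutative U) {p : ℕ} [Fact p.Prime] (hd : p ∣ Nat.card U) :
    ∃ x ∈ U, orderOf x = p ^ (Monoid.exponent U).factorization p ∧
      sigmaCore M ⊓ centralizer (zpowers (x ^ p ^ ((Monoid.exponent U).factorization p - 1)) : Set G) = ⊥ := by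
  have hp : p.Prime := Fact.out
  set k := (Monoid.exponent U).factorization p with hk
  have hk1 : 1 ≤ k := hp.factorization_pos_of_dvd Monoid.exponent_ne_zero_of_finite
    (by
      obtain ⟨z, hz⟩ := exists_prime_orderOf_dvd_card' (G := U) p hd
      exact hz ▸ Monoid.order_dvd_exponent z)
  obtain ⟨z, hz⟩ := Nat.Prime.exists_orderOf_eq_pow_factorization_exponent U hp
  rw [← Subgroup.orderOf_coe, ← hk] at hz
  have hord : ∀ x : G, orderOf x = p ^ k → orderOf (x ^ p ^ (k - 1)) = p := fun x hx => by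
    rw [orderOf_pow' _ (pow_ne_zero _ hp.ne_zero), hx, Nat.gcd_eq_right (pow_dvd_pow p (Nat.sub_le k 1)),
      Nat.pow_div (Nat.sub_le k 1) hp.pos, show k - (k - 1) = 1 by omega, pow_one]
  by_contra hcon
  simp only [not_exists, not_and] at hcon
  obtain ⟨hps, hpk⟩ := not_mem_of_dvd hG hM hKU hp hd
  by_cases hr : PRankLE p 1 M
  · refine hcon z z.2 hz (sigmaCore_inf_centralizer_eq_bot_of_not_kappa hG hr hps hpk
      (Subgroup.zpowers_le.2 (pow_mem (U_le hKU z.2) _)) ?_)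
    rw [Nat.card_zpowers, hord _ hz]
  -- a Sylow subgroup of `M` inside `U`
  obtain ⟨Q⟩ : Nonempty (Sylow p U) := inferInstance
  obtain ⟨S, hS⟩ := exists_sylow_map_ge (Q.2.map U.subtype) ((Subgroup.map_subtype_le _).trans (U_le hKU))
  have hnd : ¬ p ∣ Nat.card (K ⊔ sigmaCore M : Subgroup G) := fun hd' => by
    rw [Coprime.card_sup_of_le_normalizer (hKU.hall.1.trans (le_normalizer_sigmaCore M))
      (Coprime.disjoint_of_coprime_card (Nat.coprime_of_dvd fun l hl ha hb =>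
        (hKU.hall.2.1 l hl ha).2.2.1 (isPiGrp_piCoreOf (sigma M) M l hl hb)))] at hd'
    rcases hp.dvd_mul.1 hd' with h | h
    · exact hpk (hKU.hall.2.1 p hp h)
    · exact hps (isPiGrp_piCoreOf (sigma M) M p hp h)
  have hQS : (Q : Subgroup U).map U.subtype = (S : Subgroup M).map M.subtype := by
    refine Subgroup.eq_of_le_of_card_ge hS (le_of_eq ?_)
    rw [Subgroup.card_map_of_injective M.subtype_injective, Subgroup.card_map_of_injective U.subtype_injective,
      Q.card_eq_multiplicity, S.card_eq_multiplicity, ← card_eq_of_isComplIn hKU.compl,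
      Nat.factorization_mul Nat.card_pos.ne' Nat.card_pos.ne', Finsupp.add_apply,
      Nat.factorization_eq_zero_of_not_dvd hnd, add_zero]
  set P := (S : Subgroup M).map M.subtype with hP
  have hPU : P ≤ U := hQS ▸ Subgroup.map_subtype_le _
  have hmemP : ∀ x ∈ U, x ^ p ^ k = 1 → x ∈ P := fun x hx hxk => by
    haveI := hc
    haveI : (Q : Subgroup U).Normal := inferInstance
    obtain ⟨i, -, hi⟩ := (Nat.dvd_prime_pow hp).1 (orderOf_dvd_of_pow_eq_one hxk)
    obtain ⟨R, hR⟩ := exists_sylow_map_ge (p := p) (X := zpowers x) (M := U)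
      (IsPGroup.of_card (n := i) (by rw [Nat.card_zpowers, hi])) (Subgroup.zpowers_le.2 hx)
    haveI := Sylow.unique_of_normal Q inferInstance
    have hRQ : R = Q := Subsingleton.elim _ _
    exact hQS ▸ hRQ ▸ hR (Subgroup.mem_zpowers x)
  obtain ⟨A, hAS, hA, hAc⟩ := exists_square_le hr S
  obtain ⟨A₀, h⟩ := exists_exc hG hM hps (hAS.trans (Subgroup.map_subtype_le _)) hA hAc
  let T : Subgroup G :=
    { carrier := {t | ∃ x ∈ U, x ^ p ^ k = 1 ∧ x ^ p ^ (k - 1) = t}
      one_mem' := ⟨1, one_mem _, one_pow _, one_pow _⟩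
      mul_mem' := by
        rintro _ _ ⟨x, hx, hx1, rfl⟩ ⟨y, hy, hy1, rfl⟩
        have hxy : Commute x y := PGroup.mul_comm_of_isMulCommutative hc hx hy
        exact ⟨x * y, mul_mem hx hy, by rw [hxy.mul_pow, hx1, hy1, mul_one], hxy.mul_pow _⟩
      inv_mem' := by
        rintro _ ⟨x, hx, hx1, rfl⟩
        exact ⟨x⁻¹, inv_mem hx, by rw [inv_pow, hx1, inv_one], inv_pow _ _⟩ }
  have hfix : ∀ t ∈ T, t ≠ 1 → sigmaCore M ⊓ centralizer (zpowers t : Set G) ≠ ⊥ := by
    rintro _ ⟨x, hx, hx1, rfl⟩ ht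
    obtain ⟨i, hik, hi⟩ := (Nat.dvd_prime_pow hp).1 (orderOf_dvd_of_pow_eq_one hx1)
    rcases hik.eq_or_lt with rfl | hlt
    · exact hcon x hx hi
    · exact absurd (orderOf_dvd_iff_pow_eq_one.1 (hi ▸ pow_dvd_pow p (by omega : i ≤ k - 1))) ht
  have hTA : T ≤ A := by
    rintro _ ⟨x, hx, hx1, rfl⟩
    refine h.mem_of_sylow S hAS (pow_mem (hmemP x hx hx1) _) ?_
    rw [← pow_mul, ← pow_succ, show k - 1 + 1 = k by omega, hx1]
  set t := (z : G) ^ p ^ (k - 1) with ht
  have hto : orderOf t = p := hord _ hz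
  have ht1 : t ≠ 1 := fun e => hp.ne_one (by rw [← hto, e, orderOf_one])
  have htT : t ∈ T := ⟨z, z.2, hz ▸ pow_orderOf_eq_one _, rfl⟩
  have hTt : T = zpowers t := by
    refine (Subgroup.eq_of_le_of_card_ge (Subgroup.zpowers_le.2 htT) ?_).symm
    rw [Nat.card_zpowers, hto]
    obtain ⟨i, hi2, hi⟩ := (Nat.dvd_prime_pow hp).1 (hAc ▸ Subgroup.card_dvd_of_le hTA)
    rcases hi2.eq_or_lt with rfl | hlt
    · obtain ⟨b, hb, -, hbo, hbf⟩ := h.exists_fpf
      refine absurd ?_ (hfix b ((Subgroup.eq_of_le_of_card_ge hTA (le_of_eq (hAc.trans hi.symm))).ge hb)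
        fun e => hp.ne_one (by rw [← hbo, e, orderOf_one]))
      rwa [Subgroup.zpowers_eq_closure, Subgroup.centralizer_closure]
    · rw [hi]
      exact (Nat.pow_le_pow_right hp.pos (Nat.le_of_lt_succ hlt)).trans (pow_one p).le
  have hT1 : T ≠ ⊥ := fun e => ht1 (Subgroup.mem_bot.1 (e ▸ htT))
  have huniq := unique_of_tau2 hG hM (hTA.trans h.le) hT1 (fun l hl hdl => by
    rw [hTt, Nat.card_zpowers, hto] at hdl
    rw [(Nat.prime_dvd_prime_iff_eq hl hp).1 hdl]
    exact ⟨hp, hps, pRankLE_two_of_not_sigma hG hM hps, hr⟩) (hTt ▸ hfix t htT ht1)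
  obtain ⟨g, hgP, hgM⟩ := h.exists_mem_normalizer S
  have hconj : ∀ {g' : G}, g' ∈ normalizer (P : Set G) → ∀ y ∈ T, g' * y * g'⁻¹ ∈ T := by
    rintro g' hg' _ ⟨x, hx, hx1, rfl⟩
    refine ⟨g' * x * g'⁻¹, hPU ((Subgroup.mem_normalizer_iff.1 hg' x).1 (hmemP x hx hx1)), ?_, conj_pow⟩
    rw [conj_pow, hx1, mul_one, mul_inv_cancel]
  refine hgM ?_
  have hL : MulAut.conj g • M = M := by
    refine huniq.2 _ ((OrderIso.isCoatom_iff (MulEquiv.mapSubgroup (MulAut.conj g)) M).2 hM) fun c hc' => ?_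
    rw [Coprime.mem_conj_smul_iff]
    refine huniq.1 (Subgroup.mem_centralizer_iff.2 fun y hy => ?_)
    calc y * (g⁻¹ * c * g) = g⁻¹ * (g * y * g⁻¹ * c) * g := by group
      _ = g⁻¹ * (c * (g * y * g⁻¹)) * g := by
          rw [Subgroup.mem_centralizer_iff.1 hc' _ (hconj hgP y hy)]
      _ = g⁻¹ * c * g * y := by group
  have hN := normalizer_eq_of_normal hG hM le_rfl Subgroup.le_normalizer
    (fun e => sigmaCore_ne_bot hG hM (le_bot_iff.1 (e ▸ sigmaCore_le M)))
  exact hN ▸ Coprime.mem_normalizer_of_conj_smul_eq hL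

/-- An abelian `U` has a cyclic subgroup of the same exponent, semiregular on `M_σ`. -/
theorem exists_free (hG : IsMinSimpleOddOrder G) (hM : IsCoatom M) (hKU : IsSigmaDecomposition M K U)
    (hc : IsMulCommutative U) :
    ∃ U₀ : Subgroup G, U₀ ≤ U ∧ Monoid.exponent U₀ = Monoid.exponent U ∧
      ∀ u ∈ U₀, u ∈ sigmaHat M → u = 1 := by
  classical
  set n := Monoid.exponent U with hn
  have hn0 : n ≠ 0 := Monoid.exponent_ne_zero_of_finite
  have hpU : ∀ p ∈ n.primeFactors, p ∣ Nat.card U := fun p hp =>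
    (Nat.dvd_of_mem_primeFactors hp).trans (Group.exponent_dvd_nat_card)
  have key : ∀ s : Finset ℕ, s ⊆ n.primeFactors → ∃ g ∈ U, orderOf g = ∏ p ∈ s, p ^ n.factorization p ∧
      ∀ p ∈ s, ∃ t ∈ zpowers g, orderOf t = p ∧ sigmaCore M ⊓ centralizer (zpowers t : Set G) = ⊥ := by
    intro s
    induction s using Finset.induction_on with
    | empty => exact fun _ => ⟨1, one_mem _, by simp, by simp⟩
    | insert p s hps ih =>
      intro hsub
      obtain ⟨hp, hs'⟩ := Finset.insert_subset_iff.1 hsub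
      obtain ⟨g, hgU, hgo, hg⟩ := ih hs'
      have hpp := Nat.prime_of_mem_primeFactors hp
      haveI := Fact.mk hpp
      obtain ⟨x, hxU, hxo, hxf⟩ := exists_top_fpf hG hM hKU hc (hpU p hp)
      rw [← hn] at hxo hxf
      have hcop : (orderOf g).Coprime (orderOf x) := by
        rw [hgo, hxo, Nat.coprime_prod_left_iff]
        exact fun q hq => Nat.Coprime.pow _ _ ((Nat.coprime_primes (Nat.prime_of_mem_primeFactors (hs' hq)) hpp).2
          fun e => hps (e ▸ hq))
      have hcomm : Commute g x := PGroup.mul_comm_of_isMulCommutative hc hgU hxU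
      have hgmem : g ∈ zpowers (g * x) := by
        obtain ⟨j, hj⟩ := exists_pow_eq_self_of_coprime (n := orderOf x) hcop.symm
        have h1 : ((g * x) ^ orderOf x) ^ j ∈ zpowers (g * x) :=
          pow_mem (pow_mem (Subgroup.mem_zpowers (g * x)) (orderOf x)) j
        rwa [hcomm.mul_pow, pow_orderOf_eq_one x, mul_one, hj] at h1
      have hxmem : x ∈ zpowers (g * x) := by
        have h1 := mul_mem (inv_mem hgmem) (Subgroup.mem_zpowers (g * x))
        rwa [inv_mul_cancel_left] at h1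
      refine ⟨g * x, mul_mem hgU hxU, ?_, fun q hq => ?_⟩
      · rw [hcomm.orderOf_mul_eq_mul_orderOf_of_coprime hcop, hgo, hxo, Finset.prod_insert hps, mul_comm]
      · rcases Finset.mem_insert.1 hq with rfl | hq
        · refine ⟨_, pow_mem hxmem _, ?_, hxf⟩
          have hk1 : 1 ≤ n.factorization q :=
            hpp.factorization_pos_of_dvd hn0 (Nat.dvd_of_mem_primeFactors hp)
          rw [orderOf_pow' _ (pow_ne_zero _ hpp.ne_zero), hxo, Nat.gcd_eq_right (pow_dvd_pow q (Nat.sub_le _ 1)),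
            Nat.pow_div (Nat.sub_le _ 1) hpp.pos, show n.factorization q - (n.factorization q - 1) = 1 by omega,
            pow_one]
        · obtain ⟨t, ht, h'⟩ := hg q hq
          exact ⟨t, Subgroup.zpowers_le.2 hgmem ht, h'⟩
  obtain ⟨g, hgU, hgo, hg⟩ := key n.primeFactors subset_rfl
  have hgn : orderOf g = n := by
    rw [hgo, ← Nat.support_factorization]
    exact Nat.prod_factorization_pow_eq_self hn0
  refine ⟨zpowers g, Subgroup.zpowers_le.2 hgU, by rw [IsCyclic.exponent_eq_card, Nat.card_zpowers, hgn],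
    fun u hu hhat => ?_⟩
  by_contra hu1
  obtain ⟨p, hp, hd⟩ := Nat.exists_prime_and_dvd (n := orderOf u) (fun e => hu1 (orderOf_eq_one_iff.1 e))
  haveI := Fact.mk hp
  obtain ⟨t, ht, hto, htf⟩ := hg p (Nat.mem_primeFactors.2 ⟨hp, hgn ▸ hd.trans (orderOf_dvd_of_mem_zpowers hu), hn0⟩)
  obtain ⟨w, hw⟩ := exists_prime_orderOf_dvd_card' (G := zpowers u) p (by rwa [Nat.card_zpowers])
  rw [← Subgroup.orderOf_coe] at hw
  have ne1 : ∀ {y : G}, orderOf y = p → y ≠ 1 := fun hy e => hp.ne_one (by rw [← hy, e, orderOf_one])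
  have he := zpowers_eq_of_isCyclic (inferInstance : IsCyclic (zpowers g)) ht
    (Subgroup.zpowers_le.2 hu w.2) (hto ▸ pow_orderOf_eq_one t) (hw ▸ pow_orderOf_eq_one (w : G))
    (ne1 hto) (ne1 hw)
  refine fixed_of_mem_sigmaHat hhat (le_bot_iff.1 ?_)
  rw [← htf, ← he]
  exact inf_le_inf_left _ (Subgroup.centralizer_le (Subgroup.zpowers_le.2 w.2))

/-- The statement S1359, from S1421 and S1430. -/
theorem closure_isMulCommutative (hG : IsMinSimpleOddOrder G) (hM : IsCoatom M)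
    (hKU : IsSigmaDecomposition M K U)
    (h21 : K = ⊥ → ∃ A₀ : Subgroup G, IsMulCommutative A₀ ∧
      ∀ x ∈ sigmaCore M, x ≠ 1 → U ⊓ centralizer ({x} : Set G) ≤ A₀)
    (h30 : K ≠ ⊥ → ∃ U' : Subgroup G, IsMulCommutative U' ∧
      IsPiHallOf {q | q.Prime ∧ q ∉ kappa M ∧ q ∉ sigma M} U' M) :
    IsMulCommutative (Subgroup.closure ((U : Set G) ∩ sigmaHat M)) := by
  obtain ⟨A, hA, hle⟩ : ∃ A : Subgroup G, IsMulCommutative A ∧ (U : Set G) ∩ sigmaHat M ⊆ A := by
    by_cases hK : K = ⊥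
    · obtain ⟨A₀, hA₀, hcen⟩ := h21 hK
      refine ⟨A₀, hA₀, ?_⟩
      rintro u ⟨hu, -, y, hy, hy1, hcomm⟩
      exact hcen y hy hy1 ⟨hu, Subgroup.mem_centralizer_singleton_iff.2 hcomm⟩
    · obtain ⟨U', hc, hU'⟩ := h30 hK
      exact ⟨U, isMulCommutative_U hG hM hKU hc hU', Set.inter_subset_left⟩
  exact PGroup.isMulCommutative_of_forall fun x hx y hy =>
    PGroup.mul_comm_of_isMulCommutative hA ((Subgroup.closure_le _).2 hle hx) ((Subgroup.closure_le _).2 hle hy)

/-- The statement S1360, from S1421 and S1430. -/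
theorem exists_free_same_exponent (hG : IsMinSimpleOddOrder G) (hM : IsCoatom M)
    (hKU : IsSigmaDecomposition M K U)
    (h21 : K = ⊥ → ∃ E₀ : Subgroup G, E₀ ≤ U ∧ Monoid.exponent E₀ = Monoid.exponent U ∧
      ∀ e ∈ E₀, e ≠ 1 → sigmaCore M ⊓ centralizer ({e} : Set G) = ⊥)
    (h30 : K ≠ ⊥ → ∃ U' : Subgroup G, IsMulCommutative U' ∧
      IsPiHallOf {q | q.Prime ∧ q ∉ kappa M ∧ q ∉ sigma M} U' M) :
    ∃ U₀ : Subgroup G, U₀ ≤ U ∧ Monoid.exponent U₀ = Monoid.exponent U ∧
      ∀ u ∈ U₀, u ∈ sigmaHat M → u = 1 := by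
  by_cases hK : K = ⊥
  · obtain ⟨E₀, hle, hexp, hfree⟩ := h21 hK
    refine ⟨E₀, hle, hexp, fun u hu hhat => by_contra fun hu1 => fixed_of_mem_sigmaHat hhat ?_⟩
    rw [Subgroup.zpowers_eq_closure, Subgroup.centralizer_closure]
    exact hfree u hu hu1
  · obtain ⟨U', hc, hU'⟩ := h30 hK
    exact exists_free hG hM hKU (isMulCommutative_U hG hM hKU hc hU')

theorem complIn_of_bot (hKU : IsSigmaDecomposition M K U) (hK : K = ⊥) : IsComplIn U (sigmaCore M) M := by
  have h := hKU.compl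
  rwa [hK, bot_sup_eq] at h

end Cfsg.Agent.OddOrder.TheoremB
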