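import Cfsg.Agent.Lib.OddOrder.SectionThirteen
import Cfsg.Agent.Lib.OddOrder.Partition
import Cfsg.Agent.Lib.OddOrder.TauOneUnique
import Cfsg.Agent.S1424
import Cfsg.Agent.S1427
import Cfsg.Agent.S1428

/-!
# Discharging `BG13 G`

`sigmaTransfer` (S1424) and `bg13_of_tau3`: everything but the semiregularity of `τ₃`.
-/

set_option autoImplicit false

namespace Cfsg.Agent.OddOrder

open Cfsg
open Subgroup (centralizer normalizer zpowers)

universe u
variable {G : Type u} [Group G] [Finite G]

theorem sigmaTransfer (hG : IsMinSimpleOddOrder G) : SigmaTransfer G :=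
  fun M hM q => fun [Fact q.Prime] hq X hXq hX1 hXM L hL hne hNX S hXS =>
    S1424.result hG M hM q hq X hXq hX1 hXM L hL hne hNX S hXS

theorem bg13_of_tau3 (hG : IsMinSimpleOddOrder G)
    (h3 : ∀ M : Subgroup G, IsCoatom M → ∀ p ∈ tau3 M, ∀ X : Subgroup G, X ≤ M → Nat.card X = p →
      sigmaCore M ⊓ centralizer (X : Set G) = ⊥) : BG13 G where
  partition := sigmaPartition hG
  transfer := sigmaTransfer hG
  semiprime M hM E hE p := fun [Fact p.Prime] S hS1 hSc => S1427.result hG M hM E hE p S hS1 hSc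
  tau1_comm M hM E hE p hp P hPE hP R hRE hR := S1428.result hG M hM E hE p hp P hPE hP R hRE hR
  tau3_regular := h3
  tau1_unique M hM p hp X hXM hX Y hY hYp := tau1_unique hG hM hp hXM hX hY hYp

end Cfsg.Agent.OddOrder
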