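import Cfsg.Agent.Lib.OddOrder.TheoremCSets
import Cfsg.Agent.Lib.OddOrder.PF.Conjugates
import Cfsg.Agent.S3745

/-!
# Bender–Glauberman 14.5 (b) and 14.8: the sets `tilde (M_σ#)` and the covering of `G#`

`ncard_tilde` is the conclusion of S1377, `covering` that of S1379.
-/

set_option autoImplicit false
set_option linter.unusedSectionVars false
set_option linter.style.haveILetI false

namespace Cfsg.Agent.OddOrder

open Cfsg
open Subgroup (centralizer normalizer zpowers)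
open scoped Pointwise

universe u
variable {G : Type u} [Group G] [Finite G]

/-- An element is the product of its `π`- and `π'`-parts, both powers of it. -/
theorem exists_piParts (π : Set ℕ) (g : G) :
    ∃ a ∈ zpowers g, ∃ b ∈ zpowers g, g = a * b ∧ (∀ p : ℕ, p.Prime → p ∣ orderOf a → p ∈ π) ∧
      (∀ p : ℕ, p.Prime → p ∣ orderOf b → p ∉ π) := by
  obtain ⟨m, k, hmk, hm, hk⟩ := S3745.exists_pi_part π (orderOf g) (orderOf_pos g).ne'
  have hcop := S3745.coprime_of hm hk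
  have hb := Nat.gcd_eq_gcd_ab m k
  rw [Nat.coprime_iff_gcd_eq_one.1 hcop, Nat.cast_one] at hb
  set u := Nat.gcdA m k
  set v := Nat.gcdB m k
  have hn : g ^ ((m : ℤ) * k) = 1 := by
    rw [← Nat.cast_mul, ← hmk, zpow_natCast, pow_orderOf_eq_one]
  have key : ∀ (a : ℕ) (w : ℤ) (l : G), l = g ^ w → ((m : ℤ) * k ∣ w * a) → orderOf l ∣ a := by
    rintro a w l rfl ⟨t, ht⟩
    refine orderOf_dvd_of_pow_eq_one ?_
    rw [← zpow_natCast, ← zpow_mul, ht, zpow_mul, hn, one_zpow]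
  refine ⟨g ^ ((k : ℤ) * v), ⟨_, rfl⟩, g ^ ((m : ℤ) * u), ⟨_, rfl⟩, ?_, fun p hp hd => hm p hp ?_,
    fun p hp hd => hk p hp ?_⟩
  · rw [← zpow_add, add_comm, ← hb, zpow_one]
  · exact hd.trans (key m _ _ rfl ⟨v, by ring⟩)
  · exact hd.trans (key k _ _ rfl ⟨u, by ring⟩)

theorem supportR_eq (hG : IsMinSimpleOddOrder G) {M N : Subgroup G} {x : G}
    (hN : Supporting M x N) (hxM : ¬ centralizer ({x} : Set G) ≤ M) :
    supportR M x = sigmaCore N ⊓ centralizer ({x} : Set G) := by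
  have hex : ∃! L : Subgroup G, IsCoatom L ∧ centralizer ({x} : Set G) ≤ L :=
    ⟨N, ⟨hN.coatom, hN.centralizer_le⟩, fun L hL => hN.unique L hL.1 hL.2⟩
  unfold supportR
  rw [dif_pos ⟨hxM, hex⟩]
  have hc := Classical.choose_spec hex.exists
  rw [hN.unique _ hc.1 hc.2, sigmaCore_eq_fittingHallOf hG hN.coatom hN.nilpotent]

theorem supportR_inf (hG : IsMinSimpleOddOrder G) (h13 : BG13 G) {M : Subgroup G} (hM : IsCoatom M) {x r : G}
    (hx : x ∈ sigmaCore M) (hx1 : x ≠ 1) (hr : r ∈ supportR M x) (hrM : r ∈ M) : r = 1 := by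
  by_contra hr1
  obtain ⟨N, hN, hrN⟩ := exists_of_supportR_ne_one hG h13 hM hx hx1 hr hr1
  exact hr1 (Subgroup.mem_bot.1 (hN.inf_eq_bot ▸ ⟨hrN.1, hrM⟩))

theorem supportR_conj (g : G) (M : Subgroup G) (x : G) :
    supportR (MulAut.conj g • M) (g * x * g⁻¹) = MulAut.conj g • supportR M x :=
  PF.supportR_map (MulAut.conj g) M x

theorem tilde_conj {M : Subgroup G} {A : Set G} {t : G} (h : t ∈ tildeOf M A) (c : G) :
    c * t * c⁻¹ ∈ tildeOf M A := by
  obtain ⟨a, ha, r, hr, y, rfl⟩ := h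
  exact ⟨a, ha, r, hr, c * y, by group⟩

theorem conj_mem_centralizer_singleton {w x : G} (c : G) (h : w ∈ centralizer ({x} : Set G)) :
    c * w * c⁻¹ ∈ centralizer ({c * x * c⁻¹} : Set G) := by
  rw [centralizer_conj_singleton, Coprime.mem_conj_smul_iff]
  simpa [mul_assoc] using h

section

variable (hG : IsMinSimpleOddOrder G) (h13 : BG13 G) {M : Subgroup G} (hM : IsCoatom M)
include hG h13 hM

/-- S1377. -/
theorem ncard_tilde :
    Set.ncard (tildeOf M ((sigmaCore M : Set G) \ {1})) = (Nat.card (sigmaCore M) - 1) * M.index := by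
  classical
  set A := (sigmaCore M : Set G) \ {1}
  let B := (G ⧸ M) × {x : G // x ∈ A}
  let yB : B → G := fun b => b.1.out * b.2.1 * b.1.out⁻¹
  -- a chosen representative in `A` for each element conjugate into `A`
  let rep : G → G × G := fun y =>
    if h : ∃ w : G × G, w.1 ∈ A ∧ y = w.2 * w.1 * w.2⁻¹ then h.choose else (1, 1)
  have hrep : ∀ (b : B), (rep (yB b)).1 ∈ A ∧ yB b = (rep (yB b)).2 * (rep (yB b)).1 * (rep (yB b)).2⁻¹ := by
    intro b
    have h : ∃ w : G × G, w.1 ∈ A ∧ yB b = w.2 * w.1 * w.2⁻¹ := ⟨(b.2.1, b.1.out), b.2.2, rfl⟩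
    simp only [rep, dif_pos h]
    exact h.choose_spec
  let CB : B → Subgroup G := fun b => MulAut.conj ((rep (yB b)).2⁻¹ * b.1.out) • M
  have hr : ∀ b : B, ∃ r, r ∈ supportR M (rep (yB b)).1 ∧ MulAut.conj r • M = CB b := by
    intro b
    obtain ⟨ha, he⟩ := hrep b
    refine exists_transporter hG h13 hM (isCoatom_conj hM _) ha.1 ?_ ha.2
    rw [sigmaCore_conj, Coprime.mem_conj_smul_iff]
    have : ((rep (yB b)).2⁻¹ * b.1.out)⁻¹ * (rep (yB b)).1 * ((rep (yB b)).2⁻¹ * b.1.out) = b.2.1 := by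
      calc _ = b.1.out⁻¹ * ((rep (yB b)).2 * (rep (yB b)).1 * (rep (yB b)).2⁻¹) * b.1.out := by group
        _ = b.2.1 := by rw [← he]; simp [yB, mul_assoc]
    rw [this]
    exact b.2.2.1
  choose rB hrB hrB' using hr
  let f : B → G := fun b => (rep (yB b)).2 * ((rep (yB b)).1 * rB b) * (rep (yB b)).2⁻¹
  have hMn := normalizer_coatom hG hM
  have hconj : ∀ g g' : G, MulAut.conj g • M = MulAut.conj g' • M → g⁻¹ * g' ∈ M := by
    intro g g' h
    rw [← hMn]
    refine Coprime.mem_normalizer_of_conj_smul_eq ?_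
    rw [map_mul, mul_smul, ← h, ← mul_smul, ← map_mul, inv_mul_cancel, map_one, one_smul]
  have hf : Function.Injective f := by
    intro b b' e
    obtain ⟨ha, he⟩ := hrep b
    obtain ⟨ha', he'⟩ := hrep b'
    obtain ⟨hc, h1, h2⟩ := supportR_parts hG h13 hM ha.1 ha.2 (hrB b)
    obtain ⟨hc', h1', h2'⟩ := supportR_parts hG h13 hM ha'.1 ha'.2 (hrB b')
    set a := (rep (yB b)).1
    set g := (rep (yB b)).2
    set a' := (rep (yB b')).1
    set g' := (rep (yB b')).2
    have hord : ∀ c z : G, orderOf (c * z * c⁻¹) = orderOf z := fun c z =>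
      MulEquiv.orderOf_eq (MulAut.conj c) z
    have hy : yB b = yB b' := by
      rw [he, he']
      refine (piPart_unique (π := sigma M) (b := g * rB b * g⁻¹) (d := g' * rB b' * g'⁻¹)
        (hc.map (MulAut.conj g)) (hc'.map (MulAut.conj g'))
        (fun p hp hd => h1 p hp (hord g a ▸ hd)) (fun p hp hd => h2 p hp (hord g (rB b) ▸ hd))
        (fun p hp hd => h1' p hp (hord g' a' ▸ hd)) (fun p hp hd => h2' p hp (hord g' (rB b') ▸ hd)) ?_).1
      calc g * a * g⁻¹ * (g * rB b * g⁻¹) = f b := by simp [f, a, g, mul_assoc]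
        _ = f b' := e
        _ = _ := by simp [f, a', g', mul_assoc]
    have hg : g = g' := by simp only [g, g', hy]
    have hra : rB b = rB b' := by
      have haa : a = a' := by simp only [a, a', hy]
      have e' : g * (a * rB b) * g⁻¹ = g' * (a' * rB b') * g'⁻¹ := e
      rw [← hg, ← haa] at e'
      exact mul_left_cancel (mul_left_cancel (mul_right_cancel e'))
    have hC := (hrB' b).symm.trans (hra ▸ hrB' b')
    have hq : b.1 = b'.1 := by
      have h3 := hconj _ _ hC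
      rw [← QuotientGroup.out_eq' b.1, ← QuotientGroup.out_eq' b'.1]
      refine QuotientGroup.eq.2 ?_
      simpa [CB, hy, mul_assoc] using h3
    refine Prod.ext hq (Subtype.ext ?_)
    have h4 : b.1.out * b.2.1 * b.1.out⁻¹ = b'.1.out * b'.2.1 * b'.1.out⁻¹ := hy
    rw [hq] at h4
    exact mul_left_cancel (mul_right_cancel h4)
  have hrange : Set.range f = tildeOf M A := by
    ext t
    constructor
    · rintro ⟨b, rfl⟩
      exact ⟨_, (hrep b).1, _, hrB b, _, rfl⟩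
    · rintro ⟨a₀, ha₀, r₀, hr₀, y₀, rfl⟩
      have hy : ∃ w : G × G, w.1 ∈ A ∧ y₀ * a₀ * y₀⁻¹ = w.2 * w.1 * w.2⁻¹ := ⟨(a₀, y₀), ha₀, rfl⟩
      obtain ⟨hwA, hwe⟩ := hy.choose_spec
      set a := hy.choose.1
      set g := hy.choose.2
      set h := g⁻¹ * y₀ with hh
      have hah : h * a₀ * h⁻¹ = a := by
        calc h * a₀ * h⁻¹ = g⁻¹ * (y₀ * a₀ * y₀⁻¹) * g := by rw [hh]; group
          _ = a := by rw [hwe]; group
      -- `h` carries `R(a₀)` to `R(a)`
      have haC : a ∈ sigmaCore (MulAut.conj h • M) := by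
        rw [sigmaCore_conj, Coprime.mem_conj_smul_iff, ← hah]
        simpa [mul_assoc] using ha₀.1
      obtain ⟨r, hr, hre⟩ := exists_transporter hG h13 hM (isCoatom_conj hM h) hwA.1 haC hwA.2
      have hm : r⁻¹ * h ∈ M := hconj _ _ hre
      obtain ⟨har, -, -⟩ := supportR_parts hG h13 hM hwA.1 hwA.2 hr
      set r' := h * r₀ * h⁻¹ with hr'
      have hr'R : r' ∈ supportR M a := by
        have h5 : (r⁻¹ * h) * r₀ * (r⁻¹ * h)⁻¹ ∈ supportR M a := by
          have e1 := supportR_conj (r⁻¹ * h) M a₀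
          rw [Coprime.conj_smul_eq_self_of_mem (Subgroup.le_normalizer hm)] at e1
          have e2 : r⁻¹ * h * a₀ * (r⁻¹ * h)⁻¹ = a := by
            calc r⁻¹ * h * a₀ * (r⁻¹ * h)⁻¹ = r⁻¹ * (h * a₀ * h⁻¹) * r := by group
              _ = a := by rw [hah, mul_assoc, har.eq, inv_mul_cancel_left]
          rw [e2] at e1
          rw [e1]
          exact ⟨r₀, hr₀, rfl⟩
        have := (supportR M a).mul_mem ((supportR M a).mul_mem hr h5) ((supportR M a).inv_mem hr)
        simpa [hr', mul_assoc] using this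
      obtain ⟨har', -, -⟩ := supportR_parts hG h13 hM hwA.1 hwA.2 hr'R
      set q : G ⧸ M := ↑(g * r')
      obtain ⟨m, hme⟩ := QuotientGroup.mk_out_eq_mul M (g * r')
      have hx : q.out⁻¹ * (g * a * g⁻¹) * q.out = (m : G)⁻¹ * a * m := by
        rw [show q.out = g * r' * m from hme]
        calc (g * r' * m)⁻¹ * (g * a * g⁻¹) * (g * r' * m) = (m : G)⁻¹ * (r'⁻¹ * (a * r')) * m := by group
          _ = (m : G)⁻¹ * a * m := by rw [har'.eq, inv_mul_cancel_left]
      have hxA : q.out⁻¹ * (g * a * g⁻¹) * q.out ∈ A := by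
        rw [hx]
        refine ⟨?_, fun e => hwA.2 ((conj_eq_one_iff (b := a) (a := (m : G)⁻¹)).1 (by rw [inv_inv]; exact e))⟩
        · have := (Subgroup.mem_normalizer_iff.1 (le_normalizer_sigmaCore M (M.inv_mem m.2)) a).1 hwA.1
          simpa using this
      refine ⟨(q, ⟨_, hxA⟩), ?_⟩
      set b : B := (q, ⟨_, hxA⟩)
      have hyb : yB b = y₀ * a₀ * y₀⁻¹ := by
        rw [hwe]
        show q.out * (q.out⁻¹ * (g * a * g⁻¹) * q.out) * q.out⁻¹ = g * a * g⁻¹
        group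
      have hrw : rep (yB b) = hy.choose := by
        simp only [rep, hyb, dif_pos hy]
      have hCb : CB b = MulAut.conj r' • M := by
        show MulAut.conj ((rep (yB b)).2⁻¹ * q.out) • M = _
        rw [hrw, show q.out = g * r' * m from hme, show g⁻¹ * (g * r' * m) = r' * m by group, map_mul, mul_smul,
          Coprime.conj_smul_eq_self_of_mem (Subgroup.le_normalizer m.2)]
      have hrr : rB b = r' := by
        have h6 := hrB b
        rw [hrw] at h6
        exact (inv_mul_eq_one.1 (supportR_inf hG h13 hM hwA.1 hwA.2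
          ((supportR M a).mul_mem ((supportR M a).inv_mem h6) hr'R) (hconj _ _ ((hrB' b).trans hCb))))
      show (rep (yB b)).2 * ((rep (yB b)).1 * rB b) * (rep (yB b)).2⁻¹ = y₀ * (a₀ * r₀) * y₀⁻¹
      rw [hrw, hrr]
      calc g * (a * r') * g⁻¹ = g * (h * (a₀ * r₀) * h⁻¹) * g⁻¹ := by rw [hr', ← hah]; group
        _ = y₀ * (a₀ * r₀) * y₀⁻¹ := by rw [hh]; group
  rw [← hrange, ← Nat.card_coe_set_eq, Nat.card_range_of_injective hf, Nat.card_prod, mul_comm]
  congr 1
  show Nat.card {x : G // x ∈ A} = _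
  refine (Nat.card_coe_set_eq A).trans ?_
  rw [Set.ncard_sdiff_singleton_of_mem (show (1 : G) ∈ (sigmaCore M : Set G) from one_mem _), ← Nat.card_coe_set_eq]
  rfl

/-- BG 14.8 inside `M`: a commuting product of an element of `M_σ#` and a nontrivial `σ'`-element of `M`. -/
theorem mixed_cases {y h : G} (hy : y ∈ sigmaCore M) (hy1 : y ≠ 1) (hh : h ∈ M) (hc : Commute h y)
    (hh1 : h ≠ 1) (hσ : ∀ p : ℕ, p.Prime → p ∣ orderOf h → p ∉ sigma M) :
    (∃ N : Subgroup G, IsCoatom N ∧ y * h ∈ tildeOf N ((sigmaCore N : Set G) \ {1})) ∨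
      ((kappa M).Nonempty ∧ ∀ K : Subgroup G, IsPiHallOf (kappa M) K M →
        ∃ m ∈ M, m * (y * h) * m⁻¹ ∈ ((↑(K ⊔ (sigmaCore M ⊓ centralizer (K : Set G))) : Set G) \
          ((K : Set G) ∪ ↑(sigmaCore M ⊓ centralizer (K : Set G))))) := by
  rcases sigma'_centralizer hG h13 hM hy hy1
    (x' := h) ⟨hh, Subgroup.mem_centralizer_singleton_iff.2 hc.eq⟩ hh1 hσ with ⟨hκ, -⟩ | ⟨-, ⟨L, hL, hLσ⟩, hCh⟩
  · obtain ⟨p, hp, hpd⟩ := Nat.exists_prime_and_dvd (fun e => hh1 (orderOf_eq_one_iff.1 e))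
    refine Or.inr ⟨⟨p, hκ p hp hpd⟩, fun K hK => ?_⟩
    obtain ⟨m, hm, hmK⟩ := exists_conj_le_hall hG hM hK (Subgroup.zpowers_le.2 hh)
      (fun q hq hqd => hκ q hq (by rwa [Nat.card_zpowers] at hqd))
    set k := m * h * m⁻¹ with hk
    have hkK : k ∈ K := hmK h (Subgroup.mem_zpowers h)
    have hk1 : k ≠ 1 := fun e => hh1 (by rwa [hk, conj_eq_one_iff] at e)
    have hK1 : K ≠ ⊥ := fun e => hk1 (Subgroup.mem_bot.1 (e ▸ hkK))
    obtain ⟨E, d⟩ := exists_pData hG h13 hM hK hK1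
    have hm' := member_self hG h13 hM hK hK1
    set w := m * y * m⁻¹ with hw
    have hwD : w ∈ sigmaCore M ⊓ centralizer (K : Set G) := by
      rw [← d.primeAction hkK hk1]
      refine ⟨(Subgroup.mem_normalizer_iff.1 (le_normalizer_sigmaCore M hm) y).1 hy,
        Subgroup.mem_centralizer_singleton_iff.2 ?_⟩
      exact (hc.map (MulAut.conj m)).symm.eq
    have hdis : K ⊓ (sigmaCore M ⊓ centralizer (K : Set G)) = ⊥ := Coprime.disjoint_of_coprime_card hm'.coprime
    refine ⟨m, hm, ?_⟩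
    rw [show m * (y * h) * m⁻¹ = w * k by rw [hw, hk]; group]
    refine ⟨Subgroup.mul_mem _ (Subgroup.mem_sup_right hwD) (Subgroup.mem_sup_left hkK), ?_⟩
    rintro (h' | h')
    · have h2 : w ∈ K ⊓ (sigmaCore M ⊓ centralizer (K : Set G)) := ⟨(K.mul_mem_cancel_right hkK).1 h', hwD⟩
      rw [hdis, Subgroup.mem_bot, hw, conj_eq_one_iff] at h2
      exact hy1 h2
    · have h2 : k ∈ K ⊓ (sigmaCore M ⊓ centralizer (K : Set G)) :=
        ⟨hkK, (Subgroup.mul_mem_cancel_left _ hwD).1 h'⟩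
      rw [hdis, Subgroup.mem_bot] at h2
      exact hk1 h2
  · obtain ⟨c, hcL⟩ := S1425.result hG L hL (zpowers h) (by rwa [Ne, Subgroup.zpowers_eq_bot])
      (fun p hp hd => hLσ p hp (by rwa [Nat.card_zpowers] at hd))
    set a := c * h * c⁻¹ with ha
    have haσ : a ∈ sigmaCore L := hcL (Subgroup.mem_map_of_mem _ (Subgroup.mem_zpowers h))
    have ha1 : a ≠ 1 := fun e => hh1 (by rwa [ha, conj_eq_one_iff] at e)
    have hCa : centralizer ({a} : Set G) ≤ MulAut.conj c • M := by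
      rw [ha, centralizer_conj_singleton]
      exact Subgroup.pointwise_smul_le_pointwise_smul_iff.2 hCh.1
    have haL : ¬ centralizer ({a} : Set G) ≤ L := fun hle => by
      have e : MulAut.conj c⁻¹ • L = M := hCh.2 _ (isCoatom_conj hL _) (by
        have := (Subgroup.pointwise_smul_le_pointwise_smul_iff (a := MulAut.conj c⁻¹)).2 hle
        rwa [ha, centralizer_conj_singleton, Coprime.conj_smul_smul, inv_mul_cancel, map_one, one_smul] at this)
      obtain ⟨p, hp, hpd⟩ := Nat.exists_prime_and_dvd (fun e => hh1 (orderOf_eq_one_iff.1 e))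
      exact hσ p hp hpd (e ▸ (sigma_conj c⁻¹ L).symm ▸ hLσ p hp hpd)
    obtain ⟨N, hN⟩ := exists_supporting hG h13.partition h13.transfer hL haσ ha1 haL
    have hNM : N = MulAut.conj c • M := (hN.unique _ (isCoatom_conj hM c) hCa).symm
    refine Or.inl ⟨L, hL, ?_⟩
    rw [show y * h = c⁻¹ * (a * (c * y * c⁻¹)) * c⁻¹⁻¹ by rw [ha, hc.symm.eq]; group]
    refine ⟨a, ⟨haσ, ha1⟩, c * y * c⁻¹, ?_, c⁻¹, rfl⟩
    rw [supportR_eq hG hN haL, hNM, sigmaCore_conj]
    refine ⟨⟨y, hy, rfl⟩, Subgroup.mem_centralizer_singleton_iff.2 ?_⟩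
    exact (hc.map (MulAut.conj c)).symm.eq

end

/-- BG 14.8: every non-identity element lies in some `tilde (N_σ#)` or is conjugate into some `Ẑ`. -/
theorem exists_cover (hG : IsMinSimpleOddOrder G) (h13 : BG13 G) {g : G} (hg : g ≠ 1) :
    (∃ N : Subgroup G, IsCoatom N ∧ g ∈ tildeOf N ((sigmaCore N : Set G) \ {1})) ∨
      ∃ H K : Subgroup G, IsCoatom H ∧ (kappa H).Nonempty ∧ IsPiHallOf (kappa H) K H ∧ K ≠ ⊥ ∧
        ∃ c : G, c * g * c⁻¹ ∈ ((↑(K ⊔ (sigmaCore H ⊓ centralizer (K : Set G))) : Set G) \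
          ((K : Set G) ∪ ↑(sigmaCore H ⊓ centralizer (K : Set G)))) := by
  obtain ⟨p, hp, hpd⟩ := Nat.exists_prime_and_dvd (fun e => hg (orderOf_eq_one_iff.1 e))
  haveI := Fact.mk hp
  obtain ⟨M, hM, hpM⟩ := exists_sigma hG (hpd.trans (orderOf_dvd_natCard g))
  obtain ⟨x₀, hx₀, h₀, hh₀, hg₀, hxs, hhs⟩ := exists_piParts (sigma M) g
  have hx01 : x₀ ≠ 1 := fun e => hhs p hp (by rwa [hg₀, e, one_mul] at hpd) hpM
  obtain ⟨c, hc⟩ := S1425.result hG M hM (zpowers x₀) (by rwa [Ne, Subgroup.zpowers_eq_bot])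
    (fun q hq hd => hxs q hq (by rwa [Nat.card_zpowers] at hd))
  set x := c * x₀ * c⁻¹ with hx
  set h := c * h₀ * c⁻¹ with hh
  have hxσ : x ∈ sigmaCore M := hc (Subgroup.mem_map_of_mem _ (Subgroup.mem_zpowers x₀))
  have hx1 : x ≠ 1 := fun e => hx01 (by rwa [hx, conj_eq_one_iff] at e)
  have hord : orderOf h = orderOf h₀ := MulEquiv.orderOf_eq (MulAut.conj c) h₀
  have hhx : Commute h x := by
    obtain ⟨i, rfl⟩ := hx₀
    obtain ⟨j, rfl⟩ := hh₀
    exact (Commute.zpow_zpow_self g j i).map (MulAut.conj c)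
  have hgc : c * g * c⁻¹ = x * h := by rw [hx, hh, hg₀]; group
  -- it is enough to treat any conjugate of `x h`
  suffices key : ∃ d : G, (∃ N : Subgroup G, IsCoatom N ∧
      d * (x * h) * d⁻¹ ∈ tildeOf N ((sigmaCore N : Set G) \ {1})) ∨
      (d * (x * h) * d⁻¹ = x * (d * h * d⁻¹) ∧ d * h * d⁻¹ ∈ M ∧ h ≠ 1 ∧ Commute d x) by
    obtain ⟨d, ⟨N, hN, hd⟩ | ⟨hd, hdM, hh1, hdx⟩⟩ := key
    · refine Or.inl ⟨N, hN, ?_⟩
      have h1 := tilde_conj hd (d * c)⁻¹
      rw [← hgc] at h1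
      simpa [mul_assoc] using h1
    · have hcomm : Commute (d * h * d⁻¹) x := by
        have e := hhx.map (MulAut.conj d)
        simp only [MulAut.conj_apply] at e
        rwa [hdx.eq, mul_inv_cancel_right] at e
      rcases mixed_cases hG h13 hM hxσ hx1 hdM hcomm (fun e => hh1 (by rwa [conj_eq_one_iff] at e))
          (fun q hq hqd => hhs q hq (by
            rw [← hord, ← MulEquiv.orderOf_eq (MulAut.conj d) h]; exact hqd)) with ⟨N, hN, h1⟩ | ⟨hκ, h1⟩
      · refine Or.inl ⟨N, hN, ?_⟩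
        rw [← hd, ← hgc] at h1
        have h2 := tilde_conj h1 (d * c)⁻¹
        simpa [mul_assoc] using h2
      · obtain ⟨K, hKc, hK⟩ := exists_cyclic_kappa_hall hG h13 hM
        obtain ⟨m, -, hm⟩ := h1 K hK
        refine Or.inr ⟨M, K, hM, hκ, hK, fun e => ?_, m * d * c, ?_⟩
        · obtain ⟨q, hq⟩ := hκ
          refine hK.2.2 q hq.1 hq ?_
          rw [e, Subgroup.relIndex_bot_left]
          exact hq.2.1
        · rw [← hd, ← hgc] at hm
          simpa [mul_assoc] using hm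
  by_cases hh1 : h = 1
  · refine ⟨1, Or.inl ⟨M, hM, ?_⟩⟩
    rw [hh1]
    exact ⟨x, ⟨hxσ, hx1⟩, 1, (supportR M x).one_mem, 1, by simp⟩
  have hhC : h ∈ centralizer ({x} : Set G) := Subgroup.mem_centralizer_singleton_iff.2 hhx.eq
  by_cases hxM : centralizer ({x} : Set G) ≤ M
  · exact ⟨1, Or.inr ⟨by simp, by simpa using hxM hhC, hh1, Commute.one_left x⟩⟩
  obtain ⟨N, hN⟩ := exists_supporting hG h13.partition h13.transfer hM hxσ hx1 hxM
  set C := centralizer ({x} : Set G) with hC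
  set A := M ⊓ C
  set R := sigmaCore N ⊓ C
  have hRn : C ≤ normalizer (R : Set G) :=
    Coprime.le_normalizer_inf_of_le (hN.centralizer_le.trans (le_normalizer_sigmaCore N)) Subgroup.le_normalizer
  have hAR : ∀ l : ℕ, l.Prime → l ∣ Nat.card A → ¬ l ∣ Nat.card R := fun l hl h1 h2 =>
    not_mem_sigma_of_compl hG hN.coatom hN.compl hl
      (h1.trans (Subgroup.card_dvd_of_le (le_inf inf_le_left (inf_le_right.trans hN.centralizer_le))))
      (isPiGrp_piCoreOf (sigma N) N l hl (h2.trans (Subgroup.card_dvd_of_le inf_le_left)))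
  obtain ⟨h1, hh1', h2, hh2, he, hp1, hp2⟩ := exists_piParts {l | l ∣ Nat.card A} h
  have hh1C : h1 ∈ C := Subgroup.zpowers_le.2 hhC hh1'
  by_cases h11 : h1 = 1
  · refine ⟨1, Or.inl ⟨M, hM, ?_⟩⟩
    refine ⟨x, ⟨hxσ, hx1⟩, h, ?_, 1, by simp⟩
    rw [supportR_eq hG hN hxM]
    haveI : (R.subgroupOf C).Normal := (Subgroup.normal_subgroupOf_iff_le_normalizer inf_le_right).2 hRn
    refine Subgroup.mem_subgroupOf.1 (mem_of_coprime_index (x := (⟨h, hhC⟩ : C)) (N := R.subgroupOf C) ?_)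
    have e1 := Subgroup.relIndex_mul_relIndex ⊥ R C bot_le inf_le_right
    rw [Subgroup.relIndex_bot_left, Subgroup.relIndex_bot_left, ← card_eq_of_isComplIn hN.complCent,
      mul_comm (Nat.card A)] at e1
    rw [show (R.subgroupOf C).index = Nat.card A from Nat.eq_of_mul_eq_mul_left Nat.card_pos e1,
      ← Subgroup.orderOf_coe]
    show (orderOf h).Coprime (Nat.card A)
    rw [he, h11, one_mul]
    exact Nat.coprime_of_dvd fun l hl ha hb => hp2 l hl ha hb
  haveI : Group.IsSolvable R := Coprime.isSolvable_of_le (inf_le_left.trans (sigmaCore_le N))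
    (isSolvable_of_coatom hG hN.coatom)
  obtain ⟨n, hn, hle⟩ := Coprime.exists_le_conj_of_le_sup (A := A) (N := R) (B := zpowers h1)
    (inf_le_right.trans hRn) (Subgroup.zpowers_le.2 (by
      obtain ⟨a, ha, b, hb, e⟩ := hN.complCent.2.2.2 h1 hh1C
      rw [e]
      exact Subgroup.mul_mem_sup ha hb))
    (Nat.coprime_of_dvd fun l hl ha hb => hAR l hl ha hb)
    (by rw [Nat.card_zpowers]; exact Nat.coprime_of_dvd fun l hl ha hb => hAR l hl (hp1 l hl ha) hb)
    (Or.inr inferInstance)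
  have hh1A := Coprime.mem_conj_smul_iff.1 (hle (Subgroup.mem_zpowers h1))
  set h1' := n⁻¹ * h1 * n with hh1d
  have hnx : Commute n⁻¹ x := Commute.inv_left (show Commute n x from Subgroup.mem_centralizer_singleton_iff.1 hn.2)
  have hord1 : orderOf h1' = orderOf h1 := by
    rw [hh1d]
    simpa using MulEquiv.orderOf_eq (MulAut.conj n⁻¹) h1
  have hh1n : h1' ≠ 1 := fun e => h11 (orderOf_eq_one_iff.1 (by rw [← hord1, e, orderOf_one]))
  have hh1σ : ∀ q : ℕ, q.Prime → q ∣ orderOf h1' → q ∉ sigma M := fun q hq hqd => hhs q hq (by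
    rw [← hord]
    exact (hord1 ▸ hqd).trans (orderOf_dvd_of_mem_zpowers hh1'))
  rcases sigma'_centralizer hG h13 hM hxσ hx1 hh1A hh1n hh1σ with ⟨-, hle'⟩ | ⟨-, -, hu, -⟩
  · exact absurd hle' hxM
  refine ⟨n⁻¹, Or.inr ⟨?_, ?_, hh1, hnx⟩⟩
  · calc n⁻¹ * (x * h) * n⁻¹⁻¹ = (n⁻¹ * x) * h * n := by group
      _ = x * (n⁻¹ * h * n⁻¹⁻¹) := by rw [hnx.eq]; group
  · refine hu (Subgroup.mem_centralizer_singleton_iff.2 ?_)
    obtain ⟨i, hi⟩ := hh1'
    have e := ((Commute.self_zpow h i).map (MulAut.conj n⁻¹))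
    rw [show h ^ i = h1 from hi] at e
    simpa [hh1d] using e.eq

/-- S1379. -/
theorem covering (hG : IsMinSimpleOddOrder G) (h13 : BG13 G) :
    (∀ M N : Subgroup G, IsCoatom M → IsCoatom N → (∀ g : G, N ≠ M.map (MulAut.conj g).toMonoidHom) →
        tildeOf M ((sigmaCore M : Set G) \ {1}) ∩ tildeOf N ((sigmaCore N : Set G) \ {1}) = ∅) ∧
      ((∀ M : Subgroup G, IsCoatom M → kappa M = ∅) →
        ∀ g : G, g ≠ 1 → ∃ M : Subgroup G, IsCoatom M ∧ g ∈ tildeOf M ((sigmaCore M : Set G) \ {1})) ∧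
      ∀ (M K U : Subgroup G), IsCoatom M → IsSigmaDecomposition M K U → K ≠ ⊥ →
        (∀ g : G, g ≠ 1 → (∃ N : Subgroup G, IsCoatom N ∧ g ∈ tildeOf N ((sigmaCore N : Set G) \ {1})) ∨
            ∃ y : G, ∃ z ∈ ((↑(K ⊔ (sigmaCore M ⊓ centralizer (K : Set G))) : Set G) \
              ((K : Set G) ∪ ↑(sigmaCore M ⊓ centralizer (K : Set G)))), g = y * z * y⁻¹) ∧
        ∀ N : Subgroup G, IsCoatom N → ∀ y : G, ∀ z ∈ ((↑(K ⊔ (sigmaCore M ⊓ centralizer (K : Set G))) : Set G) \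
              ((K : Set G) ∪ ↑(sigmaCore M ⊓ centralizer (K : Set G)))),
          y * z * y⁻¹ ∉ tildeOf N ((sigmaCore N : Set G) \ {1}) := by
  have hnot : ∀ (M K : Subgroup G), IsCoatom M → IsPiHallOf (kappa M) K M → K ≠ ⊥ →
      ∀ N : Subgroup G, IsCoatom N → ∀ y : G, ∀ z ∈ ((↑(K ⊔ (sigmaCore M ⊓ centralizer (K : Set G))) : Set G) \
          ((K : Set G) ∪ ↑(sigmaCore M ⊓ centralizer (K : Set G)))),
        y * z * y⁻¹ ∉ tildeOf N ((sigmaCore N : Set G) \ {1}) := by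
    intro M K hM hK hK1 N hN y z hz ht
    obtain ⟨Mstar, P⟩ := exists_dualPair hG h13 hM hK hK1
    rw [← P.memberSet_eq] at hz
    obtain ⟨a, ha, r, hr, c, e⟩ := ht
    refine P.mem.not_support hN ha.1 ha.2 hr hz (a := c⁻¹ * y) ?_
    calc c⁻¹ * y * z * (c⁻¹ * y)⁻¹ = c⁻¹ * (y * z * y⁻¹) * c := by group
      _ = a * r := by rw [e]; group
  refine ⟨fun M N hM hN hne => ?_, fun hκ g hg => ?_, fun M K U hM hd hK1 => ⟨fun g hg => ?_,
    hnot M K hM hd.hall hK1⟩⟩
  · rw [Set.eq_empty_iff_forall_notMem]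
    rintro t ⟨⟨a, ha, r, hr, y, rfl⟩, b, hb, s, hs, y', e⟩
    set d := y⁻¹ * y' with hd
    have hbd : d * b * d⁻¹ ∈ sigmaCore (MulAut.conj d • N) := by
      rw [sigmaCore_conj]; exact ⟨b, hb.1, rfl⟩
    have hsd : d * s * d⁻¹ ∈ supportR (MulAut.conj d • N) (d * b * d⁻¹) := by
      rw [supportR_conj]; exact ⟨s, hs, rfl⟩
    have hbd1 : d * b * d⁻¹ ≠ 1 := fun e' => hb.2 (by rwa [conj_eq_one_iff] at e')
    have hab : a ≠ d * b * d⁻¹ := fun e' => by
      obtain ⟨p, hp, hpd⟩ := Nat.exists_prime_and_dvd (fun e => ha.2 (orderOf_eq_one_iff.1 e))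
      obtain ⟨g, hgN⟩ := h13.partition M (MulAut.conj d • N) hM (isCoatom_conj hN d)
        ⟨p, isPiGrp_piCoreOf (sigma M) M p hp (hpd.trans (Subgroup.orderOf_dvd_natCard _ ha.1)),
          isPiGrp_piCoreOf _ _ p hp (hpd.trans (Subgroup.orderOf_dvd_natCard _ (e' ▸ hbd)))⟩
      refine hne (d⁻¹ * g) ?_
      show N = MulAut.conj (d⁻¹ * g) • M
      rw [map_mul, mul_smul, show MulAut.conj g • M = MulAut.conj d • N from hgN.symm, Coprime.conj_smul_smul,
        inv_mul_cancel, map_one, one_smul]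
    refine support_disjoint hG h13 hM (isCoatom_conj hN d) ha.1 hbd ha.2 hbd1 hab r hr _ hsd ?_
    calc a * r = y⁻¹ * (y * (a * r) * y⁻¹) * y := by group
      _ = d * b * d⁻¹ * (d * s * d⁻¹) := by rw [e, hd]; group
  · rcases exists_cover hG h13 hg with h | ⟨H, K, hH, hne, -⟩
    · exact h
    · obtain ⟨p, hp⟩ := hne
      rw [hκ H hH] at hp
      exact absurd hp (Set.notMem_empty p)
  · rcases exists_cover hG h13 hg with h | ⟨H, KH, hH, hκ, hKH, hKH1, c, hc⟩
    · exact Or.inl h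
    refine Or.inr ?_
    obtain ⟨Mstar, P⟩ := exists_dualPair hG h13 hM hd.hall hK1
    have hgn : ∀ (N : Subgroup G), IsCoatom N → ∀ y : G,
        y * g * y⁻¹ ∉ tildeOf N ((sigmaCore N : Set G) \ {1}) := fun N hN y ht => by
      refine hnot H KH hH hKH hKH1 N hN (y * c⁻¹) _ hc ?_
      simpa [mul_assoc] using ht
    -- move `g` into `M` or `M*`
    obtain ⟨k, hk, w, hw, hkw⟩ := (Coprime.mem_sup_iff_of_le_normalizer
      ((Subgroup.le_centralizer_iff.1 (inf_le_right : sigmaCore H ⊓ centralizer (KH : Set G) ≤ _)).trans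
        (Subgroup.centralizer_le_normalizer _))).1 hc.1
    have hk1 : k ≠ 1 := fun e => hc.2 (Or.inr (by rw [← hkw, e, one_mul]; exact hw))
    have hw1 : w ≠ 1 := fun e => hc.2 (Or.inl (by rw [← hkw, e, mul_one]; exact hk))
    have main : ∀ (L KL : Subgroup G), IsCoatom L → IsPiHallOf (kappa L) KL L →
        ∀ e : G, MulAut.conj e • L = H → ∃ d : G, d * g * d⁻¹ ∈
          ((↑(KL ⊔ (sigmaCore L ⊓ centralizer (KL : Set G))) : Set G) \
            ((KL : Set G) ∪ ↑(sigmaCore L ⊓ centralizer (KL : Set G)))) := by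
      intro L KL hL hKL e he
      have hw' : e⁻¹ * w * e ∈ sigmaCore L := by
        have this : w ∈ sigmaCore H := hw.1
        rw [← he, sigmaCore_conj, Coprime.mem_conj_smul_iff] at this
        exact this
      have hk' : e⁻¹ * k * e ∈ L := by
        have := hKH.1 hk
        rw [← he, Coprime.mem_conj_smul_iff] at this
        exact this
      have hcomm : Commute (e⁻¹ * k * e) (e⁻¹ * w * e) := by
        have := (show Commute k w from Subgroup.mem_centralizer_iff.1 hw.2 k hk).map (MulAut.conj e⁻¹)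
        simpa using this
      have hord' : ∀ z : G, orderOf (e⁻¹ * z * e) = orderOf z := fun z => by
        simpa using MulEquiv.orderOf_eq (MulAut.conj e⁻¹) z
      rcases mixed_cases hG h13 hL hw' (fun h => hw1 (orderOf_eq_one_iff.1 (by rw [← hord', h, orderOf_one])))
          hk' hcomm (fun h => hk1 (orderOf_eq_one_iff.1 (by rw [← hord', h, orderOf_one]))) (fun q hq hqd hqL => by
            rw [hord'] at hqd
            refine (hKH.2.1 q hq (hqd.trans (Subgroup.orderOf_dvd_natCard KH hk))).2.2.1 ?_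
            rwa [← he, sigma_conj]) with ⟨N, hN, ht⟩ | ⟨-, h⟩
      · refine absurd ?_ (hgn N hN (e⁻¹ * c))
        have e1 : e⁻¹ * w * e * (e⁻¹ * k * e) = e⁻¹ * c * g * (e⁻¹ * c)⁻¹ := by
          rw [show e⁻¹ * w * e * (e⁻¹ * k * e) = e⁻¹ * (w * k) * e by group,
            ← Subgroup.mem_centralizer_iff.1 hw.2 k hk, hkw]
          group
        rwa [← e1]
      · obtain ⟨m, -, hm⟩ := h KL hKL
        refine ⟨m * e⁻¹ * c, ?_⟩
        have e1 : m * (e⁻¹ * w * e * (e⁻¹ * k * e)) * m⁻¹ = m * e⁻¹ * c * g * (m * e⁻¹ * c)⁻¹ := by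
          rw [show e⁻¹ * w * e * (e⁻¹ * k * e) = e⁻¹ * (w * k) * e by group,
            ← Subgroup.mem_centralizer_iff.1 hw.2 k hk, hkw]
          group
        rwa [← e1]
    obtain ⟨e, he | he⟩ := P.conj_of_kappa hH hκ
    · obtain ⟨d, hd'⟩ := main M K hM hd.hall e he
      exact ⟨d⁻¹, _, hd', by group⟩
    · obtain ⟨d, hd'⟩ := main Mstar _ P.mem'.coatom P.mem'.hall e he
      rw [P.part, sup_comm, Set.union_comm] at hd'
      exact ⟨d⁻¹, _, hd', by group⟩

end Cfsg.Agent.OddOrder
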