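import Cfsg.Agent.Lib.OddOrder.KappaConsequences

/-!
# Nilpotent Hall subgroups of a minimal simple group of odd order

Such a subgroup lies in `M_σ` for a maximal subgroup `M`, hence (BG 15, S1438) its fusion is
controlled by its normalizer.
-/

set_option autoImplicit false
set_option linter.unusedSectionVars false
set_option linter.style.haveILetI false

namespace Cfsg.Agent.OddOrder

open Cfsg
open Subgroup (centralizer normalizer zpowers)

universe u
variable {G : Type u} [Group G] [Finite G]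

/-- A Sylow subgroup of `G` inside a Hall subgroup. -/
theorem exists_sylow_le_of_hall {H : Subgroup G} (hH : (Nat.card H).Coprime H.index) {p : ℕ} [Fact p.Prime]
    (hd : p ∣ Nat.card H) :
    ∃ P : Sylow p G, (P : Subgroup G) ≤ H ∧ (P : Subgroup G) ≠ ⊥ := by
  obtain ⟨P₀⟩ : Nonempty (Sylow p H) := inferInstance
  have hidx : ¬ p ∣ ((P₀ : Subgroup H).map H.subtype).index := by
    rw [Subgroup.index_map_subtype]
    intro h
    rcases (Fact.out : p.Prime).dvd_mul.1 h with h | h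
    · exact P₀.not_dvd_index h
    · exact (Fact.out : p.Prime).ne_one (Nat.eq_one_of_dvd_coprimes hH hd h)
  refine ⟨(P₀.2.map H.subtype).toSylow hidx, Subgroup.map_subtype_le _, fun e => ?_⟩
  exact P₀.ne_bot_of_dvd_card hd ((Subgroup.map_eq_bot_iff_of_injective _ H.subtype_injective).1 e)

/-- In a nilpotent subgroup, Sylow subgroups at distinct primes commute. -/
theorem sylow_le_centralizer_of_nilpotent {H P Q : Subgroup G} (hn : Group.IsNilpotent H) {p q : ℕ}
    [Fact p.Prime] [Fact q.Prime] (hne : q ≠ p) (hP : IsPGroup p P) (hQ : IsPGroup q Q) (hPH : P ≤ H)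
    (hQH : Q ≤ H) : Q ≤ centralizer (P : Set G) := fun y hy => Subgroup.mem_centralizer_iff.2 fun x hx => by
  haveI := hn
  obtain ⟨k, hk⟩ := hP ⟨x, hx⟩
  obtain ⟨j, hj⟩ := hQ ⟨y, hy⟩
  have hk' : x ^ p ^ k = 1 := congrArg Subtype.val hk
  refine (congrArg Subtype.val (Subnormal.commute_of_coprime (G := H) (p := p) (k := k)
    (u := ⟨x, hPH hx⟩) (y := ⟨y, hQH hy⟩) (Subtype.ext hk') ?_).eq).symm
  rw [Subgroup.orderOf_mk]
  exact ((Nat.coprime_primes (Fact.out : q.Prime) (Fact.out : p.Prime)).2 hne).pow_left j |>.coprime_dvd_left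
    (orderOf_dvd_of_pow_eq_one (congrArg Subtype.val hj))

/-- A Sylow `p`-subgroup of `G` in `M_σ` and a Sylow `q`-subgroup of `G` in `M` centralising it: `q ∈ σ(M)`. -/
theorem mem_sigma_of_centralizes_sylow (hG : IsMinSimpleOddOrder G) (h13 : BG13 G) {M : Subgroup G}
    (hM : IsCoatom M) {p q : ℕ} [Fact p.Prime] [Fact q.Prime] (hp : p ∈ sigma M) (P : Sylow p G)
    (Q : Sylow q G) (hP1 : (P : Subgroup G) ≠ ⊥) (hQ1 : (Q : Subgroup G) ≠ ⊥) (hPM : (P : Subgroup G) ≤ M)
    (hQM : (Q : Subgroup G) ≤ M) (hcomm : (Q : Subgroup G) ≤ centralizer ((P : Subgroup G) : Set G)) :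
    q ∈ sigma M := by
  by_contra hqs
  have hPσ : (P : Subgroup G) ≤ sigmaCore M := by
    have h := sylow_le_sigmaCore hG hM hp (P.subtype hPM)
    rwa [Sylow.coe_subtype, Subgroup.map_subgroupOf_eq_of_le hPM] at h
  have hfix : ∀ X : Subgroup G, X ≤ (Q : Subgroup G) →
      (P : Subgroup G) ≤ sigmaCore M ⊓ centralizer ((X : Subgroup G) : Set G) := fun X hX =>
    le_inf hPσ ((Subgroup.le_centralizer_iff.1 hcomm).trans (Subgroup.centralizer_le hX))
  haveI : Nontrivial (Q : Subgroup G) := (Subgroup.nontrivial_iff_ne_bot _).2 hQ1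
  obtain ⟨k, hk⟩ := Q.2.exists_card_eq
  have hqQ : q ∣ Nat.card (Q : Subgroup G) :=
    hk ▸ dvd_pow_self q fun e => Finite.one_lt_card.ne' (hk.trans (by rw [e, pow_zero]))
  obtain ⟨z, hz⟩ := exists_prime_orderOf_dvd_card' q hqQ
  rw [← Subgroup.orderOf_coe] at hz
  set X := zpowers (z : G) with hX
  have hXc : Nat.card X = q := by rw [hX, Nat.card_zpowers, hz]
  have hXQ : X ≤ (Q : Subgroup G) := Subgroup.zpowers_le.2 z.2
  have hXM : X ≤ M := hXQ.trans hQM
  have hXne : sigmaCore M ⊓ centralizer (X : Set G) ≠ ⊥ := fun e => hP1 (le_bot_iff.1 ((hfix X hXQ).trans e.le))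
  rcases mem_tau hG hM (hqQ.trans (Subgroup.card_dvd_of_le hQM)) hqs with h | h | h
  · have hqk : q ∈ kappa M := mem_kappa_of_fixed hG h.2.2.2.2 hqs hXM hXc hXne
    obtain ⟨K, hXK, hK⟩ := exists_piHallOf_ge (kappa M) (isSolvable_of_coatom hG hM) hXM
      (fun l hl hd => (Nat.prime_dvd_prime_iff_eq hl Fact.out).1 (hXc ▸ hd) ▸ hqk)
    have hK1 : K ≠ ⊥ := fun e => (Fact.out : q.Prime).ne_one (by
      rw [← hXc, le_bot_iff.1 (hXK.trans e.le), Subgroup.card_bot])
    obtain ⟨E, d⟩ := exists_pData hG h13 hM hK hK1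
    have hle := (hfix X hXQ).trans (d.inf_centralizer_eq hXK hXc).le
    have hpK : p ∣ Nat.card ↥(sigmaCore M ⊓ centralizer (K : Set G)) := by
      obtain ⟨j, hj⟩ := P.2.exists_card_eq
      refine (hj ▸ dvd_pow_self p fun e => hP1 (Subgroup.card_eq_one.1 (hj.trans (by rw [e, pow_zero])))).trans
        (Subgroup.card_dvd_of_le hle)
    refine (d.kstar_ti.2.2.1 p Fact.out hpK (P.subtype hPσ)).2.2 ?_
    rwa [Sylow.coe_subtype, Subgroup.map_subgroupOf_eq_of_le hPσ]
  · set S : Sylow q M := Q.subtype hQM with hS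
    have hSQ : (S : Subgroup M).map M.subtype = (Q : Subgroup G) := by
      rw [hS, Sylow.coe_subtype, Subgroup.map_subgroupOf_eq_of_le hQM]
    obtain ⟨A, hAS, hA, hAc⟩ := exists_square_le h.2.2.2 S
    obtain ⟨A₀, hexc⟩ := exists_exc hG hM hqs (hAS.trans (Subgroup.map_subtype_le _)) hA hAc
    exact hP1 (le_bot_iff.1 ((hfix A (hSQ ▸ hAS)).trans hexc.sigmaCore_inf_centralizer.le))
  · exact hXne (h13.tau3_regular M hM q h X hXM hXc)

/-- A nontrivial nilpotent Hall subgroup lies in some `M_σ`. -/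
theorem exists_le_sigmaCore_of_nilpotent_hall (hG : IsMinSimpleOddOrder G) (h13 : BG13 G) {H : Subgroup G}
    (hn : Group.IsNilpotent H) (hHall : (Nat.card H).Coprime H.index) (hH : H ≠ ⊥) :
    ∃ M : Subgroup G, IsCoatom M ∧ H ≤ sigmaCore M := by
  obtain ⟨p, hp, hpd⟩ := Nat.exists_prime_and_dvd (n := Nat.card H) (fun e => hH (Subgroup.card_eq_one.1 e))
  haveI := Fact.mk hp
  obtain ⟨P, hPH, hP1⟩ := exists_sylow_le_of_hall hHall hpd
  obtain ⟨M, hM, hNM, hps, -⟩ := exists_coatom_normalizer hG P hP1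
  have hPM : (P : Subgroup G) ≤ M := Subgroup.le_normalizer.trans hNM
  have hHM : H ≤ M := by
    refine le_trans ?_ hNM
    rw [← Subgroup.normal_subgroupOf_iff_le_normalizer hPH]
    haveI := hn
    have h : ((P.subtype hPH : Sylow p H) : Subgroup H).Normal :=
      Sylow.normal_of_normalizerCondition Group.normalizerCondition_of_isNilpotent _
    rwa [Sylow.coe_subtype] at h
  refine ⟨M, hM, le_sigmaCore_of_isPiGrp hG hM hHM fun q hq hqd => ?_⟩
  rcases eq_or_ne q p with rfl | hne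
  · exact hps
  haveI := Fact.mk hq
  obtain ⟨Q, hQH, hQ1⟩ := exists_sylow_le_of_hall hHall hqd
  exact mem_sigma_of_centralizes_sylow hG h13 hM hps P Q hP1 hQ1 hPM (hQH.trans hHM)
    (sylow_le_centralizer_of_nilpotent hn hne P.2 Q.2 hPH hQH)

/-- The frozen statement S1384, given the section 13 bundle and the fusion part of S1438. -/
theorem nilpotentHall_fusion (hG : IsMinSimpleOddOrder G) (h13 : BG13 G)
    (h38 : ∀ M : Subgroup G, IsCoatom M → ∀ H : Subgroup G, H ≤ sigmaCore M → H ≠ ⊥ →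
      (Nat.card H).Coprime (H.relIndex (sigmaCore M)) →
      ∀ x ∈ H, ∀ g : G, g * x * g⁻¹ ∈ H → ∃ n ∈ M ⊓ normalizer (H : Set G), n * x * n⁻¹ = g * x * g⁻¹)
    {H : Subgroup G} (hn : Group.IsNilpotent H) (hHall : (Nat.card H).Coprime H.index) :
    ∀ x ∈ H, ∀ g : G, g * x * g⁻¹ ∈ H → ∃ n ∈ normalizer (H : Set G), n * x * n⁻¹ = g * x * g⁻¹ := by
  intro x hx g hg
  rcases eq_or_ne H ⊥ with rfl | hH
  · obtain rfl := Subgroup.mem_bot.1 hx
    exact ⟨1, one_mem _, by simp⟩
  obtain ⟨M, hM, hle⟩ := exists_le_sigmaCore_of_nilpotent_hall hG h13 hn hHall hH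
  obtain ⟨n, hnN, he⟩ := h38 M hM H hle hH
    (hHall.coprime_dvd_right (Subgroup.relIndex_dvd_index_of_le hle)) x hx g hg
  exact ⟨n, hnN.2, he⟩

end Cfsg.Agent.OddOrder
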