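import Cfsg.Agent.Lib.OddOrder.FCoreConsequences
import Cfsg.Agent.Lib.OddOrder.SignalizerR
import Cfsg.Agent.Lib.OddOrder.NilpotentHall

/-!
# Bender–Glauberman 15.1 (e): fusion in Hall subgroups of `M_σ`
-/

set_option autoImplicit false
set_option linter.unusedSectionVars false
set_option linter.style.haveILetI false

namespace Cfsg.Agent.OddOrder.HallFusion

open Cfsg
open Subgroup (centralizer normalizer zpowers)
open scoped Pointwise

universe u

/-- In a nilpotent group, a subgroup whose index is prime to the order of `a` contains `a`. -/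
theorem mem_of_nilpotent_coprime {A : Type u} [Group A] [Finite A] (hA : Group.IsNilpotent A) {B : Subgroup A}
    {a : A} (h : (orderOf a).Coprime B.index) : a ∈ B := by
  refine mem_of_forall_primePart fun r hr hd v hv ⟨k, hk⟩ => ?_
  haveI := Fact.mk hr
  obtain ⟨T⟩ : Nonempty (Sylow r B) := inferInstance
  have hidx : ¬ r ∣ ((T : Subgroup B).map B.subtype).index := by
    rw [Subgroup.index_map_subtype]
    intro hd'
    rcases hr.dvd_mul.1 hd' with h' | h'
    · exact T.not_dvd_index h'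
    · exact hr.ne_one (Nat.eq_one_of_dvd_coprimes h hd h')
  set T' : Sylow r A := (T.2.map B.subtype).toSylow hidx
  obtain ⟨i, -, hi⟩ := (Nat.dvd_prime_pow hr).1 (orderOf_dvd_of_pow_eq_one hk)
  obtain ⟨P, hP⟩ := (IsPGroup.of_card (p := r) (n := i) (by rw [Nat.card_zpowers, hi]) :
    IsPGroup r (zpowers v)).exists_le_sylow
  haveI := hA
  haveI := Sylow.unique_of_normal T' (Sylow.normal_of_normalizerCondition Group.normalizerCondition_of_isNilpotent T')
  have hPT : P = T' := Subsingleton.elim _ _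
  have hv' : v ∈ (T' : Subgroup A) := hPT ▸ hP (Subgroup.mem_zpowers v)
  exact Subgroup.map_subtype_le _ hv'

variable {G : Type u} [Group G] [Finite G] {M : Subgroup G}

theorem isNilpotent_fittingHallOf (M : Subgroup G) : Group.IsNilpotent (fittingHallOf M) := by
  haveI := Components.fittingSubgroup_isNilpotent M
  have hle : fittingHall M ≤ fittingSubgroup M := sSup_le fun N hN =>
    haveI := hN.2.1
    Components.le_fittingSubgroup hN.1
  haveI : Group.IsNilpotent (fittingHall M) := Group.nilpotent_of_mulEquiv (Subgroup.subgroupOfEquivOfLe hle)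
  exact Group.nilpotent_of_mulEquiv ((fittingHall M).equivMapOfInjective M.subtype M.subtype_injective)

variable {H : Subgroup G}

/-- `M = N_M(H) F₂`, with `F₂` the part of `M_F` at the primes not dividing `|H|`. -/
theorem exists_factor (hG : IsMinSimpleOddOrder G) (hI : BG15Input G) (hM : IsCoatom M) (hH : H ≤ sigmaCore M)
    (hHall : (Nat.card H).Coprime (H.relIndex (sigmaCore M))) {m : G} (hm : m ∈ M) :
    ∃ f n : G, f ∈ piCoreOf {q | ¬ q ∣ Nat.card H} (fittingHallOf M) ∧ n ∈ M ⊓ normalizer (H : Set G) ∧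
      m = f * n := by
  set F₂ := piCoreOf {q | ¬ q ∣ Nat.card H} (fittingHallOf M) with hF₂
  have hF₂M : M ≤ normalizer (F₂ : Set G) :=
    (le_normalizer_fittingHallOf M).trans (normalizer_le_normalizer_piCoreOf _ _)
  have hF₂le : F₂ ≤ fittingHallOf M := piCoreOf_le _ _
  have hcop : (Nat.card H).Coprime (Nat.card F₂) := Nat.coprime_of_dvd fun l hl h1 h2 =>
    (isPiGrp_piCoreOf {q | ¬ q ∣ Nat.card H} (fittingHallOf M) l hl h2) h1
  have hFσ := fittingHallOf_le_sigmaCore hG hM
  have hHM : H ≤ M := hH.trans (sigmaCore_le M)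
  set W := H ⊔ F₂ with hW
  -- `M_F ≤ H F₂`
  have hFW : fittingHallOf M ≤ W := fun a ha => mem_of_forall_primePart fun r hr hd v hv ⟨k, hk⟩ => by
    haveI := Fact.mk hr
    obtain ⟨i, -, hi⟩ := (Nat.dvd_prime_pow hr).1 (orderOf_dvd_of_pow_eq_one hk)
    obtain ⟨D, hDC, hD, hvD, hDn⟩ := exists_normal_pgroup_ge (M := M) (isNilpotent_fittingHallOf M)
      (le_normalizer_fittingHallOf M) (Subgroup.zpowers_le.2 (Subgroup.zpowers_le.2 ha hv))
      (IsPGroup.of_card (p := r) (n := i) (by rw [Nat.card_zpowers, hi]))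
    by_cases hrH : r ∣ Nat.card H
    · haveI : (D.comap (sigmaCore M).subtype).Normal :=
        Coprime.normal_subgroupOf_of_le_normalizer ((sigmaCore_le M).trans hDn)
      obtain ⟨S⟩ : Nonempty (Sylow r H) := inferInstance
      have hidx : ¬ r ∣ ((S : Subgroup H).map (Subgroup.inclusion hH)).index := by
        rw [Subgroup.index_map_of_injective _ (Subgroup.inclusion_injective hH), Subgroup.inclusion_range,
          ← Subgroup.relIndex]
        intro h
        rcases hr.dvd_mul.1 h with h' | h'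
        · exact S.not_dvd_index h'
        · exact hr.ne_one (Nat.eq_one_of_dvd_coprimes hHall hrH h')
      have h2 := (PCore.le_pCore (hD.comap_subtype : IsPGroup r (D.subgroupOf (sigmaCore M)))).trans
        (PCore.pCore_le_sylow ((S.2.map (Subgroup.inclusion hH)).toSylow hidx))
      obtain ⟨⟨s, hs⟩, -, e⟩ := h2 (show (⟨v, (hDC.trans hFσ) (hvD (Subgroup.mem_zpowers v))⟩ : sigmaCore M) ∈
        D.subgroupOf (sigmaCore M) from hvD (Subgroup.mem_zpowers v))
      exact Subgroup.mem_sup_left ((show s = v from congrArg Subtype.val e) ▸ hs)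
    · refine Subgroup.mem_sup_right (le_piCoreOf hDC ((fittingHallOf_le M).trans hDn) (fun l hl hl' => ?_)
        (hvD (Subgroup.mem_zpowers v)))
      obtain ⟨j, hj⟩ := hD.exists_card_eq
      exact (Nat.prime_dvd_prime_iff_eq hl hr).1 (hl.dvd_of_dvd_pow (hj ▸ hl')) ▸ hrH
  -- the conjugates of `H` lie in `H M_F`
  have hconj : MulAut.conj m • H ≤ W := by
    intro y hy
    have hyσ : y ∈ sigmaCore M := by
      rw [← Coprime.conj_smul_eq_self_of_mem (le_normalizer_sigmaCore M hm)]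
      exact (Subgroup.pointwise_smul_le_pointwise_smul_iff.2 hH) hy
    obtain ⟨-, -, hσder, -, hnil⟩ := fittingHall_chain hG hI hM
    set φ : sigmaCore M →* M ⧸ fittingHall M :=
      (QuotientGroup.mk' (fittingHall M)).comp (Subgroup.inclusion (sigmaCore_le M)) with hφ
    have hker : ∀ z : sigmaCore M, z ∈ φ.ker → (z : G) ∈ fittingHallOf M := fun z hz =>
      ⟨_, (QuotientGroup.eq_one_iff _).1 (MonoidHom.mem_ker.1 hz), rfl⟩
    haveI : Group.IsNilpotent φ.range := by
      haveI := hnil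
      have hle : φ.range ≤ (_root_.commutator M).map (QuotientGroup.mk' (fittingHall M)) := by
        rintro _ ⟨z, rfl⟩
        refine Subgroup.mem_map_of_mem _ ?_
        have h1 := hσder z.2
        rw [← Subgroup.map_subtype_commutator M] at h1
        obtain ⟨w, hw, hwz⟩ := h1
        rwa [show Subgroup.inclusion (sigmaCore_le M) z = w from Subtype.ext hwz.symm]
      exact Group.nilpotent_of_mulEquiv (Subgroup.subgroupOfEquivOfLe hle)
    have hmem : φ.rangeRestrict ⟨y, hyσ⟩ ∈ (H.subgroupOf (sigmaCore M)).map φ.rangeRestrict := by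
      refine mem_of_nilpotent_coprime inferInstance ?_
      refine ((hHall.coprime_dvd_left ?_).coprime_dvd_right
        (Subgroup.index_map_dvd _ (MonoidHom.rangeRestrict_surjective φ)))
      refine (orderOf_map_dvd φ.rangeRestrict _).trans ?_
      rw [Subgroup.orderOf_mk, ← Coprime.card_conj_smul m H]
      exact Subgroup.orderOf_dvd_natCard _ hy
    obtain ⟨z, hz, hzy⟩ := hmem
    have hk : z⁻¹ * ⟨y, hyσ⟩ ∈ φ.ker := MonoidHom.mem_ker.2 (by
      rw [map_mul, map_inv, show φ z = φ ⟨y, hyσ⟩ from congrArg Subtype.val hzy, inv_mul_cancel])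
    have h2 : (z : G)⁻¹ * y ∈ W := hFW (hker _ hk)
    have hzW : (z : G) ∈ W := Subgroup.mem_sup_left (show (z : G) ∈ H from hz)
    have h3 := W.mul_mem hzW h2
    rwa [mul_inv_cancel_left] at h3
  obtain ⟨f, hf, hle⟩ := Coprime.exists_le_conj_of_le_sup (A := H) (N := F₂) (B := MulAut.conj m • H)
    (hHM.trans hF₂M) hconj hcop (by rw [Coprime.card_conj_smul]; exact hcop)
    (Or.inl (Coprime.isSolvable_of_le hHM (isSolvable_of_coatom hG hM)))
  have hfM : f ∈ M := fittingHallOf_le M (hF₂le hf)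
  refine ⟨f, f⁻¹ * m, hf, ⟨M.mul_mem (M.inv_mem hfM) hm, ?_⟩, by group⟩
  refine Coprime.mem_normalizer_of_conj_smul_eq ?_
  rw [map_mul, mul_smul, Subgroup.eq_of_le_of_card_ge hle
    (by rw [Coprime.card_conj_smul, Coprime.card_conj_smul]), ← mul_smul, ← map_mul, inv_mul_cancel, map_one,
    one_smul]

/-- Fusion in `H` inside `M` is done by `N_M(H)`. -/
theorem fusion_in_M (hG : IsMinSimpleOddOrder G) (hI : BG15Input G) (hM : IsCoatom M) (hH : H ≤ sigmaCore M)
    (hHall : (Nat.card H).Coprime (H.relIndex (sigmaCore M))) {x m : G} (hx : x ∈ H) (hm : m ∈ M)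
    (hmx : m * x * m⁻¹ ∈ H) :
    ∃ n ∈ M ⊓ normalizer (H : Set G), n * x * n⁻¹ = m * x * m⁻¹ := by
  obtain ⟨f, n, hf, hn, rfl⟩ := exists_factor hG hI hM hH hHall hm
  refine ⟨n, hn, ?_⟩
  set F₂ := piCoreOf {q | ¬ q ∣ Nat.card H} (fittingHallOf M)
  have hF₂M : M ≤ normalizer (F₂ : Set G) :=
    (le_normalizer_fittingHallOf M).trans (normalizer_le_normalizer_piCoreOf _ _)
  set w := n * x * n⁻¹ with hw
  have hwH : w ∈ H := (Subgroup.mem_normalizer_iff.1 hn.2 x).1 hx
  have he : f * n * x * (f * n)⁻¹ = f * w * f⁻¹ := by rw [hw]; group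
  rw [he] at hmx ⊢
  have h1 : f * w * f⁻¹ * w⁻¹ ∈ H ⊓ F₂ := by
    refine ⟨H.mul_mem hmx (H.inv_mem hwH), ?_⟩
    have h2 := F₂.mul_mem hf ((Subgroup.mem_normalizer_iff.1
      (hF₂M (sigmaCore_le M (hH hwH))) f⁻¹).1 (F₂.inv_mem hf))
    simpa [mul_assoc] using h2
  rw [Coprime.disjoint_of_coprime_card (Nat.coprime_of_dvd fun l hl ha hb =>
    (isPiGrp_piCoreOf {q | ¬ q ∣ Nat.card H} (fittingHallOf M) l hl hb) ha), Subgroup.mem_bot] at h1
  exact (mul_inv_eq_one.1 h1).symm

/-- The fusion half of the frozen statement S1438. -/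
theorem fusion (hG : IsMinSimpleOddOrder G) (hI : BG15Input G) (hM : IsCoatom M) (hH : H ≤ sigmaCore M)
    (hHall : (Nat.card H).Coprime (H.relIndex (sigmaCore M))) :
    ∀ x ∈ H, ∀ g : G, g * x * g⁻¹ ∈ H → ∃ n ∈ M ⊓ normalizer (H : Set G), n * x * n⁻¹ = g * x * g⁻¹ := by
  intro x hx g hg
  rcases eq_or_ne x 1 with rfl | hx1
  · exact ⟨1, one_mem _, by simp⟩
  have hxC : x ∈ MulAut.conj g⁻¹ • M := by
    rw [Coprime.mem_conj_smul_iff, inv_inv]
    exact sigmaCore_le M (hH hg)
  obtain ⟨-, R, -, hR, huniq⟩ :=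
    supporting_transitive hG hI.h13.partition hI.h13.transfer hM (hH hx) hx1
  obtain ⟨r, ⟨hrR, hrM⟩, -⟩ := huniq g⁻¹ hxC
  have hrx : r * x = x * r := Subgroup.mem_centralizer_singleton_iff.1 (hR.2.1 hrR)
  have hrM' : MulAut.conj r • M = MulAut.conj g⁻¹ • M := hrM
  have hMne : M ≠ ⊥ := fun e => sigmaCore_ne_bot hG hM (le_bot_iff.1 (e ▸ sigmaCore_le M))
  have hgr : g * r ∈ M := by
    rw [← normalizer_eq_of_normal hG hM le_rfl Subgroup.le_normalizer hMne]
    refine Coprime.mem_normalizer_of_conj_smul_eq ?_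
    rw [map_mul, mul_smul, hrM', ← mul_smul, ← map_mul, mul_inv_cancel, map_one, one_smul]
  have he : g * r * x * (g * r)⁻¹ = g * x * g⁻¹ := by
    calc g * r * x * (g * r)⁻¹ = g * (r * x) * r⁻¹ * g⁻¹ := by group
      _ = g * x * g⁻¹ := by rw [hrx]; group
  obtain ⟨n, hn, h⟩ := fusion_in_M hG hI hM hH hHall hx hgr (by rw [he]; exact hg)
  exact ⟨n, hn, h.trans he⟩

/-- The conclusion of the frozen statement S1438. -/
theorem hall_centralizer_fusion (hG : IsMinSimpleOddOrder G) (hI : BG15Input G) (hM : IsCoatom M)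
    (hH : H ≤ sigmaCore M) (hH1 : H ≠ ⊥) (hHall : (Nat.card H).Coprime (H.relIndex (sigmaCore M))) :
    (∃ X : Subgroup G, IsCyclic X ∧ (∀ p : ℕ, p.Prime → p ∣ Nat.card X → p ∈ tau2 M) ∧
        M ⊓ centralizer (H : Set G) = (sigmaCore M ⊓ centralizer (H : Set G)) ⊔ X) ∧
      ∀ x ∈ H, ∀ g : G, g * x * g⁻¹ ∈ H →
        ∃ n ∈ M ⊓ normalizer (H : Set G), n * x * n⁻¹ = g * x * g⁻¹ := by
  obtain ⟨X, hX, hXπ, -, hXe⟩ := centralizer_structure hG hI hM hH hH1 hHall
  exact ⟨⟨X, hX, hXπ, hXe⟩, fusion hG hI hM hH hHall⟩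

/-- The conclusion of the frozen statement S1384. -/
theorem nilpotent_hall_fusion (hG : IsMinSimpleOddOrder G) (hI : BG15Input G) {H : Subgroup G}
    (hn : Group.IsNilpotent H) (hHall : (Nat.card H).Coprime H.index) :
    ∀ x ∈ H, ∀ g : G, g * x * g⁻¹ ∈ H → ∃ n ∈ normalizer (H : Set G), n * x * n⁻¹ = g * x * g⁻¹ :=
  nilpotentHall_fusion hG hI.h13 (fun _ hM _ hH _ hHall' => fusion hG hI hM hH hHall') hn hHall

end Cfsg.Agent.OddOrder.HallFusion
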