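import Cfsg.Prelude.Def_LieExceptional
import Cfsg.Agent.Lib.Coprime.Basic
import Cfsg.Agent.Lib.Coprime.Lift
import Cfsg.Agent.Lib.Subnormal.Nilpotent
import Cfsg.Agent.Lib.Solvable.Basic
import Cfsg.Agent.Lib.PGroup.Basic

/-!
# CN-groups: maximal nilpotent subgroups and quotients

* `IsCNGroup.of_injective`, `isCNGroup_quotient`: quotients by abelian normal `p`-subgroups;
* maximal nilpotent subgroups (`IsMaxNilp`) are Hall subgroups, two sharing a Sylow subgroup are
  equal, and they are TI as soon as they contain the centralizers of their nontrivial elements,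
  which is automatic when the order is not a prime power.
-/

set_option autoImplicit false
set_option linter.style.haveILetI false

namespace Cfsg.Agent.OddOrder.CN

open Subgroup
open Cfsg (IsCNGroup)

universe u

variable {G : Type u} [Group G]

theorem isNilpotent_of_le {A B : Subgroup G} (h : A ≤ B) (hB : Group.IsNilpotent B) :
    Group.IsNilpotent A :=
  Group.nilpotent_of_mulEquiv (Subgroup.subgroupOfEquivOfLe h)

theorem of_injective {G' : Type*} [Group G'] (hCN : IsCNGroup G) (f : G' →* G)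
    (hf : Function.Injective f) : IsCNGroup G' := by
  intro x hx
  have hle : (centralizer ({x} : Set G')).map f ≤ centralizer ({f x} : Set G) := by
    rintro _ ⟨y, hy, rfl⟩
    rw [mem_centralizer_singleton_iff, ← map_mul, ← map_mul]
    exact congrArg f (mem_centralizer_singleton_iff.mp hy)
  haveI := isNilpotent_of_le hle (hCN (f x) fun h => hx (hf (h.trans (map_one f).symm)))
  exact Group.nilpotent_of_mulEquiv ((centralizer ({x} : Set G')).equivMapOfInjective f hf).symm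

/-- Elements of coprime orders of a nilpotent subgroup commute. -/
theorem commute_of_nilpotent [Finite G] {K : Subgroup G} (hK : Group.IsNilpotent K) {p : ℕ}
    [Fact p.Prime] {u y : G} (hu : u ∈ K) (hy : y ∈ K) (hup : ∃ k : ℕ, u ^ p ^ k = 1)
    (hyp : (orderOf y).Coprime p) : y * u = u * y := by
  obtain ⟨k, hk⟩ := hup
  exact congrArg Subtype.val (Subnormal.commute_of_coprime (G := K) (u := ⟨u, hu⟩) (y := ⟨y, hy⟩)
    (k := k) (Subtype.ext hk) (by rw [Subgroup.orderOf_mk]; exact hyp)).eq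

/-- Elements of coprime orders centralising a common nontrivial element commute. -/
theorem commute_of_centralizer [Finite G] (hCN : IsCNGroup G) {p : ℕ} [Fact p.Prime] {x u y : G}
    (hx : x ≠ 1) (hu : u * x = x * u) (hy : y * x = x * y) (hup : ∃ k : ℕ, u ^ p ^ k = 1)
    (hyp : (orderOf y).Coprime p) : y * u = u * y :=
  commute_of_nilpotent (hCN x hx) (mem_centralizer_singleton_iff.mpr hu)
    (mem_centralizer_singleton_iff.mpr hy) hup hyp

/-- A nilpotent subgroup contained in no larger nilpotent subgroup. -/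
def IsMaxNilp (H : Subgroup G) : Prop :=
  Group.IsNilpotent H ∧ ∀ L : Subgroup G, Group.IsNilpotent L → H ≤ L → L = H

theorem exists_isMaxNilp [Finite G] {K : Subgroup G} (hK : Group.IsNilpotent K) :
    ∃ H, IsMaxNilp H ∧ K ≤ H := by
  obtain ⟨H, hKH, hH⟩ := Finite.exists_le_maximal
    (p := fun L : Subgroup G => Group.IsNilpotent L) hK
  exact ⟨H, ⟨hH.prop, fun L hL hle => le_antisymm (hH.le_of_ge hL hle) hle⟩, hKH⟩

theorem IsMaxNilp.ne_bot [Nontrivial G] {H : Subgroup G} (hH : IsMaxNilp H) : H ≠ ⊥ := by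
  intro h
  obtain ⟨x, hx⟩ := exists_ne (1 : G)
  haveI : IsMulCommutative (zpowers x) := inferInstance
  haveI : Group.IsNilpotent (zpowers x) :=
    let _ : CommGroup (zpowers x) := { (inferInstance : Group (zpowers x)) with
      mul_comm := fun a b => IsMulCommutative.is_comm.comm a b }
    CommGroup.isNilpotent
  refine hx (zpowers_eq_bot.mp ?_)
  rw [hH.2 (zpowers x) inferInstance (h ▸ bot_le), h]

theorem IsMaxNilp.map_conj {H : Subgroup G} (hH : IsMaxNilp H) (g : G) :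
    IsMaxNilp (H.map (MulAut.conj g).toMonoidHom) := by
  have he : ∀ (K : Subgroup G) (a : G), Group.IsNilpotent K →
      Group.IsNilpotent (K.map (MulAut.conj a).toMonoidHom) := fun K a hK =>
    Group.nilpotent_of_mulEquiv (K.equivMapOfInjective _ (MulAut.conj a).injective)
  refine ⟨he H g hH.1, fun L hL hle => ?_⟩
  have h1 : H ≤ L.map (MulAut.conj g⁻¹).toMonoidHom := fun x hx =>
    ⟨g * x * g⁻¹, hle ⟨x, hx, rfl⟩, by simp; group⟩
  rw [← hH.2 _ (he L g⁻¹ hL) h1, Subgroup.map_map]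
  convert (Subgroup.map_id L).symm using 2
  ext x
  simp
  group

variable [Finite G]

/-- A maximal nilpotent subgroup is the centralizer of each nontrivial central element. -/
theorem IsMaxNilp.centralizer_eq (hCN : IsCNGroup G) {H : Subgroup G} (hH : IsMaxNilp H) {z : G}
    (hz1 : z ≠ 1) (hc : ∀ h ∈ H, h * z = z * h) : centralizer ({z} : Set G) = H :=
  hH.2 _ (hCN z hz1) fun h hh => mem_centralizer_singleton_iff.mpr (hc h hh)

/-- A Sylow subgroup of a maximal nilpotent subgroup has an element central in the whole. -/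
theorem IsMaxNilp.exists_central_of_dvd {H : Subgroup G} (hH : IsMaxNilp H) {p : ℕ}
    [hp : Fact p.Prime] (hd : p ∣ Nat.card H) :
    ∃ z ∈ H, orderOf z = p ∧ ∀ h ∈ H, h * z = z * h := by
  haveI := hH.1
  obtain ⟨S⟩ := (inferInstance : Nonempty (Sylow p H))
  have hS : (S : Subgroup H) ≠ ⊥ := S.ne_bot_of_dvd_card hd
  have hne := Solvable.inf_center_ne_bot (N := (S : Subgroup H)) hS
  obtain ⟨⟨w, hwS, hwc⟩, hw1⟩ := Subgroup.ne_bot_iff_exists_ne_one.mp hne
  obtain ⟨k, hk⟩ := IsPGroup.iff_orderOf.mp S.2 ⟨w, hwS⟩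
  rw [Subgroup.orderOf_mk] at hk
  rcases k with _ | k
  · exact absurd (orderOf_eq_one_iff.mp (by rw [hk, pow_zero])) fun h => hw1 (Subtype.ext h)
  refine ⟨((w ^ p ^ k : H) : G), SetLike.coe_mem _, ?_, fun h hh => ?_⟩
  · rw [Subgroup.orderOf_coe, orderOf_pow_of_dvd (pow_ne_zero _ hp.out.ne_zero)
      (hk ▸ pow_dvd_pow p (Nat.le_succ k)), hk, pow_succ,
      Nat.mul_div_cancel_left _ (pow_pos hp.out.pos _)]
  · exact congrArg Subtype.val
      (Subgroup.mem_center_iff.mp (pow_mem hwc (p ^ k)) ⟨h, hh⟩)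

/-- Every Sylow subgroup meeting `H` in a Sylow subgroup of `H` lies in `H`. -/
theorem IsMaxNilp.exists_sylow_le (hCN : IsCNGroup G) {H : Subgroup G} (hH : IsMaxNilp H) {p : ℕ}
    [hp : Fact p.Prime] (hd : p ∣ Nat.card H) : ∃ P : Sylow p G, (P : Subgroup G) ≤ H := by
  obtain ⟨z, hzH, hzp, hzc⟩ := hH.exists_central_of_dvd hd
  obtain ⟨S⟩ := (inferInstance : Nonempty (Sylow p H))
  obtain ⟨P, hSP⟩ := (S.2.map H.subtype).exists_le_sylow
  refine ⟨P, ?_⟩
  have hz1 : z ≠ 1 := fun h => hp.out.ne_one (by rw [← hzp, h, orderOf_one])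
  haveI := hH.1
  -- `z` lies in the Sylow subgroup of `H`
  have hzS : z ∈ (P : Subgroup G) := by
    refine hSP ⟨⟨z, hzH⟩, ?_, rfl⟩
    obtain ⟨T, hT⟩ := (IsPGroup.of_card (n := 1)
      (by rw [Nat.card_zpowers, Subgroup.orderOf_mk, hzp, pow_one]) :
      IsPGroup p (zpowers (⟨z, hzH⟩ : H))).exists_le_sylow
    haveI := Sylow.unique_of_normal S inferInstance
    rw [SetLike.mem_coe, Subsingleton.elim S T]
    exact hT (mem_zpowers _)
  have hPnt : Nontrivial (P : Subgroup G) := ⟨⟨⟨z, hzS⟩, 1, fun h => hz1 (congrArg Subtype.val h)⟩⟩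
  haveI := P.2.center_nontrivial
  obtain ⟨⟨⟨v, hvP⟩, hvc⟩, hv1⟩ := exists_ne (1 : Subgroup.center (P : Subgroup G))
  have hv0 : v ≠ 1 := fun h => hv1 (Subtype.ext (Subtype.ext h))
  have hvcomm : ∀ a ∈ (P : Subgroup G), a * v = v * a := fun a ha =>
    congrArg Subtype.val (Subgroup.mem_center_iff.mp hvc ⟨a, ha⟩)
  have hvH : v ∈ H := by
    rw [← hH.centralizer_eq hCN hz1 hzc]
    exact mem_centralizer_singleton_iff.mpr (hvcomm z hzS).symm
  -- `v` is central in `H`
  have hcH : ∀ h ∈ H, h * v = v * h := by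
    have htop : (centralizer ({v} : Set G)).subgroupOf H = ⊤ := by
      refine Components.eq_top_of_forall_sylow fun q hq _ => ?_
      haveI := Fact.mk hq
      by_cases hqp : q = p
      · subst hqp
        exact ⟨S, fun a ha => mem_centralizer_singleton_iff.mpr (hvcomm _ (hSP ⟨a, ha, rfl⟩))⟩
      · obtain ⟨T⟩ := (inferInstance : Nonempty (Sylow q H))
        refine ⟨T, fun a ha => mem_centralizer_singleton_iff.mpr ?_⟩
        obtain ⟨k, hk⟩ := IsPGroup.iff_orderOf.mp P.2 ⟨v, hvP⟩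
        rw [Subgroup.orderOf_mk] at hk
        obtain ⟨l, hl⟩ := IsPGroup.iff_orderOf.mp T.2 ⟨a, ha⟩
        rw [Subgroup.orderOf_mk] at hl
        refine commute_of_nilpotent hH.1 (u := v) hvH a.2 ⟨k, hk ▸ pow_orderOf_eq_one v⟩ ?_
        rw [Subgroup.coe_subtype, Subgroup.orderOf_coe, hl]
        exact Nat.Coprime.pow_left _ ((Nat.coprime_primes hq hp.out).mpr hqp)
    intro h hh
    exact mem_centralizer_singleton_iff.mp (Subgroup.subgroupOf_eq_top.mp htop hh)
  rw [← hH.centralizer_eq hCN hv0 hcH]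
  exact fun a ha => mem_centralizer_singleton_iff.mpr (hvcomm a ha)

/-- A maximal nilpotent subgroup is a Hall subgroup. -/
theorem IsMaxNilp.coprime_index (hCN : IsCNGroup G) {H : Subgroup G} (hH : IsMaxNilp H) :
    (Nat.card H).Coprime H.index := by
  refine Nat.coprime_of_dvd fun p hp hd hdi => ?_
  haveI := Fact.mk hp
  obtain ⟨P, hP⟩ := hH.exists_sylow_le hCN hd
  exact P.not_dvd_index (hdi.trans (Subgroup.index_dvd_of_le hP))

theorem sylow_le_of_normal_sylow {K : Subgroup G} (hK : Group.IsNilpotent K) {p : ℕ}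
    [Fact p.Prime] (P : Sylow p G) (hP : (P : Subgroup G) ≤ K) {x : G} (hx : x ∈ K)
    (hxp : ∃ k : ℕ, x ^ p ^ k = 1) : x ∈ (P : Subgroup G) := by
  haveI := hK
  obtain ⟨k, hk⟩ := hxp
  obtain ⟨n, -, hn⟩ := (Nat.dvd_prime_pow (Fact.out : p.Prime)).mp
    (orderOf_dvd_of_pow_eq_one (show (⟨x, hx⟩ : K) ^ p ^ k = 1 from Subtype.ext hk))
  obtain ⟨T, hT⟩ := (IsPGroup.of_card (n := n) (by rw [Nat.card_zpowers, hn]) :
    IsPGroup p (zpowers (⟨x, hx⟩ : K))).exists_le_sylow
  haveI := Sylow.unique_of_normal (P.subtype hP) inferInstance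
  rw [Subsingleton.elim T (P.subtype hP), Sylow.coe_subtype] at hT
  exact hT (mem_zpowers _)

/-- Maximal nilpotent subgroups with a common Sylow subgroup are equal. -/
theorem eq_of_common_sylow (hCN : IsCNGroup G) {H K : Subgroup G} (hH : IsMaxNilp H)
    (hK : IsMaxNilp K) {p : ℕ} [hp : Fact p.Prime] (hd : p ∣ Nat.card H) (P : Sylow p G)
    (hPH : (P : Subgroup G) ≤ H) (hPK : (P : Subgroup G) ≤ K) : H = K := by
  obtain ⟨z, hzH, hzp, hzc⟩ := hH.exists_central_of_dvd hd
  have hz1 : z ≠ 1 := fun h => hp.out.ne_one (by rw [← hzp, h, orderOf_one])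
  have hzP : z ∈ (P : Subgroup G) :=
    sylow_le_of_normal_sylow hH.1 P hPH hzH ⟨1, (pow_one p).symm ▸ hzp ▸ pow_orderOf_eq_one z⟩
  -- `z` is central in `K`
  have htop : (centralizer ({z} : Set G)).subgroupOf K = ⊤ := by
    refine Components.eq_top_of_forall_sylow fun q hq _ => ?_
    haveI := Fact.mk hq
    obtain ⟨T⟩ := (inferInstance : Nonempty (Sylow q K))
    refine ⟨T, fun a ha => mem_centralizer_singleton_iff.mpr ?_⟩
    obtain ⟨l, hl⟩ := IsPGroup.iff_orderOf.mp T.2 ⟨a, ha⟩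
    rw [Subgroup.orderOf_mk] at hl
    by_cases hqp : q = p
    · subst hqp
      have haP : (a : G) ∈ (P : Subgroup G) := sylow_le_of_normal_sylow hK.1 P hPK a.2
        ⟨l, by rw [← hl, ← Subgroup.orderOf_coe, pow_orderOf_eq_one]⟩
      exact hzc _ (hPH haP)
    · refine commute_of_nilpotent hK.1 (u := z) (hPK hzP) a.2
        ⟨1, (pow_one p).symm ▸ hzp ▸ pow_orderOf_eq_one z⟩ ?_
      rw [Subgroup.coe_subtype, Subgroup.orderOf_coe, hl]
      exact Nat.Coprime.pow_left _ ((Nat.coprime_primes hq hp.out).mpr hqp)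
  have h1 := hK.centralizer_eq hCN hz1 fun h hh =>
    mem_centralizer_singleton_iff.mp (Subgroup.subgroupOf_eq_top.mp htop hh)
  rw [← h1, hH.centralizer_eq hCN hz1 hzc]

/-- Maximal nilpotent subgroups are conjugate or of coprime orders. -/
theorem conj_or_coprime (hCN : IsCNGroup G) {H K : Subgroup G} (hH : IsMaxNilp H)
    (hK : IsMaxNilp K) :
    (∃ g : G, K = H.map (MulAut.conj g).toMonoidHom) ∨ (Nat.card H).Coprime (Nat.card K) := by
  by_cases hco : (Nat.card H).Coprime (Nat.card K)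
  · exact Or.inr hco
  refine Or.inl ?_
  obtain ⟨p, hp, hd⟩ := Nat.exists_prime_and_dvd
    (fun h => hco h : Nat.gcd (Nat.card H) (Nat.card K) ≠ 1)
  haveI := Fact.mk hp
  have hpH := hd.trans (Nat.gcd_dvd_left _ _)
  obtain ⟨P, hP⟩ := hH.exists_sylow_le hCN hpH
  obtain ⟨Q, hQ⟩ := hK.exists_sylow_le hCN (hd.trans (Nat.gcd_dvd_right _ _))
  obtain ⟨g, hg⟩ := MulAction.exists_smul_eq G P Q
  refine ⟨g, (eq_of_common_sylow hCN (hH.map_conj g) hK (p := p) ?_ Q ?_ hQ).symm⟩
  · rwa [Subgroup.card_map_of_injective (MulAut.conj g).injective]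
  · rw [← hg, Sylow.coe_subgroup_smul]
    exact Subgroup.map_mono hP

/-- A maximal nilpotent subgroup of non-prime-power order contains the centralizers of its
nontrivial elements. -/
theorem IsMaxNilp.centralizer_le_of_not_pGroup (hCN : IsCNGroup G) {H : Subgroup G}
    (hH : IsMaxNilp H) (hnp : ∀ p : ℕ, p.Prime → ¬ IsPGroup p H) {x : G} (hx : x ∈ H) (hx1 : x ≠ 1) :
    centralizer ({x} : Set G) ≤ H := by
  obtain ⟨p, hp, hpd⟩ := Nat.exists_prime_and_dvd (fun h => hx1 (orderOf_eq_one_iff.mp h))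
  haveI := Fact.mk hp
  obtain ⟨k, hk⟩ := hpd
  set y := x ^ k with hy
  have hyp : orderOf y = p := by
    have hk0 : k ≠ 0 := fun h => (orderOf_pos x).ne' (by rw [hk, h, mul_zero])
    rw [hy, orderOf_pow_of_dvd hk0 (Dvd.intro_left _ hk.symm), hk,
      Nat.mul_div_cancel _ (Nat.pos_of_ne_zero hk0)]
  have hy1 : y ≠ 1 := fun h => hp.ne_one (by rw [← hyp, h, orderOf_one])
  obtain ⟨q, hq, hqd, hqp⟩ : ∃ q, q.Prime ∧ q ∣ Nat.card H ∧ q ≠ p := by
    by_contra hcon
    push Not at hcon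
    exact hnp p hp (IsPGroup.of_card
      (Nat.eq_prime_pow_of_unique_prime_dvd Nat.card_pos.ne' fun {d} hd hdd => hcon d hd hdd))
  haveI := Fact.mk hq
  obtain ⟨Q, hQ⟩ := hH.exists_sylow_le hCN hqd
  obtain ⟨K, hK, hcK⟩ := exists_isMaxNilp (hCN y hy1)
  have hQy : (Q : Subgroup G) ≤ centralizer ({y} : Set G) := fun a ha => by
    obtain ⟨l, hl⟩ := IsPGroup.iff_orderOf.mp Q.2 ⟨a, ha⟩
    rw [Subgroup.orderOf_mk] at hl
    refine mem_centralizer_singleton_iff.mpr
      (commute_of_nilpotent hH.1 (u := a) (p := q) (hQ ha) (pow_mem hx k)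
        ⟨l, hl ▸ pow_orderOf_eq_one a⟩ ?_).symm
    rw [hyp]
    exact (Nat.coprime_primes hp hq).mpr hqp.symm
  rw [eq_of_common_sylow hCN hH hK hqd Q hQ (hQy.trans hcK)]
  refine le_trans (fun a ha => ?_) hcK
  have h1 : Commute a x := mem_centralizer_singleton_iff.mp ha
  exact mem_centralizer_singleton_iff.mpr (h1.pow_right k).eq

/-- Elements conjugating a nontrivial element of `H` into `H` normalise `H`. -/
theorem IsMaxNilp.mem_normalizer (hCN : IsCNGroup G) {H : Subgroup G} (hH : IsMaxNilp H)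
    (hC : ∀ x ∈ H, x ≠ 1 → centralizer ({x} : Set G) ≤ H) {g x : G} (hx : x ∈ H) (hx1 : x ≠ 1)
    (hgx : g * x * g⁻¹ ∈ H) : g ∈ normalizer (H : Set G) := by
  rw [mem_normalizer_iff_map_conj_eq]
  haveI : Nontrivial H := ⟨⟨⟨x, hx⟩, 1, fun h => hx1 (congrArg Subtype.val h)⟩⟩
  obtain ⟨p, hp, hd⟩ := Nat.exists_prime_and_dvd (Finite.one_lt_card (α := H)).ne'
  haveI := Fact.mk hp
  obtain ⟨z, hzH, hzp, hzc⟩ := hH.exists_central_of_dvd hd
  have hz1 : z ≠ 1 := fun h => hp.ne_one (by rw [← hzp, h, orderOf_one])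
  -- `z` commutes with `y = g x g⁻¹`, so `g⁻¹ z g` commutes with `x`
  have hy1 : g * x * g⁻¹ ≠ 1 := fun h => hx1 (conj_eq_one_iff.mp h)
  have hz' : g⁻¹ * z * g ∈ H := by
    refine hC x hx hx1 (mem_centralizer_singleton_iff.mpr ?_)
    calc g⁻¹ * z * g * x = g⁻¹ * (z * (g * x * g⁻¹)) * g := by group
      _ = g⁻¹ * (g * x * g⁻¹ * z) * g := by rw [← hzc _ hgx]
      _ = x * (g⁻¹ * z * g) := by group
  have hz'1 : g⁻¹ * z * g ≠ 1 := fun h => hz1 (by
    calc z = g * (g⁻¹ * z * g) * g⁻¹ := by group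
      _ = 1 := by rw [h]; group)
  refine hH.2 _ (hH.map_conj g).1 fun a ha => ⟨g⁻¹ * a * g, hC _ hz' hz'1
    (mem_centralizer_singleton_iff.mpr ?_), by simp [mul_assoc]⟩
  calc g⁻¹ * a * g * (g⁻¹ * z * g) = g⁻¹ * (a * z) * g := by group
    _ = g⁻¹ * (z * a) * g := by rw [hzc a ha]
    _ = g⁻¹ * z * g * (g⁻¹ * a * g) := by group

/-- A `p`-element that is not in a maximal nilpotent subgroup of mixed order has a `p`-group as
centralizer. -/
theorem isPGroup_centralizer (hCN : IsCNGroup G) {p : ℕ} [hp : Fact p.Prime] (P : Sylow p G)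
    (hmax : IsMaxNilp (P : Subgroup G)) {x : G} (hx1 : x ≠ 1) (hxp : ∃ k : ℕ, x ^ p ^ k = 1) :
    IsPGroup p (centralizer ({x} : Set G)) := by
  obtain ⟨K, hK, hcK⟩ := exists_isMaxNilp (hCN x hx1)
  obtain ⟨k, hk⟩ := hxp
  have hpK : p ∣ Nat.card K := by
    obtain ⟨n, -, hn⟩ := (Nat.dvd_prime_pow hp.out).mp (orderOf_dvd_of_pow_eq_one hk)
    have hn0 : n ≠ 0 := fun h => hx1 (orderOf_eq_one_iff.mp (by rw [hn, h, pow_zero]))
    exact (dvd_pow_self p hn0).trans
      (hn ▸ K.orderOf_dvd_natCard (hcK (mem_centralizer_singleton_iff.mpr rfl)))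
  obtain ⟨Q, hQ⟩ := hK.exists_sylow_le hCN hpK
  obtain ⟨g, hg⟩ := MulAction.exists_smul_eq G P Q
  have hQmax : IsMaxNilp (Q : Subgroup G) := by
    rw [← hg, Sylow.coe_subgroup_smul]
    exact hmax.map_conj g
  rw [hQmax.2 K hK.1 hQ] at hcK
  exact Q.2.to_le hcK

end Cfsg.Agent.OddOrder.CN
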