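import Cfsg.Agent.Lib.OddOrder.CNLocal
import Cfsg.Agent.Lib.OddOrder.FrobeniusTI
import Cfsg.Agent.S1526
import Mathlib.GroupTheory.Subgroup.Simple

/-!
# Feit–Hall–Thompson: CN-groups of odd order are solvable
-/

set_option autoImplicit false
set_option linter.style.haveILetI false

namespace Cfsg.Agent.OddOrder.CN

open Subgroup
open Cfsg (IsCNGroup)

universe u

variable {G : Type u} [Group G] [Finite G]

section Simple

variable [IsSimpleGroup G] (hne : ¬ ∀ a b : G, a * b = b * a) (hodd : Odd (Nat.card G))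
  (hCN : IsCNGroup G) (hsol : ∀ H : Subgroup G, H ≠ ⊤ → Group.IsSolvable H)

include hne hodd hCN hsol in
/-- Maximal nilpotent subgroups contain the centralizers of their nontrivial elements. -/
theorem centralizer_le {H : Subgroup G} (hH : IsMaxNilp H) {x : G} (hx : x ∈ H) (hx1 : x ≠ 1) :
    centralizer ({x} : Set G) ≤ H := by
  by_cases hnp : ∀ p : ℕ, p.Prime → ¬ IsPGroup p H
  · exact hH.centralizer_le_of_not_pGroup hCN hnp hx hx1
  push Not at hnp
  obtain ⟨p, hp, hHp⟩ := hnp
  haveI := Fact.mk hp
  obtain ⟨P, hP⟩ := hHp.exists_le_sylow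
  have hPH : (P : Subgroup G) = H := hH.2 _ P.2.isNilpotent hP
  rw [← hPH] at hx ⊢
  exact sylow_centralizer_le hne hodd hCN hsol P (hPH ▸ hH) hx hx1

include hne hodd hCN hsol in
theorem false_of_simple : False := by
  classical
  haveI := Fintype.ofFinite G
  have hnil : ¬ Group.IsNilpotent G := fun h => by
    haveI := h
    exact hne fun a b => mul_comm a b
  have hcent : ∀ {H : Subgroup G}, IsMaxNilp H → ∀ x ∈ H, x ≠ 1 →
      centralizer ({x} : Set G) ≤ H := fun hH x hx hx1 => centralizer_le hne hodd hCN hsol hH hx hx1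
  -- conjugacy classes of maximal nilpotent subgroups
  let r : Setoid {H : Subgroup G // IsMaxNilp H} :=
    { r := fun A B => ∃ g : G, B.1 = A.1.map (MulAut.conj g).toMonoidHom
      iseqv :=
        { refl := fun A => ⟨1, by ext a; simp⟩
          symm := fun {A B} ⟨g, hg⟩ => ⟨g⁻¹, by
            ext a; simp [hg, Subgroup.mem_map, mul_assoc]⟩
          trans := fun {A B C} ⟨g, hg⟩ ⟨k, hk⟩ => ⟨k * g, by
            rw [hk, hg, Subgroup.map_map]; congr 1; ext a; simp [mul_assoc]⟩ } }
  haveI : Fintype (Quotient r) := Fintype.ofFinite _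
  let Hs : Quotient r → Subgroup G := fun q => q.out.1
  have hF : ∀ q, IsFrobTI (Hs q) := fun q => by
    have hH : IsMaxNilp (Hs q) := q.out.2
    refine
      { ne_bot := hH.ne_bot
        exists_notMem := ?_
        frob := fun n _ h hh h1 hc => hcent hH h hh h1 (mem_centralizer_singleton_iff.mpr hc)
        ti := fun g x hx hx1 hgx => hH.mem_normalizer hCN (hcent hH) hx hx1 hgx }
    by_contra hcon
    push Not at hcon
    -- a self-normalizing TI subgroup controls its own fusion
    have hctl : Transfer.ControlsElementFusion (Hs q) (Hs q) := fun x hx g hg => by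
      by_cases hx1 : x = 1
      · exact ⟨1, one_mem _, by simp [hx1]⟩
      · exact ⟨g, hcon g (hH.mem_normalizer hCN (hcent hH) hx hx1 hg), rfl⟩
    obtain ⟨N, hNn, hNc⟩ := Transfer.exists_normal_isComplement'_of_own_fusion (Hs q) hH.1
      (hH.coprime_index hCN) hctl
    rcases hNn.eq_bot_or_eq_top with h | h
    · rw [h, Subgroup.isComplement'_bot_left] at hNc
      have h1 := hH.1
      rw [hNc] at h1
      exact hnil (Group.nilpotent_of_mulEquiv Subgroup.topEquiv)
    · rw [h, Subgroup.isComplement'_top_left] at hNc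
      exact hH.ne_bot hNc
  have hne' : Nonempty (Quotient r) := by
    obtain ⟨x, hx⟩ := exists_ne (1 : G)
    obtain ⟨H, hH, -⟩ := exists_isMaxNilp (hCN x hx)
    exact ⟨Quotient.mk r ⟨H, hH⟩⟩
  refine Cfsg.Agent.S1526.false_of_data hodd Hs (fun q => (exists_familyData (hF q) hodd).some)
    ?_ ?_
  · intro a b hab
    rcases conj_or_coprime hCN a.out.2 b.out.2 with h | h
    · refine absurd ?_ hab
      rw [← Quotient.out_eq a, ← Quotient.out_eq b]
      exact Quotient.sound h
    · exact h
  · intro g hg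
    obtain ⟨H, hH, hgH⟩ := exists_isMaxNilp (hCN g hg)
    obtain ⟨k, hk⟩ := Quotient.mk_out (s := r) ⟨H, hH⟩
    have h1 : g ∈ (Hs (Quotient.mk r ⟨H, hH⟩)).map (MulAut.conj k).toMonoidHom :=
      hk ▸ hgH (mem_centralizer_singleton_iff.mpr rfl)
    obtain ⟨a, ha, hag⟩ := h1
    refine ⟨Quotient.mk r ⟨H, hH⟩, k⁻¹, ?_⟩
    rw [← hag]
    simpa [mul_assoc] using ha

end Simple

/-- **The CN-theorem**: CN-groups of odd order are solvable. -/
theorem isSolvable_of_isCN (hodd : Odd (Nat.card G)) (hCN : IsCNGroup G) : Group.IsSolvable G := by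
  suffices H : ∀ (n : ℕ) (K : Type u) [Group K] [Finite K], Nat.card K = n → Odd (Nat.card K) →
      IsCNGroup K → Group.IsSolvable K from H _ G rfl hodd hCN
  intro n
  induction n using Nat.strong_induction_on with
  | _ n ih =>
    intro K _ _ hKn hKodd hKCN
    have hproper : ∀ H : Subgroup K, H ≠ ⊤ → Group.IsSolvable H := fun H hH =>
      ih _ (hKn ▸ lt_of_le_of_ne (Subgroup.card_le_card_group H)
        fun h => hH (Subgroup.eq_top_of_card_eq H h)) H rfl (odd_subgroup hKodd H)
        (of_injective hKCN H.subtype H.subtype_injective)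
    by_cases hsimple : ∃ N : Subgroup K, N.Normal ∧ N ≠ ⊥ ∧ N ≠ ⊤
    · obtain ⟨N, hN, hNbot, hNtop⟩ := hsimple
      haveI := hN
      obtain ⟨A, p, hAn, -, hA1, -, hAc, hp, hAp⟩ :=
        Solvable.exists_abelian_minimal_normal (hproper N hNtop) hNbot
      haveI := hAn
      haveI := Fact.mk hp
      haveI : Nontrivial A := (Subgroup.nontrivial_iff_ne_bot A).mpr hA1
      have hlt : Nat.card (K ⧸ A) < n := by
        rw [← hKn, Subgroup.card_eq_card_quotient_mul_card_subgroup A]
        exact lt_mul_of_one_lt_right Nat.card_pos Finite.one_lt_card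
      haveI := ih _ hlt (K ⧸ A) rfl (odd_quotient hKodd A)
        (isCNGroup_quotient hKCN A hAp fun a ha b hb =>
          congrArg Subtype.val (hAc.is_comm.comm ⟨a, ha⟩ ⟨b, hb⟩))
      haveI : Group.IsSolvable A := Group.isSolvable_of_comm fun a b => hAc.is_comm.comm a b
      exact (Group.isSolvable_iff_subgroup_quotient A).mpr ⟨inferInstance, inferInstance⟩
    · by_cases hab : ∀ a b : K, a * b = b * a
      · exact Group.isSolvable_of_comm hab
      · exfalso
        haveI : Nontrivial K := ⟨by
          obtain ⟨a, ha⟩ := not_forall.mp hab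
          obtain ⟨b, hb⟩ := not_forall.mp ha
          exact ⟨a * b, b * a, hb⟩⟩
        haveI : IsSimpleGroup K := ⟨fun H hH => by
          by_contra hcon
          push Not at hcon
          exact hsimple ⟨H, hH, hcon.1, hcon.2⟩⟩
        exact false_of_simple hab hKodd hKCN hproper

/-- There is no minimal simple CN-group of odd order. -/
theorem not_isMinSimpleOddOrder (hCN : IsCNGroup G) (hG : Cfsg.IsMinSimpleOddOrder G) : False := by
  obtain ⟨hodd, hsimple, hnc, -⟩ := hG
  haveI := hsimple
  haveI := isSolvable_of_isCN hodd hCN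
  exact hnc ⟨⟨IsSimpleGroup.comm_iff_isSolvable.mpr inferInstance⟩⟩

end Cfsg.Agent.OddOrder.CN
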