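import Cfsg.Agent.Lib.OddOrder.SelfCentralizing
import Mathlib.GroupTheory.Transfer
import Mathlib.GroupTheory.SchurZassenhaus
import Mathlib.GroupTheory.Solvable
import Mathlib.GroupTheory.Subgroup.Simple

/-!
# Suzuki: CA-groups of odd order are solvable
-/

set_option autoImplicit false

namespace Cfsg.Agent.OddOrder

open scoped ComplexConjugate commutatorElement
open Cfsg Cfsg.Agent.Char

variable {G : Type*} [Group G]

/-- Centralizers of nontrivial elements are abelian. -/
def IsCA (G : Type*) [Group G] : Prop :=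
  ∀ x : G, x ≠ 1 → ∀ a ∈ Subgroup.centralizer ({x} : Set G),
    ∀ b ∈ Subgroup.centralizer ({x} : Set G), a * b = b * a

theorem mem_cent_self (x : G) : x ∈ Subgroup.centralizer ({x} : Set G) :=
  Subgroup.mem_centralizer_singleton_iff.mpr rfl

theorem IsCA.isSelfCent (h : IsCA G) {x : G} (hx : x ≠ 1) :
    IsSelfCent (Subgroup.centralizer ({x} : Set G)) := by
  intro y hy hy1
  have hxy : x ∈ Subgroup.centralizer ({y} : Set G) :=
    Subgroup.mem_centralizer_singleton_iff.mpr
      (Subgroup.mem_centralizer_singleton_iff.mp hy).symm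
  ext z
  constructor
  · intro hz
    exact Subgroup.mem_centralizer_singleton_iff.mpr (h y hy1 z hz x hxy)
  · intro hz
    exact Subgroup.mem_centralizer_singleton_iff.mpr (h x hx z hz y hy)

theorem IsCA.subgroup (h : IsCA G) (H : Subgroup G) : IsCA H := by
  intro x hx a ha b hb
  have hx' : (x : G) ≠ 1 := fun h0 => hx (Subtype.ext h0)
  refine Subtype.ext (h x hx' a ?_ b ?_)
  · exact Subgroup.mem_centralizer_singleton_iff.mpr
      (congrArg Subtype.val (Subgroup.mem_centralizer_singleton_iff.mp ha))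
  · exact Subgroup.mem_centralizer_singleton_iff.mpr
      (congrArg Subtype.val (Subgroup.mem_centralizer_singleton_iff.mp hb))

theorem isSelfCent_conj {A : Subgroup G} (hA : IsSelfCent A) {c x : G} (hx : c⁻¹ * x * c ∈ A)
    (hx1 : x ≠ 1) (y : G) :
    y ∈ Subgroup.centralizer ({x} : Set G) ↔ c⁻¹ * y * c ∈ A := by
  have h1 : c⁻¹ * x * c ≠ 1 := fun h => hx1 (by
    calc x = c * (c⁻¹ * x * c) * c⁻¹ := by group
      _ = 1 := by rw [h]; group)
  conv_rhs => rw [← hA _ hx h1]
  rw [Subgroup.mem_centralizer_singleton_iff, Subgroup.mem_centralizer_singleton_iff]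
  constructor
  · intro h
    calc c⁻¹ * y * c * (c⁻¹ * x * c) = c⁻¹ * (y * x) * c := by group
      _ = c⁻¹ * x * c * (c⁻¹ * y * c) := by rw [h]; group
  · intro h
    calc y * x = c * (c⁻¹ * y * c * (c⁻¹ * x * c)) * c⁻¹ := by group
      _ = x * y := by rw [h]; group

variable [Fintype G]

open scoped Classical in
/-- The nontrivial elements conjugate into `A`. -/
noncomputable def conjUnion (A : Subgroup G) : Finset G :=
  Finset.univ.filter fun g => g ≠ 1 ∧ ∃ c : G, c⁻¹ * g * c ∈ A

theorem mem_conjUnion {A : Subgroup G} {g : G} :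
    g ∈ conjUnion A ↔ g ≠ 1 ∧ ∃ c : G, c⁻¹ * g * c ∈ A := by
  classical
  simp [conjUnion]

theorem conjUnion_subset_of_meet {A B : Subgroup G} (hA : IsSelfCent A) (hB : IsSelfCent B) {u : G}
    (huA : u ∈ conjUnion A) (huB : u ∈ conjUnion B) : conjUnion B ⊆ conjUnion A := by
  intro v hv
  obtain ⟨hu1, c, hc⟩ := mem_conjUnion.mp huA
  obtain ⟨-, d, hd⟩ := mem_conjUnion.mp huB
  obtain ⟨hv1, k, hk⟩ := mem_conjUnion.mp hv
  -- `d k⁻¹ v k d⁻¹` centralizes `u`
  have h1 : d * (k⁻¹ * v * k) * d⁻¹ ∈ Subgroup.centralizer ({u} : Set G) := by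
    rw [isSelfCent_conj hB hd hu1, show d⁻¹ * (d * (k⁻¹ * v * k) * d⁻¹) * d = k⁻¹ * v * k by group]
    exact hk
  rw [isSelfCent_conj hA hc hu1] at h1
  refine mem_conjUnion.mpr ⟨hv1, k * d⁻¹ * c, ?_⟩
  rw [show (k * d⁻¹ * c)⁻¹ * v * (k * d⁻¹ * c) = c⁻¹ * (d * (k⁻¹ * v * k) * d⁻¹) * c by group]
  exact h1

theorem sum_conjUnion {A : Subgroup G} (hA : IsSelfCent A) (f : G → ℂ) (hf : IsClassFunction G f)
    (t : Finset A) (ht : ∀ x, x ∈ t ↔ x ≠ 1) :
    (Nat.card (Subgroup.normalizer (A : Set G)) : ℂ) * ∑ u ∈ conjUnion A, f u =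
      (Nat.card G : ℂ) * ∑ x ∈ t, f (x : G) := by
  classical
  let F : G × A → G := fun p => p.1 * (p.2 : G) * p.1⁻¹
  have hmaps : ∀ p ∈ (Finset.univ ×ˢ t : Finset (G × A)), F p ∈ conjUnion A := by
    intro p hp
    have hx1 := (ht p.2).mp (Finset.mem_product.mp hp).2
    refine mem_conjUnion.mpr ⟨fun h => hx1 (Subtype.ext (conj_eq_one_iff.mp h)), p.1, ?_⟩
    show p.1⁻¹ * (p.1 * (p.2 : G) * p.1⁻¹) * p.1 ∈ A
    rw [show p.1⁻¹ * (p.1 * (p.2 : G) * p.1⁻¹) * p.1 = (p.2 : G) by group]
    exact p.2.2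
  have h := Finset.sum_fiberwise_of_maps_to hmaps (fun p => f (F p))
  have hlhs : ∑ p ∈ (Finset.univ ×ˢ t : Finset (G × A)), f (F p) =
      (Nat.card G : ℂ) * ∑ x ∈ t, f (x : G) := by
    rw [Finset.sum_product, Finset.sum_congr rfl (g := fun _ => ∑ x ∈ t, f (x : G)),
      Finset.sum_const, Finset.card_univ, nsmul_eq_mul, ← Nat.card_eq_fintype_card]
    intro c _
    exact Finset.sum_congr rfl fun x _ => hf (x : G) c
  rw [← hlhs, ← h, Finset.mul_sum]
  refine Finset.sum_congr rfl fun u hu => ?_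
  rw [Finset.sum_congr rfl (g := fun _ => f u)
    (fun p hp => by rw [(Finset.mem_filter.mp hp).2]), Finset.sum_const, nsmul_eq_mul]
  congr 2
  obtain ⟨hu1, c, hc⟩ := mem_conjUnion.mp hu
  rw [← Fintype.card_coe, ← Nat.card_eq_fintype_card]
  refine Nat.card_congr
    { toFun := fun n => ⟨(c * (n : G), ⟨(n : G)⁻¹ * (c⁻¹ * u * c) * n,
        (Subgroup.mem_normalizer_iff''.mp n.2 _).mp hc⟩), ?_⟩
      invFun := fun p => ⟨c⁻¹ * p.1.1, ?_⟩
      left_inv := fun n => Subtype.ext (by simp)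
      right_inv := fun p => ?_ }
  · refine Finset.mem_filter.mpr ⟨Finset.mem_product.mpr ⟨Finset.mem_univ _, (ht _).mpr ?_⟩, ?_⟩
    · intro h0
      have h1 : (n : G)⁻¹ * (c⁻¹ * u * c) * n = 1 := congrArg Subtype.val h0
      refine hu1 ?_
      calc u = c * n * ((n : G)⁻¹ * (c⁻¹ * u * c) * n) * (n : G)⁻¹ * c⁻¹ := by group
        _ = 1 := by rw [h1]; group
    · show c * (n : G) * ((n : G)⁻¹ * (c⁻¹ * u * c) * n) * (c * (n : G))⁻¹ = u
      group
  · obtain ⟨hp, hpu⟩ := Finset.mem_filter.mp p.2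
    have hpu' : p.1.1 * (p.1.2 : G) * p.1.1⁻¹ = u := hpu
    have hp1 : (p.1.2 : G) ≠ 1 := fun h0 =>
      (ht _).mp (Finset.mem_product.mp hp).2 (Subtype.ext h0)
    refine mem_normalizer_of_conj_mem hA (g := c⁻¹ * p.1.1) p.1.2.2 hp1 ?_
    rw [show c⁻¹ * p.1.1 * (p.1.2 : G) * (c⁻¹ * p.1.1)⁻¹ = c⁻¹ * (p.1.1 * (p.1.2 : G) * p.1.1⁻¹) * c
      by group, hpu']
    exact hc
  · obtain ⟨-, hpu⟩ := Finset.mem_filter.mp p.2
    have hpu' : p.1.1 * (p.1.2 : G) * p.1.1⁻¹ = u := hpu
    refine Subtype.ext (Prod.ext (mul_inv_cancel_left c p.1.1) (Subtype.ext ?_))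
    show (c⁻¹ * p.1.1)⁻¹ * (c⁻¹ * u * c) * (c⁻¹ * p.1.1) = (p.1.2 : G)
    calc (c⁻¹ * p.1.1)⁻¹ * (c⁻¹ * u * c) * (c⁻¹ * p.1.1) = p.1.1⁻¹ * u * p.1.1 := by group
      _ = p.1.1⁻¹ * (p.1.1 * (p.1.2 : G) * p.1.1⁻¹) * p.1.1 :=
          congrArg (fun v => p.1.1⁻¹ * v * p.1.1) hpu'.symm
      _ = (p.1.2 : G) := by group

theorem exists_sylow_le {A : Subgroup G} (hA : IsSelfCent A) {p : ℕ} [Fact p.Prime]
    (hp : p ∣ Nat.card A) :
    ∃ P : Sylow p G, (P : Subgroup G) ≤ A ∧
      ∃ z : G, z ∈ (P : Subgroup G) ∧ z ≠ 1 ∧ z ∈ A := by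
  obtain ⟨y, hy⟩ := exists_prime_orderOf_dvd_card' p hp
  have hy1 : (y : G) ≠ 1 := fun h => by
    rw [show y = 1 from Subtype.ext h, orderOf_one] at hy
    exact (Fact.out : p.Prime).ne_one hy.symm
  have hpy : IsPGroup p (Subgroup.zpowers (y : G)) :=
    IsPGroup.of_card (n := 1) (by rw [Nat.card_zpowers, Subgroup.orderOf_coe, hy, pow_one])
  obtain ⟨P, hP⟩ := hpy.exists_le_sylow
  have hyP : (y : G) ∈ (P : Subgroup G) := hP (Subgroup.mem_zpowers _)
  haveI : Nontrivial (P : Subgroup G) := ⟨⟨⟨_, hyP⟩, 1, fun h => hy1 (congrArg Subtype.val h)⟩⟩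
  haveI := P.2.center_nontrivial
  obtain ⟨z, hz1⟩ := exists_ne (1 : Subgroup.center (P : Subgroup G))
  have hz : ((z : (P : Subgroup G)) : G) ≠ 1 := fun h => hz1 (Subtype.ext (Subtype.ext h))
  have hzA : ((z : (P : Subgroup G)) : G) ∈ A := by
    rw [← hA _ y.2 hy1, Subgroup.mem_centralizer_singleton_iff]
    exact (congrArg Subtype.val (Subgroup.mem_center_iff.mp z.2 ⟨_, hyP⟩)).symm
  refine ⟨P, fun a ha => ?_, _, z.1.2, hz, hzA⟩
  rw [← hA _ hzA hz, Subgroup.mem_centralizer_singleton_iff]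
  exact congrArg Subtype.val (Subgroup.mem_center_iff.mp z.2 ⟨a, ha⟩)

/-- Self-centralizing subgroups whose orders share a prime are conjugate. -/
theorem exists_mem_conjUnion_of_dvd {A B : Subgroup G} (hA : IsSelfCent A) (hB : IsSelfCent B)
    {p : ℕ} [Fact p.Prime] (hpA : p ∣ Nat.card A) (hpB : p ∣ Nat.card B) :
    ∃ u, u ∈ conjUnion A ∧ u ∈ conjUnion B := by
  obtain ⟨P, hPA, z, hzP, hz1, hzA⟩ := exists_sylow_le hA hpA
  obtain ⟨Q, hQB, -⟩ := exists_sylow_le hB hpB
  obtain ⟨c, rfl⟩ := MulAction.exists_smul_eq G P Q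
  refine ⟨z, mem_conjUnion.mpr ⟨hz1, 1, by simpa using hzA⟩, mem_conjUnion.mpr ⟨hz1, c⁻¹, hQB ?_⟩⟩
  rw [Sylow.coe_subgroup_smul, Subgroup.mem_pointwise_smul_iff_inv_smul_mem, MulAut.smul_def,
    MulAut.conj_inv_apply, inv_inv, show c⁻¹ * (c * z * c⁻¹) * c = z by group]
  exact hzP

section Simple

variable [IsSimpleGroup G]

theorem center_eq_bot (hne : ¬ ∀ a b : G, a * b = b * a) : Subgroup.center G = ⊥ := by
  rcases (Subgroup.center G).normal_of_characteristic.eq_bot_or_eq_top with h | h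
  · exact h
  · exact absurd (fun a b => (Subgroup.mem_center_iff.mp (h ▸ Subgroup.mem_top b) a)) hne

/-- In a nonabelian simple group a self-centralizing subgroup is not self-normalizing. -/
theorem index_normalizer_ne_one (hne : ¬ ∀ a b : G, a * b = b * a) {A : Subgroup G}
    (hA : IsSelfCent A) (hbot : A ≠ ⊥) :
    (A.subgroupOf (Subgroup.normalizer (A : Set G))).index ≠ 1 := by
  intro h1
  rw [Subgroup.index_eq_one, Subgroup.subgroupOf_eq_top] at h1
  obtain ⟨p, hp, hpA⟩ := Nat.exists_prime_and_dvd (fun h => hbot (Subgroup.card_eq_one.mp h) :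
    Nat.card A ≠ 1)
  haveI := Fact.mk hp
  obtain ⟨P, hPA, z, hzP, hz1, hzA⟩ := exists_sylow_le hA hpA
  have hN : Subgroup.normalizer ((P : Subgroup G) : Set G) ≤
      Subgroup.centralizer ((P : Subgroup G) : Set G) := by
    intro g hg
    have hgA : g ∈ A := h1 (mem_normalizer_of_conj_mem hA hzA hz1
      (hPA ((Subgroup.mem_normalizer_iff.mp hg z).mp hzP)))
    rw [Subgroup.mem_centralizer_iff]
    exact fun x hx => hA.comm (hPA hx) hgA
  have hc := MonoidHom.ker_transferSylow_isComplement' P hN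
  rcases (MonoidHom.normal_ker (MonoidHom.transferSylow P hN)).eq_bot_or_eq_top with h | h
  · rw [h, Subgroup.isComplement'_bot_left] at hc
    haveI : Nontrivial (Subgroup.center G) := by
      have hG : IsPGroup p G := by
        have := P.2
        rw [hc] at this
        exact this.of_equiv Subgroup.topEquiv
      exact hG.center_nontrivial
    exact Subgroup.nontrivial_iff_ne_bot _ |>.mp inferInstance (center_eq_bot hne)
  · rw [h, Subgroup.isComplement'_top_left] at hc
    rw [hc, Subgroup.mem_bot] at hzP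
    exact hz1 hzP

end Simple

/-- The set of irreducible characters that are not constant on `A \ {1}`. -/
noncomputable def excSet (A : Subgroup G) : Finset (IrrCharacter G) :=
  open scoped Classical in
  Finset.univ.filter fun χ => ¬ ∃ w : ℂ, ∀ x : A, x ≠ 1 → χ.1 (x : G) = w

theorem mem_excSet {A : Subgroup G} {χ : IrrCharacter G} :
    χ ∈ excSet A ↔ ¬ ∃ w : ℂ, ∀ x : A, x ≠ 1 → χ.1 (x : G) = w := by
  classical
  simp [excSet]

theorem conjIrr_mem_excSet {A : Subgroup G} {χ : IrrCharacter G} (h : χ ∈ excSet A) :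
    conjIrr χ ∈ excSet A := by
  rw [mem_excSet] at h ⊢
  rintro ⟨w, hw⟩
  refine h ⟨conj w, fun x hx => ?_⟩
  have := congrArg conj (hw x hx)
  simpa [conjIrr] using this

theorem trivialChar_notMem_excSet (A : Subgroup G) : trivialChar G ∉ excSet A := by
  rw [mem_excSet, not_not]
  exact ⟨1, fun x _ => rfl⟩

/-- Data attached to a nontrivial element of a nonabelian simple CA-group of odd order. -/
structure LocalInfo (A : Subgroup G) : Type _ where
  e : ℕ
  s : ℕ
  he : (A.subgroupOf (Subgroup.normalizer (A : Set G))).index = e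
  hs : s * e + 1 = Nat.card A
  e_three : 3 ≤ e
  s_two : 2 ≤ s
  s_even : Even s
  data : ExceptionalData A e s

theorem exists_localInfo [IsSimpleGroup G] (hne : ¬ ∀ a b : G, a * b = b * a)
    (hodd : Odd (Nat.card G)) {A : Subgroup G} (hA : IsSelfCent A) (hbot : A ≠ ⊥) :
    Nonempty (LocalInfo A) := by
  set e := (A.subgroupOf (Subgroup.normalizer (A : Set G))).index with he
  have hdvd : e ∣ Nat.card A - 1 := Cfsg.Agent.S0196.result A hA
  obtain ⟨s, hs⟩ := hdvd
  have ha : Nat.card A ≠ 1 := fun h => hbot (Subgroup.card_eq_one.mp h)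
  have hapos : 0 < Nat.card A := Nat.card_pos
  have heodd : Odd e := hodd.of_dvd_nat
    ((Dvd.intro_left _ rfl : e ∣ Nat.card A * e).trans
      (card_normalizer hA ▸ Subgroup.card_subgroup_dvd_card _))
  obtain ⟨i, hi⟩ := heodd
  have he1 : e ≠ 1 := index_normalizer_ne_one hne hA hbot
  obtain ⟨j, hj⟩ : Odd (Nat.card A) := hodd.of_dvd_nat (Subgroup.card_subgroup_dvd_card A)
  have hseven : Even s := by
    rcases Nat.even_or_odd s with h | h
    · exact h
    · exfalso
      have : Odd (e * s) := (Nat.odd_mul.mpr ⟨⟨i, hi⟩, h⟩)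
      rw [← hs] at this
      obtain ⟨k, hk⟩ := this
      omega
  have hs0 : s ≠ 0 := by
    rintro rfl
    omega
  have hs2 : 2 ≤ s := by obtain ⟨k, hk⟩ := hseven; omega
  obtain ⟨D⟩ := exists_exceptionalData hA (e := e) (s := s) rfl (by rw [hs, mul_comm]) hs2
  exact ⟨⟨e, s, rfl, by rw [mul_comm, ← hs]; omega, by omega, hs2, hseven, D⟩⟩

section Data

variable {A : Subgroup G} (I : LocalInfo A)
include I

theorem LocalInfo.two_mul_e_lt : 2 * I.e < Nat.card A := by
  have := I.hs
  have := Nat.mul_le_mul_right I.e I.s_two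
  omega

theorem LocalInfo.excSet_eq : excSet A = Finset.univ.image I.data.θ := by
  classical
  ext χ
  rw [mem_excSet, Finset.mem_image]
  constructor
  · intro h
    by_contra hne
    exact h (by
      obtain ⟨z, hz⟩ := I.data.const χ (fun ⟨i, hi⟩ => hne ⟨i, Finset.mem_univ i, hi⟩)
      exact ⟨z, hz⟩)
  · rintro ⟨i, -, rfl⟩ ⟨w, hw⟩
    set t := (Finset.univ : Finset A).filter (fun x => x ≠ 1) with ht
    have htm : ∀ x, x ∈ t ↔ x ≠ 1 := fun x => by simp [ht]
    have hε : (I.data.ε : ℂ) * I.data.ε = 1 := by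
      rcases I.data.ε_eq with h | h <;> simp [h]
    have hP : ∀ x ∈ t, I.data.P i x = (I.data.ε : ℂ) * (w - I.data.δ) := fun x hx => by
      have h := I.data.value i x ((htm x).mp hx)
      rw [hw x ((htm x).mp hx)] at h
      rw [h]; linear_combination (-(I.data.P i x)) * hε
    have h1 := I.data.sum_P_row i t htm
    have h2 := I.data.sum_sq_row i t htm
    rw [Finset.sum_congr rfl hP, Finset.sum_const, nsmul_eq_mul] at h1
    rw [Finset.sum_congr rfl (fun x hx => by rw [hP x hx]), Finset.sum_const, nsmul_eq_mul] at h2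
    set v : ℂ := (I.data.ε : ℂ) * (w - I.data.δ)
    have hcard : (t.card : ℂ) = (Nat.card A : ℂ) - 1 := by
      rw [ht, Finset.filter_ne', Finset.card_erase_of_mem (Finset.mem_univ _), Finset.card_univ,
        Nat.card_eq_fintype_card, Nat.cast_sub Fintype.card_pos, Nat.cast_one]
    have h1c : (t.card : ℂ) * conj v = -(I.e : ℂ) := by
      have := congrArg conj h1
      simpa using this
    have key : (t.card : ℂ) * ((Nat.card A : ℂ) * I.e - I.e * I.e) = (I.e : ℂ) * I.e := by
      rw [← h2]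
      linear_combination (t.card : ℂ) * conj v * h1 + (-(I.e : ℂ)) * h1c
    rw [hcard, ← I.hs] at key
    push_cast at key
    have key' : (I.s * I.e : ℤ) * ((I.s * I.e + 1) * I.e - I.e * I.e) = I.e * I.e := by
      have : ((I.s : ℂ) * I.e) * (((I.s : ℂ) * I.e + 1) * I.e - I.e * I.e) = (I.e : ℂ) * I.e := by
        linear_combination key
      exact_mod_cast this
    have hs' : (2 : ℤ) ≤ I.s := by exact_mod_cast I.s_two
    have he' : (3 : ℤ) ≤ I.e := by exact_mod_cast I.e_three
    have hpos : (2 : ℤ) ≤ (I.s : ℤ) * I.e - I.e + 1 := by nlinarith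
    have he2 : (0 : ℤ) < (I.e : ℤ) * I.e := by nlinarith
    have h3 : (I.s : ℤ) * (I.s * I.e - I.e + 1) = 1 := by
      refine mul_left_cancel₀ he2.ne' ?_
      linear_combination key'
    nlinarith

theorem LocalInfo.mem_excSet_iff {χ : IrrCharacter G} : χ ∈ excSet A ↔ ∃ i, I.data.θ i = χ := by
  classical
  simp [I.excSet_eq]

theorem LocalInfo.card_excSet : (excSet A).card = I.s := by
  classical
  rw [I.excSet_eq, Finset.card_image_of_injective _ I.data.inj]
  simp

theorem LocalInfo.int_of_notMem {χ : IrrCharacter G} (h : χ ∉ excSet A) {u : G}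
    (hu : u ∈ conjUnion A) : ∃ z : ℤ, χ.1 u = z := by
  obtain ⟨z, hz⟩ := I.data.const χ (fun ⟨i, hi⟩ => h ((I.mem_excSet_iff).mpr ⟨i, hi⟩))
  obtain ⟨hu1, c, hc⟩ := mem_conjUnion.mp hu
  refine ⟨z, ?_⟩
  have hc1 : (⟨c⁻¹ * u * c, hc⟩ : A) ≠ 1 := fun h0 => hu1 (by
    calc u = c * (c⁻¹ * u * c) * c⁻¹ := by group
      _ = 1 := by rw [show c⁻¹ * u * c = 1 from congrArg Subtype.val h0]; group)
  rw [← hz _ hc1]
  exact IsClassFunction.apply_of_isConj (IsCharacter.isClassFunction (irr_isCharacter χ))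
    (isConj_iff.mpr ⟨c⁻¹, by rw [inv_inv]⟩)

theorem LocalInfo.excSet_const {χ φ : IrrCharacter G} (hχ : χ ∈ excSet A) (hφ : φ ∈ excSet A) {g : G}
    (hg : g ∉ conjUnion A) : χ.1 g = φ.1 g := by
  obtain ⟨i, rfl⟩ := I.mem_excSet_iff.mp hχ
  obtain ⟨j, rfl⟩ := I.mem_excSet_iff.mp hφ
  by_cases h1 : g = 1
  · rw [h1]; exact I.data.off_one i j
  · exact I.data.off i j g fun c hc => hg (mem_conjUnion.mpr ⟨h1, c, hc⟩)

theorem disjoint_excSet {B : Subgroup G} (J : LocalInfo B)
    (hAB : ∀ u, u ∈ conjUnion A → u ∉ conjUnion B) : Disjoint (excSet A) (excSet B) := by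
  classical
  rw [Finset.disjoint_left]
  intro χ hA hB
  obtain ⟨χ', hA', hne'⟩ := Finset.exists_mem_ne (by rw [I.card_excSet]; exact I.s_two) χ
  obtain ⟨φ, hB', hneφ⟩ := Finset.exists_mem_ne (by rw [J.card_excSet]; exact J.s_two) χ
  have h0 : classInner (χ.1 - χ'.1) (χ.1 - φ.1) = 0 := by
    rw [classInner, Finset.sum_eq_zero, mul_zero]
    intro g _
    by_cases hg : g ∈ conjUnion A
    · rw [Pi.sub_apply χ.1 φ.1, J.excSet_const hB hB' (hAB g hg), sub_self, map_zero, mul_zero]
    · rw [Pi.sub_apply, I.excSet_const hA hA' hg, sub_self, zero_mul]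
  rw [classInner_sub_left, classInner_sub_right, classInner_sub_right, classInner_irr, classInner_irr,
    classInner_irr, classInner_irr, if_pos rfl, if_neg (Ne.symm hneφ), if_neg hne'] at h0
  split_ifs at h0 <;> norm_num at h0

theorem LocalInfo.card_conjUnion (hA : IsSelfCent A) :
    Nat.card A * (conjUnion A).card = Nat.card G * I.s := by
  classical
  have h := sum_conjUnion hA (fun _ => 1) (fun _ _ => rfl)
    ((Finset.univ : Finset A).filter (fun x => x ≠ 1)) (fun x => by simp)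
  rw [Finset.sum_const, Finset.sum_const, nsmul_eq_mul, nsmul_eq_mul, mul_one, mul_one,
    Finset.filter_ne', Finset.card_erase_of_mem (Finset.mem_univ _), Finset.card_univ,
    ← Nat.card_eq_fintype_card] at h
  have h' : Nat.card (Subgroup.normalizer (A : Set G)) * (conjUnion A).card =
      Nat.card G * (Nat.card A - 1) := by exact_mod_cast h
  rw [card_normalizer hA, I.he] at h'
  have hs := I.hs
  rw [show Nat.card A - 1 = I.s * I.e by omega] at h'
  refine Nat.eq_of_mul_eq_mul_left (by have := I.e_three; omega : 0 < I.e) ?_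
  linarith [h']

/-- Column bound: few characters outside the exceptional set are nonzero on `A`. -/
theorem LocalInfo.card_nonzero_le (hA : IsSelfCent A) (x : A) (hx : x ≠ 1)
    (Y : Finset (IrrCharacter G))
    (hY : ∀ χ ∈ Y, χ ≠ trivialChar G ∧ χ ∉ excSet A ∧ χ.1 (x : G) ≠ 0) : Y.card + 1 ≤ I.e := by
  classical
  have hcent : Subgroup.centralizer ({(x : G)} : Set G) = A :=
    hA _ x.2 fun h => hx (Subtype.ext h)
  have hcol := sum_irr_mul_conj (x : G) x
  rw [if_pos (IsConj.refl _), hcent] at hcol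
  have hsum : ∑ χ : IrrCharacter G, Complex.normSq (χ.1 (x : G)) = (Nat.card A : ℝ) := by
    simp only [Complex.mul_conj] at hcol
    exact_mod_cast hcol
  have hexc : (Nat.card A : ℝ) - I.e ≤ ∑ χ ∈ excSet A, Complex.normSq (χ.1 (x : G)) := by
    rw [I.excSet_eq, Finset.sum_image fun a _ b _ h => I.data.inj h]
    have hC : ((∑ i, Complex.normSq ((I.data.θ i).1 (x : G)) : ℝ) : ℂ) =
        (I.s : ℂ) * I.data.δ * I.data.δ - 2 * I.data.ε * I.data.δ + ((Nat.card A : ℂ) - I.e) := by
      push_cast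
      simp only [← Complex.mul_conj, I.data.value _ x hx, map_add, map_mul, map_intCast]
      have e1 : ∀ i, ((I.data.δ : ℂ) + I.data.ε * I.data.P i x) *
          ((I.data.δ : ℂ) + I.data.ε * conj (I.data.P i x)) =
          (I.data.δ : ℂ) * I.data.δ + (I.data.δ : ℂ) * I.data.ε * I.data.P i x +
            conj ((I.data.δ : ℂ) * I.data.ε * I.data.P i x) +
            ((I.data.ε : ℂ) * I.data.ε) * (I.data.P i x * conj (I.data.P i x)) := fun i => by
        simp only [map_mul, map_intCast]; ring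
      rw [Finset.sum_congr rfl fun i _ => e1 i]
      simp only [Finset.sum_add_distrib, ← Finset.mul_sum, ← map_sum, I.data.sum_P x hx,
        I.data.sum_sq_col x hx, Finset.sum_const, Finset.card_univ, Fintype.card_fin, nsmul_eq_mul,
        map_mul, map_neg, map_one, map_intCast]
      have hε : (I.data.ε : ℂ) * I.data.ε = 1 := by rcases I.data.ε_eq with h | h <;> simp [h]
      rw [hε]; ring
    have hR : ∑ i, Complex.normSq ((I.data.θ i).1 (x : G)) =
        (I.s : ℝ) * I.data.δ * I.data.δ - 2 * I.data.ε * I.data.δ + ((Nat.card A : ℝ) - I.e) := by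
      exact_mod_cast hC
    have hge : (0 : ℤ) ≤ (I.s : ℤ) * I.data.δ * I.data.δ - 2 * I.data.ε * I.data.δ := by
      have hs : (2 : ℤ) ≤ I.s := by exact_mod_cast I.s_two
      have h1 : I.data.δ ≤ I.data.δ * I.data.δ := by
        have := Int.le_self_sq I.data.δ
        rwa [sq] at this
      have h2 : -I.data.δ ≤ I.data.δ * I.data.δ := by
        have := Int.le_self_sq (-I.data.δ)
        rwa [sq, neg_mul_neg] at this
      rcases I.data.ε_eq with h | h <;> rw [h] <;>
        nlinarith [mul_le_mul_of_nonneg_right hs (mul_self_nonneg I.data.δ)]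
    have hge' : (0 : ℝ) ≤ (I.s : ℝ) * I.data.δ * I.data.δ - 2 * I.data.ε * I.data.δ := by
      exact_mod_cast hge
    rw [hR]; linarith
  have hrest : (Y.card : ℝ) + 1 ≤ ∑ χ ∈ insert (trivialChar G) Y, Complex.normSq (χ.1 (x : G)) := by
    rw [Finset.sum_insert fun h => (hY _ h).1 rfl]
    have h1 : Complex.normSq ((trivialChar G).1 (x : G)) = 1 := by
      show Complex.normSq 1 = 1
      simp
    rw [h1, add_comm _ (1 : ℝ), add_le_add_iff_left, ← nsmul_one, ← Finset.sum_const]
    refine Finset.sum_le_sum fun χ hχ => ?_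
    obtain ⟨-, hA', hne⟩ := hY χ hχ
    obtain ⟨z, hz⟩ := I.int_of_notMem hA' (mem_conjUnion.mpr
      ⟨fun h => hx (Subtype.ext h), 1, by simp⟩ : (x : G) ∈ conjUnion A)
    rw [hz] at hne ⊢
    rw [Complex.normSq_intCast]
    have hz0 : z ≠ 0 := fun h => hne (by rw [h]; simp)
    have : (1 : ℤ) ≤ z * z := by
      rcases lt_or_gt_of_ne hz0 with h | h <;> nlinarith
    exact_mod_cast this
  have hdisj : Disjoint (excSet A) (insert (trivialChar G) Y) := by
    rw [Finset.disjoint_right]
    intro χ hχ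
    rcases Finset.mem_insert.mp hχ with rfl | h
    · exact trivialChar_notMem_excSet A
    · exact (hY χ h).2.1
  have hle : ∑ χ ∈ excSet A ∪ insert (trivialChar G) Y, Complex.normSq (χ.1 (x : G)) ≤
      (Nat.card A : ℝ) := by
    rw [← hsum]
    exact Finset.sum_le_sum_of_subset_of_nonneg (Finset.subset_univ _)
      fun χ _ _ => Complex.normSq_nonneg _
  rw [Finset.sum_union hdisj] at hle
  have h5 : (Y.card : ℝ) + 1 ≤ I.e := by linarith
  exact_mod_cast h5

/-- Row bound: an exceptional character is rarely nonzero outside the conjugates of `A`. -/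
theorem LocalInfo.card_mul_card_le (hA : IsSelfCent A) {θ : IrrCharacter G} (hθ : θ ∈ excSet A)
    (Z : Finset G) (hZ : ∀ g ∈ Z, g ∉ conjUnion A ∧ ∃ z : ℤ, z ≠ 0 ∧ θ.1 g = z) :
    Nat.card A * Z.card ≤ Nat.card G * I.e := by
  classical
  obtain ⟨i, rfl⟩ := I.mem_excSet_iff.mp hθ
  set t := (Finset.univ : Finset A).filter (fun x => x ≠ 1) with ht
  have htm : ∀ x, x ∈ t ↔ x ≠ 1 := fun x => by simp [ht]
  have hnorm : ∑ g : G, Complex.normSq ((I.data.θ i).1 g) = (Nat.card G : ℝ) := by
    have h := classInner_irr_self (I.data.θ i).2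
    rw [classInner_self] at h
    have h' : (Nat.card G : ℝ)⁻¹ * ∑ g : G, Complex.normSq ((I.data.θ i).1 g) = 1 := by
      exact_mod_cast h
    rwa [inv_mul_eq_one₀ (Nat.cast_ne_zero.2 Nat.card_pos.ne'), eq_comm] at h'
  have hU := sum_conjUnion hA
    (fun g => (I.data.θ i).1 g * conj ((I.data.θ i).1 g)) (fun g h => by
      simp only [IsCharacter.isClassFunction (irr_isCharacter (I.data.θ i)) g h]) t htm
  have hε : (I.data.ε : ℂ) * I.data.ε = 1 := by rcases I.data.ε_eq with h | h <;> simp [h]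
  have hcard : (t.card : ℂ) = (Nat.card A : ℂ) - 1 := by
    rw [ht, Finset.filter_ne', Finset.card_erase_of_mem (Finset.mem_univ _), Finset.card_univ,
      Nat.card_eq_fintype_card, Nat.cast_sub Fintype.card_pos, Nat.cast_one]
  have hT : ∑ x ∈ t, (I.data.θ i).1 (x : G) * conj ((I.data.θ i).1 (x : G)) =
      ((Nat.card A : ℂ) - 1) * I.data.δ * I.data.δ - 2 * I.e * I.data.ε * I.data.δ +
        ((Nat.card A : ℂ) * I.e - I.e * I.e) := by
    rw [Finset.sum_congr rfl fun x hx => by
      rw [I.data.value i x ((htm x).mp hx), map_add, map_mul, map_intCast, map_intCast]]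
    simp only [add_mul, mul_add, Finset.sum_add_distrib, Finset.sum_const, nsmul_eq_mul, hcard]
    have h1 := I.data.sum_P_row i t htm
    have h2 := I.data.sum_sq_row i t htm
    have h3 : ∑ x ∈ t, (I.data.δ : ℂ) * (I.data.ε * conj (I.data.P i x)) =
        (I.data.δ : ℂ) * I.data.ε * -(I.e : ℂ) := by
      rw [← Finset.mul_sum, ← Finset.mul_sum, ← map_sum, h1, map_neg, map_natCast]; ring
    have h4 : ∑ x ∈ t, (I.data.ε : ℂ) * I.data.P i x * I.data.δ =
        (I.data.δ : ℂ) * I.data.ε * -(I.e : ℂ) := by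
      rw [← Finset.sum_mul, ← Finset.mul_sum, h1]; ring
    have h5 : ∑ x ∈ t, (I.data.ε : ℂ) * I.data.P i x * (I.data.ε * conj (I.data.P i x)) =
        (Nat.card A : ℂ) * I.e - I.e * I.e := by
      rw [← h2]
      refine Finset.sum_congr rfl fun x _ => ?_
      linear_combination (I.data.P i x * conj (I.data.P i x)) * hε
    rw [h3, h4, h5]; ring
  simp only [Complex.mul_conj] at hU hT
  have hUR : (Nat.card (Subgroup.normalizer (A : Set G)) : ℝ) *
      ∑ u ∈ conjUnion A, Complex.normSq ((I.data.θ i).1 u) =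
      (Nat.card G : ℝ) * ∑ x ∈ t, Complex.normSq ((I.data.θ i).1 (x : G)) := by
    exact_mod_cast hU
  have hTR : ∑ x ∈ t, Complex.normSq ((I.data.θ i).1 (x : G)) =
      ((Nat.card A : ℝ) - 1) * I.data.δ * I.data.δ - 2 * I.e * I.data.ε * I.data.δ +
        ((Nat.card A : ℝ) * I.e - I.e * I.e) := by
    exact_mod_cast hT
  have hge : (0 : ℤ) ≤ ((Nat.card A : ℤ) - 1) * I.data.δ * I.data.δ -
      2 * I.e * I.data.ε * I.data.δ := by
    have h2e : (2 : ℤ) * I.e ≤ (Nat.card A : ℤ) - 1 := by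
      have := I.two_mul_e_lt
      omega
    have he0 : (0 : ℤ) ≤ I.e := Int.natCast_nonneg _
    rcases I.data.ε_eq with h | h <;> rw [h] <;>
      rcases lt_trichotomy I.data.δ 0 with hd | hd | hd
    all_goals first
      | (rw [hd]; simp)
      | nlinarith [mul_le_mul_of_nonneg_right h2e (mul_self_nonneg I.data.δ),
          mul_nonneg he0 (mul_self_nonneg I.data.δ)]
  have hge' : (0 : ℝ) ≤ ((Nat.card A : ℝ) - 1) * I.data.δ * I.data.δ -
      2 * I.e * I.data.ε * I.data.δ := by exact_mod_cast hge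
  rw [card_normalizer hA, I.he, hTR, Nat.cast_mul] at hUR
  have hZ1 : (Z.card : ℝ) ≤ ∑ g ∈ Z, Complex.normSq ((I.data.θ i).1 g) := by
    rw [← nsmul_one, ← Finset.sum_const]
    refine Finset.sum_le_sum fun g hg => ?_
    obtain ⟨-, z, hz0, hz⟩ := hZ g hg
    rw [hz, Complex.normSq_intCast]
    have : (1 : ℤ) ≤ z * z := by
      rcases lt_or_gt_of_ne hz0 with h | h <;> nlinarith
    exact_mod_cast this
  have hdisj : Disjoint (conjUnion A) Z := Finset.disjoint_right.mpr fun g hg => (hZ g hg).1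
  have hle : ∑ g ∈ conjUnion A ∪ Z, Complex.normSq ((I.data.θ i).1 g) ≤ (Nat.card G : ℝ) := by
    rw [← hnorm]
    exact Finset.sum_le_sum_of_subset_of_nonneg (Finset.subset_univ _)
      fun g _ _ => Complex.normSq_nonneg _
  rw [Finset.sum_union hdisj] at hle
  set SU := ∑ u ∈ conjUnion A, Complex.normSq ((I.data.θ i).1 u)
  have he3 : (3 : ℝ) ≤ I.e := by exact_mod_cast I.e_three
  have hG0 : (0 : ℝ) ≤ Nat.card G := Nat.cast_nonneg _
  have hA0 : (0 : ℝ) ≤ Nat.card A := Nat.cast_nonneg _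
  have h6 : (Nat.card G : ℝ) * ((Nat.card A : ℝ) - I.e) ≤ Nat.card A * SU := by
    refine le_of_mul_le_mul_right ?_ (by linarith : (0 : ℝ) < I.e)
    nlinarith [mul_nonneg hG0 hge']
  have h7 : (Nat.card A : ℝ) * Z.card ≤ Nat.card G * I.e := by nlinarith
  exact_mod_cast h7

end Data

/-- Orthogonality of two columns: all exceptional characters of `B` are nonzero on `A`, if those of
`A` vanish at `y ∈ B`. -/
theorem ne_zero_of_vanish {A B : Subgroup G} (I : LocalInfo A) (J : LocalInfo B)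
    (hodd : Odd (Nat.card G)) {x y : G} (hx : x ∈ conjUnion A) (hy : y ∈ conjUnion B)
    (hAB : ∀ u, u ∈ conjUnion A → u ∉ conjUnion B)
    (hvan : ∀ θ ∈ excSet A, θ.1 y = 0) {φ : IrrCharacter G} (hφ : φ ∈ excSet B) : φ.1 x ≠ 0 := by
  classical
  intro h0
  have hB0 : ∀ ψ ∈ excSet B, ψ.1 x = 0 := fun ψ hψ => by
    rw [J.excSet_const hψ hφ (hAB x hx)]; exact h0
  have hnc : ¬ IsConj x y := fun hc => by
    obtain ⟨d, hd⟩ := isConj_iff.mp hc
    obtain ⟨hx1, c, hcm⟩ := mem_conjUnion.mp hx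
    refine hAB y (mem_conjUnion.mpr ⟨(mem_conjUnion.mp hy).1, d * c, ?_⟩) hy
    rw [← hd, show (d * c)⁻¹ * (d * x * d⁻¹) * (d * c) = c⁻¹ * x * c by group]
    exact hcm
  have hcol := sum_irr_mul_conj x y
  rw [if_neg hnc] at hcol
  set R := Finset.univ \ (insert (trivialChar G) (excSet A ∪ excSet B)) with hR
  have hsplit : ∑ χ : IrrCharacter G, χ.1 x * conj (χ.1 y) =
      1 + ∑ χ ∈ R, χ.1 x * conj (χ.1 y) := by
    rw [← Finset.sum_sdiff (Finset.subset_univ (insert (trivialChar G) (excSet A ∪ excSet B))),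
      Finset.sum_insert, Finset.sum_eq_zero (s := excSet A ∪ excSet B), add_zero, add_comm]
    · congr 1
      show (1 : ℂ) * conj (1 : ℂ) = 1
      simp
    · intro χ hχ
      rcases Finset.mem_union.mp hχ with h | h
      · rw [hvan χ h, map_zero, mul_zero]
      · rw [hB0 χ h, zero_mul]
    · simp [trivialChar_notMem_excSet]
  have hint : ∀ χ ∈ R, ∃ z : ℤ, χ.1 x * conj (χ.1 y) = z := by
    intro χ hχ
    simp only [hR, Finset.mem_sdiff, Finset.mem_insert, Finset.mem_union, not_or] at hχ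
    obtain ⟨-, -, hA', hB'⟩ := hχ
    obtain ⟨a, ha⟩ := I.int_of_notMem hA' hx
    obtain ⟨b, hb⟩ := J.int_of_notMem hB' hy
    exact ⟨a * b, by rw [ha, hb, map_intCast, Int.cast_mul]⟩
  choose! F hF using hint
  have hclosed : ∀ χ ∈ R, conjIrr χ ∈ R := by
    intro χ hχ
    simp only [hR, Finset.mem_sdiff, Finset.mem_univ, true_and, Finset.mem_insert, Finset.mem_union,
      not_or] at hχ ⊢
    refine ⟨fun h => hχ.1 ?_, fun h => hχ.2.1 ?_, fun h => hχ.2.2 ?_⟩
    · rw [← conjIrr_conjIrr χ, h]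
      exact Subtype.ext (funext fun g => map_one conj)
    · rw [← conjIrr_conjIrr χ]; exact conjIrr_mem_excSet h
    · rw [← conjIrr_conjIrr χ]; exact conjIrr_mem_excSet h
  have hFconj : ∀ χ ∈ R, F (conjIrr χ) = F χ := by
    intro χ hχ
    have h1 := hF (conjIrr χ) (hclosed χ hχ)
    have h2 := congrArg conj (hF χ hχ)
    rw [map_mul, map_intCast] at h2
    have h3 : ((F (conjIrr χ) : ℤ) : ℂ) = (F χ : ℤ) := h1.symm.trans h2
    exact_mod_cast h3
  have heven : ((∑ χ ∈ R, F χ : ℤ) : ZMod 2) = 0 := by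
    push_cast
    refine Finset.sum_involution (fun χ _ => conjIrr χ) ?_ ?_ hclosed
      (fun χ _ => conjIrr_conjIrr χ)
    · intro χ hχ
      rw [hFconj χ hχ]
      exact CharTwo.add_self_eq_zero _
    · intro χ hχ _ hfix
      have h1 := Cfsg.Agent.S0161.result hodd χ ((conjIrr_eq_self_iff χ).mp hfix)
      simp only [hR, Finset.mem_sdiff, Finset.mem_insert, not_or] at hχ
      exact hχ.2.1 (Subtype.ext h1)
  rw [hsplit, Finset.sum_congr rfl hF] at hcol
  have h4 : ((∑ χ ∈ R, F χ : ℤ) : ℂ) = ((-1 : ℤ) : ℂ) := by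
    push_cast
    linear_combination hcol
  rw [Int.cast_injective h4] at heven
  exact absurd heven (by decide)

theorem false_of_simple [IsSimpleGroup G] (hne : ¬ ∀ a b : G, a * b = b * a)
    (hodd : Odd (Nat.card G)) (hCA : IsCA G) : False := by
  classical
  let E : G → ℕ := fun g => ((Subgroup.centralizer ({g} : Set G)).subgroupOf
    (Subgroup.normalizer (Subgroup.centralizer ({g} : Set G) : Set G))).index
  obtain ⟨g₁, hg₁⟩ := exists_ne (1 : G)
  obtain ⟨x₀, hx₀', hmin⟩ := Finset.exists_min_image ((Finset.univ : Finset G).erase 1) E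
    ⟨g₁, Finset.mem_erase.mpr ⟨hg₁, Finset.mem_univ _⟩⟩
  have hx₀ : x₀ ≠ 1 := Finset.ne_of_mem_erase hx₀'
  have hloc : ∀ g : G, g ≠ 1 → Nonempty (LocalInfo (Subgroup.centralizer ({g} : Set G))) :=
    fun g hg => exists_localInfo hne hodd (hCA.isSelfCent hg) fun h =>
      hg (Subgroup.mem_bot.mp (h ▸ mem_cent_self g))
  have hU : ∀ g : G, g ≠ 1 → g ∈ conjUnion (Subgroup.centralizer ({g} : Set G)) := fun g hg =>
    mem_conjUnion.mpr ⟨hg, 1, by simpa using mem_cent_self g⟩
  set A := Subgroup.centralizer ({x₀} : Set G) with hAdef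
  have hA : IsSelfCent A := hCA.isSelfCent hx₀
  obtain ⟨I⟩ := hloc x₀ hx₀
  have hIe : I.e = E x₀ := I.he.symm
  obtain ⟨θ, hθ⟩ : ∃ θ, θ ∈ excSet A :=
    Finset.card_pos.mp (by rw [I.card_excSet]; have := I.s_two; omega)
  set Z := ((Finset.univ : Finset G).erase 1 \ conjUnion A).filter (fun g => θ.1 g ≠ 0) with hZdef
  set W := ((Finset.univ : Finset G).erase 1 \ conjUnion A).filter (fun g => ¬ θ.1 g ≠ 0) with hWdef
  -- the classes outside `A` have disjoint data
  have hoff : ∀ w, w ≠ 1 → w ∉ conjUnion A →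
      ∀ u, u ∈ conjUnion A → u ∉ conjUnion (Subgroup.centralizer ({w} : Set G)) :=
    fun w hw hwA u hu hu' =>
      hwA (conjUnion_subset_of_meet hA (hCA.isSelfCent hw) hu hu' (hU w hw))
  have hpart : Nat.card G - 1 = (conjUnion A).card + (Z.card + W.card) := by
    rw [hZdef, hWdef, Finset.card_filter_add_card_filter_not, add_comm,
      Finset.card_sdiff_add_card_eq_card, Finset.card_erase_of_mem (Finset.mem_univ _),
      Finset.card_univ, Nat.card_eq_fintype_card]
    intro u hu
    exact Finset.mem_erase.mpr ⟨(mem_conjUnion.mp hu).1, Finset.mem_univ _⟩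
  have hZ : Nat.card A * Z.card ≤ Nat.card G * I.e := by
    refine I.card_mul_card_le hA hθ Z fun g hg => ?_
    simp only [hZdef, Finset.mem_filter, Finset.mem_sdiff, Finset.mem_erase] at hg
    obtain ⟨⟨⟨hg1, -⟩, hgA⟩, hg0⟩ := hg
    obtain ⟨J⟩ := hloc g hg1
    obtain ⟨z, hz⟩ := J.int_of_notMem
      (Finset.disjoint_left.mp (disjoint_excSet I J (hoff g hg1 hgA)) hθ) (hU g hg1)
    exact ⟨hgA, z, fun h => hg0 (by rw [hz, h]; simp), hz⟩
  -- the exceptional sets of the elements of `W`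
  set 𝒳 := W.image (fun w => excSet (Subgroup.centralizer ({w} : Set G))) with h𝒳
  have hWmem : ∀ w ∈ W, w ≠ 1 ∧ w ∉ conjUnion A ∧ θ.1 w = 0 := fun w hw => by
    simp only [hWdef, Finset.mem_filter, Finset.mem_sdiff, Finset.mem_erase, ne_eq, not_not] at hw
    exact ⟨hw.1.1.1, hw.1.2, hw.2⟩
  have hdisjW : ∀ w ∈ W, ∀ v ∈ W, ∀ χ, χ ∈ excSet (Subgroup.centralizer ({w} : Set G)) →
      χ ∈ excSet (Subgroup.centralizer ({v} : Set G)) →
      v ∈ conjUnion (Subgroup.centralizer ({w} : Set G)) := by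
    intro w hw v hv χ hχw hχv
    obtain ⟨hw1, -⟩ := hWmem w hw
    obtain ⟨hv1, -⟩ := hWmem v hv
    obtain ⟨J⟩ := hloc w hw1
    obtain ⟨K⟩ := hloc v hv1
    by_contra hvU
    have hd := disjoint_excSet J K fun u hu hu' =>
      hvU (conjUnion_subset_of_meet (hCA.isSelfCent hw1) (hCA.isSelfCent hv1) hu hu' (hU v hv1))
    exact Finset.disjoint_left.mp hd hχw hχv
  have hx₀A : x₀ ∈ A := mem_cent_self x₀
  have hY : (𝒳.biUnion id).card + 1 ≤ I.e := by
    refine I.card_nonzero_le hA ⟨x₀, hx₀A⟩ (fun h => hx₀ (congrArg Subtype.val h)) _ fun χ hχ => ?_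
    rw [Finset.mem_biUnion] at hχ
    obtain ⟨S, hS, hχS⟩ := hχ
    obtain ⟨w, hw, rfl⟩ := Finset.mem_image.mp hS
    obtain ⟨hw1, hwA, hw0⟩ := hWmem w hw
    obtain ⟨J⟩ := hloc w hw1
    refine ⟨fun h => trivialChar_notMem_excSet _ (h ▸ hχS), fun h => ?_, ?_⟩
    · exact Finset.disjoint_left.mp (disjoint_excSet I J (hoff w hw1 hwA)) h hχS
    · exact ne_zero_of_vanish I J hodd (hU x₀ hx₀) (hU w hw1) (hoff w hw1 hwA)
        (fun ψ hψ => (I.excSet_const hψ hθ hwA).trans hw0) hχS
  have hYsum : (𝒳.biUnion id).card = ∑ S ∈ 𝒳, S.card := by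
    refine Finset.card_biUnion fun S hS T hT hne => ?_
    obtain ⟨w, hw, rfl⟩ := Finset.mem_image.mp hS
    obtain ⟨v, hv, rfl⟩ := Finset.mem_image.mp hT
    obtain ⟨hw1, -⟩ := hWmem w hw
    obtain ⟨hv1, -⟩ := hWmem v hv
    obtain ⟨J⟩ := hloc w hw1
    obtain ⟨K⟩ := hloc v hv1
    show Disjoint (excSet (Subgroup.centralizer ({w} : Set G)))
      (excSet (Subgroup.centralizer ({v} : Set G)))
    refine disjoint_excSet J K fun u hu hu' => hne ?_
    -- both elements give the same union, hence the same exceptional set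
    have hv' : v ∈ conjUnion (Subgroup.centralizer ({w} : Set G)) :=
      conjUnion_subset_of_meet (hCA.isSelfCent hw1) (hCA.isSelfCent hv1) hu hu' (hU v hv1)
    obtain ⟨-, c, hc⟩ := mem_conjUnion.mp hv'
    ext χ
    simp only [mem_excSet]
    refine not_congr (exists_congr fun z => ⟨fun h a ha => ?_, fun h a ha => ?_⟩)
    · have hm : c⁻¹ * (a : G) * c ∈ Subgroup.centralizer ({w} : Set G) :=
        (isSelfCent_conj (hCA.isSelfCent hw1) hc hv1 _).mp a.2
      rw [← h ⟨_, hm⟩ fun h0 => ha (Subtype.ext (by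
        calc (a : G) = c * (c⁻¹ * (a : G) * c) * c⁻¹ := by group
          _ = 1 := by rw [show c⁻¹ * (a : G) * c = 1 from congrArg Subtype.val h0]; group))]
      exact IsClassFunction.apply_of_isConj (IsCharacter.isClassFunction (irr_isCharacter χ))
        (isConj_iff.mpr ⟨c⁻¹, by rw [inv_inv]⟩)
    · have hm : c * (a : G) * c⁻¹ ∈ Subgroup.centralizer ({v} : Set G) := by
        rw [isSelfCent_conj (hCA.isSelfCent hw1) hc hv1,
          show c⁻¹ * (c * (a : G) * c⁻¹) * c = (a : G) by group]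
        exact a.2
      rw [← h ⟨_, hm⟩ fun h0 => ha (Subtype.ext (conj_eq_one_iff.mp (congrArg Subtype.val h0)))]
      exact IsClassFunction.apply_of_isConj (IsCharacter.isClassFunction (irr_isCharacter χ))
        (isConj_iff.mpr ⟨c, rfl⟩)
  have hWbound : ∀ K : ℕ,
      (∀ w ∈ W, ∀ J : LocalInfo (Subgroup.centralizer ({w} : Set G)),
        K ≤ Nat.card (Subgroup.centralizer ({w} : Set G))) →
      K * W.card ≤ Nat.card G * (𝒳.biUnion id).card := by
    intro K hK
    rw [hYsum, Finset.card_eq_sum_card_image (fun w => excSet (Subgroup.centralizer ({w} : Set G))) W,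
      ← h𝒳, Finset.mul_sum, Finset.mul_sum]
    refine Finset.sum_le_sum fun S hS => ?_
    obtain ⟨w, hw, rfl⟩ := Finset.mem_image.mp hS
    obtain ⟨hw1, -⟩ := hWmem w hw
    obtain ⟨J⟩ := hloc w hw1
    refine (Nat.mul_le_mul (hK w hw J) (Finset.card_le_card fun v hv => ?_)).trans
      (le_of_eq ((J.card_conjUnion (hCA.isSelfCent hw1)).trans (by rw [J.card_excSet])))
    obtain ⟨hvW, hve⟩ := Finset.mem_filter.mp hv
    obtain ⟨χ, hχ⟩ : ∃ χ, χ ∈ excSet (Subgroup.centralizer ({w} : Set G)) :=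
      Finset.card_pos.mp (by rw [J.card_excSet]; have := J.s_two; omega)
    exact hdisjW w hw v hvW χ hχ (hve.symm ▸ hχ)
  have hUc := I.card_conjUnion hA
  have haA : Nat.card A * I.e ∣ Nat.card G := by
    rw [← I.he, ← card_normalizer hA]
    exact Subgroup.card_subgroup_dvd_card _
  have hGpos : 0 < Nat.card G := Nat.card_pos
  have hGA : Nat.card A * I.e ≤ Nat.card G := Nat.le_of_dvd hGpos haA
  have he3 := I.e_three
  have hIs : I.s * I.e + 1 = Nat.card A := I.hs
  have hse2 := Nat.mul_le_mul_right I.e I.s_two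
  obtain ⟨k, hk⟩ := I.s_even
  by_cases hs2 : I.s = 2
  · have hK : ∀ w ∈ W, ∀ J : LocalInfo (Subgroup.centralizer ({w} : Set G)),
        2 * I.e + 3 ≤ Nat.card (Subgroup.centralizer ({w} : Set G)) := by
      intro w hw J
      obtain ⟨hw1, hwA, -⟩ := hWmem w hw
      have hJe : I.e ≤ J.e := by
        rw [hIe, ← J.he]
        exact hmin w (Finset.mem_erase.mpr ⟨hw1, Finset.mem_univ _⟩)
      have hJs := J.hs
      have hJ2 := Nat.mul_le_mul_right J.e J.s_two
      by_contra hlt
      obtain ⟨l, hl⟩ := J.s_even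
      have hJs2 : J.s = 2 := by
        by_contra hne2
        have h4 : 4 ≤ J.s := by have := J.s_two; omega
        have := Nat.mul_le_mul_right J.e h4
        omega
      have hJeq : J.e = I.e := by
        rw [hJs2] at hJs
        omega
      have hsame : Nat.card (Subgroup.centralizer ({w} : Set G)) = Nat.card A := by
        rw [← hJs, ← hIs, hJs2, hs2, hJeq]
      obtain ⟨p, hp, hpA⟩ := Nat.exists_prime_and_dvd (by omega : Nat.card A ≠ 1)
      haveI := Fact.mk hp
      obtain ⟨u, hu, hu'⟩ :=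
        exists_mem_conjUnion_of_dvd hA (hCA.isSelfCent hw1) hpA (hsame ▸ hpA)
      exact hoff w hw1 hwA u hu hu'
    have hW := hWbound (2 * I.e + 3) hK
    set a := Nat.card A with ha_def
    set g := Nat.card G with hg_def
    set Y := (𝒳.biUnion id).card with hY_def
    set U := (conjUnion A).card with hU_def
    rw [hs2] at hUc hIs
    have ha : a = 2 * I.e + 1 := hIs.symm
    rw [ha] at hUc hZ hGA
    have hsum : g = U + (Z.card + W.card) + 1 := by omega
    have hY1 : g * Y + g ≤ g * I.e := by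
      have := Nat.mul_le_mul_left g hY
      rwa [Nat.mul_add, Nat.mul_one] at this
    have h1 : (2 * I.e + 1) * (2 * I.e + 3) * g ≤
        (2 * I.e + 3) * (g * 2) + (2 * I.e + 3) * (g * I.e) +
          (2 * I.e + 1) * (g * Y) + (2 * I.e + 1) * (2 * I.e + 3) := by
      calc (2 * I.e + 1) * (2 * I.e + 3) * g
          = (2 * I.e + 3) * ((2 * I.e + 1) * U) + (2 * I.e + 3) * ((2 * I.e + 1) * Z.card) +
              (2 * I.e + 1) * ((2 * I.e + 3) * W.card) + (2 * I.e + 1) * (2 * I.e + 3) := by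
            rw [hsum]; ring
        _ ≤ _ := by
            rw [hUc]
            gcongr
    nlinarith [Nat.mul_le_mul_left (2 * I.e + 1) hY1, Nat.mul_le_mul_left (2 * I.e - 2) hGA]
  · have hs4 : 4 ≤ I.s := by have := I.s_two; omega
    have ha4 : 4 * I.e + 1 ≤ Nat.card A := by
      have := Nat.mul_le_mul_right I.e hs4
      omega
    have hK : ∀ w ∈ W, ∀ J : LocalInfo (Subgroup.centralizer ({w} : Set G)),
        2 * I.e ≤ Nat.card (Subgroup.centralizer ({w} : Set G)) := by
      intro w hw J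
      obtain ⟨hw1, -, -⟩ := hWmem w hw
      have hJe : I.e ≤ J.e := by
        rw [hIe, ← J.he]
        exact hmin w (Finset.mem_erase.mpr ⟨hw1, Finset.mem_univ _⟩)
      have hJs := J.hs
      have hJ2 := Nat.mul_le_mul_right J.e J.s_two
      omega
    have hW := hWbound (2 * I.e) hK
    set a := Nat.card A with ha_def
    set g := Nat.card G with hg_def
    set Y := (𝒳.biUnion id).card with hY_def
    set U := (conjUnion A).card with hU_def
    have hsum : g = U + (Z.card + W.card) + 1 := by omega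
    have hY1 : g * Y + g ≤ g * I.e := by
      have := Nat.mul_le_mul_left g hY
      rwa [Nat.mul_add, Nat.mul_one] at this
    have hUle : U * I.e ≤ g := by
      refine Nat.le_of_mul_le_mul_left ?_ (by omega : 0 < I.s)
      calc I.s * (U * I.e) = U * (I.s * I.e) := by ring
        _ ≤ U * a := Nat.mul_le_mul_left _ (by omega)
        _ = I.s * g := by rw [mul_comm U, hUc]; ring
    have hZle : 4 * Z.card ≤ g := by
      refine Nat.le_of_mul_le_mul_left ?_ (by omega : 0 < I.e)
      calc I.e * (4 * Z.card) = (4 * I.e) * Z.card := by ring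
        _ ≤ a * Z.card := Nat.mul_le_mul_right _ (by omega)
        _ ≤ g * I.e := hZ
        _ = I.e * g := by ring
    have hga : (4 * I.e + 1) * I.e ≤ g := (Nat.mul_le_mul_right _ ha4).trans hGA
    have h1 : 4 * I.e * g ≤ 4 * g + I.e * g + 2 * (g * Y) + 4 * I.e := by
      calc 4 * I.e * g = 4 * (U * I.e) + I.e * (4 * Z.card) + 2 * (2 * I.e * W.card) + 4 * I.e := by
            rw [hsum]; ring
        _ ≤ _ := by gcongr
    nlinarith [hY1, hga]

/-- Suzuki's theorem. -/
theorem isSolvable_of_isCA {G : Type*} [Group G] [Finite G] (hodd : Odd (Nat.card G))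
    (hCA : IsCA G) : Group.IsSolvable G := by
  suffices H : ∀ (n : ℕ) (K : Subgroup G), Nat.card K = n → Group.IsSolvable K by
    haveI := H _ ⊤ rfl
    exact Group.isSolvable_of_surjective (f := (Subgroup.topEquiv : (⊤ : Subgroup G) ≃* G).toMonoidHom)
      (Subgroup.topEquiv (G := G)).surjective
  intro n
  induction n using Nat.strong_induction_on with
  | _ n ih =>
    intro K hKn
    classical
    haveI := Fintype.ofFinite K
    have hKodd : Odd (Nat.card K) := hodd.of_dvd_nat (Subgroup.card_subgroup_dvd_card K)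
    have hKCA : IsCA K := hCA.subgroup K
    have hproper : ∀ H : Subgroup K, H ≠ ⊤ → Group.IsSolvable H := by
      intro H hH
      have hlt : Nat.card (H.map K.subtype) < n := by
        rw [Subgroup.card_subtype, ← hKn]
        exact lt_of_le_of_ne (Subgroup.card_le_card_group H)
          fun h => hH (Subgroup.eq_top_of_card_eq H h)
      haveI := ih _ hlt _ rfl
      exact Group.isSolvable_of_isSolvable_injective
        (f := (H.equivMapOfInjective K.subtype K.subtype_injective).toMonoidHom)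
        (MulEquiv.injective _)
    by_cases hsimple : ∃ N : Subgroup K, N.Normal ∧ N ≠ ⊥ ∧ N ≠ ⊤
    · obtain ⟨N, hN, hNbot, hNtop⟩ := hsimple
      haveI := hproper N hNtop
      -- a nontrivial abelian normal subgroup
      obtain ⟨A, hAn, hAbot, hAab⟩ : ∃ A : Subgroup K, A.Normal ∧ A ≠ ⊥ ∧
          ∀ a ∈ A, ∀ b ∈ A, a * b = b * a := by
        obtain ⟨m, hm⟩ := (Group.isSolvable_def N).mp inferInstance
        have hex : ∃ m, derivedSeries N m = ⊥ := ⟨m, hm⟩
        have hfind := Nat.find_spec hex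
        have hpos : Nat.find hex ≠ 0 := fun h => by
          rw [h, derivedSeries_zero] at hfind
          apply hNbot
          have := congrArg (Subgroup.map N.subtype) hfind
          rwa [← MonoidHom.range_eq_map, Subgroup.range_subtype, Subgroup.map_bot] at this
        obtain ⟨j, hj⟩ := Nat.exists_eq_succ_of_ne_zero hpos
        refine ⟨(derivedSeries N j).map N.subtype, inferInstance, fun h => ?_, ?_⟩
        · rw [Subgroup.map_eq_bot_iff_of_injective _ N.subtype_injective] at h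
          exact Nat.find_min hex (by omega) h
        · rintro _ ⟨a, ha, rfl⟩ _ ⟨b, hb, rfl⟩
          rw [hj, derivedSeries_succ] at hfind
          have hc := Subgroup.commutator_mem_commutator ha hb
          rw [hfind, Subgroup.mem_bot, commutatorElement_eq_one_iff_mul_comm] at hc
          exact congrArg N.subtype hc
      obtain ⟨⟨a, ha⟩, ha1'⟩ := Subgroup.ne_bot_iff_exists_ne_one.mp hAbot
      have ha1 : a ≠ 1 := fun h' => ha1' (Subtype.ext h')
      set M := Subgroup.centralizer ({a} : Set K) with hM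
      have hMc : IsSelfCent M := hKCA.isSelfCent ha1
      have haM : a ∈ M := mem_cent_self a
      have hMnorm : M.Normal := ⟨fun x hx g => by
        have ha' : g⁻¹ * a * g ∈ M := Subgroup.mem_centralizer_singleton_iff.mpr
          (hAab _ (by simpa using hAn.conj_mem a ha g⁻¹) _ ha)
        exact (isSelfCent_conj hMc ha' ha1 (g * x * g⁻¹)).mpr
          (by rwa [show g⁻¹ * (g * x * g⁻¹) * g = x by group])⟩
      have hdvd := Cfsg.Agent.S0196.result M hMc
      have hindex : (M.subgroupOf (Subgroup.normalizer (M : Set K))).index = M.index := by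
        show M.relIndex (Subgroup.normalizer (M : Set K)) = M.index
        rw [Subgroup.normalizer_eq_top, Subgroup.relIndex_top_right]
      rw [hindex] at hdvd
      have hMpos : 0 < Nat.card M := Nat.card_pos
      have hcop : (Nat.card M).Coprime M.index := by
        refine Nat.Coprime.coprime_dvd_right hdvd ?_
        exact (Nat.coprime_self_sub_right (Nat.one_le_iff_ne_zero.mpr hMpos.ne')).mpr (Nat.coprime_one_right _)
      obtain ⟨H, hH⟩ := Subgroup.exists_right_complement'_of_coprime hcop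
      have hHtop : H ≠ ⊤ := fun h => by
        rw [h, Subgroup.isComplement'_top_right] at hH
        rw [hH, Subgroup.mem_bot] at haM
        exact ha1 haM
      haveI := hproper H hHtop
      haveI hMs : Group.IsSolvable M :=
        Group.isSolvable_of_comm fun x y => Subtype.ext (hMc.comm x.2 y.2)
      haveI : Group.IsSolvable (K ⧸ M) :=
        Group.isSolvable_of_surjective (f := (QuotientGroup.mk' M).comp H.subtype) (by
          intro q
          obtain ⟨k, rfl⟩ := QuotientGroup.mk'_surjective M q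
          obtain ⟨⟨m, h⟩, rfl⟩ := hH.surjective k
          refine ⟨h, ?_⟩
          show QuotientGroup.mk' M (h : K) = QuotientGroup.mk' M ((m : K) * h)
          rw [map_mul, show QuotientGroup.mk' M (m : K) = 1 from
            (QuotientGroup.eq_one_iff _).mpr m.2, one_mul])
      exact (Group.isSolvable_iff_subgroup_quotient M).mpr ⟨hMs, inferInstance⟩
    · by_cases hab : ∀ a b : K, a * b = b * a
      · exact Group.isSolvable_of_comm hab
      · exfalso
        haveI : Nontrivial K := ⟨by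
          obtain ⟨a, ha⟩ := not_forall.mp hab
          obtain ⟨b, hb⟩ := not_forall.mp ha
          exact ⟨a * b, b * a, hb⟩⟩
        haveI : IsSimpleGroup K := ⟨fun H hH => by
          by_contra hcon
          push Not at hcon
          exact hsimple ⟨H, hH, hcon.1, hcon.2⟩⟩
        exact false_of_simple hab hKodd hKCA

end Cfsg.Agent.OddOrder
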