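import Cfsg.Agent.Lib.Coprime.Commutator
import Cfsg.Agent.Lib.PGroup.ElementaryAbelian
import Mathlib.GroupTheory.Transfer
import Mathlib.GroupTheory.SchurZassenhaus

/-!
# An abelian Sylow subgroup splits over its intersection with the derived subgroup

If `S` is an abelian Sylow subgroup of a finite group `X`, every element of `S` is a product `z d` with
`z ∈ S ∩ X'` and `d ∈ S` such that no nontrivial power of `d` lies in `X'` (transfer and coprime action of
a complement of `S` in its normalizer).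
-/

set_option autoImplicit false
set_option linter.style.haveILetI false

namespace Cfsg.Agent.OddOrder

open Subgroup (centralizer normalizer zpowers)
open scoped Pointwise IsMulCommutative

universe u

theorem exists_split_of_abelian_sylow {X : Type u} [Group X] [Finite X] {r : ℕ} [Fact r.Prime]
    (S : Sylow r X) (hS : IsMulCommutative (S : Subgroup X)) {x : X} (hx : x ∈ S) :
    ∃ z d : X, z ∈ S ∧ z ∈ _root_.commutator X ∧ d ∈ S ∧ x = z * d ∧
      ∀ n : ℕ, d ^ n ∈ _root_.commutator X → d ^ n = 1 := by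
  haveI := hS
  set S' := (S : Subgroup X) with hS'
  set N := normalizer (S' : Set X) with hN
  have hSN : S' ≤ N := Subgroup.le_normalizer
  haveI : (S'.subgroupOf N).Normal := Subgroup.normal_in_normalizer
  have hcopS : (Nat.card S').Coprime (S'.relIndex N) := by
    obtain ⟨k, hk⟩ := S.2.exists_card_eq
    rw [hk]
    refine Nat.Coprime.pow_left k ((Fact.out : r.Prime).coprime_iff_not_dvd.2 fun h => ?_)
    exact S.not_dvd_index (h.trans (Subgroup.relIndex_dvd_index_of_le hSN))
  obtain ⟨R', hR⟩ := Subgroup.exists_right_complement'_of_coprime (N := S'.subgroupOf N)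
    (by rwa [Coprime.card_subgroupOf hSN, ← Subgroup.relIndex])
  set R := R'.map N.subtype with hRdef
  have hRN : R ≤ normalizer (S' : Set X) := Subgroup.map_subtype_le _
  have hcop : (Nat.card R).Coprime (Nat.card S') := by
    rw [hRdef, Subgroup.card_map_of_injective N.subtype_injective, ← hR.symm.index_eq_card,
      ← Subgroup.relIndex]
    exact hcopS.symm
  have hxs : x ∈ ⁅S', R⁆ ⊔ (S' ⊓ centralizer (R : Set X)) := by
    rw [Coprime.commutator_sup_centralizer hRN hcop (Or.inr inferInstance)]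
    exact hx
  have hCS : ⁅S', R⁆ ≤ S' := Coprime.commutator_le_left_of_le_normalizer hRN
  have hn : S' ⊓ centralizer (R : Set X) ≤ normalizer ((⁅S', R⁆ : Subgroup X) : Set X) := fun c hc => by
    refine Subgroup.mem_normalizer_iff.2 fun y => ⟨fun hy => ?_, fun hy => ?_⟩
    · rwa [PGroup.mul_comm_of_isMulCommutative hS hc.1 (hCS hy), mul_inv_cancel_right]
    · have hy' : y ∈ S' := by
        have := S'.mul_mem (S'.mul_mem (S'.inv_mem hc.1) (hCS hy)) hc.1
        simpa [mul_assoc] using this
      rwa [PGroup.mul_comm_of_isMulCommutative hS hc.1 hy', mul_inv_cancel_right] at hy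
  rw [sup_comm] at hxs
  obtain ⟨d, hd, z, hz, hxz⟩ := (Coprime.mem_sup_iff_of_le_normalizer hn).1 hxs
  refine ⟨z, d, hCS hz, (Subgroup.commutator_mono le_top le_top hz : z ∈ ⁅(⊤ : Subgroup X), ⊤⁆), hd.1,
    hxz.symm.trans (PGroup.mul_comm_of_isMulCommutative hS hd.1 (hCS hz)), fun n hn' => ?_⟩
  set w := d ^ n with hw
  have hwS : w ∈ S' := S'.pow_mem hd.1 n
  have hwR : w ∈ centralizer (R : Set X) := (centralizer (R : Set X)).pow_mem hd.2 n
  have hcN : ∀ g ∈ N, Commute g w := by
    intro g hg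
    obtain ⟨⟨a, b⟩, hab⟩ := (hR.existsUnique (⟨g, hg⟩ : N)).exists
    rw [← show ((a : N) : X) * ((b : N) : X) = g from congrArg Subtype.val hab]
    exact Commute.mul_left (PGroup.mul_comm_of_isMulCommutative hS a.2 hwS)
      (Subgroup.mem_centralizer_iff.1 hwR _ ⟨_, b.2, rfl⟩)
  have key : ∀ (k : ℕ) (g₀ : X), g₀⁻¹ * w ^ k * g₀ ∈ S' → g₀⁻¹ * w ^ k * g₀ = w ^ k := by
    intro k g₀ h
    obtain ⟨m, hm, he⟩ := S.conj_eq_normalizer_conj_of_mem (w ^ k) g₀ (S'.pow_mem hwS k) h
    rw [he]
    have hc : Commute m (w ^ k) := (hcN m hm).pow_right k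
    rw [mul_assoc, ← hc.eq, ← mul_assoc, inv_mul_cancel, one_mul]
  have h1 := MonoidHom.transfer_eq_pow (MonoidHom.id S') w key
  have h2 : MonoidHom.transfer (MonoidHom.id S') w = 1 :=
    MonoidHom.mem_ker.1 (Abelianization.commutator_subset_ker _ hn')
  rw [h2] at h1
  have h3 : w ^ S'.index = 1 := (congrArg Subtype.val h1).symm
  obtain ⟨j, hj⟩ := S.2 ⟨w, hwS⟩
  refine orderOf_eq_one_iff.1 (Nat.eq_one_of_dvd_coprimes (k := orderOf w)
    (((Fact.out : r.Prime).coprime_iff_not_dvd.2 S.not_dvd_index).pow_left j)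
    (orderOf_dvd_of_pow_eq_one (congrArg Subtype.val hj)) (orderOf_dvd_of_pow_eq_one h3))

end Cfsg.Agent.OddOrder
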