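import Cfsg.Agent.Lib.OddOrder.CNBasic
import Cfsg.Agent.Lib.OddOrder.FittingHall
import Cfsg.Agent.Lib.Frobenius.FixedPointFree
import Cfsg.Agent.Lib.Frobenius.Basic
import Cfsg.Agent.Lib.PGroup.UniqueOrderP
import Cfsg.Agent.Lib.Supersolvable.Basic
import Cfsg.Agent.Lib.Components.Fitting
import Cfsg.Agent.Lib.PCore.Basic
import Cfsg.Agent.Lib.Solvable.Hall
import Mathlib.GroupTheory.SpecificGroups.ZGroup
import Mathlib.GroupTheory.SchurZassenhaus

/-!
# Solvable CN-groups

* `isNilpotent_of_fpf`: a subgroup of a CN-group acting fixed-point-freely on a nontrivial abelian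
  subgroup is nilpotent; `isCyclic_or_quaternion_prod` gives its shape;
* `frobenius_of_normal_sylow`: CN-groups with a normal Sylow subgroup;
* `isThreeStepGroup_of_no_normal_sylow`.
-/

set_option autoImplicit false
set_option linter.style.haveILetI false

namespace Cfsg.Agent.OddOrder.CN

open Subgroup
open scoped IsMulCommutative
open Cfsg (IsCNGroup pCore)

universe u

variable {G : Type u} [Group G] [Finite G]

theorem isNilpotent_of_mul_comm {A : Type*} [Group A] (h : ∀ a b : A, a * b = b * a) :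
    Group.IsNilpotent A :=
  let _ : CommGroup A := { ‹Group A› with mul_comm := h }
  CommGroup.isNilpotent

theorem isNilpotent_of_central {A : Type*} [Group A] (hCN : IsCNGroup A) {v : A} (hv : v ≠ 1)
    (hc : ∀ a : A, a * v = v * a) : Group.IsNilpotent A := by
  have h1 : centralizer ({v} : Set A) = ⊤ :=
    eq_top_iff.mpr fun a _ => mem_centralizer_singleton_iff.mpr (hc a)
  haveI := hCN v hv
  exact Group.nilpotent_of_mulEquiv ((MulEquiv.subgroupCongr h1).trans Subgroup.topEquiv)

/-- A subgroup of a CN-group acting fixed-point-freely on a nontrivial abelian group is nilpotent. -/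
theorem isNilpotent_of_isFpf {A V : Type*} [Group A] [Finite A] [CommGroup V] [Finite V]
    [Nontrivial V] (hCN : IsCNGroup A) {φ : A →* MulAut V} (hφ : Frobenius.Fpf.IsFpf φ) :
    Group.IsNilpotent A := by
  classical
  rcases subsingleton_or_nontrivial A with hA | hA
  · infer_instance
  by_cases h2 : 2 ∣ Nat.card A
  · -- the involution is central
    haveI : Fact (Nat.Prime 2) := ⟨Nat.prime_two⟩
    obtain ⟨t, ht⟩ := exists_prime_orderOf_dvd_card' 2 h2
    have ht1 : t ≠ 1 := fun h => by rw [h, orderOf_one] at ht; omega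
    have ht2 : t * t = 1 := by rw [← sq, ← ht, pow_orderOf_eq_one]
    have hinv : ∀ v, φ t v = v⁻¹ := fun v => by
      refine eq_inv_of_mul_eq_one_left (hφ t ht1 _ ?_)
      rw [map_mul, ← MulAut.mul_apply, ← map_mul, ht2, map_one, MulAut.one_apply, mul_comm]
    refine isNilpotent_of_central hCN ht1 fun a => ?_
    have h1 : a * t * a⁻¹ * t⁻¹ = 1 := by
      by_contra hne
      obtain ⟨v, hv⟩ := exists_ne (1 : V)
      refine hv (hφ _ hne v ?_)
      rw [inv_eq_of_mul_eq_one_right ht2, map_mul, map_mul, map_mul, MulAut.mul_apply,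
        MulAut.mul_apply, MulAut.mul_apply, hinv, hinv, map_inv (φ a⁻¹), inv_inv,
        ← MulAut.mul_apply, ← map_mul, mul_inv_cancel, map_one, MulAut.one_apply]
    exact mul_inv_eq_iff_eq_mul.mp (mul_inv_eq_one.mp h1)
  -- odd order: a cyclic-Sylow group
  haveI hZ : IsZGroup A := by
    refine ⟨fun r hr S => ?_⟩
    haveI := Fact.mk hr
    have hS : Frobenius.Fpf.IsFpf (φ.comp (S : Subgroup A).subtype) :=
      fun a ha v hv => hφ (a : A) (fun h => ha (Subtype.ext h)) v hv
    rcases PGroup.cyclic_or_quaternion_of_unique S.2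
      (fun H K hH hK => Frobenius.Fpf.eq_of_card_eq_prime hS S.2 hH hK) with hc | ⟨h', n, -, hn, -⟩
    · exact hc
    · subst h'
      exact absurd ((dvd_pow_self 2 (by omega)).trans
        (hn ▸ (S : Subgroup A).card_subgroup_dvd_card)) h2
  by_cases hc : _root_.commutator A = ⊥
  · refine isNilpotent_of_mul_comm fun a b => ?_
    have h1 := Subgroup.commutator_mem_commutator (mem_top a) (mem_top b)
    rw [← _root_.commutator_def, hc, mem_bot, commutatorElement_eq_one_iff_mul_comm] at h1
    exact h1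
  haveI : IsCyclic (_root_.commutator A) := IsZGroup.isCyclic_commutator A
  haveI : Nontrivial (_root_.commutator A) := (Subgroup.nontrivial_iff_ne_bot _).mpr hc
  obtain ⟨l, hl, hld⟩ :=
    Nat.exists_prime_and_dvd (Finite.one_lt_card (α := _root_.commutator A)).ne'
  haveI := Fact.mk hl
  obtain ⟨⟨u, huC⟩, hu⟩ := exists_prime_orderOf_dvd_card' l hld
  rw [Subgroup.orderOf_mk] at hu
  haveI hUn : (zpowers u).Normal := by
    haveI := Supersolvable.characteristic_of_isCyclic ((zpowers u).subgroupOf (_root_.commutator A))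
    have h1 := ConjAct.normal_of_characteristic_of_normal (H := _root_.commutator A)
      (K := (zpowers u).subgroupOf (_root_.commutator A))
    rwa [subgroupOf_map_subtype, inf_eq_left.mpr (zpowers_le.mpr huC)] at h1
  set C := centralizer (zpowers u : Set A) with hC
  haveI hCn : C.Normal := inferInstanceAs (centralizer _).Normal
  have hu1 : u ≠ 1 := fun h => hl.ne_one (by rw [← hu, h, orderOf_one])
  haveI : Group.IsNilpotent C := isNilpotent_of_le
    (centralizer_le (Set.singleton_subset_iff.mpr (mem_zpowers u))) (hCN u hu1)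
  haveI : IsCyclic C := inferInstance
  -- an element of smallest prime order
  have hA1 : Nat.card A ≠ 1 := Finite.one_lt_card.ne'
  set r := (Nat.card A).minFac with hrdef
  have hr : r.Prime := Nat.minFac_prime hA1
  haveI := Fact.mk hr
  obtain ⟨v, hv⟩ := exists_prime_orderOf_dvd_card' r (Nat.minFac_dvd (Nat.card A))
  have hv1 : v ≠ 1 := fun h => hr.ne_one (by rw [← hv, h, orderOf_one])
  have hvC : v ∈ C := by
    rw [hC, mem_centralizer_iff]
    intro w hw
    by_cases hvU : v ∈ zpowers u
    · obtain ⟨i, rfl⟩ := mem_zpowers_iff.mp hw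
      obtain ⟨j, rfl⟩ := mem_zpowers_iff.mp hvU
      exact ((Commute.refl u).zpow_zpow i j).eq
    have hφU : Frobenius.Fpf.IsFpf (φ.comp (zpowers u ⊔ zpowers v).subtype) :=
      fun a ha x hx => hφ (a : A) (fun h => ha (Subtype.ext h)) x hx
    have hw' : w ∈ zpowers u ⊔ zpowers v := Subgroup.mem_sup_left hw
    have hv' : v ∈ zpowers u ⊔ zpowers v := Subgroup.mem_sup_right (mem_zpowers v)
    have hcard := PGroup.card_sup_zpowers (p := r) (zpowers u) hvU
      (by rw [← hv, pow_orderOf_eq_one]; exact one_mem _)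
    rw [Nat.card_zpowers, hu] at hcard
    haveI := Frobenius.Fpf.isCyclic_of_card hφU hcard
    let _ : CommGroup (zpowers u ⊔ zpowers v : Subgroup A) := IsCyclic.commGroup
    exact congrArg Subtype.val (mul_comm (⟨w, hw'⟩ : (zpowers u ⊔ zpowers v : Subgroup A)) ⟨v, hv'⟩)
  haveI hVn : (zpowers v).Normal := by
    haveI := Supersolvable.characteristic_of_isCyclic ((zpowers v).subgroupOf C)
    have h1 := ConjAct.normal_of_characteristic_of_normal (H := C) (K := (zpowers v).subgroupOf C)
    rwa [subgroupOf_map_subtype, inf_eq_left.mpr (zpowers_le.mpr hvC)] at h1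
  refine isNilpotent_of_central hCN hv1 fun a => ?_
  -- the automorphisms of `⟨v⟩` induced by `A` are trivial
  have h1 : orderOf ((MulAut.conjNormal : A →* MulAut (zpowers v)) a) = 1 := by
    by_contra hne
    obtain ⟨s, hs, hsd⟩ := Nat.exists_prime_and_dvd hne
    have hsA : s ∣ Nat.card A :=
      hsd.trans ((orderOf_map_dvd _ a).trans (_root_.orderOf_dvd_natCard a))
    have hge : r ≤ s := Nat.minFac_le_of_dvd hs.two_le hsA
    haveI : IsCyclic (zpowers v) := (Subgroup.isCyclic_iff_exists_zpowers_eq_top _).mpr ⟨v, rfl⟩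
    have hlt : s ∣ r - 1 := by
      refine hsd.trans ((_root_.orderOf_dvd_natCard _).trans ?_)
      rw [IsCyclic.card_mulAut, Nat.card_zpowers, hv, Nat.totient_prime hr]
    have h2 := hr.two_le
    have := Nat.le_of_dvd (by omega) hlt
    omega
  have h2 := congrArg (fun f : MulAut (zpowers v) => ((f ⟨v, mem_zpowers v⟩ : zpowers v) : A))
    (orderOf_eq_one_iff.mp h1)
  simp only [MulAut.conjNormal_apply, MulAut.one_apply] at h2
  exact mul_inv_eq_iff_eq_mul.mp h2

/-- The shape of a nilpotent fixed-point-free group: cyclic, or cyclic of odd order times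
quaternion. -/
theorem isCyclic_or_quaternion_prod {A V : Type*} [Group A] [Finite A] [CommGroup V] [Finite V]
    [Nontrivial V] [Group.IsNilpotent A] {φ : A →* MulAut V} (hφ : Frobenius.Fpf.IsFpf φ) :
    IsCyclic A ∨ ∃ C Q : Subgroup A, C ⊔ Q = ⊤ ∧ (∀ a ∈ C, ∀ b ∈ Q, a * b = b * a) ∧ IsCyclic C ∧
      Odd (Nat.card C) ∧ ∃ n : ℕ, Nonempty (↥Q ≃* QuaternionGroup (2 ^ n)) := by
  classical
  haveI : Fact (Nat.Prime 2) := ⟨Nat.prime_two⟩
  have hsyl : ∀ (r : ℕ), r.Prime → ∀ S : Sylow r A, IsCyclic (S : Subgroup A) ∨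
      (r = 2 ∧ ∃ n : ℕ, Nonempty ((S : Subgroup A) ≃* QuaternionGroup (2 ^ n))) := by
    intro r hr S
    haveI := Fact.mk hr
    have hS : Frobenius.Fpf.IsFpf (φ.comp (S : Subgroup A).subtype) :=
      fun a ha v hv => hφ (a : A) (fun h => ha (Subtype.ext h)) v hv
    rcases PGroup.cyclic_or_quaternion_of_unique S.2
      (fun H K hH hK => Frobenius.Fpf.eq_of_card_eq_prime hS S.2 hH hK) with hc | ⟨h2, n, -, -, hn⟩
    · exact Or.inl hc
    · exact Or.inr ⟨h2, n, hn⟩
  obtain ⟨Q⟩ := (inferInstance : Nonempty (Sylow 2 A))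
  rcases hsyl 2 Nat.prime_two Q with hQ | ⟨-, hQ⟩
  · left
    haveI : IsZGroup A := ⟨fun r hr S => by
      rcases hsyl r hr S with h | ⟨rfl, -⟩
      · exact h
      · exact isCyclic_of_surjective (Sylow.equiv Q S) (Sylow.equiv Q S).surjective⟩
    infer_instance
  · right
    haveI hQn : (Q : Subgroup A).Normal := inferInstance
    obtain ⟨C, hC⟩ := Subgroup.exists_right_complement'_of_coprime (N := (Q : Subgroup A))
      Q.card_coprime_index
    have hodd : Odd (Nat.card C) := by
      rw [← hC.symm.index_eq_card, Nat.odd_iff, ← Nat.two_dvd_ne_zero]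
      exact Q.not_dvd_index
    haveI : IsZGroup C := ⟨fun r hr S => by
      haveI := Fact.mk hr
      obtain ⟨T, hT⟩ := (S.2.map C.subtype).exists_le_sylow
      rcases hsyl r hr T with h | ⟨rfl, -⟩
      · haveI := h
        exact isCyclic_of_injective
          (((Subgroup.inclusion hT)).comp
            ((S : Subgroup C).equivMapOfInjective C.subtype C.subtype_injective).toMonoidHom)
          ((Subgroup.inclusion_injective hT).comp (MulEquiv.injective _))
      · obtain ⟨m, hm⟩ := S.2.exists_card_eq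
        rcases Nat.eq_zero_or_pos m with h0 | h0
        · haveI : Subsingleton (S : Subgroup C) :=
            (Nat.card_eq_one_iff_unique.mp (by rw [hm, h0, pow_zero])).1
          exact isCyclic_of_subsingleton
        · exfalso
          exact (Nat.not_even_iff_odd.mpr hodd) (even_iff_two_dvd.mpr
            ((dvd_pow_self 2 h0.ne').trans (hm ▸ (S : Subgroup C).card_subgroup_dvd_card)))⟩
    haveI : Group.IsNilpotent C := inferInstance
    refine ⟨C, Q, by rw [sup_comm, hC.sup_eq_top], fun a ha b hb => ?_, inferInstance, hodd, hQ⟩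
    obtain ⟨k, hk⟩ := Q.2 ⟨b, hb⟩
    refine (Subnormal.commute_of_coprime (p := 2) (u := b) (y := a) (k := k)
      (congrArg Subtype.val hk) ?_).eq
    rw [← Subgroup.orderOf_mk a ha]
    exact Nat.coprime_two_right.mpr (hodd.of_dvd_nat (_root_.orderOf_dvd_natCard _))

/-- If a `q`-element centralises the normal `p`-subgroup `R` and the Sylow `p`-subgroups centralise
an element of it, a Sylow `q`-subgroup is normal. -/
theorem sylow_normal_of_centralizes (hCN : IsCNGroup G) {p q : ℕ} [Fact p.Prime] [hq : Fact q.Prime]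
    (hpq : p ≠ q) {R : Subgroup G} [R.Normal] (hR : IsPGroup p R) (hR1 : R ≠ ⊥) {y : G}
    (hy : orderOf y = q) (hyR : y ∈ centralizer (R : Set G)) :
    ∀ Q : Sylow q G, (Q : Subgroup G).Normal := by
  intro Q
  set C := centralizer (R : Set G) with hC
  haveI hCn : C.Normal := inferInstanceAs (centralizer _).Normal
  obtain ⟨⟨z, hz⟩, hz1⟩ := Subgroup.ne_bot_iff_exists_ne_one.mp hR1
  have hCnil : Group.IsNilpotent C := isNilpotent_of_le
    (centralizer_le (Set.singleton_subset_iff.mpr hz)) (hCN z fun h => hz1 (Subtype.ext h))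
  haveI := hCnil
  obtain ⟨T⟩ := (inferInstance : Nonempty (Sylow q C))
  haveI hTc : (T : Subgroup C).Characteristic := T.characteristic_of_normal inferInstance
  set Q₁ := (T : Subgroup C).map C.subtype with hQ1
  haveI hQ1n : Q₁.Normal := ConjAct.normal_of_characteristic_of_normal
  have hQ1p : IsPGroup q Q₁ := T.2.map _
  have hQ1Q : Q₁ ≤ (Q : Subgroup G) := hQ1p.le_sylow_of_normal Q
  have hyQ1 : y ∈ Q₁ := by
    refine ⟨⟨y, hyR⟩, ?_, rfl⟩
    obtain ⟨T', hT'⟩ := (IsPGroup.of_card (n := 1)
      (by rw [Nat.card_zpowers, Subgroup.orderOf_mk, hy, pow_one]) :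
      IsPGroup q (zpowers (⟨y, hyR⟩ : C))).exists_le_sylow
    haveI := Sylow.unique_of_normal T inferInstance
    rw [SetLike.mem_coe, Subsingleton.elim T T']
    exact hT' (mem_zpowers _)
  have hy1 : y ≠ 1 := fun h => hq.out.ne_one (by rw [← hy, h, orderOf_one])
  haveI : Nontrivial (Q₁.subgroupOf (Q : Subgroup G)) :=
    ⟨⟨⟨⟨y, hQ1Q hyQ1⟩, hyQ1⟩, 1, fun h => hy1 (congrArg (fun t : Q₁.subgroupOf (Q : Subgroup G) =>
      ((t : (Q : Subgroup G)) : G)) h)⟩⟩
  obtain ⟨⟨v, hv1Q, hvc⟩, hv1⟩ := Subgroup.ne_bot_iff_exists_ne_one.mp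
    (PGroup.inf_center_ne_bot Q.2 (Q₁.subgroupOf (Q : Subgroup G))
      ((Subgroup.nontrivial_iff_ne_bot _).mp inferInstance))
  have hv0 : (v : G) ≠ 1 := fun h => hv1 (Subtype.ext (Subtype.ext h))
  have hvC : (v : G) ∈ C := Subgroup.map_subtype_le _ hv1Q
  -- `C(v)` contains `Q` and `R`, so `Q` centralises `R`
  have hQC : (Q : Subgroup G) ≤ C := by
    intro a ha
    rw [hC, mem_centralizer_iff]
    intro b hb
    obtain ⟨k, hk⟩ := hR ⟨b, hb⟩
    refine (commute_of_centralizer hCN (x := (v : G)) (u := b) (y := a) hv0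
      (mem_centralizer_iff.mp hvC b hb)
      (congrArg Subtype.val (Subgroup.mem_center_iff.mp hvc ⟨a, ha⟩))
      ⟨k, congrArg Subtype.val hk⟩ ?_).symm
    obtain ⟨j, hj⟩ := IsPGroup.iff_orderOf.mp Q.2 ⟨a, ha⟩
    rw [Subgroup.orderOf_mk] at hj
    rw [hj]
    exact Nat.Coprime.pow_left _ ((Nat.coprime_primes hq.out Fact.out).mpr hpq.symm)
  have hQT : (Q : Subgroup G) = Q₁ := by
    refine le_antisymm (fun a ha => ?_) hQ1Q
    refine ⟨⟨a, hQC ha⟩, ?_, rfl⟩
    obtain ⟨T', hT'⟩ := (Q.2.comap_subtype (K := C)).exists_le_sylow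
    haveI := Sylow.unique_of_normal T inferInstance
    rw [SetLike.mem_coe, Subsingleton.elim T T']
    exact hT' (mem_subgroupOf.mpr ha)
  rw [hQT]
  exact hQ1n

theorem isNilpotent_fittingHall : Group.IsNilpotent (Cfsg.fittingHall G) := by
  haveI := Components.fittingSubgroup_isNilpotent G
  exact isNilpotent_of_le (sSup_le fun N hN =>
    haveI := hN.2.1
    Components.le_fittingSubgroup hN.1) inferInstance

theorem sylow_le_fittingHall {p : ℕ} [Fact p.Prime] (P : Sylow p G) (hPn : (P : Subgroup G).Normal) :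
    (P : Subgroup G) ≤ Cfsg.fittingHall G :=
  le_sSup ⟨hPn, P.2.isNilpotent, P.card_coprime_index⟩

/-- A CN-group with a normal Sylow subgroup is nilpotent or Frobenius with kernel `fittingHall`. -/
theorem frobenius_of_normal_sylow (hCN : IsCNGroup G) (hnn : ¬ Group.IsNilpotent G) {p : ℕ}
    [hp : Fact p.Prime] (P : Sylow p G) (hP1 : (P : Subgroup G) ≠ ⊥)
    (hPn : (P : Subgroup G).Normal) :
    Cfsg.fittingHall G ≠ ⊥ ∧ Cfsg.fittingHall G ≠ ⊤ ∧
      (∃ E : Subgroup G, Subgroup.IsComplement' (Cfsg.fittingHall G) E ∧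
        Cfsg.IsFrobeniusComplement E ∧
        (∀ e ∈ E, e ≠ 1 → Cfsg.fittingHall G ⊓ centralizer ({e} : Set G) = ⊥) ∧
        (IsCyclic E ∨ ∃ C Q : Subgroup G, C ⊔ Q = E ∧ (∀ a ∈ C, ∀ b ∈ Q, a * b = b * a) ∧
          IsCyclic C ∧ Odd (Nat.card C) ∧
          ∃ n : ℕ, Nonempty (↥Q ≃* QuaternionGroup (2 ^ n)))) ∧
      Group.IsNilpotent (G ⧸ Cfsg.fittingHall G) := by
  classical
  set H := Cfsg.fittingHall G with hH
  haveI hHn : H.Normal := Cfsg.fittingHall_normal G
  have hHnil : Group.IsNilpotent H := isNilpotent_fittingHall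
  have hPH : (P : Subgroup G) ≤ H := sylow_le_fittingHall P hPn
  have hHb : H ≠ ⊥ := fun h => hP1 (le_bot_iff.mp (h ▸ hPH))
  have hHt : H ≠ ⊤ := fun h => hnn (by
    rw [h] at hHnil
    haveI := hHnil
    exact Group.nilpotent_of_mulEquiv Subgroup.topEquiv)
  have hcop : (Nat.card H).Coprime H.index := fittingHall_coprime_index G
  obtain ⟨E, hE⟩ := Subgroup.exists_right_complement'_of_coprime hcop
  have hEb : E ≠ ⊥ := fun h => hHt (by rw [h, Subgroup.isComplement'_bot_right] at hE; exact hE)
  have hpH : p ∣ Nat.card H := by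
    obtain ⟨m, hm⟩ := P.2.exists_card_eq
    have hm0 : m ≠ 0 := fun h => hP1 (Subgroup.card_eq_one.mp (by rw [hm, h, pow_zero]))
    exact (dvd_pow_self p hm0).trans (hm ▸ Subgroup.card_dvd_of_le hPH)
  -- fixed-point-freeness
  have hfpf : ∀ e ∈ E, e ≠ 1 → H ⊓ centralizer ({e} : Set G) = ⊥ := by
    intro e he he1
    rw [Subgroup.eq_bot_iff_forall]
    intro h hh
    obtain ⟨hhH, hhe⟩ := mem_inf.mp hh
    by_contra hh1
    obtain ⟨q, hq, hqd⟩ := Nat.exists_prime_and_dvd (fun h => he1 (orderOf_eq_one_iff.mp h))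
    haveI := Fact.mk hq
    obtain ⟨k, hk⟩ := hqd
    have hk0 : k ≠ 0 := fun h => (orderOf_pos e).ne' (by rw [hk, h, mul_zero])
    have hyq : orderOf (e ^ k) = q := by
      rw [orderOf_pow_of_dvd hk0 (Dvd.intro_left _ hk.symm), hk,
        Nat.mul_div_cancel _ (Nat.pos_of_ne_zero hk0)]
    set y := e ^ k with hy
    have hyh : y * h = h * y := ((show Commute h e from
      mem_centralizer_singleton_iff.mp hhe).pow_right k).symm.eq
    have hqH : ¬ q ∣ Nat.card H := fun hd => hq.ne_one (Nat.eq_one_of_dvd_coprimes hcop hd (by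
      rw [hE.symm.index_eq_card]
      exact hyq ▸ E.orderOf_dvd_natCard (pow_mem he k)))
    -- `y` commutes with a central element, hence centralises `H`
    obtain ⟨z, hzH, hzp, hzc⟩ : ∃ z ∈ H, orderOf z = p ∧ ∀ a ∈ H, a * z = z * a := by
      haveI := hHnil
      have hPH' : ((P.subtype hPH : Sylow p H) : Subgroup H) ≠ ⊥ :=
        Sylow.ne_bot_of_dvd_card _ hpH
      haveI : ((P.subtype hPH : Sylow p H) : Subgroup H).Normal := inferInstance
      obtain ⟨⟨w, hwS, hwc⟩, hw1⟩ := Subgroup.ne_bot_iff_exists_ne_one.mp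
        (Solvable.inf_center_ne_bot hPH')
      obtain ⟨l, hl⟩ := IsPGroup.iff_orderOf.mp (P.subtype hPH).2 ⟨w, hwS⟩
      rw [Subgroup.orderOf_mk] at hl
      rcases l with _ | l
      · exact absurd (orderOf_eq_one_iff.mp (by rw [hl, pow_zero])) fun h => hw1 (Subtype.ext h)
      refine ⟨((w ^ p ^ l : H) : G), SetLike.coe_mem _, ?_, fun a ha => ?_⟩
      · rw [Subgroup.orderOf_coe, orderOf_pow_of_dvd (pow_ne_zero _ hp.out.ne_zero)
          (hl ▸ pow_dvd_pow p (Nat.le_succ l)), hl, pow_succ,
          Nat.mul_div_cancel_left _ (pow_pos hp.out.pos _)]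
      · exact congrArg Subtype.val
          (Subgroup.mem_center_iff.mp (pow_mem hwc (p ^ l)) ⟨a, ha⟩)
    have hqp : p ≠ q := fun h => hqH (h ▸ hpH)
    have hz1 : z ≠ 1 := fun h => hp.out.ne_one (by rw [← hzp, h, orderOf_one])
    have hzpow : ∃ l : ℕ, z ^ p ^ l = 1 := ⟨1, (pow_one p).symm ▸ hzp ▸ pow_orderOf_eq_one z⟩
    have hyp : (orderOf y).Coprime p := by
      rw [hyq]; exact (Nat.coprime_primes hq hp.out).mpr hqp.symm
    have hyz : y * z = z * y := commute_of_centralizer hCN hh1 (hzc h hhH).symm hyh hzpow hyp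
    have hyR : y ∈ centralizer ((P : Subgroup G) : Set G) := by
      rw [mem_centralizer_iff]
      intro a ha
      obtain ⟨l, hl⟩ := P.2 ⟨a, ha⟩
      exact (commute_of_centralizer hCN hz1 (hzc a (hPH ha)) hyz
        ⟨l, congrArg Subtype.val hl⟩ hyp).symm
    haveI := hPn
    obtain ⟨Q⟩ := (inferInstance : Nonempty (Sylow q G))
    have hQn := sylow_normal_of_centralizes hCN hqp P.2 hP1 hyq hyR Q
    refine hqH ((?_ : q ∣ Nat.card (Q : Subgroup G)).trans
      (Subgroup.card_dvd_of_le (sylow_le_fittingHall Q hQn)))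
    exact Q.dvd_card_of_dvd_card (hyq ▸ _root_.orderOf_dvd_natCard y)
  have hFrob : Cfsg.IsFrobeniusComplement E := (Frobenius.isFrobeniusComplement_iff hE hHb hEb).mpr hfpf
  -- the centre of `H`
  haveI := hHnil
  haveI : Nontrivial H := (Subgroup.nontrivial_iff_ne_bot H).mpr hHb
  haveI : Nontrivial (Subgroup.center H) := Subgroup.nontrivial_iff_ne_bot _ |>.mpr (fun h0 => by
    have h1 := Solvable.inf_center_ne_bot (G := H) (N := ⊤) top_ne_bot
    rw [h0, inf_bot_eq] at h1
    exact h1 rfl)
  let V := (Subgroup.center H).map H.subtype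
  haveI : V.Normal := ConjAct.normal_of_characteristic_of_normal
  haveI : Nontrivial V :=
    ((Subgroup.center H).equivMapOfInjective H.subtype H.subtype_injective).symm.toEquiv.nontrivial
  haveI : IsMulCommutative V := Subgroup.map_isMulCommutative _ _
  have hEV : E ≤ normalizer (V : Set G) := le_top.trans (normalizer_eq_top (H := V)).ge
  letI : CommGroup V := { (inferInstance : Group V) with
    mul_comm := fun a b => IsMulCommutative.is_comm.comm a b }
  let φ : E →* MulAut V := V.normalizerMonoidHom.comp (Subgroup.inclusion hEV)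
  have hφ : Frobenius.Fpf.IsFpf φ := by
    intro a ha v hv
    have h' : (a : G) * v * (a : G)⁻¹ = v := congrArg Subtype.val hv
    have hm : (v : G) ∈ H ⊓ centralizer {(a : G)} :=
      ⟨Subgroup.map_subtype_le _ v.2,
        mem_centralizer_singleton_iff.2 (mul_inv_eq_iff_eq_mul.1 h').symm⟩
    rw [hfpf a a.2 (fun h => ha (Subtype.ext h)), mem_bot] at hm
    exact Subtype.ext hm
  have hEnil : Group.IsNilpotent E :=
    isNilpotent_of_isFpf (of_injective hCN E.subtype E.subtype_injective) hφ
  haveI := hEnil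
  refine ⟨hHb, hHt, ⟨E, hE, hFrob, hfpf, ?_⟩,
    Group.nilpotent_of_mulEquiv hE.symm.QuotientMulEquiv.symm⟩
  rcases isCyclic_or_quaternion_prod hφ with h | ⟨C, Q, hCQ, hcomm, hC, hCodd, n, ⟨e⟩⟩
  · exact Or.inl h
  · refine Or.inr ⟨C.map E.subtype, Q.map E.subtype, ?_, ?_, ?_, ?_, n, ⟨?_⟩⟩
    · rw [← Subgroup.map_sup, hCQ, ← MonoidHom.range_eq_map, Subgroup.range_subtype]
    · rintro _ ⟨a, ha, rfl⟩ _ ⟨b, hb, rfl⟩
      exact congrArg Subtype.val (hcomm a ha b hb)
    · haveI := hC
      exact isCyclic_of_surjective (C.equivMapOfInjective E.subtype E.subtype_injective)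
        (MulEquiv.surjective _)
    · rwa [Subgroup.card_map_of_injective E.subtype_injective]
    · exact (Q.equivMapOfInjective E.subtype E.subtype_injective).symm.trans e

/-- A solvable CN-group without nontrivial normal Sylow subgroup is a three-step group. -/
theorem exists_isThreeStepGroup [Group.IsSolvable G] (hCN : IsCNGroup G)
    (hQ : IsCNGroup G → ∀ H : Subgroup G, ∀ [H.Normal], Group.IsSolvable H → IsCNGroup (G ⧸ H))
    (hnn : ¬ Group.IsNilpotent G)
    (hsyl : ∀ q : ℕ, q.Prime → ∀ Q : Sylow q G, (Q : Subgroup G).Normal → (Q : Subgroup G) = ⊥) :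
    ∃ p : ℕ, p.Prime ∧ Cfsg.IsThreeStepGroup p G := by
  classical
  haveI : Nontrivial G := by
    by_contra h
    rw [not_nontrivial_iff_subsingleton] at h
    exact hnn inferInstance
  obtain ⟨A₀, p, hA₀n, -, hA₀1, -, hA₀c, hp, hA₀p⟩ :=
    Solvable.exists_abelian_minimal_normal (K := (⊤ : Subgroup G)) inferInstance top_ne_bot
  haveI := Fact.mk hp
  haveI := hA₀n
  set R := pCore p G with hR
  haveI hRn : R.Normal := Components.pCore_normal' p
  have hRp : IsPGroup p R := PCore.isPGroup_pCore
  have hR1 : R ≠ ⊥ := fun h => hA₀1 (le_bot_iff.mp (h ▸ PCore.le_pCore hA₀p))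
  refine ⟨p, hp, ?_⟩
  obtain ⟨P⟩ := (inferInstance : Nonempty (Sylow p G))
  have hRP : R ≤ (P : Subgroup G) := PCore.pCore_le_sylow P
  have hRP' : R ≠ (P : Subgroup G) := fun h => hR1 (by rw [h]; exact hsyl p hp P (h ▸ hRn))
  -- the elements of order prime to `p` act without fixed points
  have hfpf : ∀ y : G, (orderOf y).Coprime p → ∀ b ∈ R, b ≠ 1 → y * b = b * y → y = 1 := by
    intro e he b hb hb1 hcomm
    by_contra he1
    obtain ⟨q, hq, hqd⟩ := Nat.exists_prime_and_dvd (fun h => he1 (orderOf_eq_one_iff.mp h))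
    haveI := Fact.mk hq
    obtain ⟨k, hk⟩ := hqd
    have hk0 : k ≠ 0 := fun h => (orderOf_pos e).ne' (by rw [hk, h, mul_zero])
    have hyq : orderOf (e ^ k) = q := by
      rw [orderOf_pow_of_dvd hk0 (Dvd.intro_left _ hk.symm), hk,
        Nat.mul_div_cancel _ (Nat.pos_of_ne_zero hk0)]
    set y := e ^ k with hy
    have hqp : p ≠ q := fun h => by
      subst h
      exact hp.ne_one (Nat.eq_one_of_dvd_coprimes he ((Dvd.intro k hk.symm)) dvd_rfl)
    have hyp : (orderOf y).Coprime p := by
      rw [hyq]; exact (Nat.coprime_primes hq hp).mpr hqp.symm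
    have hyb : y * b = b * y := ((show Commute e b from hcomm).pow_left k).eq
    haveI : Nontrivial (R.subgroupOf (P : Subgroup G)) := by
      rw [Subgroup.nontrivial_iff_ne_bot, ne_eq, Subgroup.subgroupOf_eq_bot, disjoint_iff,
        inf_eq_left.mpr hRP]
      exact hR1
    obtain ⟨⟨z, hzR, hzc⟩, hz1⟩ := Subgroup.ne_bot_iff_exists_ne_one.mp
      (PGroup.inf_center_ne_bot P.2 (R.subgroupOf (P : Subgroup G))
        ((Subgroup.nontrivial_iff_ne_bot _).mp inferInstance))
    have hz0 : (z : G) ≠ 1 := fun h => hz1 (Subtype.ext (Subtype.ext h))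
    have hzcomm : ∀ a ∈ (P : Subgroup G), a * z = z * a := fun a ha =>
      congrArg Subtype.val (Subgroup.mem_center_iff.mp hzc ⟨a, ha⟩)
    obtain ⟨l, hl⟩ := hRp ⟨(z : G), hzR⟩
    have hyz : y * z = z * y := commute_of_centralizer hCN hb1 (hzcomm b (hRP hb)).symm hyb
      ⟨l, congrArg Subtype.val hl⟩ hyp
    have hyR : y ∈ centralizer (R : Set G) := by
      rw [mem_centralizer_iff]
      intro a ha
      obtain ⟨l, hl⟩ := hRp ⟨a, ha⟩
      exact (commute_of_centralizer hCN hz0 (hzcomm a (hRP ha)) hyz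
        ⟨l, congrArg Subtype.val hl⟩ hyp).symm
    obtain ⟨Q⟩ := (inferInstance : Nonempty (Sylow q G))
    have h1 := hsyl q hq Q (sylow_normal_of_centralizes hCN hqp hRp hR1 hyq hyR Q)
    exact Sylow.ne_bot_of_dvd_card Q (hyq ▸ _root_.orderOf_dvd_natCard y) h1
  have hQG : IsCNGroup (G ⧸ R) := hQ hCN R inferInstance
  haveI : Group.IsSolvable (G ⧸ R) := Group.isSolvable_of_surjective (QuotientGroup.mk'_surjective R)
  set F := Cfsg.fittingSubgroup (G ⧸ R) with hF
  haveI hFnil : Group.IsNilpotent F := Components.fittingSubgroup_isNilpotent _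
  have hFp : (Nat.card F).Coprime p := by
    rw [Nat.coprime_comm, hp.coprime_iff_not_dvd]
    intro hd
    obtain ⟨w, hw⟩ := exists_prime_orderOf_dvd_card' p hd
    have hmem := Subnormal.mem_pCore_of_mem_fittingSubgroup (p := p) (k := 1) w.2
      (by rw [pow_one, ← Subgroup.coe_pow, orderOf_dvd_iff_pow_eq_one.mp hw.dvd]; rfl)
    rw [PCore.pCore_quotient_self_eq_bot, Subgroup.mem_bot] at hmem
    rw [show w = 1 from Subtype.ext hmem, orderOf_one] at hw
    exact hp.ne_one hw.symm
  -- a subgroup of order prime to `p` acts on the centre of `R`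
  haveI : Nontrivial R := (Subgroup.nontrivial_iff_ne_bot R).mpr hR1
  haveI := hRp.center_nontrivial
  let V := (Subgroup.center R).map R.subtype
  haveI : V.Normal := ConjAct.normal_of_characteristic_of_normal
  haveI : Nontrivial V :=
    ((Subgroup.center R).equivMapOfInjective R.subtype R.subtype_injective).symm.toEquiv.nontrivial
  haveI : IsMulCommutative V := Subgroup.map_isMulCommutative _ _
  have hact : ∀ K : Subgroup G, (Nat.card K).Coprime p →
      Frobenius.Fpf.IsFpf (Frobenius.Fpf.conjHom K V (le_top.trans (normalizer_eq_top (H := V)).ge)) := by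
    intro K hK
    refine Frobenius.Fpf.isFpf_conjHom K V _ fun h hh h1 => ?_
    rw [Subgroup.eq_bot_iff_forall]
    intro v hv
    obtain ⟨hvV, hvh⟩ := mem_inf.mp hv
    by_contra hv1
    exact h1 (hfpf h (hK.coprime_dvd_left (K.orderOf_dvd_natCard hh)) v
      (Subgroup.map_subtype_le _ hvV) hv1 (mem_centralizer_singleton_iff.mp hvh).symm)
  -- lifting subgroups of the quotient
  have hlift : ∀ K : Subgroup (G ⧸ R), (Nat.card K).Coprime p →
      ∃ B : Subgroup G, (Nat.card B).Coprime p ∧ B.map (QuotientGroup.mk' R) = K ∧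
        Nonempty (↥B ≃* ↥K) := by
    intro K hK
    obtain ⟨n, hn⟩ := hRp.exists_card_eq
    set Y := K.comap (QuotientGroup.mk' R) with hY
    have hRY : R ≤ Y := fun r hr => by
      rw [hY, mem_comap, show QuotientGroup.mk' R r = 1 from (QuotientGroup.eq_one_iff r).mpr hr]
      exact one_mem _
    have hidx : (R.subgroupOf Y).index = Nat.card K := by
      have h1 : Nat.card Y = Nat.card R * Nat.card K := Solvable.card_comap_quotient R K
      have h2 := (R.subgroupOf Y).card_mul_index
      rw [Nat.card_congr (Subgroup.subgroupOfEquivOfLe hRY).toEquiv, h1] at h2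
      exact Nat.eq_of_mul_eq_mul_left Nat.card_pos h2
    obtain ⟨B, hB⟩ := Subgroup.exists_right_complement'_of_coprime (N := R.subgroupOf Y) (by
      rw [hidx, Nat.card_congr (Subgroup.subgroupOfEquivOfLe hRY).toEquiv, hn]
      exact (hK.symm).pow_left n)
    have hBcard : Nat.card B = Nat.card K := by rw [← hB.symm.index_eq_card, hidx]
    set f := (QuotientGroup.mk' R).comp (Y.subtype.comp B.subtype) with hf
    have hfi : Function.Injective f := by
      refine (injective_iff_map_eq_one _).mpr fun b hb => Subtype.ext ?_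
      exact Subgroup.disjoint_def.mp hB.disjoint
        (mem_subgroupOf.mpr ((QuotientGroup.eq_one_iff _).mp hb)) b.2
    have hrange : f.range = K := by
      refine Subgroup.eq_of_le_of_card_ge ?_ ?_
      · rintro _ ⟨b, rfl⟩
        exact mem_comap.mp b.1.2
      · rw [← Nat.card_congr (MonoidHom.ofInjective hfi).toEquiv, hBcard]
    refine ⟨B.map Y.subtype, ?_, ?_, ⟨?_⟩⟩
    · rwa [Subgroup.card_map_of_injective Y.subtype_injective, hBcard]
    · rw [← hrange, hf, Subgroup.map_map, ← MonoidHom.comp_assoc,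
        MonoidHom.range_comp, Subgroup.range_subtype]
    · exact ((B.equivMapOfInjective Y.subtype Y.subtype_injective).symm.trans
        (MonoidHom.ofInjective hfi)).trans (MulEquiv.subgroupCongr hrange)
  have hnilK : ∀ K : Subgroup (G ⧸ R), (Nat.card K).Coprime p → Group.IsNilpotent K := by
    intro K hK
    obtain ⟨B, hBc, -, ⟨e⟩⟩ := hlift K hK
    haveI := isNilpotent_of_isFpf (of_injective hCN B.subtype B.subtype_injective) (hact B hBc)
    exact Group.nilpotent_of_mulEquiv e
  obtain ⟨A, hAc, hAF, ⟨eA⟩⟩ := hlift F hFp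
  haveI : Group.IsNilpotent A := Group.nilpotent_of_mulEquiv eA.symm
  have hAF' : ∀ a ∈ A, QuotientGroup.mk' R a ∈ F := fun a ha => hAF ▸ mem_map_of_mem _ ha
  have hRA : R ⊔ A = F.comap (QuotientGroup.mk' R) := by
    rw [← hAF, Subgroup.comap_map_eq, QuotientGroup.ker_mk', sup_comm]
  haveI hRAn : (R ⊔ A).Normal := hRA ▸ inferInstance
  have hdisj : ∀ a ∈ A, a ∈ R → a = 1 := fun a ha haR => by
    obtain ⟨n, hn⟩ := hRp.exists_card_eq
    exact orderOf_eq_one_iff.mp (Nat.eq_one_of_dvd_coprimes (hAc.pow_right n)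
      (A.orderOf_dvd_natCard ha) (hn ▸ R.orderOf_dvd_natCard haR))
  -- `A` has odd order
  have hAodd : Odd (Nat.card A) := by
    rw [← Nat.not_even_iff_odd, even_iff_two_dvd]
    intro h2
    haveI : Fact (Nat.Prime 2) := ⟨Nat.prime_two⟩
    obtain ⟨⟨t, htA⟩, ht⟩ := exists_prime_orderOf_dvd_card' 2 h2
    rw [Subgroup.orderOf_mk] at ht
    have hp2 : p ≠ 2 := fun h => (hp.coprime_iff_not_dvd.mp hAc.symm) (h ▸ h2)
    -- `Q := O_2` of the quotient has a unique involution
    have htF := hAF' t htA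
    have huniq : ∀ a ∈ A, orderOf a = 2 → a = t := by
      intro a ha ha2
      obtain ⟨S, hS⟩ := (IsPGroup.of_card (n := 1)
        (by rw [Nat.card_zpowers, Subgroup.orderOf_mk, ht, pow_one]) :
        IsPGroup 2 (zpowers (⟨t, htA⟩ : A))).exists_le_sylow
      obtain ⟨S', hS'⟩ := (IsPGroup.of_card (n := 1)
        (by rw [Nat.card_zpowers, Subgroup.orderOf_mk, ha2, pow_one]) :
        IsPGroup 2 (zpowers (⟨a, ha⟩ : A))).exists_le_sylow
      haveI := Sylow.unique_of_normal S inferInstance
      rw [Subsingleton.elim S' S] at hS'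
      have hfS : Frobenius.Fpf.IsFpf ((Frobenius.Fpf.conjHom A V
          (le_top.trans (normalizer_eq_top (H := V)).ge)).comp (S : Subgroup A).subtype) :=
        fun x hx v hv => hact A hAc (x : A) (fun h => hx (Subtype.ext h)) v hv
      have heq := Frobenius.Fpf.eq_of_card_eq_prime hfS S.2
        (H := zpowers (⟨⟨t, htA⟩, hS (mem_zpowers _)⟩ : (S : Subgroup A)))
        (K := zpowers (⟨⟨a, ha⟩, hS' (mem_zpowers _)⟩ : (S : Subgroup A)))
        (by rw [Nat.card_zpowers, Subgroup.orderOf_mk, Subgroup.orderOf_mk, ht])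
        (by rw [Nat.card_zpowers, Subgroup.orderOf_mk, Subgroup.orderOf_mk, ha2])
      obtain ⟨j, hj⟩ := mem_zpowers_iff.mp (heq ▸ mem_zpowers _ :
        (⟨⟨a, ha⟩, hS' (mem_zpowers _)⟩ : (S : Subgroup A)) ∈
          zpowers (⟨⟨t, htA⟩, hS (mem_zpowers _)⟩ : (S : Subgroup A)))
      have hj' : t ^ j = a := congrArg (fun x : (S : Subgroup A) => ((x : A) : G)) hj
      have ht2 : t ^ (2 : ℤ) = 1 := by
        rw [show (2 : ℤ) = ((2 : ℕ) : ℤ) from rfl, zpow_natCast, ← ht, pow_orderOf_eq_one]
      rcases Int.emod_two_eq_zero_or_one j with h0 | h0 <;>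
        rw [← Int.emod_add_mul_ediv j 2, h0, zpow_add, zpow_mul, ht2, one_zpow, mul_one] at hj'
      · rw [zpow_zero] at hj'
        rw [← hj', orderOf_one] at ha2
        omega
      · rw [← hj', zpow_one]
    -- `R` is abelian and `G = R C(t)`
    have hcen : ∀ g : G, QuotientGroup.mk' R (g * t) = QuotientGroup.mk' R (t * g) := by
      intro g
      have h1 : QuotientGroup.mk' R (g * t * g⁻¹) ∈ F := by
        rw [map_mul, map_mul, map_inv]
        exact (Components.fittingSubgroup_normal _).conj_mem _ htF _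
      obtain ⟨a, ha, hag⟩ := hAF.symm ▸ h1
      have hao : orderOf a = 2 := by
        have h2 : orderOf (QuotientGroup.mk' R a) = orderOf (QuotientGroup.mk' R t) := by
          rw [hag, map_mul, map_mul, map_inv]
          exact (orderOf_injective (MulAut.conj (QuotientGroup.mk' R g)).toMonoidHom
            (MulEquiv.injective _) _)
        have hinj : ∀ x ∈ A, orderOf (QuotientGroup.mk' R x) = orderOf x := fun x hx => by
          have := orderOf_injective ((QuotientGroup.mk' R).comp A.subtype)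
            ((injective_iff_map_eq_one _).mpr fun y hy =>
              Subtype.ext (hdisj _ y.2 ((QuotientGroup.eq_one_iff _).mp hy))) ⟨x, hx⟩
          simpa using this
        rw [← hinj a ha, h2, hinj t htA, ht]
      rw [huniq a ha hao] at hag
      have h3 : QuotientGroup.mk' R (g * t * g⁻¹ * g) = QuotientGroup.mk' R (t * g) := by
        rw [map_mul, ← hag, ← map_mul]
      rwa [inv_mul_cancel_right] at h3
    have htp : (orderOf t).Coprime p := hAc.coprime_dvd_left (A.orderOf_dvd_natCard htA)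
    have ht1 : t ≠ 1 := fun h => by rw [h, orderOf_one] at ht; omega
    have hGRC : (⊤ : Subgroup G).map (QuotientGroup.mk' R) ≤
        (centralizer ({t} : Set G)).map (QuotientGroup.mk' R) := by
      rintro _ ⟨g, -, rfl⟩
      obtain ⟨n, hn⟩ := hRp.exists_card_eq
      obtain ⟨c, hc, hcc⟩ := Coprime.exists_mul_mem_centralizer (A := zpowers t) (N := R) (k := g)
        (le_top.trans (normalizer_eq_top (H := R)).ge)
        (by rw [Nat.card_zpowers, hn]; exact htp.pow_right n)
        (Or.inl inferInstance) (fun b hb => by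
          obtain ⟨j, rfl⟩ := mem_zpowers_iff.mp hb
          refine (QuotientGroup.eq_one_iff _).mp ?_
          have h1 : Commute (QuotientGroup.mk' R g) (QuotientGroup.mk' R t) := by
            show _ * _ = _ * _
            rw [← map_mul, ← map_mul, hcen g]
          show QuotientGroup.mk' R (g⁻¹ * t ^ j * g * (t ^ j)⁻¹) = 1
          rw [map_mul, map_mul, map_mul, map_inv, map_inv, map_zpow,
            mul_assoc ((QuotientGroup.mk' R g)⁻¹), ← (h1.zpow_right j).eq, inv_mul_cancel_left,
            mul_inv_cancel])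
      refine ⟨g * c, mem_centralizer_singleton_iff.mpr
        (mem_centralizer_iff.mp hcc t (mem_zpowers t)).symm, ?_⟩
      rw [map_mul, show QuotientGroup.mk' R c = 1 from (QuotientGroup.eq_one_iff c).mpr hc, mul_one]
    haveI := hCN t ht1
    haveI : Group.IsNilpotent (G ⧸ R) := by
      haveI := isNilpotent_of_le hGRC (Group.nilpotent_of_surjective _
        ((QuotientGroup.mk' R).subgroupMap_surjective _))
      exact Group.nilpotent_of_mulEquiv ((MulEquiv.subgroupCongr (Subgroup.map_top_of_surjective _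
        (QuotientGroup.mk'_surjective R))).trans Subgroup.topEquiv)
    refine hR1 (le_bot_iff.mp (hRP.trans_eq (hsyl p hp P ?_)))
    have h1 : (((P.mapSurjective (QuotientGroup.mk'_surjective R)) : Sylow p (G ⧸ R)) :
        Subgroup (G ⧸ R)).Normal := inferInstance
    rw [Sylow.coe_mapSurjective] at h1
    have h2 := h1.comap (QuotientGroup.mk' R)
    rwa [Subgroup.comap_map_eq, QuotientGroup.ker_mk', sup_eq_left.mpr hRP] at h2
  -- `A` is cyclic
  haveI hAcyc : IsCyclic A := by
    rcases isCyclic_or_quaternion_prod (hact A hAc) with h | ⟨C, Q, -, -, -, -, n, ⟨e⟩⟩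
    · exact h
    · exfalso
      have h1 : Nat.card Q ∣ Nat.card A := Q.card_subgroup_dvd_card
      rw [Nat.card_congr e.toEquiv, Nat.card_eq_fintype_card, QuaternionGroup.card] at h1
      exact (Nat.not_even_iff_odd.mpr hAodd) (even_iff_two_dvd.mpr ((Dvd.intro _ rfl : 2 ∣ 2 * (2 * 2 ^ n)).trans
        (by rwa [show 2 * (2 * 2 ^ n) = 4 * 2 ^ n by ring])))
  haveI hFcyc : IsCyclic F := isCyclic_of_surjective eA eA.surjective
  have hAne : A ≠ ⊥ := fun h => by
    have hF0 : F = ⊥ := by rw [← hAF, h, Subgroup.map_bot]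
    have h1 : (⊤ : Subgroup (G ⧸ R)) ≤ F := le_trans (fun x _ => by
      rw [mem_centralizer_iff]
      intro y hy
      rw [← hF, hF0, SetLike.mem_coe, mem_bot] at hy
      rw [hy, one_mul, mul_one]) Components.centralizer_fittingSubgroup_le
    rw [hF0] at h1
    refine hRP' (le_antisymm hRP fun a _ => (QuotientGroup.eq_one_iff a).mp ?_)
    exact mem_bot.mp (h1 (mem_top _))
  -- elements of order prime to `p` of the quotient lie in `F`
  have hprime : ∀ w : G ⧸ R, (orderOf w).Coprime p → w ∈ F := by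
    intro w hw
    set K := F ⊔ zpowers w with hK
    haveI : F.Normal := Components.fittingSubgroup_normal _
    have hKc : (Nat.card K).Coprime p := by
      refine Nat.Coprime.coprime_dvd_left (PCore.card_sup_dvd F (zpowers w)) ?_
      rw [Nat.card_zpowers]
      exact Nat.Coprime.mul_left hFp hw
    haveI := hnilK K hKc
    refine Components.centralizer_fittingSubgroup_le ?_
    rw [← hF, mem_centralizer_iff]
    intro z hz
    -- `F` is cyclic, so a commutator of `z` and `w` lies in a group where they commute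
    obtain ⟨B, hBc, hBK, ⟨eB⟩⟩ := hlift K hKc
    haveI : Group.IsNilpotent B := Group.nilpotent_of_mulEquiv eB.symm
    rcases isCyclic_or_quaternion_prod (A := B) (hact B hBc) with
      h | ⟨C, Q, hCQ, hcomm, hC, hCodd, hQq⟩
    · haveI := h
      haveI : IsCyclic K := isCyclic_of_surjective eB eB.surjective
      let _ : CommGroup K := IsCyclic.commGroup
      exact congrArg Subtype.val (mul_comm (⟨z, mem_sup_left hz⟩ : K)
        ⟨w, mem_sup_right (mem_zpowers w)⟩)
    · -- `z` has odd order, so its preimage lies in the central factor `C`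
      have hzodd : Odd (orderOf z) := by
        have h1 : Odd (Nat.card F) := by rw [← Nat.card_congr eA.toEquiv]; exact hAodd
        exact h1.of_dvd_nat (F.orderOf_dvd_natCard hz)
      set b := eB.symm ⟨z, mem_sup_left hz⟩ with hb
      have hbodd : Odd (orderOf b) := by
        rw [hb, MulEquiv.orderOf_eq, Subgroup.orderOf_mk]
        exact hzodd
      have hbcent : ∀ c : B, b * c = c * b := by
        intro c
        have hmul : ∀ c : B, ∃ x ∈ C, ∃ y ∈ Q, c = x * y := fun c => by
          have hmem : c ∈ (C ⊔ Q : Subgroup B) := hCQ ▸ mem_top c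
          rw [← SetLike.mem_coe, Subgroup.coe_mul_of_right_le_normalizer_left C Q
            (fun y hy => mem_normalizer_iff.mpr fun x => ⟨fun hx => by
              rw [← hcomm x hx y hy, mul_inv_cancel_right]; exact hx, fun hx => by
              have h2 := hcomm _ hx y hy
              have h3 : x = y * x * y⁻¹ := by
                calc x = y⁻¹ * (y * x * y⁻¹ * y) := by group
                  _ = y⁻¹ * (y * (y * x * y⁻¹)) := by rw [h2]
                  _ = y * x * y⁻¹ := by group
              rw [h3]; exact hx⟩)] at hmem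
          obtain ⟨x, hx, y, hy, hxy⟩ := hmem
          exact ⟨x, hx, y, hy, hxy.symm⟩
        obtain ⟨x, hx, y, hy, hxy⟩ := hmul b
        -- the `Q`-part of an element of odd order is trivial
        have hy1 : y = 1 := by
          obtain ⟨m, ⟨e⟩⟩ := hQq
          obtain ⟨i, hi⟩ : ∃ i, orderOf y = 2 ^ i := by
            obtain ⟨i, -, hi⟩ := (Nat.dvd_prime_pow Nat.prime_two).mp (show orderOf y ∣ 2 ^ (m + 2) by
              have h4 := Q.orderOf_dvd_natCard hy
              rw [Nat.card_congr e.toEquiv, Nat.card_eq_fintype_card, QuaternionGroup.card] at h4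
              rwa [show 2 ^ (m + 2) = 4 * 2 ^ m by ring])
            exact ⟨i, hi⟩
          have h5 : y ^ orderOf b = 1 := by
            have h6 : (x * y) ^ orderOf b = 1 := hxy ▸ pow_orderOf_eq_one b
            rw [(show Commute x y from hcomm x hx y hy).mul_pow] at h6
            have h7 : x ^ orderOf b ∈ C := pow_mem hx _
            have h8 : y ^ orderOf b = (x ^ orderOf b)⁻¹ := eq_inv_of_mul_eq_one_right h6
            have h9 : y ^ orderOf b ∈ C := h8 ▸ inv_mem h7
            refine orderOf_eq_one_iff.mp (Nat.eq_one_of_dvd_coprimes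
              ((Nat.coprime_two_left.mpr hCodd).pow_left i) ?_ (C.orderOf_dvd_natCard h9))
            exact hi ▸ orderOf_pow_dvd _
          exact orderOf_eq_one_iff.mp (Nat.eq_one_of_dvd_coprimes
            ((Nat.coprime_two_left.mpr hbodd).pow_left i) (hi ▸ dvd_rfl)
            (orderOf_dvd_of_pow_eq_one h5))
        rw [hxy, hy1, mul_one]
        obtain ⟨x', hx', y', hy', rfl⟩ := hmul c
        haveI := hC
        let _ : CommGroup C := IsCyclic.commGroup
        have h10 : x * x' = x' * x := congrArg Subtype.val (mul_comm (⟨x, hx⟩ : C) ⟨x', hx'⟩)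
        calc x * (x' * y') = x' * (x * y') := by rw [← mul_assoc, h10, mul_assoc]
          _ = x' * (y' * x) := by rw [hcomm x hx y' hy']
          _ = x' * y' * x := (mul_assoc _ _ _).symm
      have h11 := congrArg (fun t => ((eB t : K) : G ⧸ R))
        (hbcent (eB.symm ⟨w, mem_sup_right (mem_zpowers w)⟩))
      simpa [hb] using h11
  have hidx : ∃ n : ℕ, (R ⊔ A).index = p ^ n := by
    refine ⟨_, Nat.eq_prime_pow_of_unique_prime_dvd Subgroup.index_ne_zero_of_finite fun {q} hq hd => ?_⟩
    rw [hRA, Subgroup.index_comap_of_surjective _ (QuotientGroup.mk'_surjective R)] at hd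
    by_contra hne
    haveI := Fact.mk hq
    haveI : F.Normal := Components.fittingSubgroup_normal _
    obtain ⟨Q⟩ := (inferInstance : Nonempty (Sylow q (G ⧸ R)))
    refine Q.not_dvd_index (hd.trans (Subgroup.index_dvd_of_le fun w hw => hprime w ?_))
    obtain ⟨i, hi⟩ := IsPGroup.iff_orderOf.mp Q.2 ⟨w, hw⟩
    rw [Subgroup.orderOf_mk] at hi
    rw [hi]
    exact Nat.Coprime.pow_left _ ((Nat.coprime_primes hq hp).mpr hne)
  refine ⟨hR1, A, hAne, hAcyc, hAodd, hAc, hRAn, ?_, hidx, ?_, ?_⟩
  · intro htop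
    have hPF : ∀ a ∈ (P : Subgroup G), QuotientGroup.mk' R a = 1 := by
      intro a ha
      have h1 : QuotientGroup.mk' R a ∈ F := by
        rw [← mem_comap, ← hRA, htop]; exact mem_top a
      obtain ⟨i, hi⟩ := IsPGroup.iff_orderOf.mp P.2 ⟨a, ha⟩
      rw [Subgroup.orderOf_mk] at hi
      exact orderOf_eq_one_iff.mp (Nat.eq_one_of_dvd_coprimes (hFp.pow_right i)
        (F.orderOf_dvd_natCard h1) (hi ▸ orderOf_map_dvd _ a))
    exact hRP' (le_antisymm hRP fun a ha => (QuotientGroup.eq_one_iff a).mp (hPF a ha))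
  · intro a ha ha1
    rw [Subgroup.eq_bot_iff_forall]
    intro b hb
    obtain ⟨hbR, hba⟩ := mem_inf.mp hb
    by_contra hb1
    exact ha1 (hfpf a (hAc.coprime_dvd_left (A.orderOf_dvd_natCard ha)) b hbR hb1
      (mem_centralizer_singleton_iff.mp hba).symm)
  · intro x hx a ha ha1 hmem
    apply hx
    set c := QuotientGroup.mk' R x with hc
    set α := QuotientGroup.mk' R a with hα
    have hα1 : α ≠ 1 := fun h => ha1 (hdisj a ha ((QuotientGroup.eq_one_iff a).mp h))
    have hcomm : c * α = α * c := by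
      have h1 : c * α * c⁻¹ * α⁻¹ = 1 := by
        rw [hc, hα, ← map_inv, ← map_inv, ← map_mul, ← map_mul, ← map_mul]
        exact (QuotientGroup.eq_one_iff _).mpr hmem
      exact mul_inv_eq_iff_eq_mul.mp (mul_inv_eq_one.mp h1)
    rw [hRA, mem_comap]
    -- the `p`-part of `c` centralises `F`, hence is trivial
    have hF_comm : ∀ z ∈ F, z * α = α * z := fun z hz => by
      let _ : CommGroup F := IsCyclic.commGroup
      exact congrArg Subtype.val (mul_comm (⟨z, hz⟩ : F) ⟨α, hAF' a ha⟩)
    obtain ⟨i, m, hm, hcm⟩ := Nat.exists_eq_pow_mul_and_not_dvd (orderOf_pos c).ne' p hp.ne_one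
    have hpart : c ^ m = 1 := by
      have h1 : (c ^ m) ^ p ^ i = 1 := by
        rw [← pow_mul, mul_comm, ← hcm, pow_orderOf_eq_one]
      have h2 : c ^ m ∈ F := by
        refine Components.centralizer_fittingSubgroup_le ?_
        rw [← hF, mem_centralizer_iff]
        intro z hz
        exact commute_of_centralizer hQG hα1 (y := z) (u := c ^ m)
          ((show Commute c α from hcomm).pow_left m).eq (hF_comm z hz) ⟨i, h1⟩
          (hFp.coprime_dvd_left (F.orderOf_dvd_natCard hz))
      exact orderOf_eq_one_iff.mp (Nat.eq_one_of_dvd_coprimes (hFp.pow_right i)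
        (F.orderOf_dvd_natCard h2) (orderOf_dvd_of_pow_eq_one h1))
    refine hprime c (Nat.Coprime.coprime_dvd_left (orderOf_dvd_of_pow_eq_one hpart) ?_)
    exact Nat.coprime_comm.mp (hp.coprime_iff_not_dvd.mpr hm)

end Cfsg.Agent.OddOrder.CN
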