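import Cfsg.Prelude.Def_OddOrderChar
import Cfsg.Agent.Lib.Char.Isometry
import Cfsg.Agent.Lib.Char.Orthogonality

set_option autoImplicit false
set_option linter.unusedSectionVars false

/-! Coherence systems (Peterfalvi §5): the coefficients of `τ (χ - ψ)` on `R χ`, coherence for a
common degree, and the extension of a coherent subset by a conjugate pair. -/

namespace Cfsg.Agent.OddOrder

open scoped ComplexConjugate
open Finset Char

universe u v

section Bessel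

variable {G : Type u} [Group G] [Fintype G]

theorem classInner_self_re_nonneg (f : G → ℂ) : 0 ≤ (classInner f f).re := by
  rw [classInner_self, Complex.ofReal_re]
  exact mul_nonneg (inv_nonneg.2 (Nat.cast_nonneg _)) (sum_nonneg fun g _ => Complex.normSq_nonneg _)

/-- Bessel's inequality with integral coefficients. -/
theorem bessel_int {ι : Type*} [DecidableEq ι] (s : Finset ι) (v : ι → G → ℂ) (n : ι → ℕ)
    (hn : ∀ i ∈ s, 0 < n i)
    (hv : ∀ i ∈ s, ∀ j ∈ s, classInner (v i) (v j) = if i = j then (n i : ℂ) else 0)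
    (f : G → ℂ) (N : ℤ) (hf : classInner f f = N) (a : ι → ℤ)
    (ha : ∀ i ∈ s, classInner f (v i) = a i) :
    ∑ i ∈ s, ((a i : ℝ) ^ 2 / n i) ≤ N := by
  classical
  set c : ι → ℂ := fun i => ((a i : ℝ) / n i : ℝ) with hc
  set g := f - ∑ i ∈ s, c i • v i with hg
  have hgv : ∀ j ∈ s, classInner g (v j) = 0 := by
    intro j hj
    rw [hg, classInner_sub_left, classInner_sum_left, ha j hj, Finset.sum_eq_single j, classInner_smul_left,
      hv j hj j hj, if_pos rfl, hc]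
    · have : (n j : ℂ) ≠ 0 := Nat.cast_ne_zero.2 (hn j hj).ne'
      push_cast
      field_simp
      ring
    · intro i hi hij
      rw [classInner_smul_left, hv i hi j hj, if_neg hij, mul_zero]
    · exact fun h => absurd hj h
  have hgg : classInner g g = classInner g f := by
    conv_lhs => arg 2; rw [hg]
    rw [classInner_sub_right, classInner_sum_right, Finset.sum_eq_zero, sub_zero]
    intro j hj
    rw [classInner_smul_right, hgv j hj, mul_zero]
  have hgf : classInner g f = ((N : ℝ) - ∑ i ∈ s, ((a i : ℝ) ^ 2 / n i) : ℝ) := by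
    rw [hg, classInner_sub_left, classInner_sum_left, hf]
    push_cast
    congr 1
    refine Finset.sum_congr rfl fun i hi => ?_
    rw [classInner_smul_left, ← conj_classInner f (v i), ha i hi, map_intCast, hc]
    push_cast
    ring
  have h := classInner_self_re_nonneg g
  rw [hgg, hgf, Complex.ofReal_re] at h
  linarith

theorem le_sq_of_sum {ι : Type*} (s : Finset ι) (a : ι → ℤ) : ∑ i ∈ s, a i ≤ ∑ i ∈ s, a i ^ 2 :=
  Finset.sum_le_sum fun i _ => Int.le_self_sq (a i)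

theorem le_sq_of_sum_neg {ι : Type*} (s : Finset ι) (a : ι → ℤ) : -∑ i ∈ s, a i ≤ ∑ i ∈ s, a i ^ 2 := by
  rw [← Finset.sum_neg_distrib]
  exact Finset.sum_le_sum fun i _ => (Int.le_self_sq (-a i)).trans_eq (neg_sq _)

/-- Integers with `∑ a² ≤ n = ∑ a` are zeros and ones. -/
theorem zero_or_one_of_sum {ι : Type*} (s : Finset ι) (a : ι → ℤ) (h : ∑ i ∈ s, a i ^ 2 ≤ ∑ i ∈ s, a i)
    {i : ι} (hi : i ∈ s) : a i = 0 ∨ a i = 1 := by
  have h0 : ∑ j ∈ s, (a j ^ 2 - a j) = 0 := by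
    rw [Finset.sum_sub_distrib]; linarith [le_sq_of_sum s a]
  have h1 := (Finset.sum_eq_zero_iff_of_nonneg fun j _ => by linarith [Int.le_self_sq (a j)]).1 h0 i hi
  rcases mul_eq_zero.1 (show a i * (a i - 1) = 0 by linear_combination h1) with h2 | h2
  · exact Or.inl h2
  · exact Or.inr (sub_eq_zero.1 h2)

theorem conjFun_conjFun {X : Type v} (χ : X → ℂ) : conjFun (conjFun χ) = χ :=
  funext fun x => Complex.conj_conj (χ x)

theorem classInner_conjFun (φ ψ : G → ℂ) :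
    classInner (conjFun φ) (conjFun ψ) = conj (classInner φ ψ) := by
  simp [classInner, conjFun, map_sum]

end Bessel

variable {L : Type u} [Group L] [Fintype L] {G : Type v} [Group G] [Fintype G]

/-- An isometry on the span of a finite orthogonal set, from the images of its members. -/
theorem exists_isometry_of_images (S : Finset (L → ℂ)) (n : (L → ℂ) → ℕ) (hn : ∀ φ ∈ S, 0 < n φ)
    (horth : ∀ φ ∈ S, ∀ ψ ∈ S, classInner φ ψ = if φ = ψ then (n φ : ℂ) else 0)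
    (Y : (L → ℂ) → (G → ℂ)) (hY : ∀ φ ∈ S, IsGeneralizedCharacter G (Y φ))
    (hYY : ∀ φ ∈ S, ∀ ψ ∈ S, classInner (Y φ) (Y ψ) = classInner φ ψ) :
    ∃ τ₁ : (L → ℂ) → (G → ℂ), IsLinearIsometryOn (zspan (↑S : Set (L → ℂ))) τ₁ ∧
      ∀ φ ∈ S, τ₁ φ = Y φ := by
  classical
  set σ : (L → ℂ) → (G → ℂ) := fun θ => ∑ φ ∈ S, (classInner θ φ / n φ) • Y φ with hσ
  have hadd : ∀ a b, σ (a + b) = σ a + σ b := fun a b => by
    simp only [hσ, ← Finset.sum_add_distrib]
    exact Finset.sum_congr rfl fun φ _ => by rw [classInner_add_left, add_div, add_smul]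
  have hsmul : ∀ (a : L → ℂ) (m : ℤ), σ (m • a) = m • σ a := fun a m => by
    simp only [hσ, Finset.smul_sum]
    exact Finset.sum_congr rfl fun φ _ => by
      rw [classInner_zsmul_left, ← Int.cast_smul_eq_zsmul ℂ, smul_smul, mul_div_assoc]
  have hval : ∀ φ ∈ S, σ φ = Y φ := by
    intro φ hφ
    simp only [hσ]
    rw [Finset.sum_eq_single φ (fun ψ hψ hne => by rw [horth φ hφ ψ hψ, if_neg (Ne.symm hne)]; simp)
      (fun h => absurd hφ h), horth φ hφ φ hφ, if_pos rfl,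
      div_self (Nat.cast_ne_zero.2 (hn φ hφ).ne'), one_smul]
  refine ⟨σ, ⟨fun a _ b _ => hadd a b, fun a _ m => hsmul a m, ?_, ?_⟩, hval⟩
  · intro a ha b hb
    induction ha using Submodule.span_induction with
    | mem x hx =>
      induction hb using Submodule.span_induction with
      | mem y hy => rw [hval x hx, hval y hy, hYY x hx y hy]
      | zero => simp [hσ, classInner]
      | add y z _ _ hy hz => rw [hadd, classInner_add_right, hy, hz, classInner_add_right]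
      | smul m y _ hy => rw [hsmul, classInner_zsmul_right, hy, classInner_zsmul_right]
    | zero => simp [hσ, classInner]
    | add x y _ _ hx hy => rw [hadd, classInner_add_left, hx, hy, classInner_add_left]
    | smul m x _ hx => rw [hsmul, classInner_zsmul_left, hx, classInner_zsmul_left]
  · intro a ha
    induction ha using Submodule.span_induction with
    | mem x hx => rw [hval x hx]; exact hY x hx
    | zero => simpa [hσ, classInner] using (Char.IsGeneralizedCharacter.zero (G := G))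
    | add x y _ _ hx hy => rw [hadd]; exact Char.IsGeneralizedCharacter.add hx hy
    | smul m x _ hx =>
      rw [hsmul, ← Int.cast_smul_eq_zsmul ℂ]
      exact Char.IsGeneralizedCharacter.intCast_smul hx m

section System

variable {S : Set (L → ℂ)} {τ : (L → ℂ) → (G → ℂ)} {R : (L → ℂ) → Finset (G → ℂ)}

theorem system_ne_zero (hS : IsCoherenceSystem S τ R) {χ : L → ℂ} (hχ : χ ∈ S) : χ ≠ 0 := fun h =>
  hS.conj_ne χ hχ (by subst h; funext x; simp [conjFun])

theorem system_exists_norm (hS : IsCoherenceSystem S τ R) {χ : L → ℂ} (hχ : χ ∈ S) :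
    ∃ n : ℕ, 0 < n ∧ classInner χ χ = n := by
  obtain ⟨n, hn⟩ := IsCharacter.exists_nat_classInner (hS.isCharacter χ hχ) (hS.isCharacter χ hχ)
  refine ⟨n, Nat.pos_of_ne_zero fun h => system_ne_zero hS hχ (classInner_self_eq_zero ?_), hn⟩
  rw [hn, h, Nat.cast_zero]

theorem system_conj_inner (hS : IsCoherenceSystem S τ R) {χ : L → ℂ} (hχ : χ ∈ S) :
    classInner χ (conjFun χ) = 0 ∧ classInner (conjFun χ) χ = 0 ∧
      classInner (conjFun χ) (conjFun χ) = classInner χ χ :=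
  ⟨hS.orthogonal χ hχ _ (hS.conj_mem χ hχ) (hS.conj_ne χ hχ).symm,
    hS.orthogonal _ (hS.conj_mem χ hχ) χ hχ (hS.conj_ne χ hχ),
    by rw [classInner_conjFun, Char.conj_classInner]⟩

theorem conjFun_apply_one (hS : IsCoherenceSystem S τ R) {χ : L → ℂ} (hχ : χ ∈ S) :
    conjFun χ 1 = χ 1 := by
  obtain ⟨n, hn⟩ := IsCharacter.apply_one (hS.isCharacter χ hχ)
  simp [conjFun, hn]

theorem sub_conj_mem (hS : IsCoherenceSystem S τ R) {χ : L → ℂ} (hχ : χ ∈ S) :
    χ - conjFun χ ∈ zspanOn S {1}ᶜ :=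
  mem_zspanOn_compl_one.2 ⟨Submodule.sub_mem _ (Submodule.subset_span hχ)
    (Submodule.subset_span (hS.conj_mem χ hχ)), by simp [conjFun_apply_one hS hχ]⟩

theorem tau_sub (hS : IsCoherenceSystem S τ R) {a b : L → ℂ} (ha : a ∈ zspanOn S {1}ᶜ)
    (hb : b ∈ zspanOn S {1}ᶜ) : τ (a - b) = τ a - τ b :=
  iso_map_sub (E := zspanOnSub S {1}ᶜ) hS.isometry ha hb

theorem classInner_sum_R (hS : IsCoherenceSystem S τ R) {χ : L → ℂ} (hχ : χ ∈ S) {α : G → ℂ}
    (hα : α ∈ R χ) : classInner (∑ β ∈ R χ, β) α = 1 := by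
  classical
  rw [classInner_sum_left, Finset.sum_eq_single α
    (fun β hβ hne => by rw [hS.orthonormal χ hχ β hβ α hα, if_neg hne]) (fun h => absurd hα h),
    hS.orthonormal χ hχ α hα α hα, if_pos rfl]

theorem card_R (hS : IsCoherenceSystem S τ R) {χ : L → ℂ} (hχ : χ ∈ S) {n : ℕ}
    (hn : classInner χ χ = n) : (R χ).card = 2 * n := by
  have h := hS.isometry.2.2.1 _ (sub_conj_mem hS hχ) _ (sub_conj_mem hS hχ)
  obtain ⟨h1, h2, h3⟩ := system_conj_inner hS hχ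
  rw [hS.sum_eq χ hχ, classInner_sub_left, classInner_sub_right, classInner_sub_right, h1, h2, h3,
    hn, classInner_sum_right, Finset.sum_congr rfl fun α hα => classInner_sum_R hS hχ hα] at h
  simp only [Finset.sum_const, nsmul_eq_mul, mul_one, sub_zero, zero_sub, sub_neg_eq_add] at h
  rw [two_mul]
  exact_mod_cast h

/-- Integral coefficients of a virtual character on `R χ`, summing to its product with `τ (χ - χ̄)`. -/
theorem exists_coeff (hS : IsCoherenceSystem S τ R) {χ : L → ℂ} (hχ : χ ∈ S) {T : G → ℂ}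
    (hT : IsGeneralizedCharacter G T) :
    ∃ a : (G → ℂ) → ℤ, (∀ α ∈ R χ, classInner T α = a α) ∧
      classInner T (τ (χ - conjFun χ)) = ((∑ α ∈ R χ, a α : ℤ) : ℂ) := by
  classical
  have h : ∀ α, ∃ z : ℤ, α ∈ R χ → classInner T α = z := fun α => by
    by_cases hα : α ∈ R χ
    · obtain ⟨z, hz⟩ := Char.IsGeneralizedCharacter.exists_int_classInner hT (hS.virtual χ hχ α hα)
      exact ⟨z, fun _ => hz⟩
    · exact ⟨0, fun h => absurd h hα⟩
  choose a ha using h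
  refine ⟨a, ha, ?_⟩
  rw [hS.sum_eq χ hχ, classInner_sum_right, Int.cast_sum]
  exact Finset.sum_congr rfl fun α hα => ha α hα

/-- Members of `R φ` and `R χ` are orthogonal when `φ` is neither `χ` nor its conjugate. -/
theorem R_orth (hS : IsCoherenceSystem S τ R) {χ φ : L → ℂ} (hχ : χ ∈ S) (hφ : φ ∈ S)
    (h1 : φ ≠ χ) (h2 : φ ≠ conjFun χ) {α β : G → ℂ} (hα : α ∈ R φ) (hβ : β ∈ R χ) :
    classInner α β = 0 :=
  hS.disjoint χ hχ φ hφ (hS.orthogonal φ hφ χ hχ h1)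
    (hS.orthogonal φ hφ _ (hS.conj_mem χ hχ) h2) α hα β hβ

theorem ne_conj_symm {χ φ : L → ℂ} (h : φ ≠ conjFun χ) : χ ≠ conjFun φ := fun e =>
  h (by rw [e, conjFun_conjFun])

theorem sum_sq_le_of_R (hS : IsCoherenceSystem S τ R) {χ : L → ℂ} (hχ : χ ∈ S) {T : G → ℂ} {N : ℤ}
    (hN : classInner T T = N) {a : (G → ℂ) → ℤ} (ha : ∀ α ∈ R χ, classInner T α = a α) :
    ∑ α ∈ R χ, a α ^ 2 ≤ N := by
  classical
  have h := bessel_int (R χ) id (fun _ => 1) (fun _ _ => Nat.one_pos)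
    (fun i hi j hj => by simpa using hS.orthonormal χ hχ i hi j hj) T N hN a ha
  simp only [Nat.cast_one, div_one] at h
  exact_mod_cast h

/-- `τ (φ - φ')` has no component on `R χ` for three pairwise unrelated pairs of equal degree. -/
theorem coeff_eq_zero (hS : IsCoherenceSystem S τ R) {χ φ ψ : L → ℂ} (hχ : χ ∈ S) (hφ : φ ∈ S)
    (hψ : ψ ∈ S) (hd : φ 1 = ψ 1) (hφχ : φ ≠ χ) (hφχ' : φ ≠ conjFun χ) (hψχ : ψ ≠ χ)
    (hψχ' : ψ ≠ conjFun χ) (hψφ : ψ ≠ φ) (hψφ' : ψ ≠ conjFun φ) {α : G → ℂ} (hα : α ∈ R χ) :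
    classInner (τ (φ - ψ)) α = 0 := by
  classical
  have hE : φ - ψ ∈ zspanOn S {1}ᶜ := mem_zspanOn_compl_one.2
    ⟨Submodule.sub_mem _ (Submodule.subset_span hφ) (Submodule.subset_span hψ), by simp [hd]⟩
  obtain ⟨m, -, hm⟩ := system_exists_norm hS hφ
  obtain ⟨k, -, hk⟩ := system_exists_norm hS hψ
  set T := τ (φ - ψ) with hT
  have hTv := hS.isometry.2.2.2 _ hE
  have o1 := hS.orthogonal φ hφ ψ hψ hψφ.symm
  have o2 := hS.orthogonal ψ hψ φ hφ hψφ
  have hTT : classInner T T = ((m + k : ℕ) : ℤ) := by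
    rw [hT, hS.isometry.2.2.1 _ hE _ hE, classInner_sub_left, classInner_sub_right,
      classInner_sub_right, o1, o2, hm, hk]
    push_cast; ring
  obtain ⟨a, ha, hasum⟩ := exists_coeff hS hφ hTv
  obtain ⟨b, hb, hbsum⟩ := exists_coeff hS hψ hTv
  obtain ⟨c, hc⟩ := Char.IsGeneralizedCharacter.exists_int_classInner hTv (hS.virtual χ hχ α hα)
  rw [hS.isometry.2.2.1 _ hE _ (sub_conj_mem hS hφ), classInner_sub_left, classInner_sub_right,
    classInner_sub_right, (system_conj_inner hS hφ).1, o2,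
    hS.orthogonal ψ hψ _ (hS.conj_mem φ hφ) hψφ', hm] at hasum
  rw [hS.isometry.2.2.1 _ hE _ (sub_conj_mem hS hψ), classInner_sub_left, classInner_sub_right,
    classInner_sub_right, (system_conj_inner hS hψ).1, o1,
    hS.orthogonal φ hφ _ (hS.conj_mem ψ hψ) (ne_conj_symm hψφ'), hk] at hbsum
  simp only [sub_zero, zero_sub] at hasum hbsum
  have hasum' : (m : ℤ) = ∑ α ∈ R φ, a α := by exact_mod_cast hasum
  have hbsum' : -(k : ℤ) = ∑ α ∈ R ψ, b α := by exact_mod_cast hbsum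
  have hφψ : ∀ x ∈ R φ, ∀ y ∈ R ψ, classInner x y = 0 := fun x hx y hy =>
    R_orth hS hψ hφ hψφ.symm (ne_conj_symm hψφ') hx hy
  -- Bessel for `R φ`, `R ψ`, `α`
  set s := ((R φ).disjSum (R ψ)).disjSum ({α} : Finset (G → ℂ)) with hs
  set v : ((G → ℂ) ⊕ (G → ℂ)) ⊕ (G → ℂ) → G → ℂ := Sum.elim (Sum.elim id id) id with hv
  set co : ((G → ℂ) ⊕ (G → ℂ)) ⊕ (G → ℂ) → ℤ := Sum.elim (Sum.elim a b) (fun _ => c) with hco
  have h := bessel_int s v (fun _ => 1) (fun _ _ => Nat.one_pos) (fun i hi j hj => ?_) T _ hTT co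
    (fun i hi => ?_)
  · rw [hs, Finset.sum_disjSum, Finset.sum_disjSum, Finset.sum_singleton] at h
    simp only [hco, Sum.elim_inl, Sum.elim_inr, Nat.cast_one, div_one] at h
    have h' : ∑ x ∈ R φ, a x ^ 2 + ∑ x ∈ R ψ, b x ^ 2 + c ^ 2 ≤ ((m + k : ℕ) : ℤ) := by exact_mod_cast h
    have h1 := le_sq_of_sum (R φ) a
    have h2 := le_sq_of_sum_neg (R ψ) b
    push_cast at h'
    have h3 : c ^ 2 = 0 := le_antisymm (by linarith) (sq_nonneg c)
    rw [hc, pow_eq_zero_iff two_ne_zero |>.1 h3, Int.cast_zero]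
  · simp only [hs, Finset.mem_disjSum, Finset.mem_singleton] at hi hj
    rcases hi with ⟨_, ⟨x, hx, rfl⟩ | ⟨x, hx, rfl⟩, rfl⟩ | ⟨x, rfl, rfl⟩ <;>
      rcases hj with ⟨_, ⟨y, hy, rfl⟩ | ⟨y, hy, rfl⟩, rfl⟩ | ⟨y, rfl, rfl⟩ <;>
      simp only [hv, Sum.elim_inl, Sum.elim_inr, id, Sum.inl.injEq, Sum.inr.injEq, reduceCtorEq,
        if_false, Nat.cast_one]
    · exact hS.orthonormal φ hφ x hx y hy
    · exact hφψ x hx y hy
    · exact R_orth hS hχ hφ hφχ hφχ' hx hα
    · rw [← Char.conj_classInner, hφψ y hy x hx, map_zero]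
    · exact hS.orthonormal ψ hψ x hx y hy
    · exact R_orth hS hχ hψ hψχ hψχ' hx hα
    · rw [← Char.conj_classInner, R_orth hS hχ hφ hφχ hφχ' hy hα, map_zero]
    · rw [← Char.conj_classInner, R_orth hS hχ hψ hψχ hψχ' hy hα, map_zero]
    · rw [if_pos trivial, hS.orthonormal χ hχ _ hα _ hα, if_pos rfl]
  · simp only [hs, Finset.mem_disjSum, Finset.mem_singleton] at hi
    rcases hi with ⟨_, ⟨x, hx, rfl⟩ | ⟨x, hx, rfl⟩, rfl⟩ | ⟨x, rfl, rfl⟩
    · exact ha x hx
    · exact hb x hx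
    · exact hc

/-- The coefficients of `τ (χ - φ)` on `R χ` are zeros and ones, `⟨χ, χ⟩` of them ones. -/
theorem coeff_zero_one (hS : IsCoherenceSystem S τ R) {χ φ : L → ℂ} (hχ : χ ∈ S) (hφ : φ ∈ S)
    (hd : χ 1 = φ 1) (h1 : φ ≠ χ) (h2 : φ ≠ conjFun χ) {n : ℕ} (hn : classInner χ χ = n) :
    ∃ a : (G → ℂ) → ℤ, (∀ α ∈ R χ, classInner (τ (χ - φ)) α = a α) ∧
      (∀ α ∈ R χ, a α = 0 ∨ a α = 1) ∧ ∑ α ∈ R χ, a α = n := by
  classical
  have hE : χ - φ ∈ zspanOn S {1}ᶜ := mem_zspanOn_compl_one.2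
    ⟨Submodule.sub_mem _ (Submodule.subset_span hχ) (Submodule.subset_span hφ), by simp [hd]⟩
  obtain ⟨m, -, hm⟩ := system_exists_norm hS hφ
  set T := τ (χ - φ) with hT
  have hTv := hS.isometry.2.2.2 _ hE
  have o1 := hS.orthogonal χ hχ φ hφ h1.symm
  have o2 := hS.orthogonal φ hφ χ hχ h1
  have hTT : classInner T T = ((n + m : ℕ) : ℤ) := by
    rw [hT, hS.isometry.2.2.1 _ hE _ hE, classInner_sub_left, classInner_sub_right,
      classInner_sub_right, o1, o2, hm, hn]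
    push_cast; ring
  obtain ⟨a, ha, hasum⟩ := exists_coeff hS hχ hTv
  obtain ⟨b, hb, hbsum⟩ := exists_coeff hS hφ hTv
  rw [hS.isometry.2.2.1 _ hE _ (sub_conj_mem hS hχ), classInner_sub_left, classInner_sub_right,
    classInner_sub_right, (system_conj_inner hS hχ).1, o2,
    hS.orthogonal φ hφ _ (hS.conj_mem χ hχ) h2, hn] at hasum
  rw [hS.isometry.2.2.1 _ hE _ (sub_conj_mem hS hφ), classInner_sub_left, classInner_sub_right,
    classInner_sub_right, (system_conj_inner hS hφ).1, o1,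
    hS.orthogonal χ hχ _ (hS.conj_mem φ hφ) (ne_conj_symm h2), hm] at hbsum
  simp only [sub_zero, zero_sub] at hasum hbsum
  have hasum' : (n : ℤ) = ∑ α ∈ R χ, a α := by exact_mod_cast hasum
  have hbsum' : -(m : ℤ) = ∑ α ∈ R φ, b α := by exact_mod_cast hbsum
  have h := bessel_int ((R χ).disjSum (R φ)) (Sum.elim id id) (fun _ => 1) (fun _ _ => Nat.one_pos)
    (fun i hi j hj => ?_) T _ hTT (Sum.elim a b) (fun i hi => ?_)
  · rw [Finset.sum_disjSum] at h
    simp only [Sum.elim_inl, Sum.elim_inr, Nat.cast_one, div_one] at h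
    have h' : ∑ x ∈ R χ, a x ^ 2 + ∑ x ∈ R φ, b x ^ 2 ≤ ((n + m : ℕ) : ℤ) := by exact_mod_cast h
    have h2 := le_sq_of_sum_neg (R φ) b
    push_cast at h'
    exact ⟨a, ha, fun α hα => zero_or_one_of_sum _ a (by linarith) hα, hasum'.symm⟩
  · simp only [Finset.mem_disjSum] at hi hj
    rcases hi with ⟨x, hx, rfl⟩ | ⟨x, hx, rfl⟩ <;> rcases hj with ⟨y, hy, rfl⟩ | ⟨y, hy, rfl⟩ <;>
      simp only [Sum.elim_inl, Sum.elim_inr, id, Sum.inl.injEq, Sum.inr.injEq, reduceCtorEq, if_false,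
        Nat.cast_one]
    · exact hS.orthonormal χ hχ x hx y hy
    · rw [← Char.conj_classInner, R_orth hS hχ hφ h1 h2 hy hx, map_zero]
    · exact R_orth hS hχ hφ h1 h2 hx hy
    · exact hS.orthonormal φ hφ x hx y hy
  · simp only [Finset.mem_disjSum] at hi
    rcases hi with ⟨x, hx, rfl⟩ | ⟨x, hx, rfl⟩
    · exact ha x hx
    · exact hb x hx

theorem system_finite (hS : IsCoherenceSystem S τ R) : S.Finite := by
  have hli : LinearIndependent ℂ (fun φ : S => (φ : L → ℂ)) := by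
    rw [linearIndependent_iff']
    intro s c hs φ hφ
    have h := congrArg (fun f => classInner f (φ : L → ℂ)) hs
    simp only [classInner_sum_left, classInner_smul_left, classInner_zero_left] at h
    rw [Finset.sum_eq_single φ (fun ψ _ hne => by
      rw [hS.orthogonal _ ψ.2 _ φ.2 fun e => hne (Subtype.ext e), mul_zero])
      (fun hn => absurd hφ hn)] at h
    exact (mul_eq_zero.1 h).resolve_right fun h0 =>
      system_ne_zero hS φ.2 (classInner_self_eq_zero h0)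
  exact hli.setFinite

/-- Existence of `X` realising `χ` when all degrees agree. -/
theorem exists_pivot (hS : IsCoherenceSystem S τ R) (hdeg : ∀ φ ∈ S, ∀ ψ ∈ S, φ 1 = ψ 1)
    {χ : L → ℂ} (hχ : χ ∈ S) {n : ℕ} (hn : classInner χ χ = n) :
    ∃ X : G → ℂ, IsGeneralizedCharacter G X ∧ classInner X X = n ∧
      ∀ φ ∈ S, φ ≠ χ → classInner X (τ (χ - φ)) = n := by
  classical
  have hcard := card_R hS hχ hn
  -- a set of coefficients on `R χ`
  obtain ⟨a, h01, hsum, hcoef⟩ : ∃ a : (G → ℂ) → ℤ, (∀ α ∈ R χ, a α = 0 ∨ a α = 1) ∧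
      ∑ α ∈ R χ, a α = n ∧ ∀ φ ∈ S, φ ≠ χ → φ ≠ conjFun χ → ∀ α ∈ R χ,
        classInner (τ (χ - φ)) α = a α := by
    by_cases hex : ∃ φ ∈ S, φ ≠ χ ∧ φ ≠ conjFun χ
    · obtain ⟨φ₀, hφ₀, e1, e2⟩ := hex
      obtain ⟨a, ha, h01, hsum⟩ := coeff_zero_one hS hχ hφ₀ (hdeg χ hχ φ₀ hφ₀) e1 e2 hn
      refine ⟨a, h01, hsum, fun φ hφ f1 f2 α hα => ?_⟩
      have hmem : ∀ x ∈ S, ∀ y ∈ S, x - y ∈ zspanOn S {1}ᶜ := fun x hx y hy => mem_zspanOn_compl_one.2
        ⟨Submodule.sub_mem _ (Submodule.subset_span hx) (Submodule.subset_span hy),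
          by simp [hdeg x hx y hy]⟩
      have hsplit : χ - φ = (χ - φ₀) + (φ₀ - φ) := (sub_add_sub_cancel _ _ _).symm
      rw [hsplit, hS.isometry.1 _ (hmem χ hχ φ₀ hφ₀) _ (hmem φ₀ hφ₀ φ hφ), classInner_add_left,
        ha α hα]
      suffices classInner (τ (φ₀ - φ)) α = 0 by rw [this, add_zero]
      by_cases g1 : φ = φ₀
      · rw [g1, sub_self, iso_map_zero (E := zspanOnSub S {1}ᶜ) hS.isometry, classInner_zero_left]
      by_cases g2 : φ = conjFun φ₀
      · rw [g2, hS.sum_eq φ₀ hφ₀, classInner_sum_left]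
        exact Finset.sum_eq_zero fun β hβ => R_orth hS hχ hφ₀ e1 e2 hβ hα
      exact coeff_eq_zero hS hχ hφ₀ hφ (hdeg φ₀ hφ₀ φ hφ) e1 e2 f1 f2 g1 g2 hα
    · obtain ⟨A, hA, hAc⟩ := Finset.exists_subset_card_eq (show n ≤ (R χ).card by omega)
      refine ⟨fun α => if α ∈ A then 1 else 0, fun α _ => ?_, ?_, fun φ hφ f1 f2 => absurd ⟨φ, hφ, f1, f2⟩ hex⟩
      · by_cases h : α ∈ A <;> simp [h]
      · rw [Finset.sum_boole, Finset.filter_mem_eq_inter, Finset.inter_eq_right.2 hA, hAc]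
  set X := ∑ α ∈ R χ, (a α : ℂ) • α with hX
  have hXα : ∀ α ∈ R χ, classInner X α = a α := fun α hα => by
    rw [hX, classInner_sum_left, Finset.sum_eq_single α (fun β hβ hne => by
      rw [classInner_smul_left, hS.orthonormal χ hχ β hβ α hα, if_neg hne, mul_zero])
      (fun h => absurd hα h), classInner_smul_left, hS.orthonormal χ hχ α hα α hα, if_pos rfl, mul_one]
  have hXsum : ∀ T : G → ℂ, (∀ α ∈ R χ, classInner T α = a α) → classInner X T = n := by
    intro T hT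
    rw [hX, classInner_sum_left, ← Int.cast_natCast n, ← hsum, Int.cast_sum]
    refine Finset.sum_congr rfl fun α hα => ?_
    rw [classInner_smul_left, ← Char.conj_classInner, hT α hα, map_intCast]
    rcases h01 α hα with h | h <;> simp [h]
  refine ⟨X, Char.IsGeneralizedCharacter.sum _ fun α hα =>
    Char.IsGeneralizedCharacter.intCast_smul (hS.virtual χ hχ α hα) _, hXsum X hXα, fun φ hφ hne => ?_⟩
  by_cases hc : φ = conjFun χ
  · rw [hc, hS.sum_eq χ hχ, classInner_sum_right, Finset.sum_congr rfl hXα, ← Int.cast_sum, hsum,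
      Int.cast_natCast]
  · exact hXsum _ (hcoef φ hφ hne hc)

/-- Peterfalvi (5.7): a coherence system of a single degree is coherent. -/
theorem isCoherent_of_const_degree (hS : IsCoherenceSystem S τ R)
    (hdeg : ∀ φ ∈ S, ∀ ψ ∈ S, φ 1 = ψ 1) : IsCoherent S {1}ᶜ τ := by
  classical
  obtain ⟨χ, hχ⟩ := hS.nonempty
  refine ⟨⟨χ - conjFun χ, sub_conj_mem hS hχ, sub_ne_zero.2 (hS.conj_ne χ hχ).symm⟩, ?_⟩
  obtain ⟨n, hn0, hn⟩ := system_exists_norm hS hχ
  obtain ⟨X, hXv, hXX, hX⟩ := exists_pivot hS hdeg hχ hn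
  set F := (system_finite hS).toFinset with hF
  have hmemF : ∀ φ, φ ∈ F ↔ φ ∈ S := fun φ => (system_finite hS).mem_toFinset
  have hmem : ∀ x ∈ S, x - χ ∈ zspanOn S {1}ᶜ := fun x hx => mem_zspanOn_compl_one.2
    ⟨Submodule.sub_mem _ (Submodule.subset_span hx) (Submodule.subset_span hχ),
      by simp [hdeg x hx χ hχ]⟩
  have hnorm : ∀ φ, ∃ m : ℕ, φ ∈ S → 0 < m ∧ classInner φ φ = m := fun φ => by
    by_cases h : φ ∈ S
    · obtain ⟨m, hm⟩ := system_exists_norm hS h; exact ⟨m, fun _ => hm⟩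
    · exact ⟨0, fun h' => absurd h' h⟩
  choose N hN using hnorm
  have hXd : ∀ φ ∈ S, classInner X (τ (φ - χ)) = classInner χ (φ - χ) := by
    intro φ hφ
    rw [classInner_sub_right, hn]
    by_cases h : φ = χ
    · subst h
      rw [sub_self, iso_map_zero (E := zspanOnSub S {1}ᶜ) hS.isometry, hn, sub_self]
      simp [classInner]
    · have e : τ (φ - χ) = -τ (χ - φ) := by
        have h' := tau_sub hS (Submodule.zero_mem (zspanOnSub S ({1}ᶜ : Set L)))
          (show χ - φ ∈ zspanOn S {1}ᶜ by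
            rw [← neg_sub]; exact Submodule.neg_mem (zspanOnSub S {1}ᶜ) (hmem φ hφ))
        rw [zero_sub, neg_sub, iso_map_zero (E := zspanOnSub S {1}ᶜ) hS.isometry, zero_sub] at h'
        exact h'
      rw [e, classInner_neg_right, hX φ hφ h, hS.orthogonal χ hχ φ hφ (Ne.symm h), zero_sub]
  obtain ⟨σ, hσ, hσv⟩ := exists_isometry_of_images F N (fun φ hφ => (hN φ ((hmemF φ).1 hφ)).1)
    (fun φ hφ ψ hψ => by
      by_cases h : φ = ψ
      · subst h; rw [if_pos rfl, (hN φ ((hmemF φ).1 hφ)).2]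
      · rw [if_neg h]; exact hS.orthogonal φ ((hmemF φ).1 hφ) ψ ((hmemF ψ).1 hψ) h)
    (fun φ => X + τ (φ - χ))
    (fun φ hφ => Char.IsGeneralizedCharacter.add hXv (hS.isometry.2.2.2 _ (hmem φ ((hmemF φ).1 hφ))))
    (fun φ hφ ψ hψ => by
      have hφ' := (hmemF φ).1 hφ
      have hψ' := (hmemF ψ).1 hψ
      rw [classInner_add_left, classInner_add_right, classInner_add_right, hXX, hXd ψ hψ',
        hS.isometry.2.2.1 _ (hmem φ hφ') _ (hmem ψ hψ'), ← Char.conj_classInner X (τ (φ - χ)),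
        hXd φ hφ', Char.conj_classInner, ← hn]
      simp only [classInner_sub_left, classInner_sub_right]
      ring)
  rw [show (↑F : Set (L → ℂ)) = S from (system_finite hS).coe_toFinset] at hσ
  refine ⟨σ, hσ, fun α hα => ?_⟩
  -- `α = Σ cᵢ (φᵢ - χ)`
  have key : ∀ β ∈ zspan S, ∃ k : ℤ, ∃ γ, γ ∈ zspanOn S {1}ᶜ ∧ β = k • χ + γ ∧
      σ β = k • X + τ γ := by
    intro β hβ
    induction hβ using Submodule.span_induction with
    | mem φ hφ =>
      refine ⟨1, φ - χ, hmem φ hφ, by simp, ?_⟩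
      rw [hσv φ ((hmemF φ).2 hφ), one_smul]
    | zero =>
      refine ⟨0, 0, Submodule.zero_mem (zspanOnSub S {1}ᶜ), by simp, ?_⟩
      rw [iso_map_zero (E := Submodule.span ℤ S) hσ, iso_map_zero (E := zspanOnSub S {1}ᶜ) hS.isometry]
      simp
    | add a b ha hb iha ihb =>
      obtain ⟨k, γ, hγ, e, f⟩ := iha
      obtain ⟨k', γ', hγ', e', f'⟩ := ihb
      refine ⟨k + k', γ + γ', Submodule.add_mem (zspanOnSub S {1}ᶜ) hγ hγ', ?_, ?_⟩
      · rw [e, e', add_smul]; abel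
      · rw [hσ.1 a ha b hb, f, f', hS.isometry.1 γ hγ γ' hγ', add_smul]; abel
    | smul m a ha iha =>
      obtain ⟨k, γ, hγ, e, f⟩ := iha
      refine ⟨m * k, m • γ, Submodule.smul_mem (zspanOnSub S {1}ᶜ) m hγ, ?_, ?_⟩
      · rw [e, smul_add, smul_smul]
      · rw [hσ.2.1 a ha m, f, hS.isometry.2.1 γ hγ m, smul_add, smul_smul]
  obtain ⟨k, γ, hγ, e, f⟩ := key α hα.1
  have hχ1 : χ 1 ≠ 0 := by
    intro h
    obtain ⟨m, ρ, hρ⟩ := hS.isCharacter χ hχ
    rw [← hρ, ρ.char_one] at h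
    have hm : m = 0 := by simpa using h
    subst hm
    exact system_ne_zero hS hχ (hρ ▸ funext fun g => by
      simp [Representation.character, Subsingleton.elim (ρ g) 0])
  have hk : k = 0 := by
    have h1 := congrFun e 1
    rw [(mem_zspanOn_compl_one.1 hα).2, Pi.add_apply, (mem_zspanOn_compl_one.1 hγ).2, add_zero,
      Pi.smul_apply, zsmul_eq_mul, eq_comm, mul_eq_zero] at h1
    exact_mod_cast h1.resolve_right hχ1
  subst hk
  rw [zero_smul, zero_add] at e f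
  rw [f, e]

/-- Peterfalvi (5.6): extending a coherent subset by a conjugate pair. -/
theorem isCoherent_extend (hS : IsCoherenceSystem S τ R) (d n : (L → ℂ) → ℕ)
    (hd : ∀ φ ∈ S, φ 1 = (d φ : ℂ)) (hn : ∀ φ ∈ S, classInner φ φ = (n φ : ℂ))
    (S₁ : Finset (L → ℂ)) (hS₁ : ↑S₁ ⊆ S) (hS₁c : ∀ φ ∈ S₁, conjFun φ ∈ S₁)
    (hcoh : IsCoherent (↑S₁ : Set (L → ℂ)) {1}ᶜ τ) {χ : L → ℂ} (hχ : χ ∈ S) (hχ₁ : χ ∉ S₁)
    (hχ₂ : conjFun χ ∉ S₁) {χ₁ : L → ℂ} (hχ₁S : χ₁ ∈ S₁) (hdvd : d χ₁ ∣ d χ)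
    (hineq : (2 * d χ * d χ₁ : ℝ) < ∑ φ ∈ S₁, ((d φ : ℝ) ^ 2 / (n φ : ℝ))) :
    IsCoherent (↑S₁ ∪ {χ, conjFun χ} : Set (L → ℂ)) {1}ᶜ τ := by
  classical
  obtain ⟨-, σ, hσ, hσA⟩ := hcoh
  obtain ⟨a, ha⟩ := hdvd
  have hpos : ∀ φ ∈ S, 0 < n φ := fun φ hφ => by
    obtain ⟨m, hm0, hm⟩ := system_exists_norm hS hφ
    rw [hn φ hφ] at hm
    have : n φ = m := by exact_mod_cast hm
    omega
  have hdpos : ∀ φ ∈ S, 0 < d φ := fun φ hφ => by
    obtain ⟨m, ρ, hρ⟩ := hS.isCharacter φ hφ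
    by_contra h
    have h1 := hd φ hφ
    rw [show φ 1 = (m : ℂ) by rw [← congrFun hρ 1, ρ.char_one]; simp, show d φ = 0 by omega] at h1
    have hm : m = 0 := by simpa using h1
    subst hm
    exact system_ne_zero hS hφ (hρ ▸ funext fun g => by
      simp [Representation.character, Subsingleton.elim (ρ g) 0])
  have hχ₁m := hS₁ hχ₁S
  have hd1 := hdpos χ₁ hχ₁m
  have hapos : 0 < a := Nat.pos_of_ne_zero fun h => (hdpos χ hχ).ne' (by rw [ha, h, mul_zero])
  have hsub : ∀ β ∈ zspan (↑S₁ : Set (L → ℂ)), β ∈ zspan S := fun β hβ => Submodule.span_mono hS₁ hβ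
  have hne : ∀ φ ∈ S₁, φ ≠ χ ∧ φ ≠ conjFun χ := fun φ hφ =>
    ⟨fun h => hχ₁ (h ▸ hφ), fun h => hχ₂ (h ▸ hφ)⟩
  have horth1 : ∀ φ ∈ S₁, classInner χ φ = 0 := fun φ hφ =>
    hS.orthogonal χ hχ φ (hS₁ hφ) (hne φ hφ).1.symm
  have horth2 : ∀ φ ∈ S₁, classInner (conjFun χ) φ = 0 := fun φ hφ =>
    hS.orthogonal _ (hS.conj_mem χ hχ) φ (hS₁ hφ) (hne φ hφ).2.symm
  have hmem1 : ∀ φ ∈ S₁, φ ∈ zspan (↑S₁ : Set (L → ℂ)) := fun φ hφ => Submodule.subset_span hφ
  -- the images of `S₁` are orthogonal to `R χ`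
  have himg : ∀ φ ∈ S₁, ∀ α ∈ R χ, classInner (σ φ) α = 0 := by
    intro φ hφ α hα
    obtain ⟨b, hb, hbsum⟩ := exists_coeff hS (hS₁ hφ) (hσ.2.2.2 φ (hmem1 φ hφ))
    obtain ⟨c, hc⟩ := Char.IsGeneralizedCharacter.exists_int_classInner
      (hσ.2.2.2 φ (hmem1 φ hφ)) (hS.virtual χ hχ α hα)
    have hE : φ - conjFun φ ∈ zspanOn (↑S₁ : Set (L → ℂ)) {1}ᶜ := mem_zspanOn_compl_one.2
      ⟨Submodule.sub_mem _ (hmem1 φ hφ) (hmem1 _ (hS₁c φ hφ)),
        by simp [conjFun_apply_one hS (hS₁ hφ)]⟩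
    rw [← hσA _ hE, hσ.2.2.1 _ (hmem1 φ hφ) _ hE.1, classInner_sub_right, hn φ (hS₁ hφ),
      (system_conj_inner hS (hS₁ hφ)).1, sub_zero] at hbsum
    have hbsum' : (n φ : ℤ) = ∑ β ∈ R φ, b β := by exact_mod_cast hbsum
    have hT : classInner (σ φ) (σ φ) = ((n φ : ℤ) : ℂ) := by
      rw [hσ.2.2.1 _ (hmem1 φ hφ) _ (hmem1 φ hφ), hn φ (hS₁ hφ), Int.cast_natCast]
    have h := bessel_int ((R φ).disjSum ({α} : Finset (G → ℂ))) (Sum.elim id id) (fun _ => 1)
      (fun _ _ => Nat.one_pos) (fun i hi j hj => ?_) (σ φ) _ hT (Sum.elim b fun _ => c) (fun i hi => ?_)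
    · rw [Finset.sum_disjSum, Finset.sum_singleton] at h
      simp only [Sum.elim_inl, Sum.elim_inr, Nat.cast_one, div_one] at h
      have h' : ∑ x ∈ R φ, b x ^ 2 + c ^ 2 ≤ (n φ : ℤ) := by exact_mod_cast h
      have h1 := le_sq_of_sum (R φ) b
      have h3 : c ^ 2 = 0 := le_antisymm (by linarith) (sq_nonneg c)
      rw [hc, pow_eq_zero_iff two_ne_zero |>.1 h3, Int.cast_zero]
    · simp only [Finset.mem_disjSum, Finset.mem_singleton] at hi hj
      rcases hi with ⟨x, hx, rfl⟩ | ⟨x, rfl, rfl⟩ <;> rcases hj with ⟨y, hy, rfl⟩ | ⟨y, rfl, rfl⟩ <;>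
        simp only [Sum.elim_inl, Sum.elim_inr, id, Sum.inl.injEq, Sum.inr.injEq, reduceCtorEq, if_false,
          Nat.cast_one]
      · exact hS.orthonormal φ (hS₁ hφ) x hx y hy
      · exact R_orth hS hχ (hS₁ hφ) (hne φ hφ).1 (hne φ hφ).2 hx hα
      · rw [← Char.conj_classInner, R_orth hS hχ (hS₁ hφ) (hne φ hφ).1 (hne φ hφ).2 hy hα, map_zero]
      · rw [if_pos trivial, hS.orthonormal χ hχ _ hα _ hα, if_pos rfl]
    · simp only [Finset.mem_disjSum, Finset.mem_singleton] at hi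
      rcases hi with ⟨x, hx, rfl⟩ | ⟨x, rfl, rfl⟩
      · exact hb x hx
      · exact hc
  -- `T = τ (χ - a χ₁)`
  have hE : χ - (a : ℤ) • χ₁ ∈ zspanOn S {1}ᶜ := mem_zspanOn_compl_one.2
    ⟨Submodule.sub_mem _ (Submodule.subset_span hχ)
      (Submodule.smul_mem _ _ (Submodule.subset_span hχ₁m)),
      by simp [hd χ hχ, hd χ₁ hχ₁m, ha, mul_comm]⟩
  set T := τ (χ - (a : ℤ) • χ₁) with hT
  have hTv := hS.isometry.2.2.2 _ hE
  have h10 : classInner χ₁ χ = 0 := by rw [← Char.conj_classInner, horth1 χ₁ hχ₁S, map_zero]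
  have h10' : classInner χ₁ (conjFun χ) = 0 := by
    rw [← Char.conj_classInner, horth2 χ₁ hχ₁S, map_zero]
  have hTT : classInner T T = ((n χ + a ^ 2 * n χ₁ : ℕ) : ℤ) := by
    rw [hT, hS.isometry.2.2.1 _ hE _ hE]
    simp only [classInner_sub_left, classInner_sub_right, classInner_zsmul_left,
      classInner_zsmul_right, horth1 χ₁ hχ₁S, h10, hn χ hχ, hn χ₁ hχ₁m]
    push_cast; ring
  obtain ⟨e, he, hesum⟩ := exists_coeff hS hχ hTv
  rw [hS.isometry.2.2.1 _ hE _ (sub_conj_mem hS hχ)] at hesum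
  simp only [classInner_sub_left, classInner_sub_right, classInner_zsmul_left, h10, h10',
    (system_conj_inner hS hχ).1, hn χ hχ, mul_zero, sub_zero] at hesum
  have hesum' : (n χ : ℤ) = ∑ α ∈ R χ, e α := by exact_mod_cast hesum
  -- the coefficients on the images of `S₁`
  have hbex : ∀ φ, ∃ z : ℤ, φ ∈ S₁ → classInner T (σ φ) = z := fun φ => by
    by_cases h : φ ∈ S₁
    · obtain ⟨z, hz⟩ := Char.IsGeneralizedCharacter.exists_int_classInner hTv (hσ.2.2.2 φ (hmem1 φ h))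
      exact ⟨z, fun _ => hz⟩
    · exact ⟨0, fun h' => absurd h' h⟩
  choose b hb using hbex
  set c : ℤ := b χ₁ + a * n χ₁ with hc
  have hrel : ∀ φ ∈ S₁, (d χ₁ : ℤ) * b φ =
      d φ * c - (if φ = χ₁ then (d χ₁ : ℤ) * a * n χ₁ else 0) := by
    intro φ hφ
    have hm : (d χ₁ : ℤ) • φ - (d φ : ℤ) • χ₁ ∈ zspanOn (↑S₁ : Set (L → ℂ)) {1}ᶜ :=
      mem_zspanOn_compl_one.2 ⟨Submodule.sub_mem _ (Submodule.smul_mem _ _ (hmem1 φ hφ))
        (Submodule.smul_mem _ _ (hmem1 χ₁ hχ₁S)),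
        by simp [hd φ (hS₁ hφ), hd χ₁ hχ₁m, mul_comm]⟩
    have hm' : (d χ₁ : ℤ) • φ - (d φ : ℤ) • χ₁ ∈ zspanOn S {1}ᶜ :=
      ⟨hsub _ hm.1, hm.2⟩
    have h1 := hS.isometry.2.2.1 _ hE _ hm'
    rw [← hσA _ hm, iso_map_sub (E := Submodule.span ℤ (↑S₁ : Set (L → ℂ))) hσ
      (Submodule.smul_mem _ _ (hmem1 φ hφ)) (Submodule.smul_mem _ _ (hmem1 χ₁ hχ₁S)),
      hσ.2.1 _ (hmem1 φ hφ), hσ.2.1 _ (hmem1 χ₁ hχ₁S), ← hT] at h1
    simp only [classInner_sub_left, classInner_sub_right, classInner_zsmul_left,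
      classInner_zsmul_right, hb φ hφ, hb χ₁ hχ₁S, horth1 φ hφ, horth1 χ₁ hχ₁S, hn χ₁ hχ₁m] at h1
    by_cases hφ1 : φ = χ₁
    · subst hφ1; rw [if_pos rfl, hc]; ring
    · rw [if_neg hφ1, hc]
      rw [hS.orthogonal χ₁ hχ₁m φ (hS₁ hφ) (Ne.symm hφ1)] at h1
      have h2 : ((d χ₁ : ℤ) * b φ : ℤ) = ((d φ : ℤ) * (b χ₁ + a * n χ₁) : ℤ) := by
        have : (((d χ₁ : ℤ) * b φ : ℤ) : ℂ) = (((d φ : ℤ) * (b χ₁ + a * n χ₁) : ℤ) : ℂ) := by
          push_cast; linear_combination h1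
        exact_mod_cast this
      rw [sub_zero]; exact h2
  have hBes := bessel_int ((R χ).disjSum S₁) (Sum.elim id σ) (Sum.elim (fun _ => 1) n)
    (fun i hi => ?_) (fun i hi j hj => ?_) T _ hTT (Sum.elim e b) (fun i hi => ?_)
  rotate_left
  · simp only [Finset.mem_disjSum] at hi
    rcases hi with ⟨x, hx, rfl⟩ | ⟨x, hx, rfl⟩
    · exact Nat.one_pos
    · exact hpos x (hS₁ hx)
  · simp only [Finset.mem_disjSum] at hi hj
    rcases hi with ⟨x, hx, rfl⟩ | ⟨x, hx, rfl⟩ <;> rcases hj with ⟨y, hy, rfl⟩ | ⟨y, hy, rfl⟩ <;>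
      simp only [Sum.elim_inl, Sum.elim_inr, id, Sum.inl.injEq, Sum.inr.injEq, reduceCtorEq, if_false,
        Nat.cast_one]
    · exact hS.orthonormal χ hχ x hx y hy
    · rw [← Char.conj_classInner, himg y hy x hx, map_zero]
    · exact himg x hx y hy
    · rw [hσ.2.2.1 _ (hmem1 x hx) _ (hmem1 y hy)]
      by_cases h : x = y
      · subst h; rw [if_pos rfl]; exact hn x (hS₁ hx)
      · rw [if_neg h]; exact hS.orthogonal x (hS₁ hx) y (hS₁ hy) h
  · simp only [Finset.mem_disjSum] at hi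
    rcases hi with ⟨x, hx, rfl⟩ | ⟨x, hx, rfl⟩
    · exact he x hx
    · exact hb x hx
  rw [Finset.sum_disjSum] at hBes
  simp only [Sum.elim_inl, Sum.elim_inr, Nat.cast_one, div_one] at hBes
  have hc0 : c = 0 := by
    have hR1 : ((n χ : ℤ) : ℝ) ≤ ∑ α ∈ R χ, (e α : ℝ) ^ 2 := by
      have := le_sq_of_sum (R χ) e
      rw [← hesum'] at this
      exact_mod_cast this
    have hd1' : (d χ₁ : ℝ) ≠ 0 := Nat.cast_ne_zero.2 hd1.ne'
    have hn1' : (n χ₁ : ℝ) ≠ 0 := Nat.cast_ne_zero.2 (hpos χ₁ hχ₁m).ne'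
    have hterm : ∀ φ ∈ S₁, (b φ : ℝ) ^ 2 / n φ =
        ((c : ℝ) / d χ₁) ^ 2 * ((d φ : ℝ) ^ 2 / n φ) +
          (if φ = χ₁ then (a : ℝ) ^ 2 * n χ₁ - 2 * c * a else 0) := by
      intro φ hφ
      have hnφ : (n φ : ℝ) ≠ 0 := Nat.cast_ne_zero.2 (hpos φ (hS₁ hφ)).ne'
      have h := congrArg (fun z : ℤ => (z : ℝ)) (hrel φ hφ)
      by_cases hφ1 : φ = χ₁
      · subst hφ1
        rw [if_pos rfl] at h ⊢
        push_cast at h
        have h' : (b φ : ℝ) = c - a * n φ := mul_left_cancel₀ hd1' (h.trans (by ring))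
        rw [h']; field_simp; ring
      · rw [if_neg hφ1] at h ⊢
        push_cast at h
        have h' : (b φ : ℝ) = (c : ℝ) / d χ₁ * d φ := by field_simp; linear_combination h
        rw [h']; ring
    rw [Finset.sum_congr rfl hterm, Finset.sum_add_distrib, ← Finset.mul_sum, Finset.sum_ite_eq',
      if_pos hχ₁S] at hBes
    push_cast at hBes hR1
    rw [show (d χ : ℝ) = d χ₁ * a by exact_mod_cast ha] at hineq
    set Sd := ∑ φ ∈ S₁, (d φ : ℝ) ^ 2 / n φ
    by_contra hne0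
    have hc2 : (1 : ℝ) ≤ (c : ℝ) ^ 2 := by
      have : (1 : ℤ) ≤ c ^ 2 := by
        rcases lt_or_gt_of_ne hne0 with h | h <;> nlinarith
      exact_mod_cast this
    have hcle : (c : ℝ) ≤ (c : ℝ) ^ 2 := by exact_mod_cast Int.le_self_sq c
    have h1 : ((c : ℝ) / d χ₁) ^ 2 * Sd ≤ 2 * c * a := by linarith
    have h2 : ((c : ℝ) / d χ₁) ^ 2 * (2 * (d χ₁ * a) * d χ₁) < ((c : ℝ) / d χ₁) ^ 2 * Sd := by
      refine mul_lt_mul_of_pos_left hineq ?_
      have : (c : ℝ) ≠ 0 := by exact_mod_cast hne0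
      positivity
    have h3 : ((c : ℝ) / d χ₁) ^ 2 * (2 * (d χ₁ * a) * d χ₁) = 2 * a * c ^ 2 := by field_simp
    have h4 : (0 : ℝ) ≤ a := Nat.cast_nonneg _
    nlinarith
  -- the new images
  have hbφ : ∀ φ ∈ S₁, classInner T (σ φ) = -((if φ = χ₁ then (a : ℤ) * n χ₁ else 0 : ℤ) : ℂ) := by
    intro φ hφ
    rw [hb φ hφ, ← Int.cast_neg]
    congr 1
    refine mul_left_cancel₀ (Nat.cast_ne_zero.2 hd1.ne' : (d χ₁ : ℤ) ≠ 0) ?_
    rw [hrel φ hφ, hc0]
    split_ifs <;> ring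
  set X := T + (a : ℤ) • σ χ₁ with hX
  set X' := X - τ (χ - conjFun χ) with hX'
  have hXv : IsGeneralizedCharacter G X := Char.IsGeneralizedCharacter.add hTv
    (by rw [← Int.cast_smul_eq_zsmul ℂ]
        exact Char.IsGeneralizedCharacter.intCast_smul (hσ.2.2.2 _ (hmem1 χ₁ hχ₁S)) _)
  have hX'v : IsGeneralizedCharacter G X' :=
    Char.IsGeneralizedCharacter.sub hXv (hS.isometry.2.2.2 _ (sub_conj_mem hS hχ))
  have hXσ : ∀ φ ∈ S₁, classInner X (σ φ) = 0 := by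
    intro φ hφ
    rw [hX, classInner_add_left, classInner_zsmul_left, hbφ φ hφ,
      hσ.2.2.1 _ (hmem1 χ₁ hχ₁S) _ (hmem1 φ hφ)]
    by_cases h : φ = χ₁
    · subst h; rw [if_pos rfl, hn φ (hS₁ hφ)]; push_cast; ring
    · rw [if_neg h, hS.orthogonal χ₁ hχ₁m φ (hS₁ hφ) (Ne.symm h)]; simp
  have hσR : ∀ φ ∈ S₁, classInner (σ φ) (τ (χ - conjFun χ)) = 0 := fun φ hφ => by
    rw [hS.sum_eq χ hχ, classInner_sum_right]
    exact Finset.sum_eq_zero (himg φ hφ)
  have hXX : classInner X X = classInner χ χ := by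
    have h1 : classInner (σ χ₁) T = -(((a : ℤ) * n χ₁ : ℤ) : ℂ) := by
      rw [← Char.conj_classInner, hbφ χ₁ hχ₁S, if_pos rfl, map_neg, map_intCast]
    rw [hX]
    simp only [classInner_add_left, classInner_add_right, classInner_zsmul_left,
      classInner_zsmul_right, hTT, hbφ χ₁ hχ₁S, if_pos, h1,
      hσ.2.2.1 _ (hmem1 χ₁ hχ₁S) _ (hmem1 χ₁ hχ₁S), hn χ₁ hχ₁m, hn χ hχ]
    push_cast; ring
  have hXR : classInner X (τ (χ - conjFun χ)) = classInner χ χ := by
    rw [hX, classInner_add_left, classInner_zsmul_left, hσR χ₁ hχ₁S, mul_zero, add_zero, hT,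
      hS.isometry.2.2.1 _ hE _ (sub_conj_mem hS hχ)]
    simp only [classInner_sub_left, classInner_sub_right, classInner_zsmul_left, h10, h10',
      (system_conj_inner hS hχ).1, mul_zero, sub_zero]
  have hτR : classInner (τ (χ - conjFun χ)) (τ (χ - conjFun χ)) = 2 * classInner χ χ := by
    rw [hS.isometry.2.2.1 _ (sub_conj_mem hS hχ) _ (sub_conj_mem hS hχ)]
    obtain ⟨g1, g2, g3⟩ := system_conj_inner hS hχ
    simp only [classInner_sub_left, classInner_sub_right, g1, g2, g3]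
    ring
  have hXR' : classInner (τ (χ - conjFun χ)) X = classInner χ χ := by
    rw [← Char.conj_classInner, hXR, hn χ hχ, Complex.conj_natCast]
  have hXX' : classInner X X' = 0 := by
    rw [hX', classInner_sub_right, hXX, hXR, sub_self]
  have hX'X' : classInner X' X' = classInner χ χ := by
    rw [hX', classInner_sub_left, classInner_sub_right, classInner_sub_right, hXX, hXR, hXR', hτR]
    ring
  have hX'σ : ∀ φ ∈ S₁, classInner X' (σ φ) = 0 := fun φ hφ => by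
    rw [hX', classInner_sub_left, hXσ φ hφ, ← Char.conj_classInner (σ φ), hσR φ hφ, map_zero, sub_zero]
  have hcc : conjFun χ ≠ χ := hS.conj_ne χ hχ
  set P : Finset (L → ℂ) := {χ, conjFun χ} with hP
  obtain ⟨g1, g2, g3⟩ := system_conj_inner hS hχ
  obtain ⟨σ', hσ', hσ'v⟩ := exists_isometry_of_images P (fun _ => n χ) (fun _ _ => hpos χ hχ)
    (fun x hx y hy => by
      simp only [hP, Finset.mem_insert, Finset.mem_singleton] at hx hy
      rcases hx with rfl | rfl <;> rcases hy with rfl | rfl <;>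
        simp [g1, g2, g3, hn _ hχ, hcc, hcc.symm])
    (fun φ => if φ = χ then X else X')
    (fun x _ => by split_ifs; exacts [hXv, hX'v])
    (fun x hx y hy => by
      simp only [hP, Finset.mem_insert, Finset.mem_singleton] at hx hy
      rcases hx with rfl | rfl <;> rcases hy with rfl | rfl <;>
        simp only [if_pos, if_neg hcc, hXX, hX'X', hXX', g1, g2, g3]
      rw [← Char.conj_classInner, hXX', map_zero])
  have horth : ∀ x ∈ (↑S₁ : Set (L → ℂ)), ∀ y ∈ (↑P : Set (L → ℂ)), classInner x y = 0 := by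
    intro x hx y hy
    simp only [hP, Finset.coe_insert, Finset.coe_singleton, Set.mem_insert_iff,
      Set.mem_singleton_iff] at hy
    rcases hy with rfl | rfl
    · rw [← Char.conj_classInner, horth1 x hx, map_zero]
    · rw [← Char.conj_classInner, horth2 x hx, map_zero]
  have himg' : ∀ x ∈ (↑S₁ : Set (L → ℂ)), ∀ y ∈ (↑P : Set (L → ℂ)),
      classInner (σ x) (σ' y) = 0 := by
    intro x hx y hy
    rw [hσ'v y hy, ← Char.conj_classInner]
    split_ifs
    · rw [hXσ x hx, map_zero]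
    · rw [hX'σ x hx, map_zero]
  obtain ⟨τ₁, hτ₁, hτ₁v⟩ := exists_glue horth hσ hσ' himg'
  rw [show (↑S₁ ∪ {χ, conjFun χ} : Set (L → ℂ)) = ↑S₁ ∪ ↑P by simp [hP]]
  refine ⟨⟨χ - conjFun χ, mem_zspanOn_compl_one.2
    ⟨Submodule.sub_mem _ (Submodule.subset_span (Or.inr (by simp [hP])))
      (Submodule.subset_span (Or.inr (by simp [hP]))), by simp [conjFun_apply_one hS hχ]⟩,
    sub_ne_zero.2 hcc.symm⟩, τ₁, hτ₁, fun α hα => ?_⟩
  obtain ⟨hα1, hα0⟩ := mem_zspanOn_compl_one.1 hα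
  have hα1' : α ∈ Submodule.span ℤ ((↑S₁ : Set (L → ℂ)) ∪ ↑P) := hα1
  rw [Submodule.span_union, Submodule.mem_sup] at hα1'
  obtain ⟨s, hs, t, ht, rfl⟩ := hα1'
  rw [hτ₁v s hs t ht]
  have ht' : t ∈ Submodule.span ℤ ({χ, conjFun χ} : Set (L → ℂ)) := by simpa [hP] using ht
  obtain ⟨m, m', rfl⟩ := Submodule.mem_span_pair.1 ht'
  set s' := s + ((m + m') * a) • χ₁ with hs'
  have hs'E : s' ∈ zspanOn (↑S₁ : Set (L → ℂ)) {1}ᶜ := mem_zspanOn_compl_one.2
    ⟨Submodule.add_mem _ hs (Submodule.smul_mem _ _ (hmem1 χ₁ hχ₁S)), by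
      have h0 := hα0
      simp only [Pi.add_apply, zsmul_eq_mul, Pi.mul_apply, Pi.intCast_apply, conjFun_apply_one hS hχ, hd χ hχ, ha] at h0
      push_cast at h0
      simp only [hs', Pi.add_apply, zsmul_eq_mul, Pi.mul_apply, Pi.intCast_apply, hd χ₁ hχ₁m]
      push_cast
      linear_combination h0⟩
  have hs'S : s' ∈ zspanOn S {1}ᶜ := ⟨hsub _ hs'E.1, hs'E.2⟩
  have hsplit : s + (m • χ + m' • conjFun χ) =
      s' + ((m + m') • (χ - (a : ℤ) • χ₁) + (-m') • (χ - conjFun χ)) := by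
    rw [hs', smul_sub, smul_sub, smul_smul, add_smul, neg_smul, neg_smul]; abel
  rw [hsplit, hS.isometry.1 _ hs'S _ (Submodule.add_mem (zspanOnSub S {1}ᶜ)
      (Submodule.smul_mem (zspanOnSub S {1}ᶜ) _ hE)
      (Submodule.smul_mem (zspanOnSub S {1}ᶜ) _ (sub_conj_mem hS hχ))),
    hS.isometry.1 _ (Submodule.smul_mem (zspanOnSub S {1}ᶜ) _ hE) _
      (Submodule.smul_mem (zspanOnSub S {1}ᶜ) _ (sub_conj_mem hS hχ)),
    hS.isometry.2.1 _ hE, hS.isometry.2.1 _ (sub_conj_mem hS hχ), ← hσA _ hs'E, hs',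
    hσ.1 _ hs _ (Submodule.smul_mem (Submodule.span ℤ (↑S₁ : Set (L → ℂ))) _ (hmem1 χ₁ hχ₁S)),
    hσ.2.1 _ (hmem1 χ₁ hχ₁S)]
  have hP1 : χ ∈ zspan (↑P : Set (L → ℂ)) := Submodule.subset_span (by simp [hP])
  have hP2 : conjFun χ ∈ zspan (↑P : Set (L → ℂ)) := Submodule.subset_span (by simp [hP])
  rw [hσ'.1 _ (Submodule.smul_mem (Submodule.span ℤ (↑P : Set (L → ℂ))) _ hP1) _
      (Submodule.smul_mem (Submodule.span ℤ (↑P : Set (L → ℂ))) _ hP2),
    hσ'.2.1 _ hP1, hσ'.2.1 _ hP2, hσ'v χ (by simp [hP]), hσ'v _ (by simp [hP]), if_pos rfl,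
    if_neg hcc, hX', ← hT, hX, smul_sub, smul_add, smul_smul, smul_add, smul_smul, add_smul, neg_smul,
    add_mul, add_smul]
  abel

end System

/-- Peterfalvi (5.2): a set of irreducible characters gives a coherence system. -/
theorem exists_coherenceSystem (S : Set (L → ℂ)) (hS : S.Nonempty)
    (hirr : ∀ χ ∈ S, IsIrrCharacter L χ) (hconj : ∀ χ ∈ S, conjFun χ ∈ S ∧ conjFun χ ≠ χ)
    (τ : (L → ℂ) → (G → ℂ)) (hτ : IsLinearIsometryOn (zspanOn S {1}ᶜ) τ)
    (hτ1 : ∀ α ∈ zspanOn S {1}ᶜ, τ α 1 = 0) :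
    ∃ R : (L → ℂ) → Finset (G → ℂ), IsCoherenceSystem S τ R := by
  classical
  have hmem : ∀ χ ∈ S, χ - conjFun χ ∈ zspanOn S {1}ᶜ := fun χ hχ => mem_zspanOn_compl_one.2
    ⟨Submodule.sub_mem _ (Submodule.subset_span hχ) (Submodule.subset_span (hconj χ hχ).1), by
      obtain ⟨m, hm⟩ := IsCharacter.apply_one (IsIrrCharacter.isCharacter (hirr χ hχ))
      simp [conjFun, hm]⟩
  have hinner : ∀ χ ∈ S, ∀ φ ∈ S, classInner χ φ = if χ = φ then 1 else 0 := fun χ hχ φ hφ => by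
    by_cases h : χ = φ
    · subst h; rw [if_pos rfl]; exact classInner_irr_self (hirr χ hχ)
    · rw [if_neg h]; exact classInner_irr_of_ne (hirr χ hχ) (hirr φ hφ) h
  have hab : ∀ χ, ∃ p : IrrCharacter G × IrrCharacter G, χ ∈ S →
      p.1 ≠ p.2 ∧ τ (χ - conjFun χ) = p.1.1 - p.2.1 ∧ p.1.1 1 = p.2.1 1 := by
    intro χ
    haveI : Nonempty (IrrCharacter G) := ⟨trivialChar G⟩
    by_cases hχ : χ ∈ S
    swap
    · exact ⟨Classical.arbitrary _, fun h => absurd h hχ⟩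
    have h2 : classInner (τ (χ - conjFun χ)) (τ (χ - conjFun χ)) = 2 := by
      rw [hτ.2.2.1 _ (hmem χ hχ) _ (hmem χ hχ)]
      simp only [classInner_sub_left, classInner_sub_right, hinner χ hχ χ hχ,
        hinner χ hχ _ (hconj χ hχ).1, hinner _ (hconj χ hχ).1 χ hχ,
        hinner _ (hconj χ hχ).1 _ (hconj χ hχ).1, if_true, (hconj χ hχ).2, (hconj χ hχ).2.symm, if_false]
      norm_num
    obtain ⟨m, hm, -⟩ := Char.IsGeneralizedCharacter.exists_decomp (hτ.2.2.2 _ (hmem χ hχ))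
    have hsq : ∑ ψ, m ψ ^ 2 = 2 := by
      have h := Char.IsGeneralizedCharacter.classInner_self_eq_sum hm
      rw [h2] at h
      exact_mod_cast h.symm
    have hle : ∀ ψ, m ψ ^ 2 ≤ 1 := by
      intro ψ
      have h1 := Finset.single_le_sum (f := fun ψ => m ψ ^ 2) (fun i _ => sq_nonneg (m i)) (Finset.mem_univ ψ)
      rw [hsq] at h1
      rcases le_or_gt (m ψ) (-2) with h | h
      · nlinarith
      rcases le_or_gt 2 (m ψ) with h' | h'
      · nlinarith
      rcases (show m ψ = -1 ∨ m ψ = 0 ∨ m ψ = 1 by omega) with e | e | e <;> rw [e] <;> norm_num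
    set s := Finset.univ.filter fun ψ => m ψ ≠ 0 with hs
    have hpm : ∀ ψ ∈ s, m ψ = 1 ∨ m ψ = -1 := by
      intro ψ hψ
      have h1 := hle ψ
      have h2 := (Finset.mem_filter.1 hψ).2
      have h3 : -1 ≤ m ψ ∧ m ψ ≤ 1 := by constructor <;> nlinarith
      omega
    have hcard : s.card = 2 := by
      have h := Finset.sum_filter_of_ne (s := (Finset.univ : Finset (IrrCharacter G)))
        (f := fun ψ => m ψ ^ 2) (p := fun ψ => m ψ ≠ 0) fun ψ _ h h0 => h (by simp [h0])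
      rw [hsq, ← hs, Finset.sum_congr rfl (g := fun _ => (1 : ℤ)) fun ψ hψ => by
        rcases hpm ψ hψ with e | e <;> simp [e]] at h
      simp at h
      exact_mod_cast h
    obtain ⟨x, y, hxy, hsxy⟩ := Finset.card_eq_two.1 hcard
    have hτeq : τ (χ - conjFun χ) = (m x : ℂ) • x.1 + (m y : ℂ) • y.1 := by
      rw [hm, ← Finset.sum_subset (Finset.subset_univ s) fun ψ _ hψ => ?_, hsxy, Finset.sum_pair hxy]
      have : m ψ = 0 := by simpa [hs] using hψ
      simp [this]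
    have h1 := hτ1 _ (hmem χ hχ)
    rw [hτeq, Pi.add_apply, Pi.smul_apply, Pi.smul_apply, apply_one_eq_degree, apply_one_eq_degree] at h1
    have h1' : m x * (degree x : ℤ) + m y * (degree y : ℤ) = 0 := by
      simp only [smul_eq_mul] at h1; exact_mod_cast h1
    have p1 := degree_pos x
    have p2 := degree_pos y
    rcases hpm x (by simp [hsxy]) with ex | ex <;> rcases hpm y (by simp [hsxy]) with ey | ey <;>
      rw [ex, ey] at h1' hτeq
    · omega
    · refine ⟨(x, y), fun _ => ⟨hxy, by simpa [sub_eq_add_neg] using hτeq, ?_⟩⟩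
      rw [apply_one_eq_degree, apply_one_eq_degree, show degree x = degree y by omega]
    · refine ⟨(y, x), fun _ => ⟨hxy.symm, by simpa [sub_eq_add_neg, add_comm] using hτeq, ?_⟩⟩
      rw [apply_one_eq_degree, apply_one_eq_degree, show degree y = degree x by omega]
    · omega
  choose p hp using hab
  have hneg : ∀ a b : IrrCharacter G, a.1 ≠ -b.1 := fun a b h => by
    have h1 := congrFun h 1
    rw [Pi.neg_apply, apply_one_eq_degree, apply_one_eq_degree, eq_neg_iff_add_eq_zero] at h1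
    have h2 : degree a + degree b = 0 := by exact_mod_cast h1
    have := degree_pos a
    omega
  refine ⟨fun χ => {(p χ).1.1, -(p χ).2.1}, ⟨hS, fun χ hχ => IsIrrCharacter.isCharacter (hirr χ hχ),
    fun χ hχ => (hconj χ hχ).1, fun χ hχ => (hconj χ hχ).2, hτ, hτ1,
    fun χ hχ φ hφ h => by rw [hinner χ hχ φ hφ, if_neg h], ?_, ?_, ?_, ?_⟩⟩
  · intro χ hχ α hα β hβ
    simp only [Finset.mem_insert, Finset.mem_singleton] at hα hβ
    obtain ⟨hne, -, -⟩ := hp χ hχ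
    rcases hα with rfl | rfl <;> rcases hβ with rfl | rfl <;>
      simp [classInner_neg_left, classInner_neg_right, classInner_irr, hne, hne.symm, hneg,
        (hneg _ _).symm]
  · intro χ hχ α hα
    simp only [Finset.mem_insert, Finset.mem_singleton] at hα
    rcases hα with rfl | rfl
    · exact irr_isGeneralized _
    · exact Char.IsGeneralizedCharacter.neg (irr_isGeneralized _)
  · intro χ hχ
    rw [Finset.sum_pair (hneg _ _), (hp χ hχ).2.1, sub_eq_add_neg]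
  · intro χ hχ φ hφ h1 h2 α hα β hβ
    obtain ⟨hab, heab, -⟩ := hp φ hφ
    obtain ⟨hcd, hecd, -⟩ := hp χ hχ
    have h0 : classInner (τ (φ - conjFun φ)) (τ (χ - conjFun χ)) = 0 := by
      have h3 : classInner (conjFun φ) (conjFun χ) = 0 := by rw [classInner_conjFun, h1, map_zero]
      have h4 : classInner (conjFun φ) χ = 0 := by
        rw [← conjFun_conjFun χ, classInner_conjFun, h2, map_zero]
      rw [hτ.2.2.1 _ (hmem φ hφ) _ (hmem χ hχ)]
      simp only [classInner_sub_left, classInner_sub_right, h1, h2, h3, h4, sub_zero]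
    rw [heab, hecd] at h0
    simp only [classInner_sub_left, classInner_sub_right, classInner_irr] at h0
    simp only [Finset.mem_insert, Finset.mem_singleton] at hα hβ
    generalize hA : (p φ).1 = A at *
    generalize hB : (p φ).2 = B at *
    generalize hC : (p χ).1 = C at *
    generalize hD : (p χ).2 = D at *
    have key : A ≠ C ∧ A ≠ D ∧ B ≠ C ∧ B ≠ D := by
      by_cases e1 : A = C <;> by_cases e2 : A = D <;> by_cases e3 : B = C <;> by_cases e4 : B = D <;>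
        simp_all <;> norm_num at h0
    rcases hα with rfl | rfl <;> rcases hβ with rfl | rfl <;>
      simp [classInner_neg_left, classInner_neg_right, classInner_irr, key]

end Cfsg.Agent.OddOrder
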