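import Cfsg.Agent.Lib.OddOrder.CoherenceFrobenius
import Cfsg.Agent.Lib.Char.Descend

set_option autoImplicit false
set_option linter.unusedSectionVars false

/-! Characters not trivial on a central subgroup of a `p`-group kernel form a coherent set
(Peterfalvi (6.5)). -/

namespace Cfsg.Agent.OddOrder

open scoped ComplexConjugate
open Finset

universe u v

variable {L : Type u} [Group L] [Fintype L] {G : Type v} [Group G] [Fintype G]
variable {τ : (L → ℂ) → (G → ℂ)} {R : (L → ℂ) → Finset (G → ℂ)}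
variable (K : Subgroup L) [K.Normal]

/-- The characters induced from the characters of `K` not trivial on `Z`. -/
def inducedNonTriv (Z : Subgroup L) : Set (L → ℂ) :=
  {φ | ∃ θ : ↥K → ℂ, IsIrrCharacter ↥K θ ∧ (∃ z : ↥K, (z : L) ∈ Z ∧ θ z ≠ θ 1) ∧ φ = indFun K θ}

theorem conjFun_nonTriv {Z : Subgroup L} [Z.Normal] (θ : IrrCharacter K)
    (h : ∃ z : ↥K, (z : L) ∈ Z ∧ θ.1 z ≠ θ.1 1) (g : L) :
    ∃ z : ↥K, (z : L) ∈ Z ∧ (Char.conjChar K θ g).1 z ≠ (Char.conjChar K θ g).1 1 := by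
  obtain ⟨z, hz, hne⟩ := h
  refine ⟨MulAut.conjNormal g⁻¹ z, ?_, ?_⟩
  · simpa using (‹Z.Normal›).conj_mem _ hz g⁻¹
  · simp only [Char.conjChar_coe, Char.conjFun_apply_one]
    show θ.1 (MulAut.conjNormal g (MulAut.conjNormal g⁻¹ z)) ≠ _
    rw [← MulAut.mul_apply, ← map_mul, mul_inv_cancel, map_one]
    simpa using hne

/-- Peterfalvi (6.5) for a `p`-group kernel. -/
theorem isCoherent_central_pgroup {p : ℕ} [Fact p.Prime] (hp : p ≠ 2) (hK : IsPGroup p K)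
    (hcop : ¬ p ∣ K.index) (Z : Subgroup L) [Z.Normal] (hZK : Z ≤ K)
    (hZc : ∀ z ∈ Z, ∀ k ∈ K, z * k = k * z)
    (hirr : ∀ φ ∈ inducedNonTriv K Z, IsIrrCharacter L φ)
    (hS : IsCoherenceSystem (inducedNonTriv K Z) τ R) :
    IsCoherent (inducedNonTriv K Z) {1}ᶜ τ := by
  classical
  haveI : Fintype K := Fintype.ofFinite _
  obtain ⟨d, n, hd, hn⟩ := system_natural hS
  set e := K.index
  set P := (Finset.univ : Finset (IrrCharacter K)).filter
    fun θ => ∃ z : ↥K, (z : L) ∈ Z ∧ θ.1 z ≠ θ.1 1 with hP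
  have hmemP : ∀ θ : IrrCharacter K, θ ∈ P → indFun K θ.1 ∈ inducedNonTriv K Z := fun θ hθ =>
    ⟨θ.1, θ.2, (mem_filter.1 hθ).2, rfl⟩
  have hdeg : ∀ θ ∈ P, d (indFun K θ.1) = e * charDegree θ.1 := fun θ hθ => by
    apply Nat.cast_injective (R := ℂ)
    rw [← hd _ (hmemP θ hθ), Char.indFun_apply_one, Nat.cast_mul, Char.charDegree_cast]
  have hnorm : ∀ θ ∈ P, n (indFun K θ.1) = 1 := fun θ hθ => by
    apply Nat.cast_injective (R := ℂ)
    rw [← hn _ (hmemP θ hθ), Char.classInner_irr_self (hirr _ (hmemP θ hθ)), Nat.cast_one]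
  obtain ⟨c, hc⟩ := IsPGroup.iff_card.1 hK
  have hpow : ∀ θ : IrrCharacter K, ∃ j, charDegree θ.1 = p ^ j := fun θ => by
    obtain ⟨j, -, hj⟩ := (Nat.dvd_prime_pow Fact.out).1 (hc ▸ Char.charDegree_dvd_card θ)
    exact ⟨j, hj⟩
  choose ex hex using hpow
  have hp1 : 1 < p := (Fact.out : p.Prime).one_lt
  have hconj : ∀ θ ∈ P, ∀ g, Char.conjChar K θ g ∈ P ∧ ex (Char.conjChar K θ g) = ex θ := by
    intro θ hθ g
    refine ⟨mem_filter.2 ⟨mem_univ _, conjFun_nonTriv K θ (mem_filter.1 hθ).2 g⟩, ?_⟩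
    apply Nat.pow_right_injective hp1
    show p ^ _ = p ^ _
    rw [← hex, ← hex]
    apply Nat.cast_injective (R := ℂ)
    rw [Char.charDegree_cast, Char.charDegree_cast, Char.conjChar_coe, Char.conjFun_apply_one]
  have hPne : P.Nonempty := by
    obtain ⟨φ, θ, hθ, hz, -⟩ := hS.nonempty
    exact ⟨⟨θ, hθ⟩, mem_filter.2 ⟨mem_univ _, hz⟩⟩
  obtain ⟨θ₀, hθ₀, hmin⟩ := P.exists_min_image ex hPne
  set j₀ := ex θ₀
  let U : ℕ → Finset (L → ℂ) := fun j => (P.filter fun θ => ex θ ≤ j).image fun θ => indFun K θ.1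
  have hUS : ∀ j, (↑(U j) : Set (L → ℂ)) ⊆ inducedNonTriv K Z := by
    intro j φ hφ
    obtain ⟨θ, hθ, rfl⟩ := mem_image.1 hφ
    exact hmemP θ (mem_filter.1 hθ).1
  have hUc : ∀ j, ∀ φ ∈ U j, conjFun φ ∈ U j := by
    intro j φ hφ
    obtain ⟨θ, hθ, rfl⟩ := mem_image.1 hφ
    obtain ⟨hθP, hθj⟩ := mem_filter.1 hθ
    obtain ⟨z, hz, hne⟩ := (mem_filter.1 hθP).2
    refine mem_image.2 ⟨⟨fun k => conj (θ.1 k), Char.IsIrrCharacter.conj_fun θ.2⟩, mem_filter.2
      ⟨mem_filter.2 ⟨mem_univ _, z, hz, fun h => hne ?_⟩, ?_⟩, (Char.conj_indFun K θ.1).symm⟩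
    · simpa using congrArg conj h
    · refine le_of_eq_of_le ?_ hθj
      apply Nat.pow_right_injective hp1
      show p ^ _ = p ^ _
      rw [← hex, ← hex]
      apply Nat.cast_injective (R := ℂ)
      rw [Char.charDegree_cast]
      show conj (θ.1 1) = _
      rw [← Char.charDegree_cast, Complex.conj_natCast]
  have hsum : ∀ j, ∑ φ ∈ U j, ((d φ : ℝ) ^ 2 / (n φ : ℝ)) =
      (e : ℝ) * ∑ θ ∈ P.filter (fun θ => ex θ ≤ j), (charDegree θ.1 : ℝ) ^ 2 := fun j =>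
    sum_sq_div_norm K _ (fun θ hθ g => mem_filter.2 ⟨(hconj θ (mem_filter.1 hθ).1 g).1,
        (hconj θ (mem_filter.1 hθ).1 g).2.le.trans (mem_filter.1 hθ).2⟩) d n
      (fun θ hθ => hd _ (hmemP θ (mem_filter.1 hθ).1)) (fun θ hθ => hn _ (hmemP θ (mem_filter.1 hθ).1))
  have htot : ∑ θ ∈ P, charDegree θ.1 ^ 2 + (Z.subgroupOf K).index = Nat.card K := by
    have h1 := Char.sum_trivOn_degree_sq (Z.subgroupOf K)
    have h2 := Char.sum_trivOn_degree_sq (⊥ : Subgroup K)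
    rw [Subgroup.index_bot] at h2
    rw [← h1, ← h2]
    rw [filter_true_of_mem (s := (univ : Finset (IrrCharacter K)))
      (p := fun χ : IrrCharacter K => Char.TrivOn ⊥ χ.1) fun χ _ k hk => by rw [Subgroup.mem_bot.1 hk]]
    rw [← sum_filter_add_sum_filter_not univ
      (fun θ : IrrCharacter K => ∃ z : ↥K, (z : L) ∈ Z ∧ θ.1 z ≠ θ.1 1)]
    congr 1
    refine sum_congr (filter_congr fun θ _ => ?_) fun _ _ => rfl
    simp only [Char.TrivOn, Subgroup.mem_subgroupOf, ne_eq, not_exists, not_and, not_not]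
  suffices main : ∀ i, IsCoherent (↑(U (j₀ + i)) : Set (L → ℂ)) {1}ᶜ τ by
    obtain ⟨θ₁, -, hmax⟩ := P.exists_max_image ex hPne
    have hall : (↑(U (j₀ + ex θ₁)) : Set (L → ℂ)) = inducedNonTriv K Z := by
      refine Set.Subset.antisymm (hUS _) ?_
      rintro φ ⟨θ, hθ, hz, rfl⟩
      have hP' : (⟨θ, hθ⟩ : IrrCharacter K) ∈ P := mem_filter.2 ⟨mem_univ _, hz⟩
      exact mem_image.2 ⟨⟨θ, hθ⟩, mem_filter.2 ⟨hP', by have := hmax _ hP'; omega⟩, rfl⟩
    exact hall ▸ main _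
  intro i
  induction i with
  | zero =>
    refine isCoherent_of_const_degree (system_subset hS (hUS _)
      ⟨_, mem_image.2 ⟨θ₀, mem_filter.2 ⟨hθ₀, le_rfl⟩, rfl⟩⟩ fun φ hφ => hUc _ φ hφ) ?_
    have h : ∀ φ ∈ U (j₀ + 0), φ 1 = ((e * p ^ j₀ : ℕ) : ℂ) := by
      intro φ hφ
      obtain ⟨θ, hθ, rfl⟩ := mem_image.1 hφ
      obtain ⟨hθP, hle⟩ := mem_filter.1 hθ
      rw [hd _ (hmemP θ hθP), hdeg θ hθP, hex θ,
        show ex θ = j₀ from le_antisymm (by simpa using hle) (hmin θ hθP)]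
    exact fun φ hφ ψ hψ => (h φ hφ).trans (h ψ hψ).symm
  | succ i ih =>
    set j := j₀ + i with hj
    refine isCoherent_of_ineq hS d n hd hn (U j) _ (hUS _) ?_ (hUc j) (fun φ hφ => hUc _ φ hφ) ih ?_
    · intro φ hφ
      obtain ⟨θ, hθ, rfl⟩ := mem_image.1 hφ
      exact mem_image.2 ⟨θ, mem_filter.2 ⟨(mem_filter.1 hθ).1, (mem_filter.1 hθ).2.trans (by omega)⟩, rfl⟩
    intro χ hχ hχj
    obtain ⟨θ, hθ, rfl⟩ := mem_image.1 hχ
    obtain ⟨hθP, hθle⟩ := mem_filter.1 hθ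
    have hexθ : ex θ = j + 1 := by
      have : ¬ ex θ ≤ j := fun h => hχj (mem_image.2 ⟨θ, mem_filter.2 ⟨hθP, h⟩, rfl⟩)
      omega
    refine ⟨indFun K θ₀.1, mem_image.2 ⟨θ₀, mem_filter.2 ⟨hθ₀, Nat.le_add_right _ _⟩, rfl⟩, ?_, ?_⟩
    · rw [hdeg θ₀ hθ₀, hdeg θ hθP, hex, hex]
      exact Nat.mul_dvd_mul_left _ (Nat.pow_dvd_pow p (by omega))
    rw [hsum, hdeg θ₀ hθ₀, hdeg θ hθP, hex, hex, hexθ]
    set Tj := ∑ θ ∈ P.filter (fun θ => ex θ ≤ j), charDegree θ.1 ^ 2 with hTj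
    -- `e` divides the sum
    have he : e ∣ Tj := by
      have h := hsum j
      rw [sum_congr rfl (g := fun φ => ((d φ ^ 2 : ℕ) : ℝ)) (fun φ hφ => by
        obtain ⟨η, hη, rfl⟩ := mem_image.1 hφ
        rw [hnorm η (mem_filter.1 hη).1]; push_cast; rw [div_one])] at h
      have h' : ∑ φ ∈ U j, d φ ^ 2 = e * Tj := by
        rw [hTj]; exact_mod_cast h
      have h2 : e * e ∣ ∑ φ ∈ U j, d φ ^ 2 := Finset.dvd_sum fun φ hφ => by
        obtain ⟨η, hη, rfl⟩ := mem_image.1 hφ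
        rw [hdeg η (mem_filter.1 hη).1, sq]
        exact Nat.mul_dvd_mul (dvd_mul_right _ _) (dvd_mul_right _ _)
      rw [h'] at h2
      exact Nat.dvd_of_mul_dvd_mul_left (Nat.pos_of_ne_zero Subgroup.index_ne_zero_of_finite) h2
    -- a power of `p` divides the sum
    have hq : p ^ (2 * (j + 1)) ∣ Tj := by
      have hsplit : Tj + ∑ θ ∈ P.filter (fun θ => ¬ ex θ ≤ j), charDegree θ.1 ^ 2 =
          ∑ θ ∈ P, charDegree θ.1 ^ 2 := sum_filter_add_sum_filter_not _ _ _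
      have hrest : p ^ (2 * (j + 1)) ∣ ∑ θ ∈ P.filter (fun θ => ¬ ex θ ≤ j), charDegree θ.1 ^ 2 :=
        Finset.dvd_sum fun η hη => by
          rw [hex, ← pow_mul]
          exact Nat.pow_dvd_pow p (by have := (mem_filter.1 hη).2; omega)
      have hle : charDegree θ.1 ^ 2 ≤ (Z.subgroupOf K).index := degree_sq_le_index θ _ fun x hx y => by
        have : x * y * x⁻¹ * y⁻¹ = 1 := by
          rw [show x * y = y * x from Subtype.ext (hZc x hx y y.2)]; group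
        rw [this]
      obtain ⟨r, -, hr⟩ := (Nat.dvd_prime_pow Fact.out).1 (hc ▸ Subgroup.index_dvd_card (Z.subgroupOf K))
      rw [hex, hexθ, hr, ← pow_mul, Nat.pow_le_pow_iff_right hp1] at hle
      have hidx : p ^ (2 * (j + 1)) ∣ (Z.subgroupOf K).index := hr ▸ Nat.pow_dvd_pow p (by omega)
      have hKc : p ^ (2 * (j + 1)) ∣ Nat.card K := hidx.trans (Subgroup.index_dvd_card _)
      rw [← htot, ← hsplit] at hKc
      exact (Nat.dvd_add_left hrest).1 ((Nat.dvd_add_left hidx).1 hKc)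
    have hcopr : Nat.Coprime e (p ^ (2 * (j + 1))) :=
      ((Fact.out : p.Prime).coprime_iff_not_dvd.2 hcop).symm.pow_right _
    have hTpos : 0 < Tj := by
      refine Finset.sum_pos (fun η _ => pow_pos (Char.charDegree_pos η) 2) ⟨θ₀, mem_filter.2 ⟨hθ₀, ?_⟩⟩
      omega
    have hT : e * p ^ (2 * (j + 1)) ≤ Tj := Nat.le_of_dvd hTpos (hcopr.mul_dvd_of_dvd_of_dvd he hq)
    have hepos : 0 < e := Nat.pos_of_ne_zero Subgroup.index_ne_zero_of_finite
    have key : 2 * (e * p ^ (j + 1)) * (e * p ^ j₀) < e * Tj := by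
      refine lt_of_lt_of_le ?_ (Nat.mul_le_mul_left e hT)
      have h3 : 2 * p ^ j₀ < p ^ (j + 1) := by
        have h4 : p * p ^ j₀ ≤ p ^ (j + 1) := by
          rw [← pow_succ']; exact Nat.pow_le_pow_right hp1.le (by omega)
        have h5 : 3 ≤ p := by omega
        have : 3 * p ^ j₀ ≤ p * p ^ j₀ := Nat.mul_le_mul_right _ h5
        have : 0 < p ^ j₀ := pow_pos (Fact.out : p.Prime).pos _
        omega
      calc 2 * (e * p ^ (j + 1)) * (e * p ^ j₀) = (e * e * p ^ (j + 1)) * (2 * p ^ j₀) := by ring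
        _ < (e * e * p ^ (j + 1)) * p ^ (j + 1) := by
            refine Nat.mul_lt_mul_of_pos_left h3 ?_
            have : 0 < p ^ (j + 1) := pow_pos (Fact.out : p.Prime).pos _
            positivity
        _ = e * (e * p ^ (2 * (j + 1))) := by ring
    have key' : ((2 * (e * p ^ (j + 1)) * (e * p ^ j₀) : ℕ) : ℝ) < ((e * Tj : ℕ) : ℝ) := by exact_mod_cast key
    rw [hTj] at key'
    push_cast at key' ⊢
    exact key'

/-- A constituent on `K` of a character not trivial on normal `Z ≤ K` is not trivial on `Z`. -/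
theorem constituent_nonTriv [Fintype K] {Z : Subgroup L} [Z.Normal] (hZK : Z ≤ K) (χ : IrrCharacter L)
    (θ : IrrCharacter K) (hθ : classInner (Char.resFun K χ.1) θ.1 ≠ 0)
    (hχ : ∃ z ∈ Z, χ.1 z ≠ χ.1 1) : ∃ z : ↥K, (z : L) ∈ Z ∧ θ.1 z ≠ θ.1 1 := by
  classical
  obtain ⟨z, hz, hne⟩ := hχ
  by_contra hcon
  push Not at hcon
  apply hne
  have h := Char.resFun_eq_smul_orbitSum K χ θ hθ
  have h1 := congrFun h (⟨z, hZK hz⟩ : ↥K)
  have h2 := congrFun h 1
  rw [Char.resFun_apply] at h1 h2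
  rw [OneMemClass.coe_one] at h2
  rw [h1, h2, Pi.smul_apply, Pi.smul_apply, Char.orbitSum, Finset.sum_apply, Finset.sum_apply]
  congr 1
  refine sum_congr rfl fun η hη => ?_
  obtain ⟨g, rfl⟩ := (Char.mem_orbitFinset K).1 hη
  rw [Char.conjChar_coe, Char.conjFun_apply_one]
  exact hcon _ (by simpa using (‹Z.Normal›).conj_mem _ hz g)

/-- The irreducible characters of `L` not trivial on `Z` are the induced ones. -/
theorem inducedNonTriv_eq_irr (Z : Subgroup L) [Z.Normal] (hZK : Z ≤ K)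
    (hirr : ∀ φ ∈ inducedNonTriv K Z, IsIrrCharacter L φ) :
    inducedNonTriv K Z = {χ | IsIrrCharacter L χ ∧ ∃ z ∈ Z, χ z ≠ χ 1} := by
  classical
  haveI : Fintype K := Fintype.ofFinite _
  ext φ
  constructor
  · intro h
    refine ⟨hirr φ h, ?_⟩
    obtain ⟨θ, hθ, ⟨z, hz, hne⟩, rfl⟩ := h
    refine ⟨z, hz, fun heq => hne ?_⟩
    have hχ := hirr _ ⟨θ, hθ, ⟨z, hz, hne⟩, rfl⟩
    refine constituent_trivOn K ⟨_, hχ⟩ ⟨θ, hθ⟩ ?_ (b := z) (by simpa using heq)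
    rw [← Char.classInner_indFun K θ (Char.IsCharacter.isClassFunction (Char.IsIrrCharacter.isCharacter hχ)),
      Char.classInner_irr_self hχ]
    exact one_ne_zero
  · rintro ⟨hφ, hnt⟩
    obtain ⟨θ, hθ⟩ := Char.exists_constituent K ⟨φ, hφ⟩
    have hm : indFun K θ.1 ∈ inducedNonTriv K Z :=
      ⟨θ.1, θ.2, constituent_nonTriv K hZK ⟨φ, hφ⟩ θ hθ hnt, rfl⟩
    suffices indFun K θ.1 = φ by rwa [← this]
    by_contra hne
    apply hθ
    have h0 := Char.classInner_irr_of_ne (hirr _ hm) hφ hne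
    rw [Char.classInner_indFun K θ.1 (Char.IsCharacter.isClassFunction (Char.IsIrrCharacter.isCharacter hφ))] at h0
    show classInner (fun x : K => φ x) θ.1 = 0
    rw [← Char.conj_classInner, h0, map_zero]

theorem inducedNonTriv_eq_diff (Z : Subgroup L) [Z.Normal] :
    inducedNonTriv K Z = inducedIrrAbove K ⊥ \ inducedIrrAbove K Z := by
  classical
  haveI : Fintype K := Fintype.ofFinite _
  ext φ
  constructor
  · rintro ⟨θ, hθ, ⟨z, hz, hne⟩, rfl⟩
    refine ⟨⟨θ, hθ, fun e => hne (by rw [e]), fun a ha => ?_, rfl⟩, ?_⟩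
    · rw [show a = 1 from Subtype.ext (Subgroup.mem_bot.1 ha)]
    rintro ⟨η, hη, -, hηZ, heq⟩
    have h := Char.card_mul_classInner_indFun_normal K hθ hη
    have hself : classInner (indFun K θ) (indFun K θ) ≠ 0 := fun h0 => by
      have := congrFun (Char.classInner_self_eq_zero h0) 1
      rw [Char.indFun_apply_one, Pi.zero_apply] at this
      rcases mul_eq_zero.1 this with h1 | h1
      · exact Subgroup.index_ne_zero_of_finite (by exact_mod_cast h1)
      · exact Char.IsIrrCharacter.apply_one_ne_zero hθ h1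
    rw [← heq] at h
    have hne0 : Nat.card {g : L // Char.conjFun K η g = θ} ≠ 0 := fun h0 => by
      rw [h0, Nat.cast_zero, mul_eq_zero] at h
      rcases h with h | h
      · exact Nat.card_pos.ne' (by exact_mod_cast h)
      · exact hself h
    obtain ⟨⟨g, hg⟩⟩ := (Nat.card_ne_zero.1 hne0).1
    apply hne
    rw [← hg, Char.conjFun_apply_one]
    exact hηZ _ (by simpa using (‹Z.Normal›).conj_mem _ hz g)
  · rintro ⟨⟨θ, hθ, h1, -, rfl⟩, hn⟩
    refine ⟨θ, hθ, ?_, rfl⟩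
    by_contra hcon
    push Not at hcon
    exact hn ⟨θ, hθ, h1, hcon, rfl⟩

end Cfsg.Agent.OddOrder
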