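import Cfsg.Agent.Lib.OddOrder.CoherenceFiber
import Cfsg.Agent.S1523

/-!
The divisibility hypothesis of `exists_coeff_of_congr` from a congruence modulo `|K|` on a central
subgroup `Z`, and the constancy on `Z` of a class function whose coefficients at the irreducible
characters not trivial on `Z` are proportional to their degrees.
-/

set_option autoImplicit false
set_option linter.style.haveILetI false

namespace Cfsg.Agent.OddOrder

open Cfsg
open scoped ComplexConjugate
open Finset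

universe u v

variable {L : Type u} [Group L] [Fintype L] {G : Type v} [Group G] [Fintype G]

/-- The divisibility of the weighted sum over a fibre. -/
theorem exists_dvd_of_congr {τ : (L → ℂ) → (G → ℂ)} {R : (L → ℂ) → Finset (G → ℂ)}
    (K : Subgroup L) [K.Normal] [Fintype K] {Z : Subgroup L} [Z.Normal] (hZK : Z ≤ ⁅K, K⁆)
    (hS : IsCoherenceSystem (inducedIrrAbove K ⊥) τ R) (hZc : ∀ z ∈ Z, ∀ k ∈ K, z * k = k * z)
    {η : L → ℂ} (hη : η ∈ inducedIrrAbove K ⁅K, K⁆) {s : G → ℂ}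
    (hs : IsGeneralizedCharacter G s) {f : L → ℂ} (hf : IsGeneralizedCharacter L f)
    (hpair : ∀ α ∈ zspanOn (inducedIrrAbove K ⊥) {1}ᶜ, classInner (τ α) s = classInner α f)
    (hmod : ∀ w ∈ Z, ∃ x : ℂ, IsIntegral ℤ x ∧ f w - f 1 = (Nat.card K : ℂ) * x)
    (θ₀ : IrrCharacter K) (hθ₀ : ∃ z : K, (z : L) ∈ Z ∧ θ₀.1 z ≠ θ₀.1 1) :
    ∃ t : ℤ, (Nat.card Z : ℂ) * ∑ θ ∈ centralFiber (Z.subgroupOf K) θ₀, θ.1 1 *
        classInner (τ (indFun K θ.1 - (charDegree θ.1 : ℤ) • η)) s = (Nat.card K : ℂ) * t := by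
  classical
  set Zc := Z.subgroupOf K with hZcdef
  have hZc' : Zc ≤ Subgroup.center K := fun z hz => Subgroup.mem_center_iff.2 fun g =>
    Subtype.ext (hZc _ hz g g.2).symm
  have hcardZ : Nat.card Zc = Nat.card Z :=
    Nat.card_congr (Subgroup.subgroupOfEquivOfLe (hZK.trans (Subgroup.commutator_le_self _))).toEquiv
  haveI : Fintype Zc := Fintype.ofFinite _
  set F := centralFiber Zc θ₀ with hF
  have hd : ∀ θ : IrrCharacter K, θ.1 1 ≠ 0 := fun θ => Char.IsIrrCharacter.apply_one_ne_zero θ.2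
  have hfc := Char.IsGeneralizedCharacter.isClassFunction hf
  have hFP : ∀ θ ∈ F, ∃ z : K, (z : L) ∈ Z ∧ θ.1 z ≠ θ.1 1 := by
    intro θ hθ
    obtain ⟨w, hw, hne⟩ := hθ₀
    refine ⟨w, hw, fun h => hne ?_⟩
    have := (mem_centralFiber Zc).1 hθ w hw
    rw [h, mul_comm (θ₀.1 w)] at this
    exact (mul_left_cancel₀ (hd θ) this).symm
  set fK : K → ℂ := fun k => f k
  set lam : Zc → ℂ := fun w =>
    ZassenhausSuzuki.centralChar θ₀ ⟨(w : K), hZc' w.2⟩
  have hlam : ∀ w : Zc, θ₀.1 (w : K) = lam w * θ₀.1 1 := fun w => by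
    have := ZassenhausSuzuki.apply_mul_central θ₀ ⟨(w : K), hZc' w.2⟩ 1
    rwa [mul_one] at this
  have hlm : ∀ u w : Zc, lam (u * w) = lam u * lam w := fun u w =>
    map_mul (ZassenhausSuzuki.centralChar θ₀) (⟨(u : K), hZc' u.2⟩ : Subgroup.center K)
      ⟨(w : K), hZc' w.2⟩
  have hlint : ∀ w : Zc, IsIntegral ℤ (lam w) := by
    intro w
    refine IsIntegral.of_pow (n := Nat.card (Subgroup.center K)) Nat.card_pos ?_
    rw [show lam w ^ Nat.card (Subgroup.center K) = 1 by
      show ZassenhausSuzuki.centralChar θ₀ _ ^ _ = 1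
      rw [← map_pow, pow_card_eq_one', map_one]]
    exact isIntegral_one
  have hsum0 : ∑ w : Zc, lam w = 0 := by
    obtain ⟨w, hw, hne⟩ := hθ₀
    refine eq_zero_of_mul_eq_self_left (b := lam ⟨w, hw⟩) (fun h => hne ?_) ?_
    · rw [show θ₀.1 w = θ₀.1 ((⟨w, hw⟩ : Zc) : K) from rfl, hlam, h, one_mul]
    · rw [Finset.mul_sum]
      exact Fintype.sum_equiv (Equiv.mulLeft (⟨w, hw⟩ : Zc)) _ _ fun x => (hlm _ x).symm
  have hterm : ∀ θ ∈ F, θ.1 1 * classInner (τ (indFun K θ.1 - (charDegree θ.1 : ℤ) • η)) s =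
      θ.1 1 * classInner θ.1 fK - (θ.1 1) ^ 2 * classInner η f := by
    intro θ hθ
    rw [hpair _ (sub_mem_of_nonTriv K hZK hS (hFP θ hθ) hη).1, Char.classInner_sub_left,
      Char.classInner_zsmul_left, Char.classInner_indFun K θ.1 hfc, ← Char.charDegree_cast]
    push_cast
    ring
  have hsq := centralFiber_sum_sq Zc hZc' θ₀
  have hin := centralFiber_inner Zc hZc' θ₀ fK
  rw [hcardZ] at hsq hin
  choose x hx hxe using fun w : Zc => hmod ((w : K) : L) w.2
  obtain ⟨v, hv⟩ := Char.IsGeneralizedCharacter.exists_int_classInner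
    (Char.IsCharacter.isGeneralized (hS.isCharacter η (inducedIrrAbove_subset_bot K _ hη))) hf
  have hkey : (Nat.card Z : ℂ) * ∑ θ ∈ F, θ.1 1 *
      classInner (τ (indFun K θ.1 - (charDegree θ.1 : ℤ) • η)) s =
      (Nat.card K : ℂ) * (∑ w : Zc, lam w * conj (x w) - v) := by
    rw [sum_congr rfl hterm, sum_sub_distrib, ← Finset.sum_mul, mul_sub, ← mul_assoc, hsq, hv,
      mul_sub]
    congr 1
    refine mul_left_cancel₀ (hd θ₀) ?_
    rw [← mul_assoc, mul_comm (θ₀.1 1), hin]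
    calc ∑ w : Zc, θ₀.1 w * conj (fK w)
        = θ₀.1 1 * ∑ w : Zc, lam w * (conj (f 1) + (Nat.card K : ℂ) * conj (x w)) := by
          rw [Finset.mul_sum]
          refine sum_congr rfl fun w _ => ?_
          rw [hlam w, show fK (w : K) = f 1 + (Nat.card K : ℂ) * x w by
            rw [← hxe w]; simp [fK], map_add, map_mul, Complex.conj_natCast]
          ring
      _ = _ := by
          simp only [mul_add, sum_add_distrib, ← Finset.sum_mul, hsum0, zero_mul, zero_add,
            Finset.mul_sum]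
          exact sum_congr rfl fun w _ => by ring
  have hint : IsIntegral ℤ (∑ w : Zc, lam w * conj (x w) - (v : ℂ)) := by
    refine IsIntegral.sub (IsIntegral.sum _ fun w _ => (hlint w).mul ?_) (isIntegral_algebraMap (x := v))
    exact (hx w).map (starRingEnd ℂ).toIntAlgHom
  have hall : ∀ θ ∈ F, ∃ n : ℤ, θ.1 1 * classInner (τ (indFun K θ.1 - (charDegree θ.1 : ℤ) • η)) s
      = n := by
    intro θ hθ
    obtain ⟨n, hn⟩ := Char.IsGeneralizedCharacter.exists_int_classInner
      (hS.isometry.2.2.2 _ (sub_mem_of_nonTriv K hZK hS (hFP θ hθ) hη).1) hs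
    exact ⟨charDegree θ.1 * n, by rw [hn, ← Char.charDegree_cast]; push_cast; ring⟩
  choose! n hn using hall
  obtain ⟨t, ht⟩ := S1523.exists_int_of_mul hint (m := (Nat.card K : ℤ))
    (n := (Nat.card Z : ℤ) * ∑ θ ∈ F, n θ) (Int.natCast_ne_zero.2 Nat.card_pos.ne') (by
      push_cast
      rw [← hkey, sum_congr rfl hn])
  exact ⟨t, by rw [hkey, ht]⟩

/-- A class function whose coefficients at the irreducible characters not trivial on `Z` are
proportional to the degrees is constant on `Z` away from the identity. -/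
theorem const_on_of_coeff_propto {f : L → ℂ} (hf : IsClassFunction L f) (Z : Subgroup L) (c : ℂ)
    (hc : ∀ χ : IrrCharacter L, (∃ z ∈ Z, χ.1 z ≠ χ.1 1) → classInner f χ.1 = c * χ.1 1)
    {z z' : L} (hz : z ∈ Z) (hz' : z' ∈ Z) (hz1 : z ≠ 1) (hz1' : z' ≠ 1) : f z = f z' := by
  classical
  have he : ∀ y, f y = ∑ χ : IrrCharacter L, classInner f χ.1 * χ.1 y := fun y => by
    conv_lhs => rw [Char.eq_sum_classInner_smul hf]
    simp
  have hterm : ∀ χ : IrrCharacter L, classInner f χ.1 * χ.1 z - classInner f χ.1 * χ.1 z' =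
      c * (χ.1 1 * χ.1 z - χ.1 1 * χ.1 z') := by
    intro χ
    by_cases h : ∃ w ∈ Z, χ.1 w ≠ χ.1 1
    · rw [hc χ h]; ring
    · push Not at h
      rw [h z hz, h z' hz']; ring
  rw [← sub_eq_zero, he, he, ← sum_sub_distrib, sum_congr rfl fun χ _ => hterm χ, ← Finset.mul_sum,
    sum_sub_distrib, Char.sum_irr_degree_mul, Char.sum_irr_degree_mul, if_neg hz1, if_neg hz1',
    sub_zero, mul_zero]

end Cfsg.Agent.OddOrder
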