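import Cfsg.Agent.Lib.OddOrder.CoherenceCentral
import Cfsg.Agent.Lib.ZassenhausSuzuki.Characters

/-!
Sibley's coherence argument (Peterfalvi (6.8)) through the characters lying over a linear character
of a central subgroup `Z ≤ [K, K]`: the weighted sum of such a fibre has a coefficient on the images
of the linear family divisible by `[K : Z]`, which forces the coefficient of every member to be
zero, and then the whole induced family is coherent.
-/

set_option autoImplicit false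
set_option linter.style.haveILetI false
set_option linter.unusedSectionVars false

namespace Cfsg.Agent.OddOrder

open Cfsg
open scoped ComplexConjugate
open Finset

universe u v

section Fiber

variable {Q : Type u} [Group Q] [Fintype Q] (Z : Subgroup Q)

open scoped Classical in
/-- The irreducible characters with the same central character as `θ₀` on `Z`. -/
noncomputable def centralFiber (θ₀ : IrrCharacter Q) : Finset (IrrCharacter Q) :=
  univ.filter fun θ => ∀ w : Q, w ∈ Z → θ.1 w * θ₀.1 1 = θ₀.1 w * θ.1 1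

theorem mem_centralFiber {θ₀ θ : IrrCharacter Q} :
    θ ∈ centralFiber Z θ₀ ↔ ∀ w : Q, w ∈ Z → θ.1 w * θ₀.1 1 = θ₀.1 w * θ.1 1 := by
  simp [centralFiber]

theorem self_mem_centralFiber (θ₀ : IrrCharacter Q) : θ₀ ∈ centralFiber Z θ₀ :=
  (mem_centralFiber Z).2 fun _ _ => rfl

variable (hZ : Z ≤ Subgroup.center Q)
include hZ

theorem centralFiber_key (θ₀ : IrrCharacter Q) (y : Q) [Decidable (y ∈ Z)] :
    (Nat.card Z : ℂ) * θ₀.1 1 * ∑ θ ∈ centralFiber Z θ₀, θ.1 1 * θ.1 y =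
      if y ∈ Z then (Nat.card Q : ℂ) * θ₀.1 y else 0 := by
  classical
  haveI : Fintype Z := Fintype.ofFinite _
  let c : IrrCharacter Q → Z → ℂ := fun θ w => ZassenhausSuzuki.centralChar θ ⟨w, hZ w.2⟩
  have hcm : ∀ θ (u w : Z), c θ (u * w) = c θ u * c θ w := fun θ u w =>
    map_mul (ZassenhausSuzuki.centralChar θ) (⟨u, hZ u.2⟩ : Subgroup.center Q) ⟨w, hZ w.2⟩
  have hc1 : ∀ θ, c θ 1 = 1 := fun θ => map_one (ZassenhausSuzuki.centralChar θ)
  have hcv : ∀ θ (w : Z) (x : Q), θ.1 ((w : Q) * x) = c θ w * θ.1 x := fun θ w x =>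
    ZassenhausSuzuki.apply_mul_central θ ⟨w, hZ w.2⟩ x
  have hcw : ∀ θ (w : Z), θ.1 (w : Q) = c θ w * θ.1 1 := fun θ w => by
    simpa using hcv θ w 1
  have hd : ∀ θ : IrrCharacter Q, θ.1 1 ≠ 0 := fun θ => Char.IsIrrCharacter.apply_one_ne_zero θ.2
  have horth : ∀ θ, ∑ w : Z, c θ₀ w⁻¹ * c θ w =
      if θ ∈ centralFiber Z θ₀ then (Nat.card Z : ℂ) else 0 := by
    intro θ
    have hinv : ∀ w : Z, c θ₀ w⁻¹ * c θ₀ w = 1 := fun w => by
      rw [← hcm, inv_mul_cancel, hc1]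
    split_ifs with h
    · rw [mem_centralFiber] at h
      have he : ∀ w : Z, c θ w = c θ₀ w := fun w => by
        have := h w w.2
        rw [hcw θ w, hcw θ₀ w] at this
        refine mul_right_cancel₀ (b := θ.1 1 * θ₀.1 1) (mul_ne_zero (hd θ) (hd θ₀)) ?_
        linear_combination this
      simp [he, hinv, Nat.card_eq_fintype_card]
    · obtain ⟨u, hu⟩ : ∃ u : Z, c θ₀ u⁻¹ * c θ u ≠ 1 := by
        by_contra hcon
        push Not at hcon
        refine h ((mem_centralFiber Z).2 fun w hw => ?_)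
        have hw' : c θ ⟨w, hw⟩ = c θ₀ ⟨w, hw⟩ := by
          have := hcon ⟨w, hw⟩
          linear_combination (c θ₀ ⟨w, hw⟩) * this - c θ ⟨w, hw⟩ * hinv ⟨w, hw⟩
        rw [hcw θ ⟨w, hw⟩, hcw θ₀ ⟨w, hw⟩, hw']
        ring
      refine eq_zero_of_mul_eq_self_left hu ?_
      rw [Finset.mul_sum]
      refine Fintype.sum_equiv (Equiv.mulLeft u) _ _ fun w => ?_
      rw [Equiv.coe_mulLeft, mul_inv_rev, hcm, hcm]
      ring
  have h1 : ∑ w : Z, c θ₀ w⁻¹ * ∑ θ : IrrCharacter Q, θ.1 1 * θ.1 ((w : Q) * y) =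
      (Nat.card Z : ℂ) * ∑ θ ∈ centralFiber Z θ₀, θ.1 1 * θ.1 y := by
    simp only [Finset.mul_sum]
    rw [Finset.sum_comm, ← Finset.sum_filter_add_sum_filter_not univ (· ∈ centralFiber Z θ₀),
      show univ.filter (· ∈ centralFiber Z θ₀) = centralFiber Z θ₀ by ext; simp,
      Finset.sum_eq_zero (s := univ.filter fun θ => ¬ θ ∈ centralFiber Z θ₀), add_zero]
    · refine sum_congr rfl fun θ hθ => ?_
      rw [sum_congr rfl (g := fun w => θ.1 1 * θ.1 y * (c θ₀ w⁻¹ * c θ w)) fun w _ => by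
        rw [hcv]; ring, ← Finset.mul_sum, horth θ, if_pos hθ]
      ring
    · intro θ hθ
      rw [sum_congr rfl (g := fun w => θ.1 1 * θ.1 y * (c θ₀ w⁻¹ * c θ w)) fun w _ => by
        rw [hcv]; ring, ← Finset.mul_sum, horth θ, if_neg (mem_filter.1 hθ).2, mul_zero]
  have h2 : ∀ w : Z, ∑ θ : IrrCharacter Q, θ.1 1 * θ.1 ((w : Q) * y) =
      if (w : Q) * y = 1 then (Nat.card Q : ℂ) else 0 := fun w => Char.sum_irr_degree_mul _
  simp only [h2] at h1
  rw [mul_right_comm, ← h1]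
  split_ifs with hy
  · rw [Finset.sum_eq_single (⟨y, hy⟩⁻¹ : Z) (fun w _ hne => ?_) (fun h => absurd (mem_univ _) h),
      inv_inv, if_pos (by simp), hcw θ₀ ⟨y, hy⟩]
    · ring
    · rw [if_neg fun e => hne ?_, mul_zero]
      exact eq_inv_of_mul_eq_one_left (Subtype.ext e)
  · rw [Finset.sum_eq_zero, zero_mul]
    intro w _
    rw [if_neg fun e => hy ?_, mul_zero]
    rw [eq_inv_of_mul_eq_one_right e]
    exact Z.inv_mem w.2

theorem centralFiber_sum_sq (θ₀ : IrrCharacter Q) :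
    (Nat.card Z : ℂ) * ∑ θ ∈ centralFiber Z θ₀, (θ.1 1) ^ 2 = Nat.card Q := by
  classical
  have h := centralFiber_key Z hZ θ₀ 1
  rw [if_pos (one_mem Z)] at h
  refine mul_right_cancel₀ (Char.IsIrrCharacter.apply_one_ne_zero θ₀.2) ?_
  simp only [sq]
  linear_combination h

theorem centralFiber_inner [Fintype Z] (θ₀ : IrrCharacter Q) (f : Q → ℂ) :
    (Nat.card Z : ℂ) * θ₀.1 1 * ∑ θ ∈ centralFiber Z θ₀, θ.1 1 * classInner θ.1 f =
      ∑ w : Z, θ₀.1 w * conj (f w) := by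
  classical
  have hk : (Nat.card Q : ℂ) ≠ 0 := Nat.cast_ne_zero.2 Nat.card_pos.ne'
  have h : (Nat.card Z : ℂ) * θ₀.1 1 * ∑ θ ∈ centralFiber Z θ₀, θ.1 1 * classInner θ.1 f =
      (Nat.card Q : ℂ)⁻¹ * ∑ y : Q,
        ((Nat.card Z : ℂ) * θ₀.1 1 * ∑ θ ∈ centralFiber Z θ₀, θ.1 1 * θ.1 y) * conj (f y) := by
    simp only [classInner, Finset.mul_sum, Finset.sum_mul]
    rw [Finset.sum_comm]
    exact sum_congr rfl fun y _ => sum_congr rfl fun θ _ => by ring
  rw [h, sum_congr rfl fun y _ => by rw [centralFiber_key Z hZ θ₀ y]]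
  simp only [ite_mul, zero_mul]
  rw [← Finset.sum_filter, Finset.sum_subtype (p := (· ∈ Z)) _ (by simp), Finset.mul_sum]
  exact sum_congr rfl fun w _ => by field_simp

end Fiber

variable {L : Type u} [Group L] [Fintype L] {G : Type v} [Group G] [Fintype G]
variable {τ : (L → ℂ) → (G → ℂ)} {R : (L → ℂ) → Finset (G → ℂ)}

/-- A finite set with a choice of images of the right inner products, of which the differences to one
member are the values of `τ`, is coherent. -/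
theorem isCoherent_of_images {S : Set (L → ℂ)} (hS : IsCoherenceSystem S τ R) (S₀ : Finset (L → ℂ))
    (hS₀ : ↑S₀ ⊆ S) {η : L → ℂ} (hη : η ∈ S₀) (hηc : conjFun η ∈ S₀) (g : (L → ℂ) → (G → ℂ))
    (hg : ∀ φ ∈ S₀, IsGeneralizedCharacter G (g φ))
    (hgg : ∀ φ ∈ S₀, ∀ ψ ∈ S₀, classInner (g φ) (g ψ) = classInner φ ψ) (q : (L → ℂ) → ℤ)
    (hq : ∀ φ ∈ S₀, φ 1 = (q φ : ℂ) * η 1)
    (hrel : ∀ φ ∈ S₀, τ (φ - q φ • η) = g φ - q φ • g η) :
    IsCoherent (↑S₀ : Set (L → ℂ)) {1}ᶜ τ := by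
  classical
  obtain ⟨d, n, hd, hn⟩ := system_natural hS
  have hn0 : ∀ φ ∈ S₀, 0 < n φ := fun φ hφ => by
    obtain ⟨m, hm0, hm⟩ := system_exists_norm hS (hS₀ hφ)
    rw [hn φ (hS₀ hφ)] at hm
    have : n φ = m := by exact_mod_cast hm
    omega
  obtain ⟨σ, hσ, hσv⟩ := exists_isometry_of_images S₀ n hn0 (fun φ hφ ψ hψ => by
    split_ifs with h
    · rw [h]; exact hn ψ (hS₀ hψ)
    · exact hS.orthogonal φ (hS₀ hφ) ψ (hS₀ hψ) h) g hg hgg
  have hη1 : η 1 ≠ 0 := by
    intro h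
    obtain ⟨m, ρ, hρ⟩ := hS.isCharacter η (hS₀ hη)
    rw [← hρ, ρ.char_one] at h
    have hm : m = 0 := by simpa using h
    subst hm
    exact system_ne_zero hS (hS₀ hη) (hρ ▸ funext fun x => by
      simp [Representation.character, Subsingleton.elim (ρ x) 0])
  refine ⟨⟨η - conjFun η, Char.mem_zspanOn_compl_one.2 ⟨Submodule.sub_mem _ (Submodule.subset_span hη)
    (Submodule.subset_span hηc), by rw [Pi.sub_apply, conjFun_apply_one hS (hS₀ hη), sub_self]⟩,
    sub_ne_zero.2 (Ne.symm (hS.conj_ne η (hS₀ hη)))⟩, σ, hσ, fun α hα => ?_⟩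
  have key : ∀ β ∈ zspan (↑S₀ : Set (L → ℂ)), ∃ k : ℤ, ∃ γ, γ ∈ zspanOn S {1}ᶜ ∧ β = k • η + γ ∧
      σ β = k • g η + τ γ := by
    intro β hβ
    induction hβ using Submodule.span_induction with
    | mem φ hφ =>
      refine ⟨q φ, φ - q φ • η, Char.mem_zspanOn_compl_one.2 ⟨Submodule.sub_mem _
        (Submodule.subset_span (hS₀ hφ)) (Submodule.smul_mem _ _ (Submodule.subset_span (hS₀ hη))),
        by simp [hq φ hφ]⟩, by abel, ?_⟩
      rw [hσv φ hφ, hrel φ hφ]; abel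
    | zero =>
      refine ⟨0, 0, Submodule.zero_mem (Char.zspanOnSub S {1}ᶜ), by simp, ?_⟩
      rw [Char.iso_map_zero (E := Submodule.span ℤ (↑S₀ : Set (L → ℂ))) hσ,
        Char.iso_map_zero (E := Char.zspanOnSub S {1}ᶜ) hS.isometry]
      simp
    | add a b ha hb iha ihb =>
      obtain ⟨k, γ, hγ, e, f⟩ := iha
      obtain ⟨k', γ', hγ', e', f'⟩ := ihb
      refine ⟨k + k', γ + γ', Submodule.add_mem (Char.zspanOnSub S {1}ᶜ) hγ hγ', ?_, ?_⟩
      · rw [e, e', add_smul]; abel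
      · rw [hσ.1 a ha b hb, f, f', hS.isometry.1 γ hγ γ' hγ', add_smul]; abel
    | smul m a ha iha =>
      obtain ⟨k, γ, hγ, e, f⟩ := iha
      refine ⟨m * k, m • γ, Submodule.smul_mem (Char.zspanOnSub S {1}ᶜ) m hγ, ?_, ?_⟩
      · rw [e, smul_add, smul_smul]
      · rw [hσ.2.1 a ha m, f, hS.isometry.2.1 γ hγ m, smul_add, smul_smul]
  obtain ⟨k, γ, hγ, e, f⟩ := key α hα.1
  have hk : k = 0 := by
    have h1 := congrFun e 1
    rw [(Char.mem_zspanOn_compl_one.1 hα).2, Pi.add_apply, (Char.mem_zspanOn_compl_one.1 hγ).2,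
      add_zero, Pi.smul_apply, zsmul_eq_mul, eq_comm, mul_eq_zero] at h1
    exact_mod_cast h1.resolve_right hη1
  subst hk
  rw [zero_smul, zero_add] at e f
  rw [f, e]

variable (K : Subgroup L) [K.Normal] [Fintype K]

theorem charDegree_eq_one_of_above {θ : IrrCharacter K}
    (h : ∀ a : K, (a : L) ∈ ⁅K, K⁆ → θ.1 a = θ.1 1) : charDegree θ.1 = 1 := by
  have h1 := degree_sq_le_index θ ⊤ fun x _ y => h _ (by
    have := Subgroup.commutator_mem_commutator x.2 y.2
    simpa [commutatorElement_def] using this)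
  rw [Subgroup.index_top] at h1
  have h2 := Char.charDegree_pos θ
  nlinarith

theorem linearFamily_apply_one {η : L → ℂ} (h : η ∈ inducedIrrAbove K ⁅K, K⁆) :
    η 1 = (K.index : ℂ) := by
  obtain ⟨θ, hθ, rfl⟩ := (mem_inducedIrrAbove_iff K).1 h
  rw [Char.indFun_apply_one, ← Char.charDegree_cast,
    charDegree_eq_one_of_above K ((mem_aboveChars K).1 hθ).2, Nat.cast_one, mul_one]

variable {Z : Subgroup L} [Z.Normal] (hZK : Z ≤ ⁅K, K⁆)
include hZK

theorem nonTriv_facts {θ : IrrCharacter K} (h : ∃ z : K, (z : L) ∈ Z ∧ θ.1 z ≠ θ.1 1) :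
    indFun K θ.1 ∈ inducedIrrAbove K ⊥ ∧ indFun K θ.1 ∉ inducedIrrAbove K ⁅K, K⁆ := by
  obtain ⟨z, hz, hne⟩ := h
  have hm : indFun K θ.1 ∈ inducedNonTriv K ⁅K, K⁆ := ⟨θ.1, θ.2, ⟨z, hZK hz, hne⟩, rfl⟩
  rw [inducedNonTriv_eq_diff] at hm
  exact hm

variable (hS : IsCoherenceSystem (inducedIrrAbove K ⊥) τ R)
include hS

theorem sub_mem_of_nonTriv {θ : IrrCharacter K} (h : ∃ z : K, (z : L) ∈ Z ∧ θ.1 z ≠ θ.1 1)
    {η : L → ℂ} (hη : η ∈ inducedIrrAbove K ⁅K, K⁆) :
    indFun K θ.1 - (charDegree θ.1 : ℤ) • η ∈ zspanOn (inducedIrrAbove K ⊥) {1}ᶜ ∧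
      classInner (indFun K θ.1) η = 0 ∧ classInner η (indFun K θ.1) = 0 := by
  obtain ⟨h1, h2⟩ := nonTriv_facts K hZK h
  have h3 := inducedIrrAbove_subset_bot K _ hη
  have hne : indFun K θ.1 ≠ η := fun e => h2 (e ▸ hη)
  refine ⟨Char.mem_zspanOn_compl_one.2 ⟨Submodule.sub_mem _ (Submodule.subset_span h1)
    (Submodule.smul_mem _ _ (Submodule.subset_span h3)), ?_⟩, hS.orthogonal _ h1 _ h3 hne,
    hS.orthogonal _ h3 _ h1 hne.symm⟩
  simp [Char.indFun_apply_one, linearFamily_apply_one K hη, Char.charDegree_cast, mul_comm]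

/-- Coherence once the coefficient of every member over `Z` on the linear family is minimal. -/
theorem isCoherent_of_coeff
    (hrest : ∀ θ : IrrCharacter K, (∀ w : K, (w : L) ∈ Z → θ.1 w = θ.1 1) →
      2 * (K.index * charDegree θ.1) + Z.relIndex K < Nat.card K)
    (hY1 : ∀ η ∈ inducedIrrAbove K ⁅K, K⁆, classInner η η = 1) {σ : (L → ℂ) → (G → ℂ)}
    (hσ : IsLinearIsometryOn (zspan (inducedIrrAbove K ⁅K, K⁆)) σ)
    (hσA : ∀ α ∈ zspanOn (inducedIrrAbove K ⁅K, K⁆) {1}ᶜ, σ α = τ α) {η : L → ℂ}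
    (hη : η ∈ inducedIrrAbove K ⁅K, K⁆)
    (hcoef : ∀ θ : IrrCharacter K, (∃ z : K, (z : L) ∈ Z ∧ θ.1 z ≠ θ.1 1) →
      classInner (τ (indFun K θ.1 - (charDegree θ.1 : ℤ) • η)) (σ η) = -(charDegree θ.1 : ℂ)) :
    IsCoherent (inducedIrrAbove K ⊥) {1}ᶜ τ := by
  classical
  set S := inducedIrrAbove K ⊥ with hSdef
  set Y := inducedIrrAbove K ⁅K, K⁆ with hYdef
  have hYS : Y ⊆ S := inducedIrrAbove_subset_bot K _
  obtain ⟨d, n, hd, hn⟩ := system_natural hS
  set e := K.index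
  have he0 : 0 < e := Nat.pos_of_ne_zero Subgroup.index_ne_zero_of_finite
  set P := (univ : Finset (IrrCharacter K)).filter fun θ => ∃ z : K, (z : L) ∈ Z ∧ θ.1 z ≠ θ.1 1
    with hP
  set X := P.image fun θ => indFun K θ.1 with hX
  set Yf := ((system_finite hS).subset hYS).toFinset with hYf
  have hmemY : ∀ φ, φ ∈ Yf ↔ φ ∈ Y := fun φ => Set.Finite.mem_toFinset _
  have hdeg : ∀ θ : IrrCharacter K, indFun K θ.1 ∈ S → d (indFun K θ.1) = e * charDegree θ.1 := by
    intro θ hθ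
    apply Nat.cast_injective (R := ℂ)
    rw [← hd _ hθ, Char.indFun_apply_one, Nat.cast_mul, Char.charDegree_cast]
  have hdY : ∀ φ ∈ Y, d φ = e := fun φ hφ => by
    apply Nat.cast_injective (R := ℂ)
    rw [← hd _ (hYS hφ), linearFamily_apply_one K hφ]
  have hS₀ : ↑(X ∪ Yf) ⊆ S := by
    intro φ hφ
    rcases mem_union.1 hφ with h | h
    · obtain ⟨θ, hθ, rfl⟩ := mem_image.1 h
      exact (nonTriv_facts K hZK (mem_filter.1 hθ).2).1
    · exact hYS ((hmemY φ).1 h)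
  have hYconj : conjFun η ∈ Y := conj_mem_inducedIrrAbove K hη
  let q : (L → ℂ) → ℤ := fun φ => ((d φ / e : ℕ) : ℤ)
  let g : (L → ℂ) → (G → ℂ) := fun φ => if φ ∈ Y then σ φ else τ (φ - q φ • η) + q φ • σ η
  have hqX : ∀ θ ∈ P, q (indFun K θ.1) = (charDegree θ.1 : ℤ) := fun θ hθ => by
    simp only [q]
    rw [hdeg θ (nonTriv_facts K hZK (mem_filter.1 hθ).2).1, Nat.mul_div_cancel_left _ he0]
  have hqY : ∀ φ ∈ Y, q φ = 1 := fun φ hφ => by simp only [q]; rw [hdY φ hφ, Nat.div_self he0]; rfl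
  have hgX : ∀ θ ∈ P, g (indFun K θ.1) = τ (indFun K θ.1 - (charDegree θ.1 : ℤ) • η) +
      (charDegree θ.1 : ℤ) • σ η := fun θ hθ => by
    show (if indFun K θ.1 ∈ Y then _ else _) = _
    rw [if_neg (nonTriv_facts K hZK (mem_filter.1 hθ).2).2, hqX θ hθ]
  have hgY : ∀ φ ∈ Y, g φ = σ φ := fun φ hφ => if_pos hφ
  have hmY : ∀ φ ∈ Y, φ ∈ zspan Y := fun φ hφ => Submodule.subset_span hφ
  have hsubY : ∀ φ ∈ Y, φ - η ∈ zspanOn Y {1}ᶜ := fun φ hφ => Char.mem_zspanOn_compl_one.2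
    ⟨Submodule.sub_mem _ (hmY φ hφ) (hmY η hη),
      by simp [linearFamily_apply_one K hφ, linearFamily_apply_one K hη]⟩
  have hmono : ∀ α ∈ zspanOn Y {1}ᶜ, α ∈ zspanOn S {1}ᶜ := fun α hα =>
    ⟨Submodule.span_mono hYS hα.1, hα.2⟩
  have hσsub : ∀ φ ∈ Y, τ (φ - η) = σ φ - σ η := fun φ hφ => by
    rw [← hσA _ (hsubY φ hφ), Char.iso_map_sub (E := Submodule.span ℤ Y) hσ (hmY φ hφ) (hmY η hη)]
  have hηη : classInner (σ η) (σ η) = 1 := by rw [hσ.2.2.1 _ (hmY η hη) _ (hmY η hη), hY1 η hη]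
  have hTY : ∀ θ ∈ P, ∀ φ ∈ Y, classInner (τ (indFun K θ.1 - (charDegree θ.1 : ℤ) • η)) (σ φ) =
      -(charDegree θ.1 : ℂ) * classInner η φ := by
    intro θ hθ φ hφ
    have hθ' := (mem_filter.1 hθ).2
    obtain ⟨hT, -, -⟩ := sub_mem_of_nonTriv K hZK hS hθ' hη
    rw [show σ φ = σ η + (σ φ - σ η) by abel, Char.classInner_add_right, hcoef θ hθ', ← hσsub φ hφ,
      hS.isometry.2.2.1 _ hT _ (hmono _ (hsubY φ hφ)), Char.classInner_sub_left,
      Char.classInner_sub_right, Char.classInner_sub_right, Char.classInner_zsmul_left,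
      Char.classInner_zsmul_left, (sub_mem_of_nonTriv K hZK hS hθ' hφ).2.1,
      (sub_mem_of_nonTriv K hZK hS hθ' hη).2.1, hY1 η hη]
    push_cast; ring
  have hcoh₀ : IsCoherent (↑(X ∪ Yf) : Set (L → ℂ)) {1}ᶜ τ := by
    refine isCoherent_of_images hS (X ∪ Yf) hS₀ (η := η) (mem_union_right _ ((hmemY η).2 hη))
      (mem_union_right _ ((hmemY _).2 hYconj)) g ?_ ?_ q ?_ ?_
    · intro φ hφ
      rcases mem_union.1 hφ with h | h
      · obtain ⟨θ, hθ, rfl⟩ := mem_image.1 h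
        rw [hgX θ hθ]
        refine Char.IsGeneralizedCharacter.add
          (hS.isometry.2.2.2 _ (sub_mem_of_nonTriv K hZK hS (mem_filter.1 hθ).2 hη).1) ?_
        rw [← Int.cast_smul_eq_zsmul ℂ]
        exact Char.IsGeneralizedCharacter.intCast_smul (hσ.2.2.2 _ (hmY η hη)) _
      · rw [hgY φ ((hmemY φ).1 h)]
        exact hσ.2.2.2 _ (hmY φ ((hmemY φ).1 h))
    · have hXY : ∀ θ ∈ P, ∀ φ ∈ Y, classInner (g (indFun K θ.1)) (g φ) = 0 := by
        intro θ hθ φ hφ
        rw [hgX θ hθ, hgY φ hφ, Char.classInner_add_left, hTY θ hθ φ hφ, Char.classInner_zsmul_left,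
          hσ.2.2.1 _ (hmY η hη) _ (hmY φ hφ)]
        push_cast; ring
      intro φ hφ ψ hψ
      rcases mem_union.1 hφ with h | h <;> rcases mem_union.1 hψ with h' | h'
      · obtain ⟨θ, hθ, rfl⟩ := mem_image.1 h
        obtain ⟨θ', hθ', rfl⟩ := mem_image.1 h'
        obtain ⟨hT, hT1, hT2⟩ := sub_mem_of_nonTriv K hZK hS (mem_filter.1 hθ).2 hη
        obtain ⟨hT', hT1', hT2'⟩ := sub_mem_of_nonTriv K hZK hS (mem_filter.1 hθ').2 hη
        rw [hgX θ hθ, hgX θ' hθ', Char.classInner_add_left, Char.classInner_add_right,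
          Char.classInner_add_right, hS.isometry.2.2.1 _ hT _ hT', Char.classInner_zsmul_right,
          Char.classInner_zsmul_left, hcoef θ (mem_filter.1 hθ).2, Char.classInner_zsmul_left,
          Char.classInner_zsmul_right, ← Char.conj_classInner (τ _) (σ η),
          hcoef θ' (mem_filter.1 hθ').2, hηη]
        simp only [Char.classInner_sub_left, Char.classInner_sub_right, Char.classInner_zsmul_left,
          Char.classInner_zsmul_right, hT1, hT2', hY1 η hη, map_neg, Complex.conj_natCast]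
        push_cast; ring
      · obtain ⟨θ, hθ, rfl⟩ := mem_image.1 h
        rw [hXY θ hθ ψ ((hmemY ψ).1 h'),
          (sub_mem_of_nonTriv K hZK hS (mem_filter.1 hθ).2 ((hmemY ψ).1 h')).2.1]
      · obtain ⟨θ, hθ, rfl⟩ := mem_image.1 h'
        rw [← Char.conj_classInner, hXY θ hθ φ ((hmemY φ).1 h), map_zero,
          (sub_mem_of_nonTriv K hZK hS (mem_filter.1 hθ).2 ((hmemY φ).1 h)).2.2]
      · rw [hgY φ ((hmemY φ).1 h), hgY ψ ((hmemY ψ).1 h'),
          hσ.2.2.1 _ (hmY φ ((hmemY φ).1 h)) _ (hmY ψ ((hmemY ψ).1 h'))]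
    · intro φ hφ
      rcases mem_union.1 hφ with h | h
      · obtain ⟨θ, hθ, rfl⟩ := mem_image.1 h
        rw [hqX θ hθ, Char.indFun_apply_one, linearFamily_apply_one K hη, ← Char.charDegree_cast,
          Int.cast_natCast, mul_comm]
      · rw [hqY φ ((hmemY φ).1 h), linearFamily_apply_one K hη,
          linearFamily_apply_one K ((hmemY φ).1 h), Int.cast_one, one_mul]
    · intro φ hφ
      rcases mem_union.1 hφ with h | h
      · obtain ⟨θ, hθ, rfl⟩ := mem_image.1 h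
        rw [hqX θ hθ, hgX θ hθ, hgY η hη, add_sub_cancel_right]
      · rw [hqY φ ((hmemY φ).1 h), one_smul, one_smul, hgY φ ((hmemY φ).1 h), hgY η hη,
          hσsub φ ((hmemY φ).1 h)]
  -- the members trivial on `Z`
  have hclosed : ∀ θ ∈ P, ∀ y, Char.conjChar K θ y ∈ P := fun θ hθ y =>
    mem_filter.2 ⟨mem_univ _, conjFun_nonTriv K θ (mem_filter.1 hθ).2 y⟩
  set a := Z.relIndex K with ha
  set z := Nat.card Z with hz
  have hZK' : Z ≤ K := hZK.trans (Subgroup.commutator_le_self K)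
  have hza : Nat.card K = z * a := by
    have := Subgroup.relIndex_mul_relIndex ⊥ Z K bot_le hZK'
    rwa [Subgroup.relIndex_bot_left, Subgroup.relIndex_bot_left, eq_comm] at this
  have hsum : ∑ θ ∈ P, charDegree θ.1 ^ 2 + a = Nat.card K := by
    have h1 := Char.sum_trivOn_degree_sq (Z.subgroupOf K)
    have h2 := Char.sum_trivOn_degree_sq (⊥ : Subgroup K)
    rw [Subgroup.index_bot] at h2
    rw [ha, Subgroup.relIndex, ← h1, ← h2,
      filter_true_of_mem (s := (univ : Finset (IrrCharacter K)))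
        (p := fun χ : IrrCharacter K => Char.TrivOn ⊥ χ.1)
        fun χ _ w hw => by rw [Subgroup.mem_bot.1 hw],
      ← sum_filter_add_sum_filter_not univ
        (fun θ : IrrCharacter K => ∃ w : K, (w : L) ∈ Z ∧ θ.1 w ≠ θ.1 1)]
    congr 1
    refine sum_congr (filter_congr fun θ _ => ?_) fun _ _ => rfl
    simp only [Char.TrivOn, Subgroup.mem_subgroupOf, ne_eq, not_exists, not_and, not_not]
  refine isCoherent_of_ineq hS d n hd hn (X ∪ Yf) S subset_rfl hS₀ ?_ (fun φ hφ => hS.conj_mem φ hφ)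
    hcoh₀ fun χ hχ hχ₀ => ?_
  · intro φ hφ
    rcases mem_union.1 hφ with h | h
    · obtain ⟨θ, hθ, rfl⟩ := mem_image.1 h
      obtain ⟨w, hw, hne⟩ := (mem_filter.1 hθ).2
      refine mem_union_left _ (mem_image.2 ⟨⟨fun x => conj (θ.1 x), Char.IsIrrCharacter.conj_fun θ.2⟩,
        mem_filter.2 ⟨mem_univ _, w, hw, fun h' => hne ((starRingEnd ℂ).injective h')⟩,
        (Char.conj_indFun K θ.1).symm⟩)
    · exact mem_union_right _ ((hmemY _).2 (conj_mem_inducedIrrAbove K ((hmemY φ).1 h)))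
  obtain ⟨θ, hθ, rfl⟩ := (mem_inducedIrrAbove_iff K).1 hχ
  have htriv : ∀ w : K, (w : L) ∈ Z → θ.1 w = θ.1 1 := by
    by_contra hcon
    push Not at hcon
    exact hχ₀ (mem_union_left _ (mem_image.2 ⟨θ, mem_filter.2 ⟨mem_univ _, hcon⟩, rfl⟩))
  refine ⟨η, mem_union_right _ ((hmemY η).2 hη), ?_, ?_⟩
  · rw [hdY η hη, hdeg θ hχ]; exact dvd_mul_right _ _
  have hlt := hrest θ htriv
  have hXsum : ∑ φ ∈ X, ((d φ : ℝ) ^ 2 / (n φ : ℝ)) = (e : ℝ) * ∑ θ ∈ P, (charDegree θ.1 : ℝ) ^ 2 :=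
    sum_sq_div_norm K P hclosed d n (fun θ' hθ' => hd _ (nonTriv_facts K hZK (mem_filter.1 hθ').2).1)
      fun θ' hθ' => hn _ (nonTriv_facts K hZK (mem_filter.1 hθ').2).1
  refine lt_of_lt_of_le ?_ (sum_le_sum_of_subset_of_nonneg subset_union_left fun φ _ _ =>
    div_nonneg (sq_nonneg _) (Nat.cast_nonneg _))
  rw [hXsum, hdY η hη, hdeg θ hχ]
  have hsumR : (∑ θ ∈ P, (charDegree θ.1 : ℝ) ^ 2) = (z : ℝ) * a - a := by
    rw [eq_sub_iff_add_eq]
    exact_mod_cast hsum.trans hza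
  rw [hsumR]
  have hlt' : 2 * ((e : ℝ) * charDegree θ.1) + a < (z : ℝ) * a := by
    rw [hza] at hlt
    exact_mod_cast hlt
  have h3 : (0 : ℝ) < e := by exact_mod_cast he0
  push_cast
  nlinarith [mul_lt_mul_of_pos_left hlt' h3]

/-- The bound needed for the members trivial on `Z`, from a central section above `Z`. -/
theorem rest_of_central_section {D : Subgroup L} [D.Normal] (hZ3 : 3 ≤ Nat.card Z) (hZD : Z ≤ D)
    (hDK : D ≤ K) (hcent : ∀ x ∈ D, ∀ y ∈ K, x * y * x⁻¹ * y⁻¹ ∈ Z)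
    (hDbig : K.index < Z.relIndex D) (θ : IrrCharacter K)
    (htriv : ∀ w : K, (w : L) ∈ Z → θ.1 w = θ.1 1) :
    2 * (K.index * charDegree θ.1) + Z.relIndex K < Nat.card K := by
  have hr : charDegree θ.1 ^ 2 ≤ D.relIndex K := by
    have := degree_sq_le K Z K D hDK le_rfl hcent θ htriv
    rwa [Subgroup.relIndex_self, one_pow, one_mul] at this
  have hr' : charDegree θ.1 ≤ D.relIndex K := (Nat.le_self_pow (by norm_num) _).trans hr
  have hpos : 0 < D.relIndex K := lt_of_lt_of_le (Char.charDegree_pos θ) hr'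
  have hqa : Z.relIndex D * D.relIndex K = Z.relIndex K :=
    Subgroup.relIndex_mul_relIndex Z D K hZD hDK
  have hlt : K.index * charDegree θ.1 < Z.relIndex K :=
    hqa ▸ Nat.mul_lt_mul_of_lt_of_le hDbig hr' hpos
  have hza : Nat.card K = Nat.card Z * Z.relIndex K := by
    have := Subgroup.relIndex_mul_relIndex ⊥ Z K bot_le (hZK.trans (Subgroup.commutator_le_self K))
    rwa [Subgroup.relIndex_bot_left, Subgroup.relIndex_bot_left, eq_comm] at this
  rw [hza]
  nlinarith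

/-- The coefficients are minimal for a suitable extension on the linear family, given the
divisibility for the fibres. -/
theorem exists_coeff_of_congr (hZc : ∀ z ∈ Z, ∀ k ∈ K, z * k = k * z)
    (hsmall : K.index < Z.relIndex K)
    (hY1 : ∀ η ∈ inducedIrrAbove K ⁅K, K⁆, classInner η η = 1)
    (hY0 : (inducedIrrAbove K ⁅K, K⁆).Nonempty)
    (hn : ∀ θ : IrrCharacter K, (∃ z : K, (z : L) ∈ Z ∧ θ.1 z ≠ θ.1 1) → ∃ n : ℕ,
      classInner (indFun K θ.1) (indFun K θ.1) = n ∧ n ≤ 2 * charDegree θ.1 + 1 ∧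
        n < charDegree θ.1 ^ 2)
    (hcong : ∀ σ : (L → ℂ) → (G → ℂ), IsLinearIsometryOn (zspan (inducedIrrAbove K ⁅K, K⁆)) σ →
      (∀ α ∈ zspanOn (inducedIrrAbove K ⁅K, K⁆) {1}ᶜ, σ α = τ α) →
      ∀ η ∈ inducedIrrAbove K ⁅K, K⁆, ∀ θ₀ : IrrCharacter K,
        (∃ z : K, (z : L) ∈ Z ∧ θ₀.1 z ≠ θ₀.1 1) → ∃ t : ℤ,
          (Nat.card Z : ℂ) * ∑ θ ∈ centralFiber (Z.subgroupOf K) θ₀, θ.1 1 *
            classInner (τ (indFun K θ.1 - (charDegree θ.1 : ℤ) • η)) (σ η) = (Nat.card K : ℂ) * t) :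
    ∃ (σ : (L → ℂ) → (G → ℂ)) (η : L → ℂ),
      IsLinearIsometryOn (zspan (inducedIrrAbove K ⁅K, K⁆)) σ ∧
      (∀ α ∈ zspanOn (inducedIrrAbove K ⁅K, K⁆) {1}ᶜ, σ α = τ α) ∧
      η ∈ inducedIrrAbove K ⁅K, K⁆ ∧
      ∀ θ : IrrCharacter K, (∃ z : K, (z : L) ∈ Z ∧ θ.1 z ≠ θ.1 1) →
        classInner (τ (indFun K θ.1 - (charDegree θ.1 : ℤ) • η)) (σ η) = -(charDegree θ.1 : ℂ) := by
  classical
  set S := inducedIrrAbove K ⊥ with hSdef
  set Y := inducedIrrAbove K ⁅K, K⁆ with hYdef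
  have hYS : Y ⊆ S := inducedIrrAbove_subset_bot K _
  set Zc := Z.subgroupOf K with hZcdef
  have hZc' : Zc ≤ Subgroup.center K := fun w hw => Subgroup.mem_center_iff.2 fun k =>
    Subtype.ext (hZc w hw k k.2).symm
  have hZK' : Z ≤ K := hZK.trans (Subgroup.commutator_le_self K)
  have hcardZ : Nat.card Zc = Nat.card Z := Nat.card_congr (Subgroup.subgroupOfEquivOfLe hZK').toEquiv
  set a := Z.relIndex K with ha
  set e := K.index
  have hza : Nat.card K = Nat.card Z * a := by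
    have := Subgroup.relIndex_mul_relIndex ⊥ Z K bot_le hZK'
    rwa [Subgroup.relIndex_bot_left, Subgroup.relIndex_bot_left, eq_comm] at this
  have hsysY : IsCoherenceSystem Y τ R :=
    system_subset hS hYS hY0 fun χ hχ => conj_mem_inducedIrrAbove K hχ
  obtain ⟨-, σ, hσ, hσA⟩ := isCoherent_of_const_degree hsysY
    fun φ hφ ψ hψ => (linearFamily_apply_one K hφ).trans (linearFamily_apply_one K hψ).symm
  obtain ⟨η, hη⟩ := hY0
  set η' := conjFun η with hη'def
  have hη' : η' ∈ Y := conj_mem_inducedIrrAbove K hη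
  have hne : η' ≠ η := hS.conj_ne η (hYS hη)
  set Yf := ((system_finite hS).subset hYS).toFinset with hYf
  have hmemY : ∀ φ, φ ∈ Yf ↔ φ ∈ Y := fun φ => Set.Finite.mem_toFinset _
  have hmY : ∀ φ ∈ Y, φ ∈ zspan Y := fun φ hφ => Submodule.subset_span hφ
  have hYo : ∀ φ ∈ Y, ∀ ψ ∈ Y, classInner (σ φ) (σ ψ) = if φ = ψ then 1 else 0 := fun φ hφ ψ hψ => by
    rw [hσ.2.2.1 _ (hmY φ hφ) _ (hmY ψ hψ)]
    split_ifs with h
    · rw [h, hY1 ψ hψ]
    · exact hS.orthogonal φ (hYS hφ) ψ (hYS hψ) h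
  set P := (univ : Finset (IrrCharacter K)).filter fun θ => ∃ z : K, (z : L) ∈ Z ∧ θ.1 z ≠ θ.1 1
    with hP
  let T : IrrCharacter K → G → ℂ := fun θ => τ (indFun K θ.1 - (charDegree θ.1 : ℤ) • η)
  let r : IrrCharacter K → ℤ := fun θ => (charDegree θ.1 : ℤ)
  have hTmem : ∀ θ ∈ P, indFun K θ.1 - r θ • η ∈ zspanOn S {1}ᶜ := fun θ hθ =>
    (sub_mem_of_nonTriv K hZK hS (mem_filter.1 hθ).2 hη).1
  -- coefficients
  have hc : ∀ θ : IrrCharacter K, ∃ c : ℤ, θ ∈ P → classInner (T θ) (σ η) = c := fun θ => by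
    by_cases h : θ ∈ P
    · obtain ⟨c, hc⟩ := Char.IsGeneralizedCharacter.exists_int_classInner
        (hS.isometry.2.2.2 _ (hTmem θ h)) (hσ.2.2.2 _ (hmY η hη))
      exact ⟨c, fun _ => hc⟩
    · exact ⟨0, fun h' => absurd h' h⟩
  choose c hc using hc
  have hTY : ∀ θ ∈ P, ∀ φ ∈ Y,
      classInner (T θ) (σ φ) = if φ = η then (c θ : ℂ) else ((c θ + r θ : ℤ) : ℂ) := by
    intro θ hθ φ hφ
    split_ifs with h
    · rw [h, hc θ hθ]
    · have hsub : φ - η ∈ zspanOn Y {1}ᶜ := Char.mem_zspanOn_compl_one.2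
        ⟨Submodule.sub_mem _ (hmY φ hφ) (hmY η hη),
          by simp [linearFamily_apply_one K hφ, linearFamily_apply_one K hη]⟩
      obtain ⟨hT, h1, -⟩ := sub_mem_of_nonTriv K hZK hS (mem_filter.1 hθ).2 hη
      rw [show σ φ = σ η + (σ φ - σ η) by abel, Char.classInner_add_right, hc θ hθ,
        ← Char.iso_map_sub (E := Submodule.span ℤ Y) hσ (hmY φ hφ) (hmY η hη), hσA _ hsub,
        show T θ = τ (indFun K θ.1 - (charDegree θ.1 : ℤ) • η) from rfl,
        hS.isometry.2.2.1 _ hT _ ⟨Submodule.span_mono hYS hsub.1, hsub.2⟩,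
        Char.classInner_sub_left, Char.classInner_sub_right, Char.classInner_sub_right,
        Char.classInner_zsmul_left, Char.classInner_zsmul_left, h1,
        (sub_mem_of_nonTriv K hZK hS (mem_filter.1 hθ).2 hφ).2.1,
        hS.orthogonal η (hYS hη) φ (hYS hφ) (Ne.symm h), hY1 η hη]
      simp only [r]
      push_cast; ring
  -- the inner products of the `T θ`
  have hN : ∀ θ θ' : IrrCharacter K, ∃ m : ℕ,
      (Nat.card K : ℂ) * classInner (indFun K θ.1) (indFun K θ'.1) = m := fun θ θ' =>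
    ⟨_, Char.card_mul_classInner_indFun_normal K θ.2 θ'.2⟩
  choose m hm using hN
  have hTT : ∀ θ ∈ P, ∀ θ' ∈ P, (Nat.card K : ℂ) * classInner (T θ) (T θ') =
      ((m θ θ' + Nat.card K * (charDegree θ.1 * charDegree θ'.1) : ℕ) : ℂ) := by
    intro θ hθ θ' hθ'
    obtain ⟨hT, h1, -⟩ := sub_mem_of_nonTriv K hZK hS (mem_filter.1 hθ).2 hη
    obtain ⟨hT', -, h2'⟩ := sub_mem_of_nonTriv K hZK hS (mem_filter.1 hθ').2 hη
    simp only [T]
    rw [hS.isometry.2.2.1 _ hT _ hT', Nat.cast_add, ← hm θ θ']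
    simp only [Char.classInner_sub_left, Char.classInner_sub_right, Char.classInner_zsmul_left,
      Char.classInner_zsmul_right, h1, h2', hY1 η hη]
    push_cast; ring
  have hkne : (Nat.card K : ℂ) ≠ 0 := Nat.cast_ne_zero.2 Nat.card_pos.ne'
  have hdecomp : ∀ θ : IrrCharacter K, ∑ θ' : IrrCharacter K, charDegree θ'.1 * m θ θ' =
      Nat.card K * (e * charDegree θ.1) := by
    intro θ
    apply Nat.cast_injective (R := ℂ)
    set φ := indFun K θ.1 with hφ
    have hcl : IsClassFunction L φ :=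
      Char.IsCharacter.isClassFunction (Char.isCharacter_indFun K (Char.irr_isCharacter θ))
    have hclK : IsClassFunction K fun x : K => φ x := fun x y => by
      simpa using hcl (x : L) (y : L)
    have h1 := congrFun (Char.eq_sum_classInner_smul hclK) 1
    simp only [Finset.sum_apply, Pi.smul_apply, smul_eq_mul, OneMemClass.coe_one] at h1
    have h2 : ∀ θ' : IrrCharacter K, classInner φ (indFun K θ'.1) =
        classInner (fun x : K => φ x) θ'.1 := fun θ' => by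
      rw [← Char.conj_classInner, Char.classInner_indFun K θ'.1 hcl, Char.conj_classInner]
    push_cast
    rw [sum_congr rfl (g := fun θ' => (Nat.card K : ℂ) *
      (classInner (fun x : K => φ x) θ'.1 * θ'.1 1)) fun θ' _ => by
        rw [← hm, h2, Char.charDegree_cast]; ring, ← mul_sum, ← h1, hφ, Char.indFun_apply_one,
      ← Char.charDegree_cast]
  set M := (Yf.erase η).card with hM
  have hM1 : 1 ≤ M := card_pos.2 ⟨η', mem_erase.2 ⟨hne, (hmemY _).2 hη'⟩⟩
  have hYsum : ∀ f : (L → ℂ) → ℤ, ∀ A B : ℤ, (∀ φ ∈ Y, f φ = if φ = η then A else B) →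
      ∑ φ ∈ Yf, ((f φ : ℝ) ^ 2 / ((1 : ℕ) : ℝ)) = (A : ℝ) ^ 2 + M * (B : ℝ) ^ 2 := by
    intro f A B hf
    rw [← add_sum_erase _ _ ((hmemY η).2 hη), hf η hη, if_pos rfl,
      sum_congr rfl (g := fun _ => (B : ℝ) ^ 2) fun φ hφ => by
        rw [hf φ ((hmemY φ).1 (mem_erase.1 hφ).2), if_neg (mem_erase.1 hφ).1]; simp,
      sum_const, nsmul_eq_mul]
    simp [hM]
  -- one member
  have hbessel : ∀ θ ∈ P, ∃ n : ℕ, classInner (indFun K θ.1) (indFun K θ.1) = n ∧
      n ≤ 2 * charDegree θ.1 + 1 ∧ n < charDegree θ.1 ^ 2 ∧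
      classInner (T θ) (T θ) = ((n : ℤ) + r θ ^ 2 : ℤ) ∧ 0 ≤ c θ + r θ ∧
      (M : ℤ) * (c θ + r θ) ^ 2 + c θ ^ 2 ≤ n + r θ ^ 2 := by
    intro θ hθ
    obtain ⟨n, hn1, hn2, hn3⟩ := hn θ (mem_filter.1 hθ).2
    have hT : classInner (T θ) (T θ) = (((n : ℤ) + r θ ^ 2 : ℤ) : ℂ) := by
      refine mul_left_cancel₀ hkne ?_
      rw [hTT θ hθ θ hθ, Nat.cast_add, ← hm, hn1]
      simp only [r]
      push_cast; ring
    have h := bessel_int Yf σ (fun _ => 1) (fun _ _ => Nat.one_pos)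
      (fun i hi j hj => by
        rw [hYo i ((hmemY i).1 hi) j ((hmemY j).1 hj), Nat.cast_one])
      (T θ) _ hT (fun φ => if φ = η then c θ else c θ + r θ) (fun φ hφ => by
        rw [hTY θ hθ φ ((hmemY φ).1 hφ)]; split_ifs <;> rfl)
    rw [hYsum _ (c θ) (c θ + r θ) fun φ _ => rfl] at h
    have h' : c θ ^ 2 + (M : ℤ) * (c θ + r θ) ^ 2 ≤ (n : ℤ) + r θ ^ 2 := by exact_mod_cast h
    refine ⟨n, hn1, hn2, hn3, hT, ?_, by linarith⟩
    by_contra hx
    have hn2' : (n : ℤ) ≤ 2 * r θ + 1 := by simp only [r]; exact_mod_cast hn2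
    have hM' : (1 : ℤ) ≤ M := by exact_mod_cast hM1
    have hr : 0 ≤ r θ := Int.natCast_nonneg _
    have hx' : c θ + r θ ≤ -1 := by omega
    nlinarith [mul_le_mul_of_nonneg_right hM' (sq_nonneg (c θ + r θ))]
  -- a fibre
  have hfib : ∀ θ₀ ∈ P, (∀ θ ∈ centralFiber Zc θ₀, c θ + r θ = 0) ∨
      (M = 1 ∧ ∀ θ ∈ centralFiber Zc θ₀, c θ = 0) := by
    intro θ₀ hθ₀
    set F := centralFiber Zc θ₀ with hF
    have hFP : ∀ θ ∈ F, θ ∈ P := by
      intro θ hθ
      obtain ⟨w, hw, hne⟩ := (mem_filter.1 hθ₀).2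
      refine mem_filter.2 ⟨mem_univ _, w, hw, fun h => hne ?_⟩
      have := (mem_centralFiber Zc).1 hθ w hw
      rw [h, mul_comm (θ₀.1 w)] at this
      exact (mul_left_cancel₀ (Char.IsIrrCharacter.apply_one_ne_zero θ.2) this).symm
    have hFa : ∑ θ ∈ F, r θ ^ 2 = (a : ℤ) := by
      have h := centralFiber_sum_sq Zc hZc' θ₀
      rw [hcardZ, hza, Nat.cast_mul] at h
      have h' := mul_left_cancel₀ (Nat.cast_ne_zero.2 Nat.card_pos.ne') h
      simp only [r]
      apply Int.cast_injective (α := ℂ)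
      push_cast
      rw [← h']
      exact sum_congr rfl fun θ _ => by rw [Char.charDegree_cast]
    obtain ⟨t, ht⟩ := hcong σ hσ hσA η hη θ₀ (mem_filter.1 hθ₀).2
    rw [← hF, sum_congr rfl (g := fun θ => ((r θ * c θ : ℤ) : ℂ)) fun θ hθ => by
      rw [hc θ (hFP θ hθ), ← Char.charDegree_cast]; simp only [r]; push_cast; rfl, hza] at ht
    have hzne : (Nat.card Z : ℤ) ≠ 0 := Int.natCast_ne_zero.2 Nat.card_pos.ne'
    have hsumc : ∑ θ ∈ F, r θ * c θ = (a : ℤ) * t := by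
      refine mul_left_cancel₀ hzne ?_
      rw [← mul_assoc]
      apply Int.cast_injective (α := ℂ)
      push_cast at ht ⊢
      exact ht
    have hsumx : ∑ θ ∈ F, r θ * (c θ + r θ) = (a : ℤ) * (t + 1) := by
      rw [sum_congr rfl fun θ _ => mul_add (r θ) (c θ) (r θ), sum_add_distrib, hsumc, mul_add, mul_one,
        ← hFa]
      exact congrArg _ (sum_congr rfl fun θ _ => (sq (r θ)).symm)
    set A : G → ℂ := ∑ θ ∈ F, (r θ : ℂ) • T θ with hA
    set NA := ∑ θ ∈ F, ∑ θ' ∈ F, charDegree θ.1 * charDegree θ'.1 *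
      (m θ θ' + Nat.card K * (charDegree θ.1 * charDegree θ'.1)) with hNA
    have hAA : (Nat.card K : ℂ) * classInner A A = (NA : ℂ) := by
      simp only [hA, Char.classInner_sum_left, Char.classInner_sum_right, mul_sum, hNA, Nat.cast_sum]
      rw [Finset.sum_comm]
      refine sum_congr rfl fun θ hθ => sum_congr rfl fun θ' hθ' => ?_
      rw [Char.classInner_smul_left, Char.classInner_smul_right, map_intCast, Nat.cast_mul,
        ← hTT θ (hFP θ hθ) θ' (hFP θ' hθ')]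
      simp only [r]
      push_cast; ring
    obtain ⟨N, hN⟩ : ∃ N : ℤ, classInner A A = N :=
      Char.IsGeneralizedCharacter.exists_int_classInner
        (Char.IsGeneralizedCharacter.sum _ fun θ hθ =>
          Char.IsGeneralizedCharacter.intCast_smul (hS.isometry.2.2.2 _ (hTmem θ (hFP θ hθ))) _)
        (Char.IsGeneralizedCharacter.sum _ fun θ hθ =>
          Char.IsGeneralizedCharacter.intCast_smul (hS.isometry.2.2.2 _ (hTmem θ (hFP θ hθ))) _)
    have hNle : N ≤ (e : ℤ) * a + (a : ℤ) ^ 2 := by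
      have h1 : (Nat.card K : ℤ) * N = (NA : ℤ) := by
        apply Int.cast_injective (α := ℂ)
        push_cast
        rw [← hN]; exact hAA
      have h2 : NA ≤ Nat.card K * (e * a + a ^ 2) := by
        have ha' : ∑ θ ∈ F, charDegree θ.1 ^ 2 = a := by
          have := hFa
          simp only [r] at this
          exact_mod_cast this
        have e1 : NA = ∑ θ ∈ F, charDegree θ.1 * ∑ θ' ∈ F, charDegree θ'.1 * m θ θ' +
            Nat.card K * a ^ 2 := by
          rw [hNA, ← ha', sq (∑ θ ∈ F, charDegree θ.1 ^ 2), Finset.sum_mul_sum, mul_sum,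
            ← sum_add_distrib]
          refine sum_congr rfl fun θ _ => ?_
          rw [mul_sum, mul_sum, ← sum_add_distrib]
          exact sum_congr rfl fun θ' _ => by ring
        rw [e1, mul_add]
        refine Nat.add_le_add_right ?_ _
        rw [← ha', mul_sum, mul_sum]
        refine sum_le_sum fun θ _ => ?_
        calc charDegree θ.1 * ∑ θ' ∈ F, charDegree θ'.1 * m θ θ'
            ≤ charDegree θ.1 * (Nat.card K * (e * charDegree θ.1)) :=
              Nat.mul_le_mul_left _ (hdecomp θ ▸ sum_le_sum_of_subset (subset_univ F))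
          _ = _ := by ring
      have h3 : (NA : ℤ) ≤ (Nat.card K : ℤ) * ((e : ℤ) * a + (a : ℤ) ^ 2) := by exact_mod_cast h2
      rw [← h1] at h3
      exact le_of_mul_le_mul_left h3 (by exact_mod_cast Nat.card_pos)
    have h := bessel_int Yf σ (fun _ => 1) (fun _ _ => Nat.one_pos)
      (fun i hi j hj => by
        rw [hYo i ((hmemY i).1 hi) j ((hmemY j).1 hj), Nat.cast_one])
      A N hN (fun φ => if φ = η then (a : ℤ) * t else (a : ℤ) * (t + 1)) (fun φ hφ => by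
        rw [hA, Char.classInner_sum_left, sum_congr rfl fun θ hθ => by
          rw [Char.classInner_smul_left, hTY θ (hFP θ hθ) φ ((hmemY φ).1 hφ)]]
        by_cases h : φ = η
        · simp only [if_pos h]; rw [← hsumc]; push_cast; rfl
        · simp only [if_neg h]; rw [← hsumx]; push_cast; rfl)
    rw [hYsum _ ((a : ℤ) * t) ((a : ℤ) * (t + 1)) fun φ _ => rfl] at h
    have h' : ((a : ℤ) * t) ^ 2 + (M : ℤ) * ((a : ℤ) * (t + 1)) ^ 2 ≤ N := by exact_mod_cast h
    have hea : (e : ℤ) < a := by exact_mod_cast hsmall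
    have ha0 : (0 : ℤ) < a := lt_of_le_of_lt (Int.natCast_nonneg _) hea
    have hM' : (1 : ℤ) ≤ M := by exact_mod_cast hM1
    have hquad : (M : ℤ) * (t + 1) ^ 2 + t ^ 2 ≤ 1 := by
      by_contra hcon
      have h2 : (a : ℤ) ^ 2 * 2 ≤ (a : ℤ) ^ 2 * ((M : ℤ) * (t + 1) ^ 2 + t ^ 2) :=
        mul_le_mul_of_nonneg_left (by omega) (sq_nonneg _)
      nlinarith
    have ht : t = -1 ∨ (t = 0 ∧ (M : ℤ) = 1) := by
      have h1 : (t + 1) ^ 2 ≤ (M : ℤ) * (t + 1) ^ 2 := le_mul_of_one_le_left (sq_nonneg _) hM'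
      have h2 : -1 ≤ t ∧ t ≤ 1 := by constructor <;> nlinarith
      rcases (show t = -1 ∨ t = 0 ∨ t = 1 by omega) with rfl | rfl | rfl
      · exact Or.inl rfl
      · exact Or.inr ⟨rfl, by omega⟩
      · nlinarith
    rcases ht with rfl | ⟨rfl, hM2⟩
    · refine Or.inl fun θ hθ => ?_
      have h0 : ∑ θ ∈ F, r θ * (c θ + r θ) = 0 := by rw [hsumx]; ring
      obtain ⟨n, -, -, -, -, hx, -⟩ := hbessel θ (hFP θ hθ)
      have := (sum_eq_zero_iff_of_nonneg fun θ' hθ' => mul_nonneg (Int.natCast_nonneg _)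
        (hbessel θ' (hFP θ' hθ')).choose_spec.2.2.2.2.1).1 h0 θ hθ
      exact (mul_eq_zero.1 this).resolve_left (Int.natCast_ne_zero.2 (Char.charDegree_pos θ).ne')
    · refine Or.inr ⟨by exact_mod_cast hM2, ?_⟩
      have hle : ∀ θ ∈ F, c θ ≤ 0 := by
        intro θ hθ
        obtain ⟨n, -, hn2, -, -, hx, hb⟩ := hbessel θ (hFP θ hθ)
        have hn2' : (n : ℤ) ≤ 2 * r θ + 1 := by simp only [r]; exact_mod_cast hn2
        rw [hM2, one_mul] at hb
        have hr : 0 ≤ r θ := Int.natCast_nonneg _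
        by_contra hc1
        have : (1 : ℤ) ≤ c θ := by omega
        nlinarith
      intro θ hθ
      have h0 : ∑ θ ∈ F, -(r θ * c θ) = 0 := by rw [sum_neg_distrib, hsumc]; ring
      have := (sum_eq_zero_iff_of_nonneg fun θ' hθ' => neg_nonneg.2
        (mul_nonpos_of_nonneg_of_nonpos (Int.natCast_nonneg _) (hle θ' hθ'))).1 h0 θ hθ
      exact (mul_eq_zero.1 (neg_eq_zero.1 this)).resolve_left
        (Int.natCast_ne_zero.2 (Char.charDegree_pos θ).ne')
  by_cases hall : ∀ θ ∈ P, c θ + r θ = 0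
  · refine ⟨σ, η, hσ, hσA, hη, fun θ hθ => ?_⟩
    have hθP : θ ∈ P := mem_filter.2 ⟨mem_univ _, hθ⟩
    rw [hc θ hθP, show c θ = -r θ by have := hall θ hθP; omega]
    simp [r]
  push Not at hall
  obtain ⟨θ₁, hθ₁, hx1⟩ := hall
  rcases hfib θ₁ hθ₁ with h | ⟨hM2, hc1⟩
  · exact absurd (h θ₁ (self_mem_centralFiber Zc θ₁)) hx1
  have hc1 := hc1 θ₁ (self_mem_centralFiber Zc θ₁)
  have herase : Yf.erase η = {η'} := by
    obtain ⟨b, hb⟩ := card_eq_one.1 (hM ▸ hM2)
    have := (hb ▸ mem_erase.2 ⟨hne, (hmemY _).2 hη'⟩ : η' ∈ ({b} : Finset (L → ℂ)))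
    rw [hb, mem_singleton.1 this]
  have hzero : ∀ θ ∈ P, c θ = 0 := by
    intro θ hθ
    rcases hfib θ hθ with h | ⟨-, h⟩
    swap
    · exact h θ (self_mem_centralFiber Zc θ)
    exfalso
    have hcθ := h θ (self_mem_centralFiber Zc θ)
    obtain ⟨n₀, hn0, -, hlt0, hT0, -, -⟩ := hbessel θ hθ
    obtain ⟨n₁, hn1, -, hlt1, hT1, -, -⟩ := hbessel θ₁ hθ₁
    set A₀ := T θ + (r θ : ℂ) • σ η with hA₀
    set A₁ := T θ₁ - (r θ₁ : ℂ) • σ η' with hA₁
    have e0 : classInner (T θ) (σ η) = -(r θ : ℂ) := by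
      rw [hc θ hθ, show c θ = -r θ by omega, Int.cast_neg]
    have e0' : classInner (T θ) (σ η') = 0 := by
      rw [hTY θ hθ η' hη', if_neg hne, hcθ, Int.cast_zero]
    have e1 : classInner (T θ₁) (σ η) = 0 := by rw [hc θ₁ hθ₁, hc1, Int.cast_zero]
    have e1' : classInner (T θ₁) (σ η') = (r θ₁ : ℂ) := by
      rw [hTY θ₁ hθ₁ η' hη', if_neg hne, hc1, zero_add]
    have o1 := hYo η hη η hη
    have o2 := hYo η' hη' η' hη'
    have o3 := hYo η hη η' hη'
    rw [if_pos rfl] at o1 o2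
    rw [if_neg (Ne.symm hne)] at o3
    have hne01 : indFun K θ.1 ≠ indFun K θ₁.1 := by
      intro e
      have hd : r θ = r θ₁ := by
        have h1 := congrFun e 1
        rw [Char.indFun_apply_one, Char.indFun_apply_one, ← Char.charDegree_cast, ← Char.charDegree_cast]
          at h1
        have := mul_left_cancel₀ (Nat.cast_ne_zero.2 Subgroup.index_ne_zero_of_finite) h1
        simp only [r]
        exact_mod_cast this
      have hT : T θ = T θ₁ := by
        show τ (indFun K θ.1 - r θ • η) = τ (indFun K θ₁.1 - r θ₁ • η)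
        rw [e, hd]
      rw [hT, e1] at e0
      have : r θ = 0 := by exact_mod_cast (neg_eq_zero.1 e0.symm)
      exact (Char.charDegree_pos θ).ne' (by simpa [r] using this)
    have e01 : classInner (T θ) (T θ₁) = (r θ : ℂ) * (r θ₁ : ℂ) := by
      obtain ⟨hA, hA1, -⟩ := sub_mem_of_nonTriv K hZK hS (mem_filter.1 hθ).2 hη
      obtain ⟨hB, -, hB2⟩ := sub_mem_of_nonTriv K hZK hS (mem_filter.1 hθ₁).2 hη
      simp only [T, r]
      rw [hS.isometry.2.2.1 _ hA _ hB]
      simp only [Char.classInner_sub_left, Char.classInner_sub_right, Char.classInner_zsmul_left,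
        Char.classInner_zsmul_right, hA1, hB2, hY1 η hη, hS.orthogonal _
          (nonTriv_facts K hZK (mem_filter.1 hθ).2).1 _ (nonTriv_facts K hZK (mem_filter.1 hθ₁).2).1
          hne01]
      push_cast; ring
    have g00 : classInner A₀ A₀ = (n₀ : ℂ) := by
      simp only [hA₀, Char.classInner_add_left, Char.classInner_add_right, Char.classInner_smul_left,
        Char.classInner_smul_right, hT0, e0, ← Char.conj_classInner (T θ) (σ η), map_neg, map_intCast, o1]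
      push_cast; ring
    have g11 : classInner A₁ A₁ = (n₁ : ℂ) := by
      simp only [hA₁, Char.classInner_sub_left, Char.classInner_sub_right, Char.classInner_smul_left,
        Char.classInner_smul_right, hT1, e1', ← Char.conj_classInner (T θ₁) (σ η'), map_intCast, o2]
      push_cast; ring
    have g01 : classInner A₀ A₁ = (r θ : ℂ) * (r θ₁ : ℂ) := by
      simp only [hA₀, hA₁, Char.classInner_add_left, Char.classInner_sub_right,
        Char.classInner_smul_left, Char.classInner_smul_right, e01, e0',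
        ← Char.conj_classInner (T θ₁) (σ η), e1, map_zero, map_intCast, o3]
      ring
    set s : ℤ := r θ * r θ₁ with hs
    set Wv := (n₁ : ℂ) • A₀ - (s : ℂ) • A₁ with hW
    have hWW : classInner Wv Wv = (((n₁ : ℤ) * ((n₀ : ℤ) * n₁ - s ^ 2) : ℤ) : ℂ) := by
      simp only [hW, Char.classInner_sub_left, Char.classInner_sub_right, Char.classInner_smul_left,
        Char.classInner_smul_right, g00, g11, g01, ← Char.conj_classInner A₀ A₁, map_mul, map_intCast,
        Complex.conj_natCast, hs]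
      push_cast; ring
    have hre := classInner_self_re_nonneg Wv
    rw [hWW, Complex.intCast_re] at hre
    have hre' : (0 : ℤ) ≤ (n₁ : ℤ) * ((n₀ : ℤ) * n₁ - s ^ 2) := by exact_mod_cast hre
    have l0 : (n₀ : ℤ) < r θ ^ 2 := by simp only [r]; exact_mod_cast hlt0
    have l1 : (n₁ : ℤ) < r θ₁ ^ 2 := by simp only [r]; exact_mod_cast hlt1
    have hn1pos : 0 < n₁ := by
      obtain ⟨q, hq0, hq⟩ := system_exists_norm hS (nonTriv_facts K hZK (mem_filter.1 hθ₁).2).1
      rw [hn1] at hq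
      have : n₁ = q := by exact_mod_cast hq
      omega
    have h2 : (n₀ : ℤ) * n₁ < r θ ^ 2 * r θ₁ ^ 2 :=
      mul_lt_mul'' l0 l1 (Int.natCast_nonneg _) (Int.natCast_nonneg _)
    have h3 : (n₁ : ℤ) * ((n₀ : ℤ) * n₁ - s ^ 2) < 0 :=
      mul_neg_of_pos_of_neg (by exact_mod_cast hn1pos) (by rw [hs, mul_pow]; omega)
    omega
  -- exchange the two members
  set g : (L → ℂ) → (G → ℂ) := fun φ => if φ = η then -σ η' else -σ η with hg
  have hgη : g η = -σ η' := if_pos rfl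
  have hgη' : g η' = -σ η := if_neg hne
  have hY2 : ∀ φ ∈ Y, φ = η ∨ φ = η' := fun φ hφ => by
    by_cases h : φ = η
    · exact Or.inl h
    · have := mem_erase.2 ⟨h, (hmemY φ).2 hφ⟩
      rw [herase, mem_singleton] at this
      exact Or.inr this
  obtain ⟨σ', hσ', hσ'v⟩ := exists_isometry_of_images Yf (fun _ => 1) (fun _ _ => Nat.one_pos)
    (fun φ hφ ψ hψ => by
      split_ifs with h
      · rw [h, hY1 ψ ((hmemY ψ).1 hψ), Nat.cast_one]
      · exact hS.orthogonal φ (hYS ((hmemY φ).1 hφ)) ψ (hYS ((hmemY ψ).1 hψ)) h)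
    g
    (fun φ _ => by
      simp only [hg]
      split_ifs
      · exact Char.IsGeneralizedCharacter.neg (hσ.2.2.2 _ (hmY η' hη'))
      · exact Char.IsGeneralizedCharacter.neg (hσ.2.2.2 _ (hmY η hη)))
    (fun φ hφ ψ hψ => by
      rcases hY2 φ ((hmemY φ).1 hφ) with rfl | rfl <;> rcases hY2 ψ ((hmemY ψ).1 hψ) with rfl | rfl <;>
        simp only [hgη, hgη', Char.classInner_neg_left, Char.classInner_neg_right, neg_neg]
      · rw [hYo η' hη' η' hη', if_pos rfl, hY1 _ hη]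
      · rw [hYo η' hη' φ hη, if_neg hne, hS.orthogonal φ (hYS hη) η' (hYS hη') hne.symm]
      · rw [hYo ψ hη η' hη', if_neg hne.symm, hS.orthogonal η' (hYS hη') ψ (hYS hη) hne]
      · rw [hYo η hη η hη, if_pos rfl, hY1 _ hη'])
  rw [show (↑Yf : Set (L → ℂ)) = Y from Set.Finite.coe_toFinset _] at hσ'
  refine ⟨σ', η, hσ', fun α hα => ?_, hη, fun θ hθ => ?_⟩
  · have hYpair : Y = {η, η'} := Set.Subset.antisymm (fun φ hφ => hY2 φ hφ) (by
      rintro φ (rfl | rfl) <;> assumption)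
    have hα1 : α ∈ Submodule.span ℤ ({η, η'} : Set (L → ℂ)) := hYpair ▸ hα.1
    obtain ⟨i, j, rfl⟩ := Submodule.mem_span_pair.1 hα1
    have h1 := (Char.mem_zspanOn_compl_one.1 hα).2
    have he := linearFamily_apply_one K hη
    have he' := linearFamily_apply_one K hη'
    have hij : ((i + j : ℤ) : ℂ) * (K.index : ℂ) = 0 := by
      simp [he, he'] at h1
      push_cast
      linear_combination h1
    rw [mul_eq_zero, or_iff_left (Nat.cast_ne_zero.2 Subgroup.index_ne_zero_of_finite)] at hij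
    have hji : j = -i := by
      have : i + j = 0 := by exact_mod_cast hij
      omega
    subst hji
    rw [← hσA _ hα, hσ'.1 _ (Submodule.smul_mem _ _ (hmY η hη)) _
        (Submodule.smul_mem _ _ (hmY η' hη')), hσ.1 _ (Submodule.smul_mem _ _ (hmY η hη)) _
        (Submodule.smul_mem _ _ (hmY η' hη')), hσ'.2.1 _ (hmY η hη), hσ'.2.1 _ (hmY η' hη'),
      hσ.2.1 _ (hmY η hη), hσ.2.1 _ (hmY η' hη'), hσ'v η ((hmemY η).2 hη),
      hσ'v η' ((hmemY η').2 hη'), hgη, hgη']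
    simp only [smul_neg, neg_smul, neg_neg]
    abel
  · have hθP : θ ∈ P := mem_filter.2 ⟨mem_univ _, hθ⟩
    rw [hσ'v η ((hmemY η).2 hη), hgη, Char.classInner_neg_right,
      show τ (indFun K θ.1 - (charDegree θ.1 : ℤ) • η) = T θ from rfl, hTY θ hθP η' hη', if_neg hne,
      hzero θ hθP, zero_add]
    simp [r]

end Cfsg.Agent.OddOrder
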