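import Cfsg.Agent.Lib.OddOrder.Coherence
import Cfsg.Agent.Lib.Char.Clifford
import Cfsg.Agent.Lib.Char.InducedEq
import Cfsg.Agent.Lib.Char.KernelSum
import Cfsg.Agent.Lib.Char.Linear
import Cfsg.Agent.Lib.Char.NormalInduction
import Cfsg.Agent.Lib.CharInt.Basic
import Cfsg.Agent.Lib.CharInt.Central

set_option autoImplicit false
set_option linter.unusedSectionVars false

/-!
Coherence of characters induced from a normal subgroup: norms and degrees on `inducedIrrAbove`,
extension of a coherent subset to a larger one (Peterfalvi (6.2), (6.3)).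
-/

namespace Cfsg.Agent.OddOrder

open scoped ComplexConjugate
open Finset

universe u v

section Subset

variable {L : Type u} [Group L] [Fintype L] {G : Type v} [Group G] [Fintype G]
variable {S : Set (L → ℂ)} {τ : (L → ℂ) → (G → ℂ)} {R : (L → ℂ) → Finset (G → ℂ)}

theorem system_natural (hS : IsCoherenceSystem S τ R) :
    ∃ d n : (L → ℂ) → ℕ, (∀ φ ∈ S, φ 1 = (d φ : ℂ)) ∧ ∀ φ ∈ S, classInner φ φ = (n φ : ℂ) := by
  classical
  have h1 : ∀ φ, ∃ m : ℕ, φ ∈ S → φ 1 = (m : ℂ) := fun φ => by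
    by_cases h : φ ∈ S
    · obtain ⟨m, hm⟩ := Char.IsCharacter.apply_one (hS.isCharacter φ h); exact ⟨m, fun _ => hm⟩
    · exact ⟨0, fun h' => absurd h' h⟩
  have h2 : ∀ φ, ∃ m : ℕ, φ ∈ S → classInner φ φ = (m : ℂ) := fun φ => by
    by_cases h : φ ∈ S
    · obtain ⟨m, -, hm⟩ := system_exists_norm hS h; exact ⟨m, fun _ => hm⟩
    · exact ⟨0, fun h' => absurd h' h⟩
  choose d hd using h1
  choose n hn using h2
  exact ⟨d, n, hd, hn⟩

/-- Coherence passes to conjugation-closed non-empty subsets. -/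
theorem isCoherent_subset (hS : IsCoherenceSystem S τ R) {U V : Set (L → ℂ)} (hVU : V ⊆ U)
    (hVS : V ⊆ S) {χ : L → ℂ} (hχ : χ ∈ V) (hχc : conjFun χ ∈ V) (h : IsCoherent U {1}ᶜ τ) :
    IsCoherent V {1}ᶜ τ := by
  obtain ⟨-, σ, hσ, hσA⟩ := h
  have hmono : Cfsg.zspan V ⊆ Cfsg.zspan U := fun x hx => Submodule.span_mono hVU hx
  refine ⟨⟨χ - conjFun χ, Char.mem_zspanOn_compl_one.2 ⟨Submodule.sub_mem _ (Submodule.subset_span hχ)
    (Submodule.subset_span hχc), ?_⟩, sub_ne_zero.2 (Ne.symm (hS.conj_ne χ (hVS hχ)))⟩, σ,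
    ⟨fun a ha b hb => hσ.1 a (hmono ha) b (hmono hb), fun a ha => hσ.2.1 a (hmono ha),
      fun a ha b hb => hσ.2.2.1 a (hmono ha) b (hmono hb), fun a ha => hσ.2.2.2 a (hmono ha)⟩,
    fun a ha => hσA a ⟨hmono ha.1, ha.2⟩⟩
  rw [Pi.sub_apply, conjFun_apply_one hS (hVS hχ), sub_self]

/-- A coherent set extends to every larger set whose members satisfy the inequality of (5.6)
against it. -/
theorem isCoherent_of_ineq (hS : IsCoherenceSystem S τ R) (d n : (L → ℂ) → ℕ)
    (hd : ∀ φ ∈ S, φ 1 = (d φ : ℂ)) (hn : ∀ φ ∈ S, classInner φ φ = (n φ : ℂ))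
    (S₀ : Finset (L → ℂ)) (U : Set (L → ℂ)) (hU : U ⊆ S) (h₀U : ↑S₀ ⊆ U)
    (hS₀c : ∀ φ ∈ S₀, conjFun φ ∈ S₀) (hUc : ∀ φ ∈ U, conjFun φ ∈ U)
    (hcoh : IsCoherent (↑S₀ : Set (L → ℂ)) {1}ᶜ τ)
    (hineq : ∀ χ ∈ U, χ ∉ S₀ → ∃ χ₁ ∈ S₀, d χ₁ ∣ d χ ∧
      (2 * d χ * d χ₁ : ℝ) < ∑ φ ∈ S₀, ((d φ : ℝ) ^ 2 / (n φ : ℝ))) :
    IsCoherent U {1}ᶜ τ := by
  classical
  have hfin : U.Finite := (system_finite hS).subset hU
  set Q : Finset (Finset (L → ℂ)) := hfin.toFinset.powerset.filter fun T =>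
    S₀ ⊆ T ∧ (∀ φ ∈ T, conjFun φ ∈ T) ∧ IsCoherent (↑T : Set (L → ℂ)) {1}ᶜ τ with hQ
  have hQne : Q.Nonempty := ⟨S₀, mem_filter.2 ⟨mem_powerset.2 fun φ hφ => hfin.mem_toFinset.2 (h₀U hφ),
    subset_refl _, hS₀c, hcoh⟩⟩
  obtain ⟨T, hT, hmax⟩ := Q.exists_max_image Finset.card hQne
  obtain ⟨hTU, h0T, hTc, hTcoh⟩ := mem_filter.1 hT
  have hTU' : ↑T ⊆ U := fun φ hφ => hfin.mem_toFinset.1 (mem_powerset.1 hTU hφ)
  suffices h : ∀ χ ∈ U, χ ∈ T by
    rwa [show U = ↑T from Set.Subset.antisymm (fun φ hφ => h φ hφ) hTU']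
  intro χ hχ
  by_contra hχT
  have hχT' : conjFun χ ∉ T := fun h => hχT (conjFun_conjFun χ ▸ hTc _ h)
  obtain ⟨χ₁, hχ₁, hdvd, hlt⟩ := hineq χ hχ fun h => hχT (h0T h)
  have hext := isCoherent_extend hS d n hd hn T (fun φ hφ => hU (hTU' hφ)) hTc hTcoh (hU hχ) hχT hχT'
    (h0T hχ₁) hdvd (lt_of_lt_of_le hlt
      (sum_le_sum_of_subset_of_nonneg h0T fun φ _ _ => div_nonneg (sq_nonneg _) (Nat.cast_nonneg _)))
  have hins : (↑T ∪ {χ, conjFun χ} : Set (L → ℂ)) = ↑(insert χ (insert (conjFun χ) T)) := by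
    push_cast; ext; simp
  rw [hins] at hext
  have := hmax (insert χ (insert (conjFun χ) T)) (mem_filter.2 ⟨mem_powerset.2 ?_, ?_, ?_, hext⟩)
  · have hlt' : T.card < (insert χ (insert (conjFun χ) T)).card :=
      card_lt_card ⟨fun φ hφ => mem_insert_of_mem (mem_insert_of_mem hφ),
        fun h => hχT (h (mem_insert_self χ _))⟩
    omega
  · intro φ hφ
    rcases mem_insert.1 hφ with rfl | hφ
    · exact hfin.mem_toFinset.2 hχ
    rcases mem_insert.1 hφ with rfl | hφ
    · exact hfin.mem_toFinset.2 (hUc χ hχ)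
    · exact mem_powerset.1 hTU hφ
  · exact fun φ hφ => mem_insert_of_mem (mem_insert_of_mem (h0T hφ))
  · intro φ hφ
    rcases mem_insert.1 hφ with rfl | hφ
    · exact mem_insert_of_mem (mem_insert_self _ _)
    rcases mem_insert.1 hφ with rfl | hφ
    · rw [conjFun_conjFun]; exact mem_insert_self _ _
    · exact mem_insert_of_mem (mem_insert_of_mem (hTc φ hφ))

end Subset

section Degree

/-- A constituent of the restriction of a character trivial on `B` is trivial on `B`. -/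
theorem constituent_trivOn {K : Type u} [Group K] [Fintype K] (C : Subgroup K) [Fintype C]
    (θ : IrrCharacter K) (η : IrrCharacter C) (hη : classInner η.1 (fun x : C => θ.1 x) ≠ 0) {b : C}
    (hb : θ.1 b = θ.1 1) : η.1 b = η.1 1 := by
  classical
  obtain ⟨m, hm, hm'⟩ := Char.IsCharacter.exists_decomp (Char.IsCharacter.restrict (Char.irr_isCharacter θ) C)
  have hmη : m η ≠ 0 := fun h0 => hη (by rw [← Char.conj_classInner, hm', h0, Nat.cast_zero, map_zero])
  have hterm : ∀ ψ : IrrCharacter C, 0 ≤ (m ψ : ℝ) * ((ψ.1 1).re - (ψ.1 b).re) := fun ψ => by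
    refine mul_nonneg (Nat.cast_nonneg _) (sub_nonneg.2 ?_)
    refine (Complex.re_le_norm _).trans ((CharInt.norm_char_le (Char.irr_isCharacter ψ) b).trans_eq ?_)
    rw [← Char.charDegree_cast, Complex.norm_natCast, Complex.natCast_re]
  have hsum : ∑ ψ : IrrCharacter C, (m ψ : ℝ) * ((ψ.1 1).re - (ψ.1 b).re) = 0 := by
    have e1 := congrArg Complex.re (congrFun hm 1)
    have e2 := congrArg Complex.re (congrFun hm b)
    simp only [Finset.sum_apply, Pi.smul_apply, smul_eq_mul, Complex.re_sum, Complex.mul_re,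
      Complex.natCast_re, Complex.natCast_im, zero_mul, sub_zero] at e1 e2
    simp only [mul_sub, sum_sub_distrib, ← e1, ← e2]
    rw [sub_eq_zero]
    exact congrArg Complex.re hb.symm
  have h0 := (sum_eq_zero_iff_of_nonneg fun ψ _ => hterm ψ).1 hsum η (mem_univ η)
  rw [mul_eq_zero, or_iff_right (Nat.cast_ne_zero.2 hmη), sub_eq_zero] at h0
  rw [← Char.charDegree_cast, Complex.natCast_re] at h0
  have hle := CharInt.norm_char_le (Char.irr_isCharacter η) b
  rw [← Char.charDegree_cast, Complex.norm_natCast] at hle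
  have him : (η.1 b).im = 0 := by
    have h2 : ‖η.1 b‖ ^ 2 = (η.1 b).re ^ 2 + (η.1 b).im ^ 2 := by
      rw [Complex.sq_norm, Complex.normSq_apply]; ring
    have h3 : ‖η.1 b‖ ^ 2 ≤ (charDegree η.1 : ℝ) ^ 2 := pow_le_pow_left₀ (norm_nonneg _) hle 2
    rw [← h0] at h2
    have h4 : (η.1 b).im ^ 2 ≤ 0 := by linarith
    exact pow_eq_zero_iff (n := 2) (by norm_num) |>.1 (le_antisymm h4 (sq_nonneg _))
  rw [← Char.charDegree_cast]
  exact Complex.ext (by simp [← h0]) (by simp [him])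

/-- If `D` is central modulo the kernel, the squared degree is at most its index. -/
theorem degree_sq_le_index {C : Type u} [Group C] [Fintype C] (η : IrrCharacter C) (D : Subgroup C)
    (h : ∀ x ∈ D, ∀ y : C, η.1 (x * y * x⁻¹ * y⁻¹) = η.1 1) : charDegree η.1 ^ 2 ≤ D.index := by
  classical
  obtain ⟨m, ρ, hρ, hρη⟩ := η.2
  haveI := hρ
  have hdeg : η.1 1 = (Module.finrank ℂ (Fin m → ℂ) : ℂ) := by rw [← hρη, ρ.char_one]
  have hnorm : ∀ x ∈ D, ‖η.1 x‖ = (charDegree η.1 : ℝ) := by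
    intro x hx
    obtain ⟨c, hc⟩ := CharInt.exists_eq_smul_one_of_commute ρ (ρ x) fun y => by
      have h1 : ρ (x * y * x⁻¹ * y⁻¹) = 1 :=
        (CharInt.character_eq_finrank_iff ρ _).1 (by rw [congrFun hρη _, h x hx y, hdeg])
      rw [← map_mul, ← map_mul, show x * y = x * y * x⁻¹ * y⁻¹ * (y * x) by group, map_mul, h1, one_mul]
    have h2 := (CharInt.norm_character_eq_finrank_iff ρ x).2 ⟨c, hc⟩
    rw [congrFun hρη x] at h2
    rw [h2, ← Complex.norm_natCast, ← hdeg, ← Char.charDegree_cast, Complex.norm_natCast]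
  have h1 : ∑ x : C, ‖η.1 x‖ ^ 2 = (Nat.card C : ℝ) := by
    have h := Char.classInner_irr_self η.2
    rw [Char.classInner_self] at h
    have h' : (Nat.card C : ℝ)⁻¹ * ∑ x : C, Complex.normSq (η.1 x) = 1 := by exact_mod_cast h
    rw [inv_mul_eq_iff_eq_mul₀ (Nat.cast_ne_zero.2 Nat.card_pos.ne'), mul_one] at h'
    rw [← h']
    exact sum_congr rfl fun x _ => Complex.sq_norm _
  have h2 : (Nat.card D : ℝ) * (charDegree η.1 : ℝ) ^ 2 ≤ (Nat.card C : ℝ) := by
    rw [← h1]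
    refine le_trans (le_of_eq ?_) (sum_le_univ_sum_of_nonneg (s := univ.filter (· ∈ D)) fun x => sq_nonneg _)
    rw [sum_congr rfl fun x hx => by rw [hnorm x (mem_filter.1 hx).2], sum_const, nsmul_eq_mul,
      Nat.card_eq_fintype_card, Fintype.card_subtype]
  have h3 : Nat.card D * charDegree η.1 ^ 2 ≤ Nat.card D * D.index := by
    rw [D.card_mul_index]; exact_mod_cast h2
  exact Nat.le_of_mul_le_mul_left h3 Nat.card_pos

end Degree

section Induced

variable {L : Type u} [Group L] [Fintype L] (K : Subgroup L) [K.Normal]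

theorem inducedIrrAbove_mono {A B : Subgroup L} (h : B ≤ A) :
    inducedIrrAbove K A ⊆ inducedIrrAbove K B := by
  rintro φ ⟨θ, hθ, h1, hA, rfl⟩
  exact ⟨θ, hθ, h1, fun a ha => hA a (h ha), rfl⟩

theorem inducedIrrAbove_subset_bot (A : Subgroup L) : inducedIrrAbove K A ⊆ inducedIrrAbove K ⊥ :=
  inducedIrrAbove_mono K bot_le

theorem conj_mem_inducedIrrAbove {A : Subgroup L} {φ : L → ℂ} (h : φ ∈ inducedIrrAbove K A) :
    conjFun φ ∈ inducedIrrAbove K A := by
  haveI : Fintype K := Fintype.ofFinite _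
  obtain ⟨θ, hθ, h1, hA, rfl⟩ := h
  refine ⟨fun k => conj (θ k), Char.IsIrrCharacter.conj_fun hθ, fun e => h1 ?_, fun a ha => ?_, ?_⟩
  · funext k
    have := congrArg conj (congrFun e k)
    simpa using this
  · show conj (θ a) = conj (θ 1); rw [hA a ha]
  · exact Char.conj_indFun K θ

open scoped Classical in
/-- The non-trivial characters of `K` trivial on `A`. -/
noncomputable def aboveChars (A : Subgroup L) : Finset (IrrCharacter K) :=
  haveI : Fintype (IrrCharacter K) := Fintype.ofFinite _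
  Finset.univ.filter fun θ => θ ≠ Char.trivialChar K ∧ Char.TrivOn (A.subgroupOf K) θ.1

theorem mem_aboveChars [Fintype K] {A : Subgroup L} {θ : IrrCharacter K} :
    θ ∈ aboveChars K A ↔ θ ≠ Char.trivialChar K ∧ ∀ a : K, (a : L) ∈ A → θ.1 a = θ.1 1 := by
  refine ⟨fun h => ?_, fun h => ?_⟩
  · have h' : θ ≠ Char.trivialChar K ∧ Char.TrivOn (A.subgroupOf K) θ.1 := by
      simpa [aboveChars] using h
    exact ⟨h'.1, fun a ha => h'.2 a ha⟩
  · have h' : θ ≠ Char.trivialChar K ∧ Char.TrivOn (A.subgroupOf K) θ.1 := ⟨h.1, fun a ha => h.2 a ha⟩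
    simpa [aboveChars] using h'

theorem mem_inducedIrrAbove_iff [Fintype K] {A : Subgroup L} {φ : L → ℂ} :
    φ ∈ inducedIrrAbove K A ↔ ∃ θ ∈ aboveChars K A, φ = indFun K θ.1 := by
  constructor
  · rintro ⟨θ, hθ, h1, hA, rfl⟩
    exact ⟨⟨θ, hθ⟩, (mem_aboveChars K).2 ⟨fun e => h1 (congrArg Subtype.val e), hA⟩, rfl⟩
  · rintro ⟨θ, hθ, rfl⟩
    rw [mem_aboveChars] at hθ
    exact ⟨θ.1, θ.2, fun e => hθ.1 (Subtype.ext e), hθ.2, rfl⟩

theorem conjChar_mem_aboveChars [Fintype K] {A : Subgroup L} [A.Normal] {θ : IrrCharacter K}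
    (h : θ ∈ aboveChars K A) (g : L) : Char.conjChar K θ g ∈ aboveChars K A := by
  rw [mem_aboveChars] at h ⊢
  refine ⟨fun e => h.1 ?_, fun a ha => ?_⟩
  · refine Subtype.ext ?_
    have e' : Char.conjFun K θ.1 g = (Char.trivialChar K).1 := congrArg Subtype.val e
    rw [Char.conjFun_eq_iff] at e'
    exact e'.symm.trans (funext fun k => rfl)
  · show Char.conjFun K θ.1 g a = Char.conjFun K θ.1 g 1
    rw [Char.conjFun_apply_one]
    exact h.2 _ (by simpa using (‹A.Normal›).conj_mem _ ha g)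

theorem sum_aboveChars [Fintype K] (A : Subgroup L) [A.Normal] :
    (∑ θ ∈ aboveChars K A, (θ.1 1) ^ 2 : ℂ) = (A.relIndex K : ℂ) - 1 := by
  classical
  have h := Char.sum_trivOn_degree_sq (A.subgroupOf K)
  have hmem : Char.trivialChar K ∈ univ.filter (fun χ : IrrCharacter K => Char.TrivOn (A.subgroupOf K) χ.1) :=
    mem_filter.2 ⟨mem_univ _, Char.trivOn_trivialChar _⟩
  have heq : aboveChars K A =
      (univ.filter fun χ : IrrCharacter K => Char.TrivOn (A.subgroupOf K) χ.1).erase (Char.trivialChar K) := by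
    ext θ; simp [mem_aboveChars, Char.TrivOn, Subgroup.mem_subgroupOf]
  have h' : (∑ θ ∈ univ.filter (fun χ : IrrCharacter K => Char.TrivOn (A.subgroupOf K) χ.1),
      (θ.1 1) ^ 2 : ℂ) = (A.relIndex K : ℂ) := by
    have := congrArg (Nat.cast (R := ℂ)) h
    push_cast at this
    simpa only [Char.charDegree_cast, Subgroup.relIndex] using this
  rw [heq, ← h', ← add_sum_erase _ _ hmem]
  rw [show (Char.trivialChar K).1 1 = 1 from rfl]
  ring

open scoped Classical in
/-- `∑ φ(1)² / ⟨φ, φ⟩` over an induced set is `[L : K] ∑ θ(1)²`. -/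
theorem sum_sq_div_norm [Fintype K] (P : Finset (IrrCharacter K))
    (hP : ∀ θ ∈ P, ∀ g, Char.conjChar K θ g ∈ P) (d n : (L → ℂ) → ℕ)
    (hd : ∀ θ ∈ P, indFun K θ.1 1 = (d (indFun K θ.1) : ℂ))
    (hn : ∀ θ ∈ P, classInner (indFun K θ.1) (indFun K θ.1) = (n (indFun K θ.1) : ℂ)) :
    ∑ φ ∈ P.image (fun θ => indFun K θ.1), ((d φ : ℝ) ^ 2 / (n φ : ℝ)) =
      (K.index : ℝ) * ∑ θ ∈ P, (charDegree θ.1 : ℝ) ^ 2 := by
  rw [mul_sum, ← sum_fiberwise_of_maps_to (t := P.image fun θ => indFun K θ.1)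
    (g := fun θ : IrrCharacter K => indFun K θ.1) fun θ hθ => mem_image_of_mem _ hθ]
  refine sum_congr rfl fun φ hφ => ?_
  obtain ⟨θ₀, hθ₀, rfl⟩ := mem_image.1 hφ
  have hfib : P.filter (fun θ => indFun K θ.1 = indFun K θ₀.1) = univ.image (Char.conjChar K θ₀) := by
    ext θ
    simp only [mem_filter, mem_image, mem_univ, true_and]
    constructor
    · rintro ⟨-, he⟩
      have h := Char.card_mul_classInner_indFun_normal K θ.2 θ₀.2
      rw [he, hn θ₀ hθ₀] at h
      have hpos : n (indFun K θ₀.1) ≠ 0 := by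
        intro h0
        have h0' := hn θ₀ hθ₀
        rw [h0, Nat.cast_zero] at h0'
        have := congrFun (Char.classInner_self_eq_zero h0') 1
        rw [Char.indFun_apply_one, Pi.zero_apply] at this
        rcases mul_eq_zero.1 this with h1 | h1
        · exact Subgroup.index_ne_zero_of_finite (by exact_mod_cast h1)
        · exact Char.IsIrrCharacter.apply_one_ne_zero θ₀.2 h1
      have hne : Nat.card {g : L // Char.conjFun K θ₀.1 g = θ.1} ≠ 0 := by
        intro h0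
        rw [h0, Nat.cast_zero, mul_eq_zero] at h
        rcases h with h | h
        · exact Nat.card_pos.ne' (by exact_mod_cast h)
        · exact hpos (by exact_mod_cast h)
      obtain ⟨⟨g, hg⟩⟩ := (Nat.card_ne_zero.1 hne).1
      exact ⟨g, Subtype.ext hg⟩
    · rintro ⟨g, rfl⟩
      refine ⟨hP θ₀ hθ₀ g, ?_⟩
      funext x
      simp only [Char.conjChar_coe, indFun]
      congr 1
      refine Fintype.sum_equiv (Equiv.mulRight g⁻¹) _ _ fun y => ?_
      rw [Equiv.coe_mulRight]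
      by_cases hy : y⁻¹ * x * y ∈ K
      · have hy' : (y * g⁻¹)⁻¹ * x * (y * g⁻¹) ∈ K := by
          rw [show (y * g⁻¹)⁻¹ * x * (y * g⁻¹) = g * (y⁻¹ * x * y) * g⁻¹ by group]
          exact (‹K.Normal›).conj_mem _ hy g
        rw [Char.extendByZero_of_mem _ _ hy, Char.extendByZero_of_mem _ _ hy']
        exact congrArg θ₀.1 (Subtype.ext (by simp; group))
      · have hy' : (y * g⁻¹)⁻¹ * x * (y * g⁻¹) ∉ K := fun h => hy (by
          have := (‹K.Normal›).conj_mem _ h g⁻¹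
          rwa [show g⁻¹ * ((y * g⁻¹)⁻¹ * x * (y * g⁻¹)) * g⁻¹⁻¹ = y⁻¹ * x * y by group] at this)
        rw [Char.extendByZero_of_notMem _ _ hy, Char.extendByZero_of_notMem _ _ hy']
  rw [hfib]
  have hdeg : ∀ θ ∈ univ.image (Char.conjChar K θ₀),
      (charDegree θ.1 : ℝ) = charDegree θ₀.1 := by
    intro θ hθ
    obtain ⟨g, -, rfl⟩ := mem_image.1 hθ
    have h : (charDegree (Char.conjChar K θ₀ g).1 : ℂ) = charDegree θ₀.1 := by
      rw [Char.charDegree_cast, Char.charDegree_cast, Char.conjChar_coe, Char.conjFun_apply_one]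
    exact_mod_cast h
  rw [sum_congr rfl (g := fun _ => (K.index : ℝ) * (charDegree θ₀.1 : ℝ) ^ 2)
    fun θ hθ => by rw [hdeg θ hθ], sum_const, nsmul_eq_mul]
  set N := n (indFun K θ₀.1) with hN
  -- orbit times stabiliser
  have horb : (univ.image (Char.conjChar K θ₀)).card * N = K.index := by
    have hstab : ∀ g : L, (univ.filter fun h => Char.conjChar K θ₀ h = Char.conjChar K θ₀ g).card =
        (univ.filter fun h => Char.conjFun K θ₀.1 h = θ₀.1).card := by
      intro g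
      refine Finset.card_equiv (Equiv.mulRight g⁻¹) fun h => ?_
      simp only [mem_filter, mem_univ, true_and, Equiv.coe_mulRight, Subtype.ext_iff, Char.conjChar_coe,
        Char.conjFun_mul]
      constructor
      · intro e; rw [e, ← Char.conjFun_mul, mul_inv_cancel, Char.conjFun_one]
      · intro e
        rw [Char.conjFun_eq_iff, inv_inv] at e
        exact e.symm
    have hsum := Finset.card_eq_sum_card_image (Char.conjChar K θ₀) (univ : Finset L)
    rw [sum_congr rfl (g := fun _ => (univ.filter fun h : L => Char.conjFun K θ₀.1 h = θ₀.1).card)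
      fun θ hθ => by obtain ⟨g, -, rfl⟩ := mem_image.1 hθ; exact hstab g, sum_const, smul_eq_mul] at hsum
    have h := Char.card_mul_classInner_indFun_normal K θ₀.2 θ₀.2
    rw [hn θ₀ hθ₀, Nat.card_eq_fintype_card (α := {g : L // Char.conjFun K θ₀.1 g = θ₀.1}),
      Fintype.card_subtype] at h
    have h' : Nat.card K * N = (univ.filter fun h : L => Char.conjFun K θ₀.1 h = θ₀.1).card := by
      rw [hN]; exact_mod_cast h
    rw [← h', card_univ, ← Nat.card_eq_fintype_card, ← K.card_mul_index] at hsum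
    exact Nat.eq_of_mul_eq_mul_left (Nat.card_pos (α := K)) (by linarith)
  have hN0 : (N : ℝ) ≠ 0 := by
    intro h0
    have : N = 0 := by exact_mod_cast h0
    rw [this, Nat.mul_zero] at horb
    exact Subgroup.index_ne_zero_of_finite horb.symm
  have hd0 : (d (indFun K θ₀.1) : ℝ) = (K.index : ℝ) * charDegree θ₀.1 := by
    have h : (d (indFun K θ₀.1) : ℂ) = ((K.index * charDegree θ₀.1 : ℕ) : ℂ) := by
      rw [← hd θ₀ hθ₀, Char.indFun_apply_one, Nat.cast_mul, Char.charDegree_cast]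
    exact_mod_cast h
  rw [hd0, div_eq_iff hN0, ← horb]
  push_cast
  ring

/-- A character of `K` trivial on `B` has degree at most `[K : C] √[C : D]` when `[D, C] ≤ B`. -/
theorem degree_sq_le [Fintype K] (B C D : Subgroup L) [B.Normal] [C.Normal] [D.Normal] (hDC : D ≤ C)
    (hCK : C ≤ K) (hcent : ∀ x ∈ D, ∀ y ∈ C, x * y * x⁻¹ * y⁻¹ ∈ B) (θ : IrrCharacter K)
    (hB : ∀ a : K, (a : L) ∈ B → θ.1 a = θ.1 1) :
    charDegree θ.1 ^ 2 ≤ C.relIndex K ^ 2 * D.relIndex C := by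
  classical
  set C' : Subgroup K := C.subgroupOf K
  obtain ⟨η, hη⟩ := Char.exists_constituent C' θ
  have hη' : classInner η.1 (fun x : C' => θ.1 x) ≠ 0 := fun h => hη (by
    rw [show Char.resFun C' θ.1 = fun x : C' => θ.1 x from rfl, ← Char.conj_classInner, h, map_zero])
  have h1 := Char.degree_le_index_mul C' θ η hη'
  set D' : Subgroup C' := (D.subgroupOf K).subgroupOf C'
  haveI : D'.Normal := inferInstance
  have h2 : charDegree η.1 ^ 2 ≤ D'.index := by
    refine degree_sq_le_index η D' fun x hx y => constituent_trivOn C' θ η hη' ?_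
    exact hB _ (hcent _ hx _ y.2)
  have h3 : D'.index = D.relIndex C := by
    show (D.subgroupOf K).relIndex (C.subgroupOf K) = _
    exact Subgroup.relIndex_subgroupOf hCK
  calc charDegree θ.1 ^ 2 ≤ (C'.index * charDegree η.1) ^ 2 := Nat.pow_le_pow_left h1 2
    _ = C'.index ^ 2 * charDegree η.1 ^ 2 := mul_pow _ _ _
    _ ≤ _ := by rw [← h3]; exact Nat.mul_le_mul_left _ h2

theorem exists_linear_above [Fintype K] (hsolv : Group.IsSolvable K) (A : Subgroup L) [A.Normal] (hA : A < K) :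
    ∃ θ ∈ aboveChars K A, charDegree θ.1 = 1 := by
  classical
  set A' := A.subgroupOf K
  haveI : Nontrivial (K ⧸ A') := QuotientGroup.nontrivial_iff.2 fun h =>
    not_le_of_gt hA (Subgroup.subgroupOf_eq_top.1 h)
  haveI := hsolv
  have hne : commutator (K ⧸ A') ≠ ⊤ := (Group.IsSolvable.commutator_lt_top_of_nontrivial (K ⧸ A')).ne
  have h1 : 1 < Nat.card ((K ⧸ A') →* ℂ) := by
    rw [Char.card_monoidHom_complex]
    exact Subgroup.one_lt_index_of_ne_top hne
  haveI : Finite ((K ⧸ A') →* ℂ) := Nat.finite_of_card_ne_zero (by omega)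
  rw [Finite.one_lt_card_iff_nontrivial] at h1
  obtain ⟨lam, hlam⟩ := exists_ne (1 : (K ⧸ A') →* ℂ)
  refine ⟨Char.linIrr (lam.comp (QuotientGroup.mk' A')), (mem_aboveChars K).2 ⟨fun e => hlam ?_, fun a ha => ?_⟩, ?_⟩
  · refine MonoidHom.ext fun q => ?_
    obtain ⟨k, rfl⟩ := QuotientGroup.mk'_surjective A' q
    exact congrFun (congrArg Subtype.val e) k
  · simp only [Char.linIrr_apply, MonoidHom.comp_apply, map_one]
    rw [show QuotientGroup.mk' A' a = 1 from (QuotientGroup.eq_one_iff a).2 ha, map_one]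
  · apply Nat.cast_injective (R := ℂ)
    rw [Char.charDegree_cast, Char.linIrr_apply, map_one, Nat.cast_one]

variable {G : Type v} [Group G] [Fintype G] {τ : (L → ℂ) → (G → ℂ)} {R : (L → ℂ) → Finset (G → ℂ)}

/-- Peterfalvi (6.2). -/
theorem isCoherent_central_step (hsolv : Group.IsSolvable K)
    (hS : IsCoherenceSystem (inducedIrrAbove K ⊥) τ R) (A B C D : Subgroup L) [A.Normal] [B.Normal]
    [C.Normal] [D.Normal] (hAK : A < K) (hBK : B < K) (hDC : D ≤ C) (hCK : C ≤ K)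
    (hcent : ∀ x ∈ D, ∀ y ∈ C, x * y * x⁻¹ * y⁻¹ ∈ B) (hA : IsCoherent (inducedIrrAbove K A) {1}ᶜ τ)
    (hlt : 4 * C.index ^ 2 * D.relIndex C < (A.relIndex K - 1) ^ 2) :
    IsCoherent (inducedIrrAbove K B) {1}ᶜ τ := by
  classical
  haveI : Fintype K := Fintype.ofFinite _
  obtain ⟨d, n, hd, hn⟩ := system_natural hS
  set e := K.index
  have hmem : ∀ {X : Subgroup L} {θ : IrrCharacter K}, θ ∈ aboveChars K X →
      indFun K θ.1 ∈ inducedIrrAbove K ⊥ := fun hθ =>
    inducedIrrAbove_subset_bot K _ ((mem_inducedIrrAbove_iff K).2 ⟨_, hθ, rfl⟩)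
  have hdeg : ∀ {X : Subgroup L} {θ : IrrCharacter K}, θ ∈ aboveChars K X →
      d (indFun K θ.1) = e * charDegree θ.1 := fun {X θ} hθ => by
    apply Nat.cast_injective (R := ℂ)
    rw [← hd _ (hmem hθ), Char.indFun_apply_one, Nat.cast_mul, Char.charDegree_cast]
  set S₀ := (aboveChars K A).image fun θ => indFun K θ.1
  have hS₀ : (↑S₀ : Set (L → ℂ)) = inducedIrrAbove K A := by
    ext φ; simp [S₀, mem_inducedIrrAbove_iff, eq_comm]
  have hsum : ∑ φ ∈ S₀, ((d φ : ℝ) ^ 2 / (n φ : ℝ)) = (e : ℝ) * ((A.relIndex K : ℝ) - 1) := by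
    rw [sum_sq_div_norm K (aboveChars K A) (fun θ hθ g => conjChar_mem_aboveChars K hθ g) d n
      (fun θ hθ => hd _ (hmem hθ)) (fun θ hθ => hn _ (hmem hθ))]
    congr 1
    have h : ((∑ θ ∈ aboveChars K A, (charDegree θ.1 : ℝ) ^ 2 : ℝ) : ℂ) =
        (((A.relIndex K : ℝ) - 1 : ℝ) : ℂ) := by
      push_cast
      simp only [Complex.ofReal_natCast, Char.charDegree_cast]
      exact sum_aboveChars K A
    exact_mod_cast h
  obtain ⟨θ₁, hθ₁, hθ₁d⟩ := exists_linear_above K hsolv A hAK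
  have hU : inducedIrrAbove K A ∪ inducedIrrAbove K B ⊆ inducedIrrAbove K ⊥ :=
    Set.union_subset (inducedIrrAbove_subset_bot K A) (inducedIrrAbove_subset_bot K B)
  have hcoh : IsCoherent (inducedIrrAbove K A ∪ inducedIrrAbove K B) {1}ᶜ τ := by
    refine isCoherent_of_ineq hS d n hd hn S₀ _ hU (by rw [hS₀]; exact Set.subset_union_left) ?_ ?_
      (hS₀.symm ▸ hA) ?_
    · intro φ hφ
      rw [← Finset.mem_coe, hS₀] at hφ ⊢
      exact conj_mem_inducedIrrAbove K hφ
    · rintro φ (hφ | hφ)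
      · exact Or.inl (conj_mem_inducedIrrAbove K hφ)
      · exact Or.inr (conj_mem_inducedIrrAbove K hφ)
    · intro χ hχ hχ₀
      have hχB : χ ∈ inducedIrrAbove K B := by
        rcases hχ with h | h
        · exact absurd (by rw [← Finset.mem_coe, hS₀]; exact h) hχ₀
        · exact h
      obtain ⟨θ, hθ, rfl⟩ := (mem_inducedIrrAbove_iff K).1 hχB
      refine ⟨indFun K θ₁.1, mem_image_of_mem _ hθ₁, ?_, ?_⟩
      · rw [hdeg hθ₁, hdeg hθ, hθ₁d, mul_one]; exact dvd_mul_right _ _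
      rw [hsum, hdeg hθ₁, hdeg hθ, hθ₁d, mul_one]
      have hb := degree_sq_le K B C D hDC hCK hcent θ ((mem_aboveChars K).1 hθ).2
      set f := charDegree θ.1
      have hCi : C.index = e * C.relIndex K := by
        rw [← Subgroup.relIndex_mul_index hCK]; ring
      have h4 : (2 * (e * f)) ^ 2 < (A.relIndex K - 1) ^ 2 := by
        refine lt_of_le_of_lt ?_ hlt
        rw [hCi]
        calc (2 * (e * f)) ^ 2 = 4 * e ^ 2 * f ^ 2 := by ring
          _ ≤ 4 * e ^ 2 * (C.relIndex K ^ 2 * D.relIndex C) := Nat.mul_le_mul_left _ hb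
          _ = _ := by ring
      have h5 : 2 * (e * f) < A.relIndex K - 1 := lt_of_pow_lt_pow_left₀ 2 (Nat.zero_le _) h4
      have he : (0 : ℝ) < e := by exact_mod_cast Nat.pos_of_ne_zero Subgroup.index_ne_zero_of_finite
      have h6 : (2 * (e * f) : ℝ) < (A.relIndex K : ℝ) - 1 := by
        have h7 : 2 * (e * f) + 1 < A.relIndex K := by omega
        have : ((2 * (e * f) + 1 : ℕ) : ℝ) < A.relIndex K := by exact_mod_cast h7
        push_cast at this; linarith
      push_cast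
      nlinarith
  obtain ⟨θ, hθ, -⟩ := exists_linear_above K hsolv B hBK
  have hχ : indFun K θ.1 ∈ inducedIrrAbove K B := (mem_inducedIrrAbove_iff K).2 ⟨θ, hθ, rfl⟩
  exact isCoherent_subset hS Set.subset_union_right (inducedIrrAbove_subset_bot K B) hχ
    (conj_mem_inducedIrrAbove K hχ) hcoh

/-- Peterfalvi (6.3). -/
theorem isCoherent_nilpotent_section (hsolv : Group.IsSolvable K)
    (hS : IsCoherenceSystem (inducedIrrAbove K ⊥) τ R) (M H₁ H : Subgroup L) [M.Normal] [H₁.Normal]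
    [H.Normal] (hMH₁ : M ≤ H₁) (hH₁H : H₁ ≤ H) (hHK : H ≤ K) [(M.subgroupOf H).Normal]
    (hnil : Group.IsNilpotent (↥H ⧸ M.subgroupOf H)) (hcoh : IsCoherent (inducedIrrAbove K H₁) {1}ᶜ τ)
    (hbig : 4 * K.index ^ 2 + 1 < H₁.relIndex H) : IsCoherent (inducedIrrAbove K M) {1}ᶜ τ := by
  classical
  set Q : Set (Subgroup L) :=
    {A | A.Normal ∧ M ≤ A ∧ A ≤ H₁ ∧ IsCoherent (inducedIrrAbove K A) {1}ᶜ τ} with hQ
  obtain ⟨A, hA, hmin⟩ := Set.Finite.exists_minimal (s := Q) (Set.toFinite _) ⟨H₁, ‹_›, hMH₁, le_rfl, hcoh⟩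
  obtain ⟨hAn, hMA, hAH₁, hAcoh⟩ := hA
  rcases eq_or_lt_of_le hMA with rfl | hlt
  · exact hAcoh
  exfalso
  haveI := hAn
  have hH₁H' : H₁ < H := lt_of_le_of_ne hH₁H fun e => by
    rw [e, Subgroup.relIndex_self] at hbig; omega
  obtain ⟨B, ⟨hBn, hMB, hBA⟩, hBmax⟩ := Set.Finite.exists_maximal
    (s := {B : Subgroup L | B.Normal ∧ M ≤ B ∧ B < A}) (Set.toFinite _) ⟨M, ‹_›, le_rfl, hlt⟩
  haveI := hBn
  -- `[A, H] ≤ B`
  have hcent : ⁅A, H⁆ ≤ B := by
    by_contra hcon
    have hAH : ⁅A, H⁆ ≤ A := Subgroup.commutator_le_left A H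
    have htop : ⁅A, H⁆ ⊔ B = A := by
      refine le_antisymm (sup_le hAH hBA.le) ?_
      by_contra hne
      refine hcon (le_trans le_sup_left (hBmax ⟨Subgroup.sup_normal _ _, le_trans hMB le_sup_right,
        lt_of_le_of_ne (sup_le hAH hBA.le) fun e => hne e.ge⟩ le_sup_right))
    let f := QuotientGroup.mk' B
    have hker : M.subgroupOf H ≤ (f.comp H.subtype).ker := fun x hx => by
      rw [MonoidHom.mem_ker]
      exact (QuotientGroup.eq_one_iff _).2 (hMB hx)
    haveI := hnil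
    have hHn : Group.IsNilpotent ↥(H.map f) := by
      let g : ↥H ⧸ M.subgroupOf H →* ↥(H.map f) := QuotientGroup.lift _
        (f.subgroupMap H) fun x hx => Subtype.ext (MonoidHom.mem_ker.1 (hker hx))
      refine Group.nilpotent_of_surjective g fun y => ?_
      obtain ⟨x, hx, e⟩ := Subgroup.mem_map.1 y.2
      exact ⟨QuotientGroup.mk' _ ⟨x, hx⟩, Subtype.ext e⟩
    have hfix : ⁅A.map f, H.map f⁆ = A.map f := by
      rw [← Subgroup.map_commutator]
      refine le_antisymm (Subgroup.map_mono hAH) ?_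
      conv_lhs => rw [← htop]
      rw [Subgroup.map_sup]
      refine sup_le le_rfl (le_trans (le_of_eq ?_) bot_le)
      rw [Subgroup.map_eq_bot_iff]
      exact fun x hx => (QuotientGroup.eq_one_iff x).2 hx
    have hsub : ∀ m, A.map f ≤ (H.map f).lowerCentralSeries m := by
      intro m
      induction m with
      | zero => rw [Subgroup.lowerCentralSeries_zero]; exact Subgroup.map_mono (hAH₁.trans hH₁H)
      | succ m ih =>
        rw [Subgroup.lowerCentralSeries_succ, ← hfix]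
        exact Subgroup.commutator_mono ih le_rfl
    obtain ⟨m, hm⟩ := (Subgroup.isNilpotent_iff_lowerCentralSeries (H.map f)).1 hHn
    refine (lt_irrefl A) (lt_of_le_of_lt ?_ hBA)
    intro a ha
    have h1 := hsub m ⟨a, ha, rfl⟩
    rw [hm, Subgroup.mem_bot] at h1
    exact (QuotientGroup.eq_one_iff a).1 h1
  have hAK : A < K := lt_of_le_of_lt hAH₁ (lt_of_lt_of_le hH₁H' hHK)
  refine (lt_irrefl A) (lt_of_le_of_lt (hmin ⟨hBn, hMB, hBA.le.trans hAH₁, ?_⟩ hBA.le) hBA)
  refine isCoherent_central_step K hsolv hS A B H A hAK (hBA.trans hAK) (hAH₁.trans hH₁H) hHK ?_ hAcoh ?_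
  · intro x hx y hy
    have := hcent (Subgroup.commutator_mem_commutator hx hy)
    rwa [commutatorElement_def] at this
  · set e := K.index
    set k := H.relIndex K
    set h := A.relIndex H
    have hHi : H.index = e * k := by rw [← Subgroup.relIndex_mul_index hHK]; ring
    have hAk : A.relIndex K = h * k := (Subgroup.relIndex_mul_relIndex A H K (hAH₁.trans hH₁H) hHK).symm
    have hh : H₁.relIndex H ≤ h := by
      show _ ≤ A.relIndex H
      rw [← Subgroup.relIndex_mul_relIndex A H₁ H hAH₁ hH₁H]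
      exact Nat.le_mul_of_pos_left _ (Nat.pos_of_ne_zero (Subgroup.index_ne_zero_of_finite (H := A.subgroupOf H₁)))
    have hk : 0 < k := Nat.pos_of_ne_zero (Subgroup.index_ne_zero_of_finite (H := H.subgroupOf K))
    rw [hHi, hAk]
    have h1 : 4 * e ^ 2 + 2 ≤ h := by omega
    obtain ⟨t, ht⟩ : ∃ t, h = t + 1 := ⟨h - 1, by omega⟩
    have h2 : 4 * e ^ 2 * h < t ^ 2 := by
      rw [ht] at h1 ⊢
      nlinarith
    have h3 : k * t ≤ h * k - 1 := by
      rw [ht, add_mul, one_mul, mul_comm k t]; omega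
    calc 4 * (e * k) ^ 2 * h = k ^ 2 * (4 * e ^ 2 * h) := by ring
      _ < k ^ 2 * t ^ 2 := Nat.mul_lt_mul_of_pos_left h2 (pow_pos hk 2)
      _ = (k * t) ^ 2 := by ring
      _ ≤ (h * k - 1) ^ 2 := Nat.pow_le_pow_left h3 2

end Induced

end Cfsg.Agent.OddOrder
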