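import Cfsg.Prelude.Def_OddOrderChar
import Cfsg.Prelude.Def_OddOrderLocal
import Cfsg.Agent.Lib.Char.Induction
import Cfsg.Agent.Lib.Coprime.Basic
import Mathlib

set_option autoImplicit false

/-! Linear characters of `W = W₁ × W₂` and coefficients at a cyclic TI family (Peterfalvi, §3). -/

namespace Cfsg.Agent.OddOrder

open scoped ComplexConjugate
open Finset

section Dual

variable {W : Type*} [CommGroup W] [Finite W]

/-- The linear characters trivial on `N`. -/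
noncomputable def dualAnn (N : Subgroup W) : Finset (W →* ℂˣ) :=
  open Classical in
  haveI : Fintype (W →* ℂˣ) := Fintype.ofFinite _
  Finset.univ.filter fun φ => ∀ x ∈ N, φ x = 1

theorem mem_dualAnn {N : Subgroup W} {φ : W →* ℂˣ} : φ ∈ dualAnn N ↔ ∀ x ∈ N, φ x = 1 := by
  simp [dualAnn]

theorem one_mem_dualAnn (N : Subgroup W) : 1 ∈ dualAnn N := mem_dualAnn.2 fun _ _ => rfl

theorem sum_dualAnn_of_mem {N : Subgroup W} {x : W} (hx : x ∈ N) :
    ∑ φ ∈ dualAnn N, (φ x : ℂ) = (dualAnn N).card := by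
  rw [Finset.sum_congr rfl (g := fun _ => (1 : ℂ)) fun φ hφ => by rw [mem_dualAnn.1 hφ x hx]; rfl]
  simp

theorem exists_mem_dualAnn_ne {N : Subgroup W} {x : W} (hx : x ∉ N) :
    ∃ φ ∈ dualAnn N, φ x ≠ 1 := by
  have hx' : (QuotientGroup.mk' N x : W ⧸ N) ≠ 1 := fun h => hx ((QuotientGroup.eq_one_iff x).1 h)
  obtain ⟨ψ, hψ⟩ := CommGroup.exists_apply_ne_one_of_hasEnoughRootsOfUnity (W ⧸ N) ℂ hx'
  refine ⟨ψ.comp (QuotientGroup.mk' N), mem_dualAnn.2 fun y hy => ?_, hψ⟩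
  rw [MonoidHom.comp_apply, show QuotientGroup.mk' N y = 1 from (QuotientGroup.eq_one_iff y).2 hy,
    map_one]

theorem sum_dualAnn_of_notMem {N : Subgroup W} {x : W} (hx : x ∉ N) :
    ∑ φ ∈ dualAnn N, (φ x : ℂ) = 0 := by
  obtain ⟨φ₀, h0, hne⟩ := exists_mem_dualAnn_ne hx
  have h : (φ₀ x : ℂ) * ∑ φ ∈ dualAnn N, (φ x : ℂ) = ∑ φ ∈ dualAnn N, (φ x : ℂ) := by
    rw [Finset.mul_sum]
    refine Finset.sum_equiv (Equiv.mulLeft φ₀) (fun φ => ?_) fun φ _ => by simp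
    simp only [Equiv.coe_mulLeft, mem_dualAnn, MonoidHom.mul_apply]
    exact forall₂_congr fun y hy => by rw [mem_dualAnn.1 h0 y hy, one_mul]
  rcases mul_left_eq_self₀.1 h with h | h
  · exact absurd (Units.ext (by simpa using h)) hne
  · exact h

theorem card_dualAnn_mul_card (N : Subgroup W) :
    (dualAnn N).card * Nat.card N = Nat.card W := by
  classical
  haveI : Fintype W := Fintype.ofFinite W
  have h1 : ∑ x : W, ∑ φ ∈ dualAnn N, (φ x : ℂ) = ((dualAnn N).card * Nat.card N : ℕ) := by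
    rw [← Finset.sum_filter_add_sum_filter_not Finset.univ (fun x => x ∈ N),
      Finset.sum_eq_zero (s := Finset.univ.filter fun x => ¬ x ∈ N)
        fun x hx => sum_dualAnn_of_notMem (Finset.mem_filter.1 hx).2, add_zero,
      Finset.sum_congr rfl fun x hx => sum_dualAnn_of_mem (Finset.mem_filter.1 hx).2]
    rw [Finset.sum_const, nsmul_eq_mul, Nat.card_eq_fintype_card, Fintype.card_subtype]
    push_cast; ring
  have h2 : ∑ x : W, ∑ φ ∈ dualAnn N, (φ x : ℂ) = (Nat.card W : ℕ) := by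
    rw [Finset.sum_comm, Finset.sum_eq_single_of_mem 1 (one_mem_dualAnn N) fun φ _ hφ => ?_]
    · simp [Nat.card_eq_fintype_card]
    · obtain ⟨y, hy⟩ : ∃ y, φ y ≠ 1 := by
        by_contra h
        push Not at h
        exact hφ (MonoidHom.ext h)
      have h : (φ y : ℂ) * ∑ x : W, (φ x : ℂ) = ∑ x : W, (φ x : ℂ) := by
        rw [Finset.mul_sum]
        exact Fintype.sum_equiv (Equiv.mulLeft y) _ _ fun x => by simp
      rcases mul_left_eq_self₀.1 h with h | h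
      · exact absurd (Units.ext (by simpa using h)) hy
      · exact h
  exact_mod_cast h1.symm.trans h2

variable {W₁ W₂ : Subgroup W}

theorem card_dualAnn_of_compl (hd : W₁ ⊓ W₂ = ⊥) (hs : W₁ ⊔ W₂ = ⊤) :
    (dualAnn W₂).card = Nat.card W₁ := by
  have hc : Subgroup.IsComplement' W₁ W₂ := by
    refine Subgroup.isComplement'_of_disjoint_and_mul_eq_univ (disjoint_iff.2 hd) ?_
    rw [← Subgroup.normal_mul, hs, Subgroup.coe_top]
  have := card_dualAnn_mul_card W₂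
  rw [← hc.card_mul] at this
  exact Nat.eq_of_mul_eq_mul_right Nat.card_pos this

theorem dualAnn_mul_bijOn (hd : W₁ ⊓ W₂ = ⊥) (hs : W₁ ⊔ W₂ = ⊤) :
    Set.BijOn (fun p : (W →* ℂˣ) × (W →* ℂˣ) => p.1 * p.2)
      ↑(dualAnn W₂ ×ˢ dualAnn W₁) Set.univ := by
  classical
  haveI : Fintype (W →* ℂˣ) := Fintype.ofFinite _
  have hinj : Set.InjOn (fun p : (W →* ℂˣ) × (W →* ℂˣ) => p.1 * p.2)
      ↑(dualAnn W₂ ×ˢ dualAnn W₁) := by
    rintro ⟨a, b⟩ hab ⟨a', b'⟩ hab' h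
    simp only [Finset.coe_product, Set.mem_prod, Finset.mem_coe, mem_dualAnn] at hab hab'
    have key : ∀ w, a w = a' w ∧ b w = b' w := by
      intro w
      have hw : w ∈ W₁ ⊔ W₂ := hs ▸ Subgroup.mem_top w
      obtain ⟨x, hx, y, hy, rfl⟩ := Subgroup.mem_sup.1 hw
      have h1 := DFunLike.congr_fun h x
      have h2 := DFunLike.congr_fun h y
      simp only [MonoidHom.mul_apply, hab.2 x hx, hab'.2 x hx, mul_one] at h1
      simp only [MonoidHom.mul_apply, hab.1 y hy, hab'.1 y hy, one_mul] at h2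
      simp [hab.1 y hy, hab'.1 y hy, hab.2 x hx, hab'.2 x hx, h1, h2]
    exact Prod.ext (MonoidHom.ext fun w => (key w).1) (MonoidHom.ext fun w => (key w).2)
  refine ⟨Set.mapsTo_univ _ _, hinj, fun ω _ => ?_⟩
  have hcard : ((dualAnn W₂ ×ˢ dualAnn W₁).image fun p => p.1 * p.2).card = Fintype.card (W →* ℂˣ) := by
    rw [Finset.card_image_of_injOn hinj, Finset.card_product, card_dualAnn_of_compl hd hs,
      card_dualAnn_of_compl (W₁ := W₂) (W₂ := W₁) (inf_comm W₁ W₂ ▸ hd) (sup_comm W₁ W₂ ▸ hs),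
      ← Nat.card_eq_fintype_card, CommGroup.card_monoidHom_of_hasEnoughRootsOfUnity W ℂ]
    have hc : Subgroup.IsComplement' W₁ W₂ := by
      refine Subgroup.isComplement'_of_disjoint_and_mul_eq_univ (disjoint_iff.2 hd) ?_
      rw [← Subgroup.normal_mul, hs, Subgroup.coe_top]
    exact hc.card_mul
  have := Finset.mem_univ ω
  rw [← Finset.eq_univ_of_card _ hcard, Finset.mem_image] at this
  obtain ⟨p, hp, hpω⟩ := this
  exact ⟨p, hp, hpω⟩

end Dual

section Family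

variable {G : Type*} [Group G] [Fintype G] {W₁ W₂ : Subgroup G}
  {χ : (↥(W₁ ⊔ W₂) →* ℂˣ) → (G → ℂ)}

theorem isCyclicTI_comm (hW : IsSelfNormalizingCyclic W₁ W₂) (a b : ↥(W₁ ⊔ W₂)) : a * b = b * a := by
  haveI := hW.2.2.2.2.1
  letI := IsCyclic.commGroup (α := ↥(W₁ ⊔ W₂))
  exact mul_comm a b

/-- Four-term relation of the coefficients. -/
theorem coeff_eq (hχ : IsCyclicTIFamily W₁ W₂ χ) {θ : G → ℂ} (hθ : IsClassFunction G θ)
    (hθV : ∀ w : ↥(W₁ ⊔ W₂), (w : G) ∉ W₁ → (w : G) ∉ W₂ → θ w = 0)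
    (φ ψ : ↥(W₁ ⊔ W₂) →* ℂˣ) (hφ : ∀ w : ↥(W₁ ⊔ W₂), (w : G) ∈ W₂ → φ w = 1)
    (hψ : ∀ w : ↥(W₁ ⊔ W₂), (w : G) ∈ W₁ → ψ w = 1) :
    classInner θ (χ (φ * ψ)) = classInner θ (χ φ) + classInner θ (χ ψ) - classInner θ (χ 1) := by
  by_cases h1 : φ = 1
  · subst h1
    rw [show (1 : ↥(W₁ ⊔ W₂) →* ℂˣ) * ψ = ψ from MonoidHom.ext fun w => one_mul (ψ w)]; ring
  by_cases h2 : ψ = 1
  · subst h2
    rw [show φ * (1 : ↥(W₁ ⊔ W₂) →* ℂˣ) = φ from MonoidHom.ext fun w => mul_one (φ w)]; ring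
  haveI : Fintype ↥(W₁ ⊔ W₂) := Fintype.ofFinite _
  have e : classInner θ (indFun (W₁ ⊔ W₂)
      (fun w => 1 - (φ w : ℂ) - (ψ w : ℂ) + (φ w : ℂ) * (ψ w : ℂ))) = 0 := by
    rw [Char.classInner_indFun_right _ _ hθ, classInner, Finset.sum_eq_zero, mul_zero]
    intro w _
    by_cases hw1 : (w : G) ∈ W₁
    · simp [hψ w hw1]
    by_cases hw2 : (w : G) ∈ W₂
    · simp [hφ w hw2]
    · simp [hθV w hw1 hw2]
  rw [hχ.induced_eq φ ψ h1 h2 hφ hψ, show (fun g => 1 - χ φ g - χ ψ g + χ (φ * ψ) g) =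
    χ 1 - χ φ - χ ψ + χ (φ * ψ) by rw [hχ.map_one]; rfl] at e
  rw [Char.classInner_add_right, Char.classInner_sub_right, Char.classInner_sub_right] at e
  linear_combination e

end Family

end Cfsg.Agent.OddOrder
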