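import Mathlib

set_option autoImplicit false

/-! The combinatorial heart of Peterfalvi (3.5): a grid of triples of signed objects, two triples in a
line meeting in exactly one object, two others in nothing or in a pair of opposite signs. -/

namespace Cfsg.Agent.OddOrder

open Finset

variable {α : Type*} [InvolutiveNeg α]

/-- `T` and `T'` share exactly one object and no opposite ones. -/
def OneMeet (T T' : Finset α) : Prop :=
  (∃ a ∈ T, a ∈ T') ∧ (∀ u ∈ T, ∀ v ∈ T, u ∈ T' → v ∈ T' → u = v) ∧ ∀ u ∈ T, -u ∉ T'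

/-- `T` and `T'` share nothing, or one object with the same and one with the opposite sign. -/
def PairMeet (T T' : Finset α) : Prop :=
  ((∃ a ∈ T, a ∈ T') → ∃ b ∈ T, -b ∈ T') ∧ ((∃ b ∈ T, -b ∈ T') → ∃ a ∈ T, a ∈ T') ∧
    ∀ u ∈ T, ∀ v ∈ T, u ∈ T' → v ∈ T' → u = v

/-- A triple without opposite objects. -/
def IsTriple (T : Finset α) : Prop := T.card = 3 ∧ ∀ u ∈ T, -u ∉ T

theorem OneMeet.symm' {T T' : Finset α} (h : OneMeet T T') : OneMeet T' T :=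
  ⟨let ⟨a, ha, ha'⟩ := h.1; ⟨a, ha', ha⟩, fun u hu v hv hu' hv' => h.2.1 u hu' v hv' hu hv,
    fun u hu hu' => h.2.2 _ hu' (by rwa [neg_neg])⟩

theorem PairMeet.symm' {T T' : Finset α} (h : PairMeet T T') : PairMeet T' T := by
  refine ⟨fun ⟨a, ha, ha'⟩ => ?_, fun ⟨b, hb, hb'⟩ => ?_, fun u hu v hv hu' hv' => h.2.2 u hu' v hv' hu hv⟩
  · obtain ⟨b, hb, hb'⟩ := h.1 ⟨a, ha', ha⟩
    exact ⟨-b, hb', by rwa [neg_neg]⟩
  · obtain ⟨a, ha, ha'⟩ := h.2.1 ⟨-b, hb', by rwa [neg_neg]⟩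
    exact ⟨a, ha', ha⟩

theorem triple_cases [DecidableEq α] {T : Finset α} (h : IsTriple T) {x y z : α} (hx : x ∈ T) (hy : y ∈ T)
    (hz : z ∈ T) (hxy : x ≠ y) (hxz : x ≠ z) (hyz : y ≠ z) {v : α} (hv : v ∈ T) :
    v = x ∨ v = y ∨ v = z := by
  have hsub : ({x, y, z} : Finset α) ⊆ T := by
    simp only [Finset.insert_subset_iff, Finset.singleton_subset_iff]; exact ⟨hx, hy, hz⟩
  have hc : ({x, y, z} : Finset α).card = 3 := by
    rw [Finset.card_insert_of_notMem (by simp [hxy, hxz]), Finset.card_insert_of_notMem (by simp [hyz]),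
      Finset.card_singleton]
  rw [← Finset.eq_of_subset_of_card_le hsub (h.1.le.trans hc.ge)] at hv
  simpa using hv

theorem triple_exists_third [DecidableEq α] {T : Finset α} (h : IsTriple T) (x y : α) :
    ∃ z ∈ T, z ≠ x ∧ z ≠ y := by
  obtain ⟨z, hz, hz'⟩ := Finset.exists_mem_notMem_of_card_lt_card
    (s := {x, y}) (t := T) (lt_of_le_of_lt Finset.card_le_two (by rw [h.1]; norm_num))
  simp only [Finset.mem_insert, Finset.mem_singleton, not_or] at hz'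
  exact ⟨z, hz, hz'⟩

/-- Equal or opposite members of two triples meeting once are the shared one. -/
theorem OneMeet.unique {T T' : Finset α} (h : OneMeet T T') {a u : α} (ha : a ∈ T) (ha' : a ∈ T')
    (hu : u ∈ T) {w : α} (hw : w ∈ T') (he : w = u ∨ w = -u) : u = a ∧ w = a := by
  rcases he with rfl | rfl
  · exact ⟨h.2.1 _ hu a ha hw ha', h.2.1 _ hu a ha hw ha'⟩
  · exact absurd hw (h.2.2 u hu)

section TwoRows

variable [DecidableEq α]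

/-- Four lines in general position: impossible. -/
theorem no_quadrilateral (L : Fin 4 → Finset α) (M : Finset α) (hL : ∀ k, IsTriple (L k))
    (hM : IsTriple M) (hLL : ∀ k l, k ≠ l → OneMeet (L k) (L l)) {i k m n : Fin 4} (hik : i ≠ k)
    (him : i ≠ m) (hin : i ≠ n) (hkm : k ≠ m) (hkn : k ≠ n) (hmn : m ≠ n)
    (hgen : ∀ v, ∀ a b c : Fin 4, a ≠ b → a ≠ c → b ≠ c → v ∈ L a → v ∈ L b → v ∈ L c → False)
    (hone : OneMeet (L i) M) (hpair : ∀ l, l ≠ i → PairMeet (L l) M)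
    {v : α} (hvi : v ∈ L i) (hvk : v ∈ L k) (hvM : v ∈ M)
    {u : α} (huk : u ∈ L k) (hum : u ∈ L m) (huM : -u ∈ M) : False := by
  obtain ⟨w, hw, hwM⟩ := (hpair m (Ne.symm him)).2.1 ⟨u, hum, huM⟩
  have huv : u ≠ v := fun e => hM.2 v hvM (e ▸ huM)
  have hwu : w ≠ u := fun e => hM.2 u (e ▸ hwM) huM
  have hwv : w ≠ v := fun e => hgen v i k m hik him hkm hvi hvk (e ▸ hw)
  have hwi : w ∉ L i := fun h => hwv (hone.2.1 w h v hvi hwM hvM)
  obtain ⟨p, hpi, hpm⟩ := (hLL i m him).1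
  obtain ⟨q, hqm, hqn⟩ := (hLL m n hmn).1
  have hpu : p ≠ u := fun e => hgen u i k m hik him hkm (e ▸ hpi) huk hum
  have hqp : q ≠ p := fun e => hgen p i m n him hin hmn hpi hpm (e ▸ hqn)
  have hqu : q ≠ u := fun e => hgen u k m n hkm hkn hmn huk hum (e ▸ hqn)
  have hwq : w = q := by
    rcases triple_cases (hL m) hpm hum hqm hpu hqp.symm hqu.symm hw with e | e | e
    · exact absurd (e ▸ hpi) hwi
    · exact absurd e hwu
    · exact e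
  subst hwq
  obtain ⟨y, hy, hyM⟩ := (hpair n (Ne.symm hin)).1 ⟨w, hqn, hwM⟩
  have hvnu : v ≠ -u := fun e => (hL k).2 u huk (e ▸ hvk)
  have hwnu : w ≠ -u := fun e => (hL m).2 u hum (e ▸ hw)
  rcases triple_cases hM hvM huM hwM hvnu hwv.symm hwnu.symm hyM with e | e | e
  · exact (hLL i n hin).2.2 v hvi (by rw [← e, neg_neg]; exact hy)
  · exact hgen u k m n hkm hkn hmn huk hum (neg_injective e ▸ hy)
  · exact (hL n).2 w hqn (by rw [← e, neg_neg]; exact hy)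

/-- Three lines through `P` and a transversal, in the standard labelling. -/
structure StarData (L₁ L₂ L₃ L₄ : Finset α) (P a b c p q r : α) : Prop where
  t₁ : IsTriple L₁
  t₂ : IsTriple L₂
  t₃ : IsTriple L₃
  t₄ : IsTriple L₄
  h₁₂ : OneMeet L₁ L₂
  h₁₃ : OneMeet L₁ L₃
  h₂₃ : OneMeet L₂ L₃
  h₁₄ : OneMeet L₁ L₄
  h₂₄ : OneMeet L₂ L₄
  h₃₄ : OneMeet L₃ L₄
  P₁ : P ∈ L₁
  P₂ : P ∈ L₂
  P₃ : P ∈ L₃
  P₄ : P ∉ L₄
  a₁ : a ∈ L₁
  a₄ : a ∈ L₄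
  b₂ : b ∈ L₂
  b₄ : b ∈ L₄
  c₃ : c ∈ L₃
  c₄ : c ∈ L₄
  p₁ : p ∈ L₁
  q₂ : q ∈ L₂
  r₃ : r ∈ L₃
  pP : p ≠ P
  pa : p ≠ a
  qP : q ≠ P
  qb : q ≠ b
  rP : r ≠ P
  rc : r ≠ c

variable {L₁ L₂ L₃ L₄ : Finset α} {P a b c p q r : α}

theorem StarData.ne (h : StarData L₁ L₂ L₃ L₄ P a b c p q r) :
    a ≠ P ∧ b ≠ P ∧ c ≠ P ∧ a ≠ b ∧ a ≠ c ∧ b ≠ c :=
  have ha : a ≠ P := fun e => h.P₄ (e ▸ h.a₄)
  have hb : b ≠ P := fun e => h.P₄ (e ▸ h.b₄)
  have hc : c ≠ P := fun e => h.P₄ (e ▸ h.c₄)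
  ⟨ha, hb, hc, fun e => ha (h.h₁₂.2.1 a h.a₁ P h.P₁ (e ▸ h.b₂) h.P₂),
    fun e => ha (h.h₁₃.2.1 a h.a₁ P h.P₁ (e ▸ h.c₃) h.P₃),
    fun e => hb (h.h₂₃.2.1 b h.b₂ P h.P₂ (e ▸ h.c₃) h.P₃)⟩

theorem StarData.swap₁₂ (h : StarData L₁ L₂ L₃ L₄ P a b c p q r) :
    StarData L₂ L₁ L₃ L₄ P b a c q p r :=
  ⟨h.t₂, h.t₁, h.t₃, h.t₄, h.h₁₂.symm', h.h₂₃, h.h₁₃, h.h₂₄, h.h₁₄, h.h₃₄, h.P₂, h.P₁, h.P₃, h.P₄,
    h.b₂, h.b₄, h.a₁, h.a₄, h.c₃, h.c₄, h.q₂, h.p₁, h.r₃, h.qP, h.qb, h.pP, h.pa, h.rP, h.rc⟩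

theorem StarData.swap₂₃ (h : StarData L₁ L₂ L₃ L₄ P a b c p q r) :
    StarData L₁ L₃ L₂ L₄ P a c b p r q :=
  ⟨h.t₁, h.t₃, h.t₂, h.t₄, h.h₁₃, h.h₁₂, h.h₂₃.symm', h.h₁₄, h.h₃₄, h.h₂₄, h.P₁, h.P₃, h.P₂, h.P₄,
    h.a₁, h.a₄, h.c₃, h.c₄, h.b₂, h.b₄, h.p₁, h.r₃, h.q₂, h.pP, h.pa, h.rP, h.rc, h.qP, h.qb⟩

theorem StarData.cases₁ (h : StarData L₁ L₂ L₃ L₄ P a b c p q r) {v : α} (hv : v ∈ L₁) :
    v = P ∨ v = a ∨ v = p :=
  triple_cases h.t₁ h.P₁ h.a₁ h.p₁ h.ne.1.symm h.pP.symm h.pa.symm hv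

theorem StarData.cases₄ (h : StarData L₁ L₂ L₃ L₄ P a b c p q r) {v : α} (hv : v ∈ L₄) :
    v = a ∨ v = b ∨ v = c :=
  triple_cases h.t₄ h.a₄ h.b₄ h.c₄ h.ne.2.2.2.1 h.ne.2.2.2.2.1 h.ne.2.2.2.2.2 hv

/-- `P` in the second triple of the first column. -/
theorem StarData.through_P (h : StarData L₁ L₂ L₃ L₄ P a b c p q r) {M : Finset α} (hM : IsTriple M)
    (h₁ : OneMeet L₁ M) (h₂ : PairMeet L₂ M) (h₃ : PairMeet L₃ M) (h₄ : PairMeet L₄ M) (hP : P ∈ M) :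
    -q ∈ M ∧ -r ∈ M := by
  obtain ⟨u, hu, huM⟩ := h₂.1 ⟨P, h.P₂, hP⟩
  obtain ⟨w, hw, hwM⟩ := h₃.1 ⟨P, h.P₃, hP⟩
  have huP : u ≠ P := fun e => hM.2 P hP (e ▸ huM)
  have hwP : w ≠ P := fun e => hM.2 P hP (e ▸ hwM)
  have huw : u ≠ w := fun e => huP (h.h₂₃.2.1 u hu P h.P₂ (e ▸ hw) h.P₃)
  have hPu : P ≠ -u := fun e => h.t₂.2 u hu (e ▸ h.P₂)
  have hPw : P ≠ -w := fun e => h.t₃.2 w hw (e ▸ h.P₃)
  have key : ∀ z ∈ L₄, -z ∈ M → False := by
    intro z hz hzM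
    obtain ⟨z', hz', hz'M⟩ := h₄.2.1 ⟨z, hz, hzM⟩
    rcases triple_cases hM hP huM hwM hPu hPw (fun e => huw (neg_injective e)) hz'M with e | e | e
    · exact h.P₄ (e ▸ hz')
    · exact h.h₂₄.2.2 u hu (e ▸ hz')
    · exact h.h₃₄.2.2 w hw (e ▸ hz')
  refine ⟨?_, ?_⟩
  · rcases h.swap₁₂.cases₁ hu with e | e | e
    · exact absurd e huP
    · exact (key b h.b₄ (e ▸ huM)).elim
    · exact e ▸ huM
  · rcases h.swap₂₃.swap₁₂.cases₁ hw with e | e | e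
    · exact absurd e hwP
    · exact (key c h.c₄ (e ▸ hwM)).elim
    · exact e ▸ hwM

/-- A point of the transversal in the second triple of the first column. -/
theorem StarData.through_a (h : StarData L₁ L₂ L₃ L₄ P a b c p q r) {M : Finset α} (hM : IsTriple M)
    (h₁ : OneMeet L₁ M) (h₂ : PairMeet L₂ M) (h₃ : PairMeet L₃ M) (h₄ : PairMeet L₄ M) (ha : a ∈ M) :
    (-b ∈ M ∧ q ∈ M) ∨ (-c ∈ M ∧ r ∈ M) := by
  have key : ∀ {M₂ M₃ : Finset α} {b q c r : α}, StarData L₁ M₂ M₃ L₄ P a b c p q r →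
      PairMeet M₂ M → -b ∈ M → q ∈ M := by
    intro M₂ M₃ b q c r h h₂ hb
    obtain ⟨w, hw, hwM⟩ := h₂.2.1 ⟨b, h.b₂, hb⟩
    rcases h.swap₁₂.cases₁ hw with e | e | e
    · exact absurd (h₁.2.1 a h.a₁ P h.P₁ ha (e ▸ hwM)) h.ne.1
    · exact absurd hb (hM.2 b (e ▸ hwM))
    · exact e ▸ hwM
  obtain ⟨u, hu, huM⟩ := h₄.1 ⟨a, h.a₄, ha⟩
  rcases h.cases₄ hu with e | e | e <;> subst e
  · exact absurd huM (hM.2 u ha)
  · exact Or.inl ⟨huM, key h h₂ huM⟩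
  · exact Or.inr ⟨huM, key h.swap₂₃ h₃ huM⟩

/-- The private point in the second triple of the first column: nothing else is shared. -/
theorem StarData.through_p (h : StarData L₁ L₂ L₃ L₄ P a b c p q r) {M : Finset α} (hM : IsTriple M)
    (h₁ : OneMeet L₁ M) (h₂ : PairMeet L₂ M) (h₃ : PairMeet L₃ M) (h₄ : PairMeet L₄ M) (hp : p ∈ M) :
    ∀ v ∈ M, (v ∉ L₂ ∧ -v ∉ L₂) ∧ (v ∉ L₃ ∧ -v ∉ L₃) ∧ (v ∉ L₄ ∧ -v ∉ L₄) := by
  obtain ⟨hne1, hne2, hne3, hne4, hne5, hne6⟩ := h.ne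
  have hp4 : ∀ v ∈ L₄, v ≠ p ∧ v ≠ -p := fun v hv =>
    ⟨fun e => h.pa (h.h₁₄.2.1 p h.p₁ a h.a₁ (e ▸ hv) h.a₄), fun e => h.h₁₄.2.2 p h.p₁ (e ▸ hv)⟩
  have hPM : P ∉ M := fun hP => h.pP (h₁.2.1 p h.p₁ P h.P₁ hp hP)
  have hPM' : -P ∉ M := h₁.2.2 P h.P₁
  have haM : a ∉ M := fun haM => h.pa (h₁.2.1 p h.p₁ a h.a₁ hp haM)
  have haM' : -a ∉ M := h₁.2.2 a h.a₁
  -- `M` does not meet the transversal
  have k4 : ∀ u ∈ L₄, -u ∉ M := by
    intro u hu huM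
    obtain ⟨w, hw, hwM⟩ := h₄.2.1 ⟨u, hu, huM⟩
    have hwu : w ≠ u := fun e => hM.2 u (e ▸ hwM) huM
    have hM3 : ∀ x ∈ M, x = p ∨ x = w ∨ x = -u := fun x hx =>
      triple_cases hM hp hwM huM (fun e => (hp4 w hw).1 e.symm)
        (fun e => (hp4 u hu).2 (by rw [e, neg_neg])) (fun e => h.t₄.2 u hu (e ▸ hw)) hx
    -- one of `u`, `w` is on `L₂`, the other on `L₃`, and `p` is on neither
    have fin : ∀ {M₂ M₃ : Finset α} {b q c r : α}, StarData L₁ M₂ M₃ L₄ P a b c p q r →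
        PairMeet M₂ M → u = b → w = c → False := by
      intro M₂ M₃ b q c r h h₂ hub hwc
      obtain ⟨y, hy, hyM⟩ := h₂.2.1 ⟨b, h.b₂, hub ▸ huM⟩
      rcases hM3 y hyM with e | e | e
      · exact h.pP (h.h₁₂.2.1 p h.p₁ P h.P₁ (e ▸ hy) h.P₂)
      · exact h.ne.2.2.2.2.2 (h.h₂₄.2.1 b h.b₂ c (hwc ▸ e ▸ hy) h.b₄ h.c₄)
      · exact h.t₂.2 b h.b₂ (hub ▸ e ▸ hy)
    rcases h.cases₄ hu with e | e | e
    · exact haM' (e ▸ huM)
    · rcases h.cases₄ hw with e' | e' | e'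
      · exact haM (e' ▸ hwM)
      · exact hwu (e'.trans e.symm)
      · exact fin h h₂ e e'
    · rcases h.cases₄ hw with e' | e' | e'
      · exact haM (e' ▸ hwM)
      · exact fin h.swap₂₃ h₃ e e'
      · exact hwu (e'.trans e.symm)
  have k4' : ∀ u ∈ L₄, u ∉ M := fun u hu huM => by
    obtain ⟨w, hw, hwM⟩ := h₄.1 ⟨u, hu, huM⟩
    exact k4 w hw hwM
  have k2 : ∀ {M₂ M₃ : Finset α} {b q c r : α}, StarData L₁ M₂ M₃ L₄ P a b c p q r →
      PairMeet M₂ M → ∀ x ∈ M₂, x ∉ M ∧ -x ∉ M := by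
    intro M₂ M₃ b q c r h h₂ x hx
    have hm : ∀ z ∈ M₂, (z ∈ M → z = q) ∧ (-z ∈ M → z = q) := by
      intro z hz
      rcases h.swap₁₂.cases₁ hz with e | e | e
      · exact ⟨fun hm => absurd (e ▸ hm) hPM, fun hm => absurd (e ▸ hm) hPM'⟩
      · exact ⟨fun hm => absurd (e ▸ hm) (k4' b h.b₄), fun hm => absurd (e ▸ hm) (k4 b h.b₄)⟩
      · exact ⟨fun _ => e, fun _ => e⟩
    constructor
    · intro hxM
      obtain ⟨w, hw, hwM⟩ := h₂.1 ⟨x, hx, hxM⟩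
      exact hM.2 x hxM (by rw [(hm x hx).1 hxM, ← (hm w hw).2 hwM]; exact hwM)
    · intro hxM
      obtain ⟨w, hw, hwM⟩ := h₂.2.1 ⟨x, hx, hxM⟩
      exact hM.2 w hwM (by rw [(hm w hw).1 hwM, ← (hm x hx).2 hxM]; exact hxM)
  intro v hv
  refine ⟨⟨fun hv' => (k2 h h₂ v hv').1 hv, fun hv' => (k2 h h₂ _ hv').2 (by rwa [neg_neg])⟩,
    ⟨fun hv' => (k2 h.swap₂₃ h₃ v hv').1 hv, fun hv' => (k2 h.swap₂₃ h₃ _ hv').2 (by rwa [neg_neg])⟩,
    ⟨fun hv' => k4' v hv' hv, fun hv' => k4 _ hv' (by rwa [neg_neg])⟩⟩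

/-- The second triple of the column of the transversal, through `a`. -/
theorem StarData.fourth (h : StarData L₁ L₂ L₃ L₄ P a b c p q r) {M : Finset α} (hM : IsTriple M)
    (h₁ : PairMeet L₁ M) (h₂ : PairMeet L₂ M) (h₃ : PairMeet L₃ M) (h₄ : OneMeet L₄ M) (ha : a ∈ M) :
    -p ∈ M := by
  obtain ⟨hne1, hne2, hne3, hne4, hne5, hne6⟩ := h.ne
  obtain ⟨u, hu, huM⟩ := h₁.1 ⟨a, h.a₁, ha⟩
  rcases h.cases₁ hu with e | e | e <;> subst e
  · exfalso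
    obtain ⟨w, hw, hwM⟩ := h₂.2.1 ⟨u, h.P₂, huM⟩
    obtain ⟨y, hy, hyM⟩ := h₃.2.1 ⟨u, h.P₃, huM⟩
    have hwu : w ≠ u := fun e => hM.2 u (e ▸ hwM) huM
    have ha2 : a ∉ L₂ := fun h' => hne4 (h.h₂₄.2.1 a h' b h.b₂ h.a₄ h.b₄)
    have ha3 : a ∉ L₃ := fun h' => hne5 (h.h₃₄.2.1 a h' c h.c₃ h.a₄ h.c₄)
    rcases triple_cases hM ha huM hwM (fun e => h.t₁.2 u h.P₁ (e ▸ h.a₁)) (fun e => ha2 (e ▸ hw))
      (fun e => h.t₂.2 u h.P₂ (e ▸ hw)) hyM with e | e | e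
    · exact ha3 (e ▸ hy)
    · exact h.t₃.2 u h.P₃ (e ▸ hy)
    · exact hwu (h.h₂₃.2.1 w hw u h.P₂ (e ▸ hy) h.P₃)
  · exact absurd huM (hM.2 u ha)
  · exact huM

/-- The star configuration is impossible. -/
theorem StarData.false (h : StarData L₁ L₂ L₃ L₄ P a b c p q r) {M₁ M₂ M₃ M₄ : Finset α}
    (t₁ : IsTriple M₁) (t₂ : IsTriple M₂) (t₃ : IsTriple M₃) (t₄ : IsTriple M₄)
    (m₁₂ : OneMeet M₁ M₂) (m₁₃ : OneMeet M₁ M₃) (m₂₃ : OneMeet M₂ M₃) (m₁₄ : OneMeet M₁ M₄)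
    (m₂₄ : OneMeet M₂ M₄) (m₃₄ : OneMeet M₃ M₄)
    (c₁ : OneMeet L₁ M₁) (c₂ : OneMeet L₂ M₂) (c₃ : OneMeet L₃ M₃) (c₄ : OneMeet L₄ M₄)
    (d₂₁ : PairMeet L₂ M₁) (d₃₁ : PairMeet L₃ M₁) (d₄₁ : PairMeet L₄ M₁)
    (d₁₂ : PairMeet L₁ M₂) (d₃₂ : PairMeet L₃ M₂) (d₄₂ : PairMeet L₄ M₂)
    (d₁₃ : PairMeet L₁ M₃) (d₂₃ : PairMeet L₂ M₃) (d₄₃ : PairMeet L₄ M₃)
    (d₁₄ : PairMeet L₁ M₄) (d₂₄ : PairMeet L₂ M₄) (d₃₄ : PairMeet L₃ M₄) (ha : a ∈ M₄) : False := by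
  obtain ⟨hne1, hne2, hne3, hne4, hne5, hne6⟩ := h.ne
  have hp : -p ∈ M₄ := h.fourth t₄ d₁₄ d₂₄ d₃₄ c₄ ha
  obtain ⟨s, hs, hsa, hsp⟩ := triple_exists_third t₄ a (-p)
  have hap : a ≠ -p := fun e => h.t₁.2 p h.p₁ (e ▸ h.a₁)
  have hM4 : ∀ x ∈ M₄, x = a ∨ x = -p ∨ x = s := fun x hx =>
    triple_cases t₄ ha hp hs hap hsa.symm hsp.symm hx
  -- `s` is on neither `L₂` nor `L₃`
  have hs2 : ∀ {A B : Finset α} {b q c r : α}, StarData L₁ A B L₄ P a b c p q r → PairMeet A M₄ → s ∉ A := by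
    intro A B b q c r h h₂ hsA
    obtain ⟨z, hz, hzM⟩ := h₂.1 ⟨s, hsA, hs⟩
    rcases hM4 _ hzM with e | e | e
    · exact h.h₁₂.symm'.2.2 z hz (e ▸ h.a₁)
    · exact h.pP (h.h₁₂.2.1 p h.p₁ P h.P₁ (neg_injective e ▸ hz) h.P₂)
    · exact h.t₂.2 z hz (e ▸ hsA)
  -- the options for the second triples of the columns of `L₂`, `L₃`
  have opt : ∀ {A B M : Finset α} {b q c r : α}, StarData L₁ A B L₄ P a b c p q r → PairMeet A M₄ →
      PairMeet B M₄ → IsTriple M → OneMeet A M → PairMeet L₁ M → PairMeet B M → PairMeet L₄ M →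
      OneMeet M M₄ →
      (P ∈ M ∧ -p ∈ M ∧ -r ∈ M) ∨ (q ∈ M ∧ s ∈ M ∧
        ∀ v ∈ M, (v ∉ L₁ ∧ -v ∉ L₁) ∧ (v ∉ B ∧ -v ∉ B) ∧ (v ∉ L₄ ∧ -v ∉ L₄)) := by
    intro A B M b q c r h eA eB tM cA dL dB d4 m4
    obtain ⟨hne1, hne2, hne3, hne4, hne5, hne6⟩ := h.ne
    obtain ⟨x, hxA, hxM⟩ := cA.1
    rcases h.swap₁₂.cases₁ hxA with e | e | e <;> subst e
    · exact Or.inl ⟨hxM, h.swap₁₂.through_P tM cA dL dB d4 hxM⟩
    · exfalso
      rcases h.swap₁₂.through_a tM cA dL dB d4 hxM with ⟨ha', -⟩ | ⟨hc', hr'⟩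
      · exact m4.symm'.2.2 a ha ha'
      · have hM3 : ∀ y ∈ M, y = x ∨ y = -c ∨ y = r := fun y hy =>
          triple_cases tM hxM hc' hr' (fun e => h.t₄.2 c h.c₄ (e ▸ h.b₄))
            (fun e => hne2 (h.h₂₃.2.1 x hxA P h.P₂ (e ▸ h.r₃) h.P₃))
            (fun e => h.t₃.2 c h.c₃ (e ▸ h.r₃)) hy
        obtain ⟨y, hy, hyM⟩ := m4.1
        rcases hM3 y hy with e | e | e <;> rcases hM4 y hyM with e' | e' | e' <;> have ee := e.symm.trans e'
        · exact hne4 ee.symm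
        · exact h.h₁₂.2.2 p h.p₁ (ee ▸ hxA)
        · exact hs2 h eA (ee ▸ hxA)
        · exact h.t₄.2 c h.c₄ (ee ▸ h.a₄)
        · exact h.pP (h.h₁₃.2.1 p h.p₁ P h.P₁ ((neg_injective ee) ▸ h.c₃) h.P₃)
        · obtain ⟨z, hz, hzM⟩ := eB.2.1 ⟨c, h.c₃, ee ▸ hs⟩
          rcases hM4 z hzM with e | e | e
          · exact hne5 (h.h₃₄.2.1 a (e ▸ hz) c h.c₃ h.a₄ h.c₄)
          · exact h.h₁₃.2.2 p h.p₁ (e ▸ hz)
          · exact hs2 h.swap₂₃ eB (e ▸ hz)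
        · exact hne5 (h.h₃₄.2.1 a (ee ▸ h.r₃) c h.c₃ h.a₄ h.c₄)
        · exact h.h₁₃.2.2 p h.p₁ (ee ▸ h.r₃)
        · exact hs2 h.swap₂₃ eB (ee ▸ h.r₃)
    · have av := h.swap₁₂.through_p tM cA dL dB d4 hxM
      refine Or.inr ⟨hxM, ?_, av⟩
      obtain ⟨y, hy, hyM⟩ := m4.1
      rcases hM4 y hyM with e | e | e
      · exact absurd (e ▸ h.a₁) (av y hy).1.1
      · exact absurd (by rw [e, neg_neg]; exact h.p₁) (av y hy).1.2
      · exact e ▸ hy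
  have o2 := opt h d₂₄ d₃₄ t₂ c₂ d₁₂ d₃₂ d₄₂ m₂₄
  have o3 := opt h.swap₂₃ d₃₄ d₂₄ t₃ c₃ d₁₃ d₂₃ d₄₃ m₃₄
  rcases o2 with ⟨P2, p2, r2⟩ | ⟨q2, s2, a2⟩ <;> rcases o3 with ⟨P3, p3, q3⟩ | ⟨r3, s3, a3⟩
  · exact h.t₁.2 p h.p₁ (m₂₃.2.1 P P2 (-p) p2 P3 p3 ▸ h.P₁)
  · exact m₂₃.symm'.2.2 r r3 r2
  · exact m₂₃.2.2 q q2 q3
  · obtain ⟨x, hx, hxM⟩ := c₁.1
    rcases h.cases₁ hx with e | e | e <;> subst e
    · obtain ⟨hq', -⟩ := h.through_P t₁ c₁ d₂₁ d₃₁ d₄₁ hxM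
      exact m₁₂.symm'.2.2 q q2 hq'
    · rcases h.through_a t₁ c₁ d₂₁ d₃₁ d₄₁ hxM with ⟨hb', hq'⟩ | ⟨hc', hr'⟩
      · obtain ⟨y, hy, hy3⟩ := m₁₃.1
        rcases triple_cases t₁ hxM hb' hq' (fun e => h.t₄.2 b h.b₄ (e ▸ h.a₄))
          (fun e => hne4 (h.h₂₄.2.1 x (e ▸ h.q₂) b h.b₂ h.a₄ h.b₄))
          (fun e => h.t₂.2 b h.b₂ (e ▸ h.q₂)) hy with e | e | e
        · exact (a3 y hy3).2.2.1 (e ▸ h.a₄)
        · exact (a3 y hy3).2.2.2 (by rw [e, neg_neg]; exact h.b₄)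
        · exact (a3 y hy3).2.1.1 (e ▸ h.q₂)
      · obtain ⟨y, hy, hy2⟩ := m₁₂.1
        rcases triple_cases t₁ hxM hc' hr' (fun e => h.t₄.2 c h.c₄ (e ▸ h.a₄))
          (fun e => hne5 (h.h₃₄.2.1 x (e ▸ h.r₃) c h.c₃ h.a₄ h.c₄))
          (fun e => h.t₃.2 c h.c₃ (e ▸ h.r₃)) hy with e | e | e
        · exact (a2 y hy2).2.2.1 (e ▸ h.a₄)
        · exact (a2 y hy2).2.2.2 (by rw [e, neg_neg]; exact h.c₄)
        · exact (a2 y hy2).2.1.1 (e ▸ h.r₃)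
    · exact m₁₄.2.2 x hxM hp

omit [DecidableEq α] in
theorem fin4_exists_fourth : ∀ i j k : Fin 4, i ≠ j → i ≠ k → j ≠ k → ∃ l, l ≠ i ∧ l ≠ j ∧ l ≠ k := by
  decide

omit [DecidableEq α] in
theorem fin4_cases : ∀ i j k l m : Fin 4, i ≠ j → i ≠ k → j ≠ k → l ≠ i → l ≠ j → l ≠ k →
    m = i ∨ m = j ∨ m = k ∨ m = l := by
  decide

/-- In a grid with two rows and four columns, each row has a common object. -/
theorem row_common (L M : Fin 4 → Finset α) (hL : ∀ k, IsTriple (L k)) (hM : ∀ k, IsTriple (M k))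
    (hLL : ∀ k l, k ≠ l → OneMeet (L k) (L l)) (hMM : ∀ k l, k ≠ l → OneMeet (M k) (M l))
    (hcol : ∀ k, OneMeet (L k) (M k)) (hdia : ∀ k l, k ≠ l → PairMeet (L k) (M l)) :
    ∃ x, ∀ k, x ∈ L k := by
  by_cases hstar : ∃ (P : α) (i j k : Fin 4), i ≠ j ∧ i ≠ k ∧ j ≠ k ∧ P ∈ L i ∧ P ∈ L j ∧ P ∈ L k
  · obtain ⟨P, i, j, k, hij, hik, hjk, hi, hj, hk⟩ := hstar
    obtain ⟨l, hli, hlj, hlk⟩ := fin4_exists_fourth i j k hij hik hjk
    have hall : ∀ m, m = i ∨ m = j ∨ m = k ∨ m = l := fun m => fin4_cases i j k l m hij hik hjk hli hlj hlk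
    by_cases hl : P ∈ L l
    · exact ⟨P, fun m => by rcases hall m with rfl | rfl | rfl | rfl <;> assumption⟩
    exfalso
    obtain ⟨a, ha, ha'⟩ := (hLL i l hli.symm).1
    obtain ⟨b, hb, hb'⟩ := (hLL j l hlj.symm).1
    obtain ⟨c, hc, hc'⟩ := (hLL k l hlk.symm).1
    obtain ⟨p, hp, hpP, hpa⟩ := triple_exists_third (hL i) P a
    obtain ⟨q, hq, hqP, hqb⟩ := triple_exists_third (hL j) P b
    obtain ⟨r, hr, hrP, hrc⟩ := triple_exists_third (hL k) P c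
    have hS : StarData (L i) (L j) (L k) (L l) P a b c p q r :=
      ⟨hL i, hL j, hL k, hL l, hLL i j hij, hLL i k hik, hLL j k hjk, hLL i l hli.symm,
        hLL j l hlj.symm, hLL k l hlk.symm, hi, hj, hk, hl, ha, ha', hb, hb', hc, hc', hp, hq, hr,
        hpP, hpa, hqP, hqb, hrP, hrc⟩
    obtain ⟨x, hx, hxM⟩ := (hcol l).1
    rcases hS.cases₄ hx with e | e | e <;> subst e
    · exact hS.false (hM i) (hM j) (hM k) (hM l) (hMM i j hij) (hMM i k hik) (hMM j k hjk)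
        (hMM i l hli.symm) (hMM j l hlj.symm) (hMM k l hlk.symm) (hcol i) (hcol j) (hcol k) (hcol l)
        (hdia j i hij.symm) (hdia k i hik.symm) (hdia l i hli) (hdia i j hij) (hdia k j hjk.symm)
        (hdia l j hlj) (hdia i k hik) (hdia j k hjk) (hdia l k hlk) (hdia i l hli.symm)
        (hdia j l hlj.symm) (hdia k l hlk.symm) hxM
    · exact hS.swap₁₂.false (hM j) (hM i) (hM k) (hM l) (hMM j i hij.symm) (hMM j k hjk) (hMM i k hik)
        (hMM j l hlj.symm) (hMM i l hli.symm) (hMM k l hlk.symm) (hcol j) (hcol i) (hcol k) (hcol l)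
        (hdia i j hij) (hdia k j hjk.symm) (hdia l j hlj) (hdia j i hij.symm) (hdia k i hik.symm)
        (hdia l i hli) (hdia j k hjk) (hdia i k hik) (hdia l k hlk) (hdia j l hlj.symm)
        (hdia i l hli.symm) (hdia k l hlk.symm) hxM
    · exact hS.swap₂₃.swap₁₂.false (hM k) (hM i) (hM j) (hM l) (hMM k i hik.symm) (hMM k j hjk.symm)
        (hMM i j hij) (hMM k l hlk.symm) (hMM i l hli.symm) (hMM j l hlj.symm) (hcol k) (hcol i)
        (hcol j) (hcol l)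
        (hdia i k hik) (hdia j k hjk) (hdia l k hlk) (hdia k i hik.symm) (hdia j i hij.symm)
        (hdia l i hli) (hdia k j hjk.symm) (hdia i j hij) (hdia l j hlj) (hdia k l hlk.symm)
        (hdia i l hli.symm) (hdia j l hlj.symm) hxM
  · exfalso
    have hgen : ∀ v, ∀ a b c : Fin 4, a ≠ b → a ≠ c → b ≠ c → v ∈ L a → v ∈ L b → v ∈ L c → False :=
      fun v a b c h1 h2 h3 h4 h5 h6 => hstar ⟨v, a, b, c, h1, h2, h3, h4, h5, h6⟩
    obtain ⟨v, hv, hvM⟩ := (hcol 0).1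
    -- `v` is the point where `L 0` meets some `L k`
    obtain ⟨v1, e1, e1'⟩ := (hLL 0 1 (by decide)).1
    obtain ⟨v2, e2, e2'⟩ := (hLL 0 2 (by decide)).1
    obtain ⟨v3, e3, e3'⟩ := (hLL 0 3 (by decide)).1
    have n12 : v1 ≠ v2 := fun e => hgen v1 0 1 2 (by decide) (by decide) (by decide) e1 e1' (e ▸ e2')
    have n13 : v1 ≠ v3 := fun e => hgen v1 0 1 3 (by decide) (by decide) (by decide) e1 e1' (e ▸ e3')
    have n23 : v2 ≠ v3 := fun e => hgen v2 0 2 3 (by decide) (by decide) (by decide) e2 e2' (e ▸ e3')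
    obtain ⟨k, hk0, hvk⟩ : ∃ k : Fin 4, k ≠ 0 ∧ v ∈ L k := by
      rcases triple_cases (hL 0) e1 e2 e3 n12 n13 n23 hv with e | e | e
      · exact ⟨1, by decide, e ▸ e1'⟩
      · exact ⟨2, by decide, e ▸ e2'⟩
      · exact ⟨3, by decide, e ▸ e3'⟩
    obtain ⟨u, hu, huM⟩ := (hdia k 0 hk0).1 ⟨v, hvk, hvM⟩
    obtain ⟨m, n, hm0, hn0, hkm, hkn, hmn⟩ : ∃ m n : Fin 4, m ≠ 0 ∧ n ≠ 0 ∧ k ≠ m ∧ k ≠ n ∧ m ≠ n := by
      revert hk0; clear * -; revert k; decide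
    obtain ⟨x, hxk, hxm⟩ := (hLL k m hkm).1
    obtain ⟨y, hyk, hyn⟩ := (hLL k n hkn).1
    have hvx : v ≠ x := fun e => hgen v 0 k m hk0.symm hm0.symm hkm hv hvk (e ▸ hxm)
    have hvy : v ≠ y := fun e => hgen v 0 k n hk0.symm hn0.symm hkn hv hvk (e ▸ hyn)
    have hxy : x ≠ y := fun e => hgen x k m n hkm hkn hmn hxk hxm (e ▸ hyn)
    rcases triple_cases (hL k) hvk hxk hyk hvx hvy hxy hu with e | e | e
    · exact (hM 0).2 v hvM (e ▸ huM)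
    · subst e
      exact no_quadrilateral L (M 0) hL (hM 0) hLL hk0.symm hm0.symm hn0.symm hkm hkn hmn hgen (hcol 0)
        (fun l hl => hdia l 0 hl) hv hvk hvM hxk hxm huM
    · subst e
      exact no_quadrilateral L (M 0) hL (hM 0) hLL hk0.symm hn0.symm hm0.symm hkn hkm hmn.symm hgen (hcol 0)
        (fun l hl => hdia l 0 hl) hv hvk hvM hyk hyn huM

end TwoRows

section Grid

variable [DecidableEq α] {ι κ : Type*}

/-- Rows of a large enough grid have common objects. -/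
theorem exists_row_center [Fintype κ] (T : ι → κ → Finset α) (ht : ∀ i j, IsTriple (T i j))
    (hrow : ∀ i j j', j ≠ j' → OneMeet (T i j) (T i j'))
    (hcol : ∀ i i' j, i ≠ i' → OneMeet (T i j) (T i' j))
    (hdia : ∀ i i' j j', i ≠ i' → j ≠ j' → PairMeet (T i j) (T i' j'))
    (hκ : Fintype.card κ = 2 ∨ 4 ≤ Fintype.card κ) {i i' : ι} (hi : i ≠ i') :
    ∃ x, ∀ j, x ∈ T i j := by
  classical
  rcases hκ with h2 | h4
  · rw [← Finset.card_univ, Finset.card_eq_two] at h2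
    obtain ⟨j₀, j₁, hne, he⟩ := h2
    obtain ⟨x, hx, hx'⟩ := (hrow i j₀ j₁ hne).1
    refine ⟨x, fun j => ?_⟩
    have := Finset.mem_univ j
    rw [he, Finset.mem_insert, Finset.mem_singleton] at this
    rcases this with rfl | rfl <;> assumption
  · have hfour : ∀ e : Fin 4 → κ, Function.Injective e → ∃ x, ∀ k, x ∈ T i (e k) := fun e he =>
      row_common (fun k => T i (e k)) (fun k => T i' (e k)) (fun k => ht _ _) (fun k => ht _ _)
        (fun k l h => hrow i _ _ (he.ne h)) (fun k l h => hrow i' _ _ (he.ne h))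
        (fun k => hcol i i' _ hi) (fun k l h => hdia i i' _ _ hi (he.ne h))
    obtain ⟨e⟩ : Nonempty (Fin 4 ↪ κ) :=
      Function.Embedding.nonempty_of_card_le (by rwa [Fintype.card_fin])
    obtain ⟨x, hx⟩ := hfour e e.injective
    refine ⟨x, fun j => ?_⟩
    by_cases hj : ∃ k, e k = j
    · obtain ⟨k, rfl⟩ := hj; exact hx k
    push Not at hj
    obtain ⟨z, hz⟩ := hfour (Function.update e 3 j) (by
      intro k l hkl
      by_cases hk : k = 3 <;> by_cases hl : l = 3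
      · rw [hk, hl]
      · subst hk
        rw [Function.update_self, Function.update_of_ne hl] at hkl
        exact absurd hkl.symm (hj l)
      · subst hl
        rw [Function.update_self, Function.update_of_ne hk] at hkl
        exact absurd hkl (hj k)
      · rw [Function.update_of_ne hk, Function.update_of_ne hl] at hkl
        exact e.injective hkl)
    have h0 := hz 0
    have h1 := hz 1
    have h3 := hz 3
    rw [Function.update_of_ne (by decide)] at h0 h1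
    rw [Function.update_self] at h3
    have hzx : z = x := (hrow i (e 0) (e 1) (e.injective.ne (by decide))).2.1 z h0 x (hx 0) h1 (hx 1)
    exact hzx ▸ h3

/-- The structure of the grid: a centre for each row and each column, and one further object
per cell, all distinct up to sign. -/
theorem grid_structure [Fintype ι] [Fintype κ] (T : ι → κ → Finset α) (ht : ∀ i j, IsTriple (T i j))
    (hrow : ∀ i j j', j ≠ j' → OneMeet (T i j) (T i j'))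
    (hcol : ∀ i i' j, i ≠ i' → OneMeet (T i j) (T i' j))
    (hdia : ∀ i i' j j', i ≠ i' → j ≠ j' → PairMeet (T i j) (T i' j'))
    (hι : Fintype.card ι = 2 ∨ 4 ≤ Fintype.card ι) (hκ : Fintype.card κ = 2 ∨ 4 ≤ Fintype.card κ)
    (hbig : 4 ≤ Fintype.card ι ∨ 4 ≤ Fintype.card κ) :
    ∃ (x : ι → α) (y : κ → α) (z : ι → κ → α),
      (∀ i j, ∀ v, v ∈ T i j ↔ v = x i ∨ v = y j ∨ v = z i j) ∧
      (∀ i i', (x i = x i' ∨ x i = -x i') → i = i') ∧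
      (∀ j j', (y j = y j' ∨ y j = -y j') → j = j') ∧
      (∀ i i' j j', (z i j = z i' j' ∨ z i j = -z i' j') → i = i' ∧ j = j') ∧
      (∀ i j, x i ≠ y j ∧ x i ≠ -y j) ∧
      (∀ i i' j, x i ≠ z i' j ∧ x i ≠ -z i' j) ∧
      (∀ i j j', y j ≠ z i j' ∧ y j ≠ -z i j') := by
  classical
  have h2ι : ∀ g : ι, ∃ g', g ≠ g' := fun g => by
    haveI : Nontrivial ι := Fintype.one_lt_card_iff_nontrivial.1 (by omega)
    obtain ⟨g', hg'⟩ := exists_ne g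
    exact ⟨g', hg'.symm⟩
  have h2κ : ∀ g : κ, ∃ g', g ≠ g' := fun g => by
    haveI : Nontrivial κ := Fintype.one_lt_card_iff_nontrivial.1 (by omega)
    obtain ⟨g', hg'⟩ := exists_ne g
    exact ⟨g', hg'.symm⟩
  choose x hx using fun i => exists_row_center T ht hrow hcol hdia hκ (Classical.choose_spec (h2ι i))
  choose y hy using fun j => exists_row_center (fun j i => T i j) (fun j i => ht i j)
    (fun j i i' h => hcol i i' j h) (fun j j' i h => hrow i j j' h)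
    (fun j j' i i' h h' => hdia i i' j j' h' h) hι (Classical.choose_spec (h2κ j))
  -- a row centre is not a column centre
  have hxy : ∀ i j, x i ≠ y j := by
    intro i j e
    -- `x i` lies in all cells of row `i` and of column `j`
    obtain ⟨i', hi'⟩ := h2ι i
    obtain ⟨j', hj'⟩ := h2κ j
    rcases hbig with hb | hb
    · -- many rows: two cells of column `j` share a second object
      obtain ⟨b, hb1, hb2, hb3⟩ : ∃ S : Finset ι, i ∉ S ∧ 3 ≤ S.card ∧ True := by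
        refine ⟨Finset.univ.erase i, Finset.notMem_erase _ _, ?_, trivial⟩
        rw [Finset.card_erase_of_mem (Finset.mem_univ _), Finset.card_univ]; omega
      have hneg : ∀ k ∈ b, ∃ u ∈ T i j', -u ∈ T k j ∧ u ≠ x i := fun k hk => by
        obtain ⟨u, hu, hu'⟩ := (hdia i k j' j (fun e' => hb1 (e' ▸ hk)) hj'.symm).1
          ⟨x i, hx i j', e ▸ hy j k⟩
        exact ⟨u, hu, hu', fun eu => (ht k j).2 (x i) (e ▸ hy j k) (eu ▸ hu')⟩
      haveI : Nonempty α := ⟨x i⟩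
      choose! f hf using hneg
      obtain ⟨k, hk, l, hl, hkl, hfe⟩ := Finset.exists_ne_map_eq_of_card_lt_of_maps_to
        (t := (T i j').erase (x i)) (s := b) (f := f)
        (by rw [Finset.card_erase_of_mem (hx i j'), (ht i j').1]; omega)
        (fun k hk => Finset.mem_erase.2 ⟨(hf k hk).2.2, (hf k hk).1⟩)
      have hxn : x i ≠ -f k := fun h' => (ht i j').2 (f k) (hf k hk).1 (h' ▸ hx i j')
      exact hxn ((hcol k l j hkl).2.1 (x i) (e ▸ hy j k) (-f k) (hf k hk).2.1 (e ▸ hy j l)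
        (hfe ▸ (hf l hl).2.1))
    · obtain ⟨b, hb1, hb2, hb3⟩ : ∃ S : Finset κ, j ∉ S ∧ 3 ≤ S.card ∧ True := by
        refine ⟨Finset.univ.erase j, Finset.notMem_erase _ _, ?_, trivial⟩
        rw [Finset.card_erase_of_mem (Finset.mem_univ _), Finset.card_univ]; omega
      have hneg : ∀ k ∈ b, ∃ u ∈ T i' j, -u ∈ T i k ∧ u ≠ x i := fun k hk => by
        obtain ⟨u, hu, hu'⟩ := (hdia i' i j k hi'.symm (fun e' => hb1 (e' ▸ hk))).1
          ⟨x i, e ▸ hy j i', hx i k⟩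
        exact ⟨u, hu, hu', fun eu => (ht i k).2 (x i) (hx i k) (eu ▸ hu')⟩
      haveI : Nonempty α := ⟨x i⟩
      choose! f hf using hneg
      obtain ⟨k, hk, l, hl, hkl, hfe⟩ := Finset.exists_ne_map_eq_of_card_lt_of_maps_to
        (t := (T i' j).erase (x i)) (s := b) (f := f)
        (by rw [Finset.card_erase_of_mem (e ▸ hy j i'), (ht i' j).1]; omega)
        (fun k hk => Finset.mem_erase.2 ⟨(hf k hk).2.2, (hf k hk).1⟩)
      have hxn : x i ≠ -f k := fun h' => (ht i' j).2 (f k) (hf k hk).1 (h' ▸ e ▸ hy j i')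
      exact hxn ((hrow i k l hkl).2.1 (x i) (hx i k) (-f k) (hf k hk).2.1 (hx i l) (hfe ▸ (hf l hl).2.1))
  choose z hz hzx hzy using fun i j => triple_exists_third (ht i j) (x i) (y j)
  have hmem : ∀ i j, ∀ v, v ∈ T i j ↔ v = x i ∨ v = y j ∨ v = z i j := fun i j v =>
    ⟨triple_cases (ht i j) (hx i j) (hy j i) (hz i j) (hxy i j) (hzx i j).symm (hzy i j).symm, by
      rintro (rfl | rfl | rfl)
      exacts [hx i j, hy j i, hz i j]⟩
  have hxy' : ∀ i j, x i ≠ -y j := fun i j e => (ht i j).2 (y j) (hy j i) (e ▸ hx i j)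
  have hyy : ∀ j j', (y j = y j' ∨ y j = -y j') → j = j' := fun j j' e => by
    by_contra hne
    obtain ⟨i, -⟩ : ∃ i : ι, True := by
      haveI : Nonempty ι := Fintype.card_pos_iff.1 (by omega)
      exact ⟨Classical.arbitrary ι, trivial⟩
    exact hxy i j' ((hrow i j' j (Ne.symm hne)).unique (hx i j') (hx i j) (hy j' i) (hy j i) e).1.symm
  have hxx : ∀ i i', (x i = x i' ∨ x i = -x i') → i = i' := fun i i' e => by
    by_contra hne
    obtain ⟨j, -⟩ : ∃ j : κ, True := by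
      haveI : Nonempty κ := Fintype.card_pos_iff.1 (by omega)
      exact ⟨Classical.arbitrary κ, trivial⟩
    exact hxy i' j ((hcol i' i j (Ne.symm hne)).unique (hy j i') (hy j i) (hx i' j) (hx i j) e).1
  have hxz : ∀ i i' j, x i ≠ z i' j ∧ x i ≠ -z i' j := fun i i' j => by
    by_cases hne : i = i'
    · subst hne
      exact ⟨(hzx i j).symm, fun e => (ht i j).2 (z i j) (hz i j) (e ▸ hx i j)⟩
    · have := fun e => (hcol i' i j (Ne.symm hne)).unique (hy j i') (hy j i) (hz i' j) (hx i j) e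
      exact ⟨fun e => hzy i' j (this (Or.inl e)).1, fun e => hzy i' j (this (Or.inr e)).1⟩
  have hyz : ∀ i j j', y j ≠ z i j' ∧ y j ≠ -z i j' := fun i j j' => by
    by_cases hne : j = j'
    · subst hne
      exact ⟨(hzy i j).symm, fun e => (ht i j).2 (z i j) (hz i j) (e ▸ hy j i)⟩
    · have := fun e => (hrow i j' j (Ne.symm hne)).unique (hx i j') (hx i j) (hz i j') (hy j i) e
      exact ⟨fun e => hzx i j' (this (Or.inl e)).1, fun e => hzx i j' (this (Or.inr e)).1⟩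
  refine ⟨x, y, z, hmem, hxx, hyy, ?_, fun i j => ⟨hxy i j, hxy' i j⟩, hxz, hyz⟩
  intro i i' j j' e
  by_cases hi : i = i' <;> by_cases hj : j = j'
  · exact ⟨hi, hj⟩
  · subst hi
    exact absurd ((hrow i j j' hj).unique (hx i j) (hx i j') (hz i j) (hz i j')
      (e.imp Eq.symm fun e' => by rw [e', neg_neg])).1 (hzx i j)
  · subst hj
    exact absurd ((hcol i i' j hi).unique (hy j i) (hy j i') (hz i j) (hz i' j)
      (e.imp Eq.symm fun e' => by rw [e', neg_neg])).1 (hzy i j)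
  · exfalso
    -- the only possible common object of the two cells
    have hp := hdia i i' j j' hi hj
    have only : ∀ u ∈ T i j, ∀ w ∈ T i' j', (u = w ∨ u = -w) → u = z i j ∧ w = z i' j' := by
      intro u hu w hw h
      have swap : ∀ a b : α, a = -b → b = -a := fun a b h => by rw [h, neg_neg]
      rcases (hmem i j u).1 hu with rfl | rfl | rfl <;> rcases (hmem i' j' w).1 hw with rfl | rfl | rfl
      · exact absurd (hxx _ _ h) hi
      · exact h.elim (fun h => absurd h (hxy i j')) fun h => absurd h (hxy' i j')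
      · exact h.elim (fun h => absurd h (hxz i i' j').1) fun h => absurd h (hxz i i' j').2
      · exact h.elim (fun h => absurd h.symm (hxy i' j)) fun h => absurd (swap _ _ h) (hxy' i' j)
      · exact absurd (hyy _ _ h) hj
      · exact h.elim (fun h => absurd h (hyz i' j j').1) fun h => absurd h (hyz i' j j').2
      · exact h.elim (fun h => absurd h.symm (hxz i' i j).1) fun h => absurd (swap _ _ h) (hxz i' i j).2
      · exact h.elim (fun h => absurd h.symm (hyz i j' j).1) fun h => absurd (swap _ _ h) (hyz i j' j).2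
      · exact ⟨rfl, rfl⟩
    rcases e with e | e
    · obtain ⟨u, hu, hu'⟩ := hp.1 ⟨z i j, hz i j, e ▸ hz i' j'⟩
      obtain ⟨h1, h2⟩ := only u hu _ hu' (Or.inr (neg_neg u).symm)
      exact (ht i' j').2 _ (hz i' j') (by rw [← e, ← h1]; exact hu')
    · obtain ⟨u, hu, hu'⟩ := hp.2.1 ⟨z i j, hz i j, by rw [e, neg_neg]; exact hz i' j'⟩
      obtain ⟨h1, h2⟩ := only u hu u hu' (Or.inl rfl)
      exact (ht i' j').2 _ (hz i' j') (by rw [← e, ← h1]; exact hu')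

end Grid

end Cfsg.Agent.OddOrder
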