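import Cfsg.Agent.Lib.OddOrder.CyclicTI
import Cfsg.Agent.Lib.Char.Linear

set_option autoImplicit false

/-! The set `W ∖ (W₁ ∪ W₂)` is TI with normaliser `W`; induction from `W` of functions supported there. -/

namespace Cfsg.Agent.OddOrder

open Finset

variable {G : Type*} [Group G] {W₁ W₂ : Subgroup G}

theorem isCyclicTI_mem_iff [Finite G] (hW : IsSelfNormalizingCyclic W₁ W₂) {U : Subgroup G}
    (hU : U ≤ W₁ ⊔ W₂) {y : G} (hy : y ∈ W₁ ⊔ W₂) (hpow : y ^ Nat.card U = 1) : y ∈ U := by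
  classical
  haveI := hW.2.2.2.2.1
  haveI : Fintype ↥(W₁ ⊔ W₂) := Fintype.ofFinite _
  haveI : Fintype U := Fintype.ofFinite _
  set S := (Finset.univ : Finset ↥(W₁ ⊔ W₂)).filter fun a => a ^ Nat.card U = 1 with hS
  set T := (Finset.univ : Finset U).image (Subgroup.inclusion hU) with hT
  have hTS : T ⊆ S := by
    intro a ha
    obtain ⟨u, -, rfl⟩ := Finset.mem_image.1 ha
    exact Finset.mem_filter.2 ⟨Finset.mem_univ _, by rw [← map_pow, pow_card_eq_one', map_one]⟩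
  have hcard : S.card ≤ T.card := by
    rw [hT, Finset.card_image_of_injective _ (Subgroup.inclusion_injective hU), Finset.card_univ,
      ← Nat.card_eq_fintype_card]
    exact IsCyclic.card_pow_eq_one_le Nat.card_pos
  have hmem : (⟨y, hy⟩ : ↥(W₁ ⊔ W₂)) ∈ T := by
    rw [Finset.eq_of_subset_of_card_le hTS hcard]
    exact Finset.mem_filter.2 ⟨Finset.mem_univ _, Subtype.ext hpow⟩
  obtain ⟨u, -, hu⟩ := Finset.mem_image.1 hmem
  rw [← show (u : G) = y from congrArg Subtype.val hu]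
  exact u.2

theorem isCyclicTI_normalizer_singleton (hW : IsSelfNormalizingCyclic W₁ W₂) {v : G}
    (hv : v ∈ W₁ ⊔ W₂) (hv1 : v ∉ W₁) (hv2 : v ∉ W₂) :
    Subgroup.normalizer ({v} : Set G) = W₁ ⊔ W₂ := by
  refine hW.2.2.2.2.2 {v} ?_ ⟨v, rfl⟩
  rintro x rfl
  exact ⟨hv, fun h => h.elim hv1 hv2⟩

theorem exists_mem_not_mem (hW : IsSelfNormalizingCyclic W₁ W₂) :
    ∃ v ∈ W₁ ⊔ W₂, v ∉ W₁ ∧ v ∉ W₂ := by
  obtain ⟨a, ha, ha1⟩ := (Subgroup.bot_or_exists_ne_one W₁).resolve_left hW.1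
  obtain ⟨b, hb, hb1⟩ := (Subgroup.bot_or_exists_ne_one W₂).resolve_left hW.2.1
  have hd : ∀ x, x ∈ W₁ → x ∈ W₂ → x = 1 := fun x h1 h2 => by
    have : x ∈ W₁ ⊓ W₂ := ⟨h1, h2⟩
    rwa [hW.2.2.1, Subgroup.mem_bot] at this
  refine ⟨a * b, mul_mem (Subgroup.mem_sup_left ha) (Subgroup.mem_sup_right hb), fun h => hb1 ?_,
    fun h => ha1 ?_⟩
  · exact hd b (by simpa using mul_mem (inv_mem ha) h) hb
  · exact hd a ha (by simpa using mul_mem h (inv_mem hb))

/-- `W ∖ (W₁ ∪ W₂)` is a TI set with normaliser `W`. -/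
theorem isCyclicTI_conj_mem [Finite G] (hW : IsSelfNormalizingCyclic W₁ W₂) {v x : G}
    (hv : v ∈ W₁ ⊔ W₂) (hv1 : v ∉ W₁) (hv2 : v ∉ W₂) (hx : x * v * x⁻¹ ∈ W₁ ⊔ W₂) :
    x ∈ W₁ ⊔ W₂ := by
  haveI : Fintype G := Fintype.ofFinite G
  have hN := isCyclicTI_normalizer_singleton hW hv hv1 hv2
  -- every element of `W` commutes with `x v x⁻¹`, so `x⁻¹` maps `W` into `W`
  have hsub : ∀ y ∈ W₁ ⊔ W₂, x⁻¹ * y * x ∈ W₁ ⊔ W₂ := by
    intro y hy
    have hc : y * (x * v * x⁻¹) = x * v * x⁻¹ * y :=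
      congrArg Subtype.val (isCyclicTI_comm hW ⟨y, hy⟩ ⟨_, hx⟩)
    rw [← hN, Subgroup.mem_set_normalizer_iff]
    have hfix : x⁻¹ * y * x * v * (x⁻¹ * y * x)⁻¹ = v := by
      calc x⁻¹ * y * x * v * (x⁻¹ * y * x)⁻¹ = x⁻¹ * (y * (x * v * x⁻¹)) * y⁻¹ * x := by group
        _ = v := by rw [hc]; group
    intro z
    simp only [Set.mem_singleton_iff]
    constructor
    · rintro rfl; exact hfix
    · intro h
      exact mul_left_cancel (mul_right_cancel (h.trans hfix.symm))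
  have hpart : ∀ U : Subgroup G, U ≤ W₁ ⊔ W₂ → ∀ y ∈ U, x⁻¹ * y * x ∈ U := fun U hU y hy =>
    isCyclicTI_mem_iff hW hU (hsub y (hU hy)) (by
      have h : (⟨y, hy⟩ : U) ^ Nat.card U = 1 := pow_card_eq_one'
      have h' : y ^ Nat.card U = 1 := congrArg Subtype.val h
      rw [show x⁻¹ * y * x = x⁻¹ * y * x⁻¹⁻¹ by rw [inv_inv], conj_pow, h']; group)
  have hiff : ∀ U : Subgroup G, U ≤ W₁ ⊔ W₂ → ∀ y, y ∈ U ↔ x⁻¹ * y * x ∈ U := by
    intro U hU y
    refine ⟨hpart U hU y, fun h => ?_⟩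
    have hbij : Function.Surjective (fun u : U => (⟨x⁻¹ * u * x, hpart U hU u u.2⟩ : U)) :=
      Finite.surjective_of_injective fun a b hab =>
        Subtype.ext (mul_left_cancel (mul_right_cancel (congrArg Subtype.val hab :)))
    obtain ⟨u, hu⟩ := hbij ⟨_, h⟩
    rw [← mul_left_cancel (mul_right_cancel (congrArg Subtype.val hu :))]
    exact u.2
  have hxinv : x⁻¹ ∈ W₁ ⊔ W₂ := by
    obtain ⟨v₀, h0⟩ := exists_mem_not_mem hW
    rw [← hW.2.2.2.2.2 _ (subset_refl _) ⟨v₀, h0.1, fun h => h.elim h0.2.1 h0.2.2⟩,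
      Subgroup.mem_set_normalizer_iff]
    intro y
    simp only [inv_inv, Set.mem_diff, Set.mem_union, SetLike.mem_coe, ← hiff _ le_rfl y,
      ← hiff W₁ le_sup_left y, ← hiff W₂ le_sup_right y]
  exact inv_mem_iff.1 hxinv

/-- Inducing a function supported on `W ∖ (W₁ ∪ W₂)` does not change its values on `W`. -/
theorem indFun_apply_of_supp [Fintype G] (hW : IsSelfNormalizingCyclic W₁ W₂)
    (α : ↥(W₁ ⊔ W₂) → ℂ) (hα : ∀ w : ↥(W₁ ⊔ W₂), (w : G) ∈ W₁ ∨ (w : G) ∈ W₂ → α w = 0)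
    (w : ↥(W₁ ⊔ W₂)) : indFun (W₁ ⊔ W₂) α w = α w := by
  classical
  have hterm : ∀ x : G, extendByZero (W₁ ⊔ W₂) α (x⁻¹ * w * x) =
      if x ∈ W₁ ⊔ W₂ then α w else 0 := by
    intro x
    by_cases hx : x⁻¹ * (w : G) * x ∈ W₁ ⊔ W₂
    · rw [Char.extendByZero_of_mem _ _ hx]
      split_ifs with hxW
      · congr 1
        refine Subtype.ext ?_
        have h := congrArg Subtype.val (isCyclicTI_comm hW w ⟨x, hxW⟩)
        show x⁻¹ * (w : G) * x = w
        rw [mul_assoc, show (w : G) * x = x * w from h]; group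
      · refine hα _ ?_
        by_contra hcon
        push Not at hcon
        exact hxW (isCyclicTI_conj_mem hW hx hcon.1 hcon.2 (x := x)
          (by rw [show x * (x⁻¹ * (w : G) * x) * x⁻¹ = w by group]; exact w.2))
    · rw [Char.extendByZero_of_notMem _ _ hx, if_neg fun h => hx
        (mul_mem (mul_mem (inv_mem h) w.2) h)]
  simp only [indFun, hterm]
  rw [Finset.sum_ite, Finset.sum_const_zero, add_zero, Finset.sum_const, nsmul_eq_mul,
    ← mul_assoc, ← Fintype.card_subtype, ← Nat.card_eq_fintype_card]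
  exact (congrArg (· * α w) (inv_mul_cancel₀ (Nat.cast_ne_zero.2 Nat.card_pos.ne'))).trans (one_mul _)

theorem classInner_monoidHom {W : Type*} [Group W] [Fintype W] (φ ψ : W →* ℂˣ) :
    classInner (fun w => (φ w : ℂ)) (fun w => (ψ w : ℂ)) = if φ = ψ then 1 else 0 := by
  by_cases h : φ = ψ
  · subst h
    rw [if_pos rfl]
    exact Char.classInner_irr_self (Char.linIrr ((Units.coeHom ℂ).comp φ)).2
  · rw [if_neg h]
    refine Char.classInner_irr_of_ne (Char.linIrr ((Units.coeHom ℂ).comp φ)).2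
      (Char.linIrr ((Units.coeHom ℂ).comp ψ)).2 fun he => h (MonoidHom.ext fun w => Units.ext ?_)
    exact congrFun he w

end Cfsg.Agent.OddOrder
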