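import Cfsg.Agent.Lib.OddOrder.CyclicTIUnique
import Cfsg.Agent.Lib.OddOrder.Grid
import Cfsg.Agent.S1505

set_option autoImplicit false

/-! Existence of the cyclic TI family (Peterfalvi (3.2), (3.5)). -/

namespace Cfsg.Agent.OddOrder

open scoped ComplexConjugate
open Finset

section Signed

variable {G : Type*} [Group G] [Fintype G]

/-- An irreducible character up to sign. -/
def IsSignedIrr (x : G → ℂ) : Prop := IsIrrCharacter G x ∨ IsIrrCharacter G (-x)

omit [Fintype G] in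
theorem IsSignedIrr.neg {x : G → ℂ} (h : IsSignedIrr x) : IsSignedIrr (-x) :=
  h.symm.imp id fun h' => by rwa [neg_neg]

theorem IsSignedIrr.classInner_self {x : G → ℂ} (h : IsSignedIrr x) : classInner x x = 1 := by
  rcases h with h | h
  · exact Char.classInner_irr_self h
  · simpa [classInner] using Char.classInner_irr_self h

omit [Fintype G] in
theorem IsSignedIrr.apply_one_ne_zero {x : G → ℂ} (h : IsSignedIrr x) : x 1 ≠ 0 := by
  rcases h with h | h
  · exact Char.IsIrrCharacter.apply_one_ne_zero h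
  · simpa using Char.IsIrrCharacter.apply_one_ne_zero h

omit [Fintype G] in
theorem isSignedIrr_one : IsSignedIrr (fun _ : G => (1 : ℂ)) :=
  Or.inl (Char.linIrr (1 : G →* ℂ)).2

theorem classInner_neg_left' (x y : G → ℂ) : classInner (-x) y = -classInner x y := by
  simp [classInner]

theorem classInner_neg_right' (x y : G → ℂ) : classInner x (-y) = -classInner x y := by
  simp [classInner]

theorem IsSignedIrr.classInner_eq_zero {x y : G → ℂ} (hx : IsSignedIrr x) (hy : IsSignedIrr y)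
    (h1 : x ≠ y) (h2 : x ≠ -y) : classInner x y = 0 := by
  rcases hx with hx | hx <;> rcases hy with hy | hy
  · exact Char.classInner_irr_of_ne hx hy h1
  · have := Char.classInner_irr_of_ne hx hy h2
    rwa [classInner_neg_right', neg_eq_zero] at this
  · have := Char.classInner_irr_of_ne hx hy fun e => h2 (by rw [← e, neg_neg])
    rwa [classInner_neg_left', neg_eq_zero] at this
  · have := Char.classInner_irr_of_ne hx hy fun e => h1 (neg_injective e)
    rwa [classInner_neg_left', classInner_neg_right', neg_neg] at this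

/-- The signed constituents of a class function. -/
noncomputable def signedParts (β : G → ℂ) : Finset (G → ℂ) :=
  open Classical in
  ((Finset.univ.image fun ψ : IrrCharacter G => ψ.1) ∪
    (Finset.univ.image fun ψ : IrrCharacter G => -ψ.1)).filter fun x => classInner β x = 1

theorem mem_signedParts {β x : G → ℂ} :
    x ∈ signedParts β ↔ IsSignedIrr x ∧ classInner β x = 1 := by
  classical
  simp only [signedParts, Finset.mem_filter, Finset.mem_union, Finset.mem_image, Finset.mem_univ,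
    true_and]
  refine and_congr_left fun _ => ⟨?_, ?_⟩
  · rintro (⟨ψ, rfl⟩ | ⟨ψ, rfl⟩)
    · exact Or.inl ψ.2
    · exact Or.inr (by rw [neg_neg]; exact ψ.2)
  · rintro (h | h)
    · exact Or.inl ⟨⟨x, h⟩, rfl⟩
    · exact Or.inr ⟨⟨-x, h⟩, neg_neg x⟩

theorem neg_notMem_signedParts {β x : G → ℂ} (h : x ∈ signedParts β) : -x ∉ signedParts β := by
  intro h'
  have h1 := (mem_signedParts.1 h').2
  rw [classInner_neg_right', (mem_signedParts.1 h).2] at h1
  norm_num at h1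

variable {β β' : G → ℂ}

/-- A virtual character of norm `3` is the sum of three signed irreducibles. -/
theorem signedParts_spec (hβ : IsGeneralizedCharacter G β) (h3 : classInner β β = 3) :
    IsTriple (signedParts β) ∧ β = ∑ x ∈ signedParts β, x := by
  classical
  obtain ⟨m, hm, hinner⟩ := Char.IsGeneralizedCharacter.exists_decomp hβ
  have h2 : ∑ ψ, m ψ ^ 2 = 3 := by
    have h := Char.IsGeneralizedCharacter.classInner_self_eq_sum hm
    rw [h3] at h
    exact_mod_cast h.symm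
  have hle : ∀ ψ, m ψ = 0 ∨ m ψ = 1 ∨ m ψ = -1 := fun ψ => by
    have h := Finset.single_le_sum (f := fun ψ => m ψ ^ 2) (fun x _ => sq_nonneg _) (Finset.mem_univ ψ)
    simp only [h2] at h
    have h' : |m ψ| ≤ 1 := by
      by_contra hc
      push Not at hc
      have : 2 ^ 2 ≤ |m ψ| ^ 2 := by gcongr; omega
      rw [sq_abs] at this
      omega
    rw [abs_le] at h'; omega
  set S := Finset.univ.filter fun ψ => m ψ ≠ 0 with hS
  have hsq : ∀ ψ ∈ S, m ψ ^ 2 = 1 := fun ψ hψ => by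
    rcases hle ψ with h | h | h
    · exact absurd h (Finset.mem_filter.1 hψ).2
    all_goals rw [h]; norm_num
  have hcard : S.card = 3 := by
    have : ∑ ψ ∈ S, m ψ ^ 2 = 3 := by
      rw [← h2]
      refine Finset.sum_subset (Finset.subset_univ _) fun ψ _ hψ => ?_
      simp only [hS, Finset.mem_filter, Finset.mem_univ, true_and, not_not] at hψ
      rw [hψ]; norm_num
    rw [Finset.sum_congr rfl hsq, Finset.sum_const, nsmul_eq_mul, mul_one] at this
    exact_mod_cast this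
  have hinj : Set.InjOn (fun ψ : IrrCharacter G => (m ψ : ℂ) • ψ.1) ↑S := by
    intro a ha b hb e
    by_contra hne
    have h := congrArg (fun f => classInner f a.1) e
    simp only [Char.classInner_smul_left, Char.classInner_irr, if_neg (Ne.symm hne), if_true, mul_zero,
      mul_one] at h
    exact (Finset.mem_filter.1 (Finset.mem_coe.1 ha)).2 (by exact_mod_cast h)
  have heq : signedParts β = S.image fun ψ => (m ψ : ℂ) • ψ.1 := by
    ext x
    rw [mem_signedParts, Finset.mem_image]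
    constructor
    · rintro ⟨hx | hx, h1⟩
      · have h := hinner ⟨x, hx⟩
        rw [h1] at h
        have h' : m ⟨x, hx⟩ = 1 := by exact_mod_cast h.symm
        exact ⟨⟨x, hx⟩, Finset.mem_filter.2 ⟨Finset.mem_univ _, by rw [h']; norm_num⟩, by simp [h']⟩
      · have h := hinner ⟨-x, hx⟩
        rw [classInner_neg_right', h1] at h
        have h' : m ⟨-x, hx⟩ = -1 := by exact_mod_cast h.symm
        exact ⟨⟨-x, hx⟩, Finset.mem_filter.2 ⟨Finset.mem_univ _, by rw [h']; norm_num⟩, by simp [h']⟩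
    · rintro ⟨ψ, hψ, rfl⟩
      rcases hle ψ with h | h | h
      · exact absurd h (Finset.mem_filter.1 hψ).2
      · simp only [h, Int.cast_one, one_smul]
        exact ⟨Or.inl ψ.2, by rw [hinner, h, Int.cast_one]⟩
      · simp only [h, Int.cast_neg, Int.cast_one, neg_smul, one_smul]
        exact ⟨Or.inr (by rw [neg_neg]; exact ψ.2),
          by rw [classInner_neg_right', hinner, h]; norm_num⟩
  refine ⟨⟨by rw [heq, Finset.card_image_of_injOn hinj, hcard], fun u hu => neg_notMem_signedParts hu⟩, ?_⟩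
  rw [heq, Finset.sum_image hinj]
  conv_lhs => rw [hm]
  refine (Finset.sum_subset (Finset.subset_univ _) fun ψ _ hψ => ?_).symm
  simp only [hS, Finset.mem_filter, Finset.mem_univ, true_and, not_not] at hψ
  rw [hψ, Int.cast_zero, zero_smul]

/-- Inner products and degrees of two such sums decide how they meet. -/
theorem signedParts_meet (hβ : IsGeneralizedCharacter G β) (h3 : classInner β β = 3)
    (hβ' : IsGeneralizedCharacter G β') (h3' : classInner β' β' = 3) (hdeg : β 1 = β' 1) :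
    (classInner β β' = 1 → OneMeet (signedParts β) (signedParts β')) ∧
    (classInner β β' = 0 → PairMeet (signedParts β) (signedParts β')) := by
  classical
  obtain ⟨⟨hc, -⟩, hs⟩ := signedParts_spec hβ h3
  obtain ⟨⟨hc', hn'⟩, hs'⟩ := signedParts_spec hβ' h3'
  set T := signedParts β
  set T' := signedParts β'
  set P := T.filter fun x => x ∈ T' with hP
  set N := T.filter fun x => -x ∈ T' with hN
  have hdisj : Disjoint P N := Finset.disjoint_left.2 fun x hx hx' =>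
    hn' x (Finset.mem_filter.1 hx).2 (Finset.mem_filter.1 hx').2
  have hsub : P ∪ N ⊆ T := Finset.union_subset (Finset.filter_subset _ _) (Finset.filter_subset _ _)
  have hPN : P.card + N.card ≤ 3 := by
    rw [← hc, ← Finset.card_union_of_disjoint hdisj]; exact Finset.card_le_card hsub
  have hinner : classInner β β' = (P.card : ℂ) - N.card := by
    have hterm : ∀ x ∈ T, classInner x β' = (if x ∈ T' then 1 else 0) - if -x ∈ T' then 1 else 0 := by
      intro x hx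
      have hxs := (mem_signedParts.1 hx).1
      conv_lhs => rw [hs']
      rw [Char.classInner_sum_right]
      by_cases h1 : x ∈ T'
      · rw [if_pos h1, if_neg (hn' x h1), sub_zero, Finset.sum_eq_single_of_mem x h1]
        · exact hxs.classInner_self
        · intro y hy hne
          exact hxs.classInner_eq_zero (mem_signedParts.1 hy).1 (Ne.symm hne)
            fun e => hn' y hy (e ▸ h1)
      rw [if_neg h1, zero_sub]
      by_cases h2 : -x ∈ T'
      · rw [if_pos h2, Finset.sum_eq_single_of_mem (-x) h2]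
        · rw [classInner_neg_right', hxs.classInner_self]
        · intro y hy hne
          exact hxs.classInner_eq_zero (mem_signedParts.1 hy).1 (fun e => h1 (e ▸ hy))
            fun e => hne (by rw [e, neg_neg])
      · rw [if_neg h2, neg_zero, Finset.sum_eq_zero]
        intro y hy
        exact hxs.classInner_eq_zero (mem_signedParts.1 hy).1 (fun e => h1 (e ▸ hy))
          fun e => h2 (by rw [e, neg_neg]; exact hy)
    conv_lhs => rw [hs]
    rw [Char.classInner_sum_left, Finset.sum_congr rfl hterm, Finset.sum_sub_distrib, Finset.sum_boole,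
      Finset.sum_boole]
  refine ⟨fun h1 => ?_, fun h0 => ?_⟩
  · rw [hinner] at h1
    have hP1 : P.card = N.card + 1 := by
      have : (P.card : ℂ) = ((N.card + 1 : ℕ) : ℂ) := by push_cast; linear_combination h1
      exact_mod_cast this
    have hN0 : N.card = 0 := by
      by_contra hN0
      have hN1 : N.card = 1 := by omega
      obtain ⟨w, hw⟩ := Finset.card_eq_one.1 hN1
      have eT : T = P ∪ N := (Finset.eq_of_subset_of_card_le hsub (by
        rw [Finset.card_union_of_disjoint hdisj]; omega)).symm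
      have hwT : w ∈ N := by rw [hw]; exact Finset.mem_singleton_self w
      have hwP : -w ∉ P := fun h => neg_notMem_signedParts (Finset.mem_filter.1 hwT).1
        (Finset.mem_filter.1 h).1
      have eT' : T' = insert (-w) P := by
        refine (Finset.eq_of_subset_of_card_le (Finset.insert_subset (Finset.mem_filter.1 hwT).2
          fun x hx => (Finset.mem_filter.1 hx).2) ?_).symm
        rw [Finset.card_insert_of_notMem hwP]; omega
      rw [hs, hs', eT, eT', Finset.sum_union hdisj, hw, Finset.sum_singleton,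
        Finset.sum_insert hwP] at hdeg
      simp only [Pi.add_apply, Pi.neg_apply] at hdeg
      exact (mem_signedParts.1 (Finset.mem_filter.1 hwT).1).1.apply_one_ne_zero
        (by linear_combination hdeg / 2)
    obtain ⟨a, ha⟩ := Finset.card_eq_one.1 (show P.card = 1 by omega)
    refine ⟨⟨a, ?_⟩, fun u hu v hv hu' hv' => ?_, fun u hu hu' => ?_⟩
    · have : a ∈ P := by rw [ha]; exact Finset.mem_singleton_self a
      exact Finset.mem_filter.1 this
    · exact Finset.card_le_one.1 (by omega : P.card ≤ 1) u (Finset.mem_filter.2 ⟨hu, hu'⟩) v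
        (Finset.mem_filter.2 ⟨hv, hv'⟩)
    · have hN1 : 0 < N.card := Finset.card_pos.2 ⟨u, Finset.mem_filter.2 ⟨hu, hu'⟩⟩
      omega
  · rw [hinner, sub_eq_zero, Nat.cast_inj] at h0
    refine ⟨fun ⟨a, ha, ha'⟩ => ?_, fun ⟨b, hb, hb'⟩ => ?_, fun u hu v hv hu' hv' => ?_⟩
    · have hp : 0 < P.card := Finset.card_pos.2 ⟨a, Finset.mem_filter.2 ⟨ha, ha'⟩⟩
      obtain ⟨b, hb⟩ := Finset.card_pos.1 (h0 ▸ hp)
      exact ⟨b, Finset.mem_filter.1 hb⟩
    · have hp : 0 < N.card := Finset.card_pos.2 ⟨b, Finset.mem_filter.2 ⟨hb, hb'⟩⟩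
      obtain ⟨a, ha⟩ := Finset.card_pos.1 (h0.symm ▸ hp)
      exact ⟨a, Finset.mem_filter.1 ha⟩
    · exact Finset.card_le_one.1 (by omega : P.card ≤ 1) u (Finset.mem_filter.2 ⟨hu, hu'⟩) v
        (Finset.mem_filter.2 ⟨hv, hv'⟩)

end Signed

section Existence

variable {G : Type*} [Group G] [Fintype G] {W₁ W₂ : Subgroup G}

/-- A function on `W` orthogonal to all `(1 - φ)(1 - ψ)` vanishes outside `W₁ ∪ W₂`. -/
theorem eq_zero_of_orth_alpha [Fintype ↥(W₁ ⊔ W₂)] (hW : IsSelfNormalizingCyclic W₁ W₂)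
    (h : ↥(W₁ ⊔ W₂) → ℂ)
    (horth : ∀ φ ψ : ↥(W₁ ⊔ W₂) →* ℂˣ, φ ≠ 1 → ψ ≠ 1 →
      (∀ w : ↥(W₁ ⊔ W₂), (w : G) ∈ W₂ → φ w = 1) → (∀ w : ↥(W₁ ⊔ W₂), (w : G) ∈ W₁ → ψ w = 1) →
      classInner h (fun w => 1 - (φ w : ℂ) - (ψ w : ℂ) + (φ w : ℂ) * (ψ w : ℂ)) = 0)
    (w : ↥(W₁ ⊔ W₂)) (hw₁ : (w : G) ∉ W₁) (hw₂ : (w : G) ∉ W₂) : h w = 0 := by
  classical
  letI : CommGroup ↥(W₁ ⊔ W₂) :=
    { (inferInstance : Group ↥(W₁ ⊔ W₂)) with mul_comm := isCyclicTI_comm hW }
  set A : Subgroup ↥(W₁ ⊔ W₂) := W₁.subgroupOf (W₁ ⊔ W₂)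
  set B : Subgroup ↥(W₁ ⊔ W₂) := W₂.subgroupOf (W₁ ⊔ W₂)
  have hwA : w ∉ A := hw₁
  have hwB : w ∉ B := hw₂
  let S : Subgroup ↥(W₁ ⊔ W₂) → ↥(W₁ ⊔ W₂) → ℂ := fun N x => ∑ φ ∈ dualAnn N, (φ x : ℂ)
  let T : ↥(W₁ ⊔ W₂) → ℂ := fun x => S B (x * w⁻¹) * S A (x * w⁻¹)
  have hT : T = ∑ φ ∈ dualAnn B, ∑ ψ ∈ dualAnn A,
      ((φ w⁻¹ : ℂ) * (ψ w⁻¹ : ℂ)) • fun x => 1 - (φ x : ℂ) - (ψ x : ℂ) + (φ x : ℂ) * (ψ x : ℂ) := by
    funext x
    have e1 : ∀ N, w ∉ N → ∑ φ ∈ dualAnn N, (φ w⁻¹ : ℂ) * (1 - (φ x : ℂ)) = -S N (x * w⁻¹) := by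
      intro N hN
      simp only [mul_sub, mul_one, Finset.sum_sub_distrib]
      rw [sum_dualAnn_of_notMem (fun h => hN (inv_inv w ▸ N.inv_mem h)), zero_sub]
      simp only [S, map_mul, Units.val_mul]
      exact congrArg Neg.neg (Finset.sum_congr rfl fun φ _ => mul_comm _ _)
    simp only [T, Finset.sum_apply, Pi.smul_apply, smul_eq_mul]
    rw [← neg_mul_neg, ← e1 B hwB, ← e1 A hwA, Finset.sum_mul_sum]
    exact Finset.sum_congr rfl fun φ _ => Finset.sum_congr rfl fun ψ _ => by ring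
  have h0 : classInner h T = 0 := by
    rw [hT, Char.classInner_sum_right, Finset.sum_eq_zero]
    intro φ hφ
    rw [Char.classInner_sum_right, Finset.sum_eq_zero]
    intro ψ hψ
    rw [Char.classInner_smul_right]
    by_cases h1 : φ = 1
    · subst h1
      rw [show (fun x => 1 - ((1 : ↥(W₁ ⊔ W₂) →* ℂˣ) x : ℂ) - (ψ x : ℂ) +
        ((1 : ↥(W₁ ⊔ W₂) →* ℂˣ) x : ℂ) * (ψ x : ℂ)) = 0 by funext x; simp]
      simp [classInner]
    by_cases h2 : ψ = 1
    · subst h2
      rw [show (fun x => 1 - (φ x : ℂ) - ((1 : ↥(W₁ ⊔ W₂) →* ℂˣ) x : ℂ) +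
        (φ x : ℂ) * ((1 : ↥(W₁ ⊔ W₂) →* ℂˣ) x : ℂ)) = 0 by funext x; simp]
      simp [classInner]
    rw [horth φ ψ h1 h2 (fun y hy => mem_dualAnn.1 hφ y hy) (fun y hy => mem_dualAnn.1 hψ y hy),
      mul_zero]
  have hTw : T w = ((dualAnn B).card : ℂ) * ((dualAnn A).card : ℂ) := by
    simp [T, S]
  have hT0 : ∀ x, x ≠ w → T x = 0 := by
    intro x hx
    by_cases hB : x * w⁻¹ ∈ B
    · have hA : x * w⁻¹ ∉ A := by
        intro hA
        apply hx
        have : ((x * w⁻¹ : ↥(W₁ ⊔ W₂)) : G) ∈ W₁ ⊓ W₂ := ⟨hA, hB⟩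
        rw [hW.2.2.1, Subgroup.mem_bot] at this
        exact mul_inv_eq_one.1 (Subtype.ext this)
      simp only [T, S, sum_dualAnn_of_notMem hA, mul_zero]
    · simp only [T, S, sum_dualAnn_of_notMem hB, zero_mul]
  rw [classInner, Finset.sum_eq_single w (fun x _ hx => by rw [hT0 x hx]; simp) (by simp), hTw] at h0
  have hne : ∀ N : Subgroup ↥(W₁ ⊔ W₂), ((dualAnn N).card : ℂ) ≠ 0 := fun N =>
    Nat.cast_ne_zero.2 (Finset.card_ne_zero.2 ⟨1, one_mem_dualAnn N⟩)
  simpa [hne, Char.card_ne_zero] using h0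

theorem exists_isCyclicTIFamily (hW : IsSelfNormalizingCyclic W₁ W₂)
    (hodd : Odd (Nat.card ↥(W₁ ⊔ W₂))) :
    ∃ χ : (↥(W₁ ⊔ W₂) →* ℂˣ) → (G → ℂ), IsCyclicTIFamily W₁ W₂ χ := by
  classical
  letI : CommGroup ↥(W₁ ⊔ W₂) :=
    { (inferInstance : Group ↥(W₁ ⊔ W₂)) with mul_comm := isCyclicTI_comm hW }
  haveI : Fintype ↥(W₁ ⊔ W₂) := Fintype.ofFinite _
  set A : Subgroup ↥(W₁ ⊔ W₂) := W₁.subgroupOf (W₁ ⊔ W₂) with hA
  set B : Subgroup ↥(W₁ ⊔ W₂) := W₂.subgroupOf (W₁ ⊔ W₂) with hB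
  have hd : A ⊓ B = ⊥ := by
    refine (Subgroup.eq_bot_iff_forall _).2 fun x hx => Subtype.ext ?_
    have h : (x : G) ∈ W₁ ⊓ W₂ := hx
    rw [hW.2.2.1, Subgroup.mem_bot] at h
    exact h
  have hs : A ⊔ B = ⊤ := by
    rw [hA, hB, ← Subgroup.subgroupOf_sup le_sup_left le_sup_right, Subgroup.subgroupOf_self]
  set sB := (dualAnn B).erase 1
  set sA := (dualAnn A).erase 1
  have hcB : sB.card = Nat.card W₁ - 1 := by
    rw [Finset.card_erase_of_mem (one_mem_dualAnn B), card_dualAnn_of_compl hd hs,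
      Nat.card_congr (Subgroup.subgroupOfEquivOfLe le_sup_left).toEquiv]
  have hcA : sA.card = Nat.card W₂ - 1 := by
    rw [Finset.card_erase_of_mem (one_mem_dualAnn A),
      card_dualAnn_of_compl (W₁ := B) (W₂ := A) ((inf_comm B A).trans hd) ((sup_comm B A).trans hs),
      Nat.card_congr (Subgroup.subgroupOfEquivOfLe le_sup_right).toEquiv]
  have hpar : ∀ U : Subgroup G, U ≤ W₁ ⊔ W₂ → U ≠ ⊥ → 3 ≤ Nat.card U ∧ Odd (Nat.card U) := by
    intro U hU hne
    have h1 : Odd (Nat.card U) := hodd.of_dvd_nat (Subgroup.card_dvd_of_le hU)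
    have h2 : 1 < Nat.card U := (Subgroup.one_lt_card_iff_ne_bot U).2 hne
    obtain ⟨t, ht⟩ := h1
    exact ⟨by omega, t, ht⟩
  obtain ⟨h3₁, t₁, ht₁⟩ := hpar W₁ le_sup_left hW.1
  obtain ⟨h3₂, t₂, ht₂⟩ := hpar W₂ le_sup_right hW.2.1
  have hne : Nat.card W₁ ≠ Nat.card W₂ := fun e => by
    refine hW.1 ?_
    rw [← hW.2.2.1]
    refine (inf_eq_left.2 fun y hy => isCyclicTI_mem_iff hW le_sup_right (Subgroup.mem_sup_left hy) ?_).symm
    rw [← e]
    exact congrArg Subtype.val (pow_card_eq_one' (G := W₁) (x := ⟨y, hy⟩))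
  -- the functions `β`
  let f : (↥(W₁ ⊔ W₂) →* ℂˣ) → (↥(W₁ ⊔ W₂) →* ℂˣ) → (G → ℂ) := fun φ ψ =>
    indFun (W₁ ⊔ W₂) (fun w => 1 - (φ w : ℂ) - (ψ w : ℂ) + (φ w : ℂ) * (ψ w : ℂ))
  let β : (↥(W₁ ⊔ W₂) →* ℂˣ) → (↥(W₁ ⊔ W₂) →* ℂˣ) → (G → ℂ) := fun φ ψ => f φ ψ - fun _ => 1
  have hgen : ∀ φ ψ, IsGeneralizedCharacter G (β φ ψ) := by
    intro φ ψ
    let g : (↥(W₁ ⊔ W₂) →* ℂˣ) → ↥(W₁ ⊔ W₂) → ℂ := fun χ w => (χ w : ℂ)
    have hg : ∀ χ, IsGeneralizedCharacter ↥(W₁ ⊔ W₂) (g χ) := fun χ =>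
      Char.irr_isGeneralized (Char.linIrr ((Units.coeHom ℂ).comp χ))
    refine Char.IsGeneralizedCharacter.sub (Char.isGeneralizedCharacter_indFun _ ?_)
      (Char.irr_isGeneralized (Char.linIrr (1 : G →* ℂ)))
    rw [show (fun w => 1 - (φ w : ℂ) - (ψ w : ℂ) + (φ w : ℂ) * (ψ w : ℂ)) =
      g 1 - g φ - g ψ + g (φ * ψ) by funext w; simp [g]]
    exact Char.IsGeneralizedCharacter.add (Char.IsGeneralizedCharacter.sub
      (Char.IsGeneralizedCharacter.sub (hg 1) (hg φ)) (hg ψ)) (hg _)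
  have hmemB : ∀ φ ∈ sB, φ ≠ 1 ∧ ∀ w : ↥(W₁ ⊔ W₂), (w : G) ∈ W₂ → φ w = 1 := fun φ hφ =>
    ⟨(Finset.mem_erase.1 hφ).1, fun w hw => mem_dualAnn.1 (Finset.mem_erase.1 hφ).2 w hw⟩
  have hmemA : ∀ φ ∈ sA, φ ≠ 1 ∧ ∀ w : ↥(W₁ ⊔ W₂), (w : G) ∈ W₁ → φ w = 1 := fun φ hφ =>
    ⟨(Finset.mem_erase.1 hφ).1, fun w hw => mem_dualAnn.1 (Finset.mem_erase.1 hφ).2 w hw⟩
  have h11 : classInner (fun _ : G => (1 : ℂ)) (fun _ => 1) = 1 := isSignedIrr_one.classInner_self
  have hstar : ∀ u v : G → ℂ, classInner u v = conj (classInner v u) := by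
    intro u v
    simp only [classInner, map_mul, map_sum, map_inv₀, map_natCast, Complex.conj_conj]
    congr 1
    exact Finset.sum_congr rfl fun x _ => mul_comm _ _
  have hβone : ∀ φ ∈ sB, ∀ ψ ∈ sA, classInner (β φ ψ) (fun _ => 1) = 0 := by
    intro φ hφ ψ hψ
    obtain ⟨hφ1, hφ2⟩ := hmemB φ hφ
    obtain ⟨hψ1, hψ2⟩ := hmemA ψ hψ
    obtain ⟨e1, -⟩ := Cfsg.Agent.S1505.result W₁ W₂ hW φ φ ψ ψ hφ1 hφ1 hψ1 hψ1
      (fun w hw => ⟨hφ2 w hw, hφ2 w hw⟩) (fun w hw => ⟨hψ2 w hw, hψ2 w hw⟩)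
    simp only [β, f, Char.classInner_sub_left, e1, h11, sub_self]
  have hβ : ∀ φ ∈ sB, ∀ φ' ∈ sB, ∀ ψ ∈ sA, ∀ ψ' ∈ sA, classInner (β φ ψ) (β φ' ψ') =
      (if φ = φ' then 1 else 0) + (if ψ = ψ' then 1 else 0) +
        (if φ = φ' then 1 else 0) * (if ψ = ψ' then 1 else 0) := by
    intro φ hφ φ' hφ' ψ hψ ψ' hψ'
    obtain ⟨hφ1, hφ2⟩ := hmemB φ hφ
    obtain ⟨hφ1', hφ2'⟩ := hmemB φ' hφ'
    obtain ⟨hψ1, hψ2⟩ := hmemA ψ hψ
    obtain ⟨hψ1', hψ2'⟩ := hmemA ψ' hψ'
    obtain ⟨e1, e2⟩ := Cfsg.Agent.S1505.result W₁ W₂ hW φ φ' ψ ψ' hφ1 hφ1' hψ1 hψ1'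
      (fun w hw => ⟨hφ2 w hw, hφ2' w hw⟩) (fun w hw => ⟨hψ2 w hw, hψ2' w hw⟩)
    obtain ⟨e3, -⟩ := Cfsg.Agent.S1505.result W₁ W₂ hW φ' φ ψ' ψ hφ1' hφ1 hψ1' hψ1
      (fun w hw => ⟨hφ2' w hw, hφ2 w hw⟩) (fun w hw => ⟨hψ2' w hw, hψ2 w hw⟩)
    simp only [β, f, Char.classInner_sub_left, Char.classInner_sub_right, e1, e2, h11]
    rw [hstar (fun _ => 1), e3, map_one]
    ring
  have hdeg : ∀ φ ψ, β φ ψ 1 = -1 := fun φ ψ => by
    simp [β, f, Char.indFun_apply_one]
  let T : ↥sB → ↥sA → Finset (G → ℂ) := fun i j => signedParts (β i j)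
  have h3 : ∀ (i : ↥sB) (j : ↥sA), classInner (β i j) (β i j) = 3 := fun i j => by
    rw [hβ _ i.2 _ i.2 _ j.2 _ j.2, if_pos rfl, if_pos rfl]; norm_num
  have hmeet := fun (i i' : ↥sB) (j j' : ↥sA) =>
    signedParts_meet (hgen i j) (h3 i j) (hgen i' j') (h3 i' j') (by rw [hdeg, hdeg])
  obtain ⟨x, y, z, hmem, hxx, hyy, hzz, hxy, hxz, hyz⟩ := grid_structure T
    (fun i j => (signedParts_spec (hgen i j) (h3 i j)).1)
    (fun i j j' hjj => (hmeet i i j j').1 (by
      rw [hβ _ i.2 _ i.2 _ j.2 _ j'.2, if_pos rfl, if_neg fun e => hjj (Subtype.ext e)]; ring))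
    (fun i i' j hii => (hmeet i i' j j).1 (by
      rw [hβ _ i.2 _ i'.2 _ j.2 _ j.2, if_pos rfl, if_neg fun e => hii (Subtype.ext e)]; ring))
    (fun i i' j j' hii hjj => (hmeet i i' j j').2 (by
      rw [hβ _ i.2 _ i'.2 _ j.2 _ j'.2, if_neg fun e => hjj (Subtype.ext e),
        if_neg fun e => hii (Subtype.ext e)]; ring))
    (by rw [Fintype.card_coe, hcB]; omega) (by rw [Fintype.card_coe, hcA]; omega)
    (by rw [Fintype.card_coe, Fintype.card_coe, hcB, hcA]; omega)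
  have hTs : ∀ i j, ∀ u ∈ T i j, IsSignedIrr u ∧ u ≠ (fun _ => 1) ∧ u ≠ -(fun _ => 1) := by
    intro i j u hu
    obtain ⟨h1, h2⟩ := mem_signedParts.1 hu
    have h0 := hβone _ i.2 _ j.2
    refine ⟨h1, ?_, ?_⟩ <;> rintro rfl
    · rw [h0] at h2; exact zero_ne_one h2
    · rw [classInner_neg_right', h0, neg_zero] at h2; exact zero_ne_one h2
  obtain ⟨i₀⟩ : Nonempty ↥sB := Fintype.card_pos_iff.1 (by rw [Fintype.card_coe, hcB]; omega)
  obtain ⟨j₀⟩ : Nonempty ↥sA := Fintype.card_pos_iff.1 (by rw [Fintype.card_coe, hcA]; omega)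
  have px := fun i => hTs i j₀ (x i) ((hmem i j₀ _).2 (Or.inl rfl))
  have py := fun j => hTs i₀ j (y j) ((hmem i₀ j _).2 (Or.inr (Or.inl rfl)))
  have pz := fun i j => hTs i j (z i j) ((hmem i j _).2 (Or.inr (Or.inr rfl)))
  -- the family, indexed by pairs
  let e : Option ↥sB × Option ↥sA → (↥(W₁ ⊔ W₂) →* ℂˣ) := fun p =>
    p.1.elim 1 Subtype.val * p.2.elim 1 Subtype.val
  have hmemO : ∀ p : Option ↥sB × Option ↥sA,
      p.1.elim 1 Subtype.val ∈ dualAnn B ∧ p.2.elim 1 Subtype.val ∈ dualAnn A := by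
    rintro ⟨_ | a, _ | b⟩ <;>
      exact ⟨by first | exact one_mem_dualAnn B | exact (Finset.mem_erase.1 a.2).2,
        by first | exact one_mem_dualAnn A | exact (Finset.mem_erase.1 b.2).2⟩
  obtain ⟨-, hinj, hsurj⟩ := dualAnn_mul_bijOn hd hs
  have hoinj : ∀ (s : Finset (↥(W₁ ⊔ W₂) →* ℂˣ)), 1 ∉ s → ∀ a b : Option ↥s,
      a.elim 1 Subtype.val = b.elim 1 Subtype.val → a = b := by
    intro s hs1 a b h
    rcases a with _ | a <;> rcases b with _ | b
    · rfl
    · exact absurd b.2 (by rw [← show (1 : ↥(W₁ ⊔ W₂) →* ℂˣ) = b.1 from h]; exact hs1)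
    · exact absurd a.2 (by rw [show a.1 = 1 from h]; exact hs1)
    · exact congrArg some (Subtype.ext h)
  have hebij : Function.Bijective e := by
    refine ⟨fun p q h => ?_, fun ω => ?_⟩
    · have h' := hinj (x₁ := (p.1.elim 1 Subtype.val, p.2.elim 1 Subtype.val))
        (x₂ := (q.1.elim 1 Subtype.val, q.2.elim 1 Subtype.val))
        (Finset.mem_coe.2 (Finset.mem_product.2 (hmemO p)))
        (Finset.mem_coe.2 (Finset.mem_product.2 (hmemO q))) h
      exact Prod.ext (hoinj sB (Finset.notMem_erase _ _) _ _ (congrArg Prod.fst h'))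
        (hoinj sA (Finset.notMem_erase _ _) _ _ (congrArg Prod.snd h'))
    · obtain ⟨⟨a, b⟩, hab, rfl⟩ := hsurj (Set.mem_univ ω)
      rw [Finset.mem_coe, Finset.mem_product] at hab
      refine ⟨(if h : a = 1 then none else some ⟨a, Finset.mem_erase.2 ⟨h, hab.1⟩⟩,
        if h : b = 1 then none else some ⟨b, Finset.mem_erase.2 ⟨h, hab.2⟩⟩), ?_⟩
      by_cases ha : a = 1 <;> by_cases hb : b = 1 <;> simp [e, ha, hb]
  let E := Equiv.ofBijective e hebij
  let v : Option ↥sB × Option ↥sA → (G → ℂ) := fun p => match p with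
    | (none, none) => fun _ => 1
    | (some i, none) => -x i
    | (none, some j) => -y j
    | (some i, some j) => z i j
  let χ : (↥(W₁ ⊔ W₂) →* ℂˣ) → (G → ℂ) := fun ω => v (E.symm ω)
  have hχe : ∀ p, χ (e p) = v p := fun p => congrArg v (E.symm_apply_apply p)
  have hvs : ∀ p, IsSignedIrr (v p) := by
    rintro ⟨_ | i, _ | j⟩
    exacts [isSignedIrr_one, (py j).1.neg, (px i).1.neg, (pz i j).1]
  have swap : ∀ a b : G → ℂ, a = -b → b = -a := fun a b h => by rw [h, neg_neg]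
  have hvinj : ∀ p q, p ≠ q → v p ≠ v q ∧ v p ≠ -v q := by
    suffices H : ∀ p q, (v p = v q ∨ v p = -v q) → p = q from
      fun p q hpq => ⟨fun h => hpq (H p q (Or.inl h)), fun h => hpq (H p q (Or.inr h))⟩
    rintro ⟨_ | i, _ | j⟩ ⟨_ | i', _ | j'⟩ h <;> simp only [v, neg_neg, neg_inj] at h
    · rfl
    · exact h.elim (fun h => absurd (swap _ _ h) (py j').2.2) fun h => absurd h.symm (py j').2.1
    · exact h.elim (fun h => absurd (swap _ _ h) (px i').2.2) fun h => absurd h.symm (px i').2.1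
    · exact h.elim (fun h => absurd h.symm (pz i' j').2.1) fun h => absurd (swap _ _ h) (pz i' j').2.2
    · exact h.elim (fun h => absurd (swap _ _ h.symm) (py j).2.2) fun h => absurd h (py j).2.1
    · rw [hyy j j' (h.imp id fun h => swap _ _ h.symm)]
    · exact h.elim (fun h => absurd h.symm (hxy i' j).1) fun h => absurd h.symm (hxy i' j).2
    · exact h.elim (fun h => absurd (swap _ _ h.symm) (hyz i' j j').2) fun h => absurd h (hyz i' j j').1
    · exact h.elim (fun h => absurd (swap _ _ h.symm) (px i).2.2) fun h => absurd h (px i).2.1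
    · exact h.elim (fun h => absurd h (hxy i j').1) fun h => absurd (swap _ _ h.symm) (hxy i j').2
    · rw [hxx i i' (h.imp id fun h => swap _ _ h.symm)]
    · exact h.elim (fun h => absurd (swap _ _ h.symm) (hxz i i' j').2) fun h => absurd h (hxz i i' j').1
    · exact h.elim (fun h => absurd h (pz i j).2.1) fun h => absurd h (pz i j).2.2
    · exact h.elim (fun h => absurd (swap _ _ h) (hyz i j' j).2) fun h => absurd h.symm (hyz i j' j).1
    · exact h.elim (fun h => absurd (swap _ _ h) (hxz i' i j).2) fun h => absurd h.symm (hxz i' i j).1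
    · obtain ⟨rfl, rfl⟩ := hzz i i' j j' h; rfl
  have horth : ∀ ω ω', classInner (χ ω) (χ ω') = if ω = ω' then 1 else 0 := by
    intro ω ω'
    by_cases h : ω = ω'
    · subst h; rw [if_pos rfl]; exact (hvs _).classInner_self
    · rw [if_neg h]
      obtain ⟨h1, h2⟩ := hvinj (E.symm ω) (E.symm ω') fun e' => h (E.symm.injective e')
      exact (hvs _).classInner_eq_zero (hvs _) h1 h2
  have hone : χ 1 = fun _ => 1 := by
    rw [show (1 : ↥(W₁ ⊔ W₂) →* ℂˣ) = e (none, none) from (one_mul (1 : ↥(W₁ ⊔ W₂) →* ℂˣ)).symm, hχe]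
  have hind : ∀ φ ψ : ↥(W₁ ⊔ W₂) →* ℂˣ, φ ≠ 1 → ψ ≠ 1 →
      (∀ w : ↥(W₁ ⊔ W₂), (w : G) ∈ W₂ → φ w = 1) → (∀ w : ↥(W₁ ⊔ W₂), (w : G) ∈ W₁ → ψ w = 1) →
      f φ ψ = χ 1 - χ φ - χ ψ + χ (φ * ψ) := by
    intro φ ψ h1 h2 hφ hψ
    set i : ↥sB := ⟨φ, Finset.mem_erase.2 ⟨h1, mem_dualAnn.2 fun w hw => hφ w hw⟩⟩
    set j : ↥sA := ⟨ψ, Finset.mem_erase.2 ⟨h2, mem_dualAnn.2 fun w hw => hψ w hw⟩⟩
    have eφ : χ φ = -x i := by
      rw [show φ = e (some i, none) from (mul_one φ).symm, hχe]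
    have eψ : χ ψ = -y j := by
      rw [show ψ = e (none, some j) from (one_mul ψ).symm, hχe]
    have eφψ : χ (φ * ψ) = z i j := hχe (some i, some j)
    rw [hone, eφ, eψ, eφψ]
    have hT : T i j = {x i, y j, z i j} := Finset.ext fun u => by simp [hmem]
    have hsum : β φ ψ = x i + (y j + z i j) := by
      rw [(signedParts_spec (hgen φ ψ) (h3 i j)).2,
        show signedParts (β φ ψ) = {x i, y j, z i j} from hT,
        Finset.sum_insert (by simp [(hxy i j).1, (hxz i i j).1]),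
        Finset.sum_insert (by simp [(hyz i j j).1]), Finset.sum_singleton]
    have : f φ ψ = β φ ψ + fun _ => 1 := by simp [β]
    rw [this, hsum]
    ext g
    simp only [Pi.add_apply, Pi.sub_apply, Pi.neg_apply]
    ring
  refine ⟨χ, ⟨fun ω => hvs _, fun ω ω' => by convert horth ω ω', hone, fun ω w hw1 hw2 => ?_, fun φ ψ h1 h2 hφ hψ => ?_⟩⟩
  · have key := eq_zero_of_orth_alpha hW (fun w : ↥(W₁ ⊔ W₂) => χ ω w - (ω w : ℂ))
      (fun φ ψ h1 h2 hφ hψ => ?_) w hw1 hw2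
    · exact sub_eq_zero.1 key
    · rw [show (fun w : ↥(W₁ ⊔ W₂) => χ ω w - (ω w : ℂ)) =
        (fun w : ↥(W₁ ⊔ W₂) => χ ω w) - fun w : ↥(W₁ ⊔ W₂) => (ω w : ℂ) from rfl,
        Char.classInner_sub_left, ← Char.classInner_indFun_right _ _
          (signed_isClassFunction (hvs (E.symm ω)) : IsClassFunction G (χ ω)), show indFun (W₁ ⊔ W₂) _ = _ from hind φ ψ h1 h2 hφ hψ,
        show (fun w : ↥(W₁ ⊔ W₂) => 1 - (φ w : ℂ) - (ψ w : ℂ) + (φ w : ℂ) * (ψ w : ℂ)) =
          (fun w => ((1 : ↥(W₁ ⊔ W₂) →* ℂˣ) w : ℂ)) - (fun w => (φ w : ℂ)) - (fun w => (ψ w : ℂ)) +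
            (fun w => ((φ * ψ) w : ℂ)) by funext w; simp]
      simp only [Char.classInner_add_right, Char.classInner_sub_right, horth, classInner_monoidHom]
      ring
  · rw [show indFun (W₁ ⊔ W₂) _ = _ from hind φ ψ h1 h2 hφ hψ, hone]
    rfl

end Existence

end Cfsg.Agent.OddOrder
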