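import Cfsg.Agent.Lib.OddOrder.CyclicTIInd
import Cfsg.Agent.Lib.CharInt.Galois
import Cfsg.Agent.Lib.Char.Generalized

set_option autoImplicit false

/-! A signed irreducible character agreeing with `ω` outside `W₁ ∪ W₂` is `χ ω` (Peterfalvi (3.4)). -/

namespace Cfsg.Agent.OddOrder

open Finset

variable {G : Type*} [Group G] [Fintype G] {W₁ W₂ : Subgroup G}
  {χ : (↥(W₁ ⊔ W₂) →* ℂˣ) → (G → ℂ)}

theorem signed_isClassFunction {θ : G → ℂ} (hθ : IsIrrCharacter G θ ∨ IsIrrCharacter G (-θ)) :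
    IsClassFunction G θ := by
  rcases hθ with h | h
  · exact Char.IsCharacter.isClassFunction (Char.IsIrrCharacter.isCharacter h)
  · intro g x
    simpa using Char.IsCharacter.isClassFunction (Char.IsIrrCharacter.isCharacter h) g x

/-- Two signed irreducible characters are equal, opposite, or orthogonal. -/
theorem signed_eq_or_orth {θ η : G → ℂ} (hθ : IsIrrCharacter G θ ∨ IsIrrCharacter G (-θ))
    (hη : IsIrrCharacter G η ∨ IsIrrCharacter G (-η)) :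
    (∃ e : ℂ, e ≠ 0 ∧ θ = e • η) ∨ classInner θ η = 0 := by
  obtain ⟨a, x, ha, hx, rfl⟩ : ∃ (a : ℂ) (x : G → ℂ), a ≠ 0 ∧ IsIrrCharacter G x ∧ θ = a • x := by
    rcases hθ with h | h
    · exact ⟨1, θ, one_ne_zero, h, (one_smul _ _).symm⟩
    · exact ⟨-1, -θ, by norm_num, h, by simp⟩
  obtain ⟨b, y, hb, hy, rfl⟩ : ∃ (b : ℂ) (y : G → ℂ), b ≠ 0 ∧ IsIrrCharacter G y ∧ η = b • y := by
    rcases hη with h | h
    · exact ⟨1, η, one_ne_zero, h, (one_smul _ _).symm⟩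
    · exact ⟨-1, -η, by norm_num, h, by simp⟩
  by_cases h : x = y
  · subst h
    exact Or.inl ⟨a / b, div_ne_zero ha hb, by rw [smul_smul, div_mul_cancel₀ a hb]⟩
  · right
    rw [Char.classInner_smul_left, Char.classInner_smul_right, Char.classInner_irr_of_ne hx hy h]
    simp

/-- A signed irreducible character agreeing with `ω` on `W ∖ (W₁ ∪ W₂)` is `χ ω`. -/
theorem eq_of_eq_on (hW : IsSelfNormalizingCyclic W₁ W₂) (hodd : Odd (Nat.card ↥(W₁ ⊔ W₂)))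
    (hχ : IsCyclicTIFamily W₁ W₂ χ) (ω : ↥(W₁ ⊔ W₂) →* ℂˣ) {θ : G → ℂ}
    (hθ : IsIrrCharacter G θ ∨ IsIrrCharacter G (-θ))
    (hθV : ∀ w : ↥(W₁ ⊔ W₂), (w : G) ∉ W₁ → (w : G) ∉ W₂ → θ w = (ω w : ℂ)) : θ = χ ω := by
  classical
  letI : CommGroup ↥(W₁ ⊔ W₂) :=
    { (inferInstance : Group ↥(W₁ ⊔ W₂)) with mul_comm := isCyclicTI_comm hW }
  set A : Subgroup ↥(W₁ ⊔ W₂) := W₁.subgroupOf (W₁ ⊔ W₂) with hA
  set B : Subgroup ↥(W₁ ⊔ W₂) := W₂.subgroupOf (W₁ ⊔ W₂) with hB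
  have hd : A ⊓ B = ⊥ := by
    refine (Subgroup.eq_bot_iff_forall _).2 fun x hx => Subtype.ext ?_
    have h : (x : G) ∈ W₁ ⊓ W₂ := hx
    rw [hW.2.2.1, Subgroup.mem_bot] at h
    exact h
  have hs : A ⊔ B = ⊤ := by
    rw [hA, hB, ← Subgroup.subgroupOf_sup le_sup_left le_sup_right, Subgroup.subgroupOf_self]
  obtain ⟨v₀, hv₀, hv1, hv2⟩ := exists_mem_not_mem hW
  set d := θ - χ ω with hd'
  have hdc : IsClassFunction G d := fun g x => by
    simp [hd', signed_isClassFunction hθ g x, signed_isClassFunction (hχ.irr_or_neg ω) g x]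
  have hdV : ∀ w : ↥(W₁ ⊔ W₂), (w : G) ∉ W₁ → (w : G) ∉ W₂ → d w = 0 := fun w h1 h2 => by
    rw [hd', Pi.sub_apply, hθV w h1 h2, hχ.eq_on ω w h1 h2, sub_self]
  set a := fun η => classInner d (χ η) with ha
  have hself : classInner θ (χ ω) ≠ 0 → θ = χ ω := by
    intro hne
    rcases signed_eq_or_orth hθ (hχ.irr_or_neg ω) with ⟨e, -, he⟩ | h
    · have h1 := hθV ⟨v₀, hv₀⟩ hv1 hv2
      rw [he, Pi.smul_apply, hχ.eq_on ω _ hv1 hv2, smul_eq_mul, mul_eq_right₀ (Units.ne_zero _)] at h1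
      rw [he, h1, one_smul]
    · exact absurd h hne
  by_contra hcon
  have h0 : classInner θ (χ ω) = 0 := by_contra fun h => hcon (hself h)
  have haω : a ω = -1 := by
    simp only [ha, hd']
    rw [Char.classInner_sub_left, h0, hχ.orthonormal, if_pos rfl, zero_sub]
  -- at most one further coefficient is non-zero
  obtain ⟨η₀, hη₀⟩ : ∃ η₀, ∀ η, η ≠ ω → η ≠ η₀ → a η = 0 := by
    have haη : ∀ η, η ≠ ω → a η = classInner θ (χ η) := fun η hη => by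
      simp only [ha, hd']
      rw [Char.classInner_sub_left, hχ.orthonormal, if_neg (Ne.symm hη), sub_zero]
    by_cases hex : ∃ η₀, classInner θ (χ η₀) ≠ 0
    · obtain ⟨η₀, h⟩ := hex
      refine ⟨η₀, fun η h1 h2 => ?_⟩
      rw [haη η h1]
      rcases signed_eq_or_orth hθ (hχ.irr_or_neg η₀) with ⟨e, -, he⟩ | h'
      · rw [he, Char.classInner_smul_left, hχ.orthonormal, if_neg (Ne.symm h2), mul_zero]
      · exact absurd h' h
    · push Not at hex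
      exact ⟨ω, fun η h1 _ => by rw [haη η h1, hex η]⟩
  obtain ⟨-, hinj, hsurj⟩ := dualAnn_mul_bijOn hd hs
  obtain ⟨⟨φ₀, ψ₀⟩, hp, hpω⟩ := hsurj (Set.mem_univ ω)
  obtain ⟨⟨φ₁, ψ₁⟩, hq, hqη⟩ := hsurj (Set.mem_univ η₀)
  have hp' := Finset.mem_product.1 (Finset.mem_coe.1 hp)
  have hq' := Finset.mem_product.1 (Finset.mem_coe.1 hq)
  have hthree : ∀ (N M : Subgroup ↥(W₁ ⊔ W₂)), N ⊓ M = ⊥ → N ⊔ M = ⊤ → N ≠ ⊥ →
      ∀ x y : ↥(W₁ ⊔ W₂) →* ℂˣ, ∃ z ∈ dualAnn M, z ≠ x ∧ z ≠ y := by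
    intro N M hNM hNM' hN x y
    have hc := card_dualAnn_of_compl hNM hNM'
    have h1 : Odd (Nat.card N) := hodd.of_dvd_nat (Subgroup.card_subgroup_dvd_card N)
    have h2 : 1 < Nat.card N := (Subgroup.one_lt_card_iff_ne_bot N).2 hN
    obtain ⟨t, ht⟩ := h1
    have h3 : 2 < (dualAnn M).card := by omega
    obtain ⟨z, hz, hz'⟩ := Finset.exists_mem_notMem_of_card_lt_card
      (lt_of_le_of_lt Finset.card_le_two h3 : ({x, y} : Finset _).card < (dualAnn M).card)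
    simp only [Finset.mem_insert, Finset.mem_singleton, not_or] at hz'
    exact ⟨z, hz, hz'.1, hz'.2⟩
  have hne : ∀ U : Subgroup G, U ≤ W₁ ⊔ W₂ → U ≠ ⊥ → U.subgroupOf (W₁ ⊔ W₂) ≠ ⊥ := by
    intro U hU hne h
    rw [Subgroup.subgroupOf_eq_bot, disjoint_iff, inf_eq_left.2 hU] at h
    exact hne h
  obtain ⟨φ', hφ', f0, f1⟩ := hthree A B hd hs (hne W₁ le_sup_left hW.1) φ₀ φ₁
  obtain ⟨ψ', hψ', g0, g1⟩ := hthree B A ((inf_comm B A).trans hd) ((sup_comm B A).trans hs)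
    (hne W₂ le_sup_right hW.2.1) ψ₀ ψ₁
  have hzero : ∀ x ∈ dualAnn B, ∀ y ∈ dualAnn A, (x, y) ≠ (φ₀, ψ₀) → (x, y) ≠ (φ₁, ψ₁) → a (x * y) = 0 := by
    intro x hx y hy h1 h2
    refine hη₀ _ (fun h => h1 ?_) (fun h => h2 ?_)
    · exact hinj (Finset.mem_coe.2 (Finset.mem_product.2 ⟨hx, hy⟩)) hp (h.trans hpω.symm)
    · exact hinj (Finset.mem_coe.2 (Finset.mem_product.2 ⟨hx, hy⟩)) hq (h.trans hqη.symm)
  have hrel : ∀ x ∈ dualAnn B, ∀ y ∈ dualAnn A, a (x * y) = a x + a y - a 1 := fun x hx y hy =>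
    coeff_eq hχ hdc hdV x y (fun w hw => mem_dualAnn.1 hx w hw) fun w hw => mem_dualAnn.1 hy w hw
  have e00 := hrel φ₀ hp'.1 ψ₀ hp'.2
  have e11 := hrel φ' hφ' ψ' hψ'
  have e01 := hrel φ₀ hp'.1 ψ' hψ'
  have e10 := hrel φ' hφ' ψ₀ hp'.2
  rw [hzero φ' hφ' ψ' hψ' (fun h => f0 (congrArg Prod.fst h)) fun h => f1 (congrArg Prod.fst h)] at e11
  rw [hzero φ₀ hp'.1 ψ' hψ' (fun h => g0 (congrArg Prod.snd h)) fun h => g1 (congrArg Prod.snd h)] at e01
  rw [hzero φ' hφ' ψ₀ hp'.2 (fun h => f0 (congrArg Prod.fst h)) fun h => f1 (congrArg Prod.fst h)] at e10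
  have hω' : φ₀ * ψ₀ = ω := hpω
  rw [hω', haω] at e00
  have : (1 : ℂ) = 0 := by linear_combination -e00 - e11 + e01 + e10
  exact one_ne_zero this

/-- Peterfalvi (3.9): a ring endomorphism of `ℂ` fixing the values of `ω` fixes `χ ω`. -/
theorem map_eq_self (hW : IsSelfNormalizingCyclic W₁ W₂) (hodd : Odd (Nat.card ↥(W₁ ⊔ W₂)))
    (hχ : IsCyclicTIFamily W₁ W₂ χ) (ω : ↥(W₁ ⊔ W₂) →* ℂˣ) (f : ℂ →+* ℂ)
    (hf : ∀ w, f (ω w : ℂ) = (ω w : ℂ)) : (fun g => f (χ ω g)) = χ ω := by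
  refine eq_of_eq_on hW hodd hχ ω ?_ fun w h1 h2 => ?_
  · rcases hχ.irr_or_neg ω with h | h
    · exact Or.inl (CharInt.isIrrCharacter_map h f)
    · right
      have := CharInt.isIrrCharacter_map h f
      simpa [Pi.neg_def] using this
  · rw [hχ.eq_on ω w h1 h2, hf w]

/-- Peterfalvi (3.9)(c): `χ ω` is rational integral at elements of order prime to that of `ω`. -/
theorem apply_int_of_coprime (hW : IsSelfNormalizingCyclic W₁ W₂) (hodd : Odd (Nat.card ↥(W₁ ⊔ W₂)))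
    (hχ : IsCyclicTIFamily W₁ W₂ χ) (ω : ↥(W₁ ⊔ W₂) →* ℂˣ) {g : G}
    (hg : (orderOf g).Coprime (orderOf ω)) : ∃ n : ℤ, χ ω g = n := by
  have hpowω : ω ^ Nat.card ↥(W₁ ⊔ W₂) = 1 := MonoidHom.ext fun w => by
    rw [MonoidHom.pow_apply, ← map_pow, pow_card_eq_one', map_one, MonoidHom.one_apply]
  have hm0 : orderOf ω ≠ 0 := fun h => Nat.card_pos.ne'
    (Nat.eq_zero_of_zero_dvd (h ▸ orderOf_dvd_iff_pow_eq_one.2 hpowω))
  have hdvd : orderOf g * orderOf ω ∣ Nat.card G := hg.mul_dvd_of_dvd_of_dvd (orderOf_dvd_natCard g)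
    ((orderOf_dvd_iff_pow_eq_one.2 hpowω).trans (Subgroup.card_subgroup_dvd_card _))
  obtain ⟨e, ψ, he, hψ, hψe⟩ : ∃ (e : ℤ) (ψ : G → ℂ), (e = 1 ∨ e = -1) ∧ IsIrrCharacter G ψ ∧
      ∀ x, χ ω x = e * ψ x := by
    rcases hχ.irr_or_neg ω with h | h
    · exact ⟨1, _, Or.inl rfl, h, fun x => by simp⟩
    · exact ⟨-1, _, Or.inr rfl, h, fun x => by simp⟩
  have hψc := CharInt.isCharacter_of_isIrr hψ
  have hfix : ∀ k : ℕ, k.Coprime (orderOf g) → ψ (g ^ k) = ψ g := by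
    intro k hk
    obtain ⟨j, hj1, hj2⟩ := Nat.chineseRemainder hg k 1
    have hjg : j.Coprime (orderOf g) := by
      rw [Nat.Coprime, Nat.ModEq.gcd_eq hj1]; exact hk
    have hjω : j.Coprime (orderOf ω) := by
      rw [Nat.Coprime, Nat.ModEq.gcd_eq hj2, Nat.gcd_one_left]
    haveI : NeZero (Nat.card G) := ⟨Nat.card_pos.ne'⟩
    obtain ⟨u, hu⟩ := ZMod.unitsMap_surjective hdvd (ZMod.unitOfCoprime j (hjg.mul_right hjω))
    set m := (u : ZMod (Nat.card G)).val with hm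
    have hmj : m ≡ j [MOD orderOf g * orderOf ω] := by
      rw [← ZMod.natCast_eq_natCast_iff]
      have := congrArg Units.val hu
      rw [ZMod.unitsMap_def, Units.coe_map, MonoidHom.coe_coe, ZMod.castHom_apply,
        ZMod.coe_unitOfCoprime, ZMod.cast_eq_val] at this
      exact this
    obtain ⟨f, hf⟩ := CharInt.exists_ringHom_pow Nat.card_pos.ne' (ZMod.val_coe_unit_coprime u)
    have hfω : ∀ w, f (ω w : ℂ) = (ω w : ℂ) := by
      intro w
      have h1 : (ω w : ℂ) ^ Nat.card G = 1 := by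
        rw [← Units.val_pow_eq_pow_val, ← map_pow, orderOf_dvd_iff_pow_eq_one.1
          ((orderOf_dvd_natCard w).trans (Subgroup.card_subgroup_dvd_card _)), map_one, Units.val_one]
      rw [hf _ h1, ← hm, ← Units.val_pow_eq_pow_val, ← MonoidHom.pow_apply]
      have h2 : ω ^ m = ω ^ 1 :=
        (pow_eq_pow_iff_modEq (x := ω) (n := m) (m := 1)).2 ((hmj.of_mul_left _).trans hj2)
      have h3 := DFunLike.congr_fun h2 w
      rw [MonoidHom.pow_apply, MonoidHom.pow_apply, pow_one] at h3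
      exact congrArg Units.val h3
    have h3 := congrFun (map_eq_self hW hodd hχ ω f hfω) g
    simp only [hψe, map_mul, map_intCast, CharInt.map_char_eq_pow hψc hf g] at h3
    have h4 : g ^ (u : ZMod (Nat.card G)).val = g ^ k :=
      pow_eq_pow_iff_modEq.2 ((hmj.of_mul_right _).trans hj1)
    rw [h4] at h3
    exact mul_left_cancel₀ (by rcases he with rfl | rfl <;> simp) h3
  obtain ⟨q, hq⟩ := CharInt.exists_rat_of_forall_pow hψc g hfix
  obtain ⟨z, hz⟩ : ∃ z : ℤ, ψ g = z := by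
    have hint := CharInt.isIntegral_genChar (Char.irr_isGeneralized ⟨ψ, hψ⟩) g
    simp only [hq] at hint
    have h2 : IsIntegral ℤ q := (isIntegral_algHom_iff (Rat.castHom ℂ).toIntAlgHom
      (Rat.cast_injective)).1 hint
    obtain ⟨z, hz⟩ := IsIntegrallyClosed.isIntegral_iff.1 h2
    exact ⟨z, by rw [hq, ← hz]; simp⟩
  exact ⟨e * z, by rw [hψe, hz, Int.cast_mul]⟩

end Cfsg.Agent.OddOrder
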