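import Cfsg.Prelude.Def_OddOrderChar
import Mathlib

set_option autoImplicit false

/-! The Dade set-up: conjugates of the cosets `a · H a`, and the inner product of a Dade image with a
class function (Peterfalvi (2.6)). -/

namespace Cfsg.Agent.OddOrder

open scoped ComplexConjugate
open Finset

universe u

variable {G : Type u} [Group G] {A : Set G} {L : Subgroup G} {H : G → Subgroup G}

section

variable [Finite G]

theorem dade_commute (hD : DadeHypothesis A L H) {a u : G} (ha : a ∈ A) (hu : u ∈ H a) :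
    Commute a u :=
  ((Subgroup.mem_centralizer_singleton_iff.1 (hD.le_centralizer a ha hu)) : u * a = a * u).symm

theorem dade_coprime_orderOf (hD : DadeHypothesis A L H) {a b : G} (ha : a ∈ A) (hb : b ∈ A) :
    (Nat.card (H a)).Coprime (orderOf b) :=
  (hD.coprime a ha b hb).coprime_dvd_right (Subgroup.orderOf_dvd_natCard _
    (Subgroup.mem_inf.2 ⟨hD.subset hb, Subgroup.mem_centralizer_singleton_iff.2 rfl⟩))

/-- Conjugate elements of `a · H a`, `b · H b` have conjugate parts `a`, `b`, by the same element. -/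
theorem dade_conj_base (hD : DadeHypothesis A L H) {a b u v g : G} (ha : a ∈ A) (hb : b ∈ A)
    (hu : u ∈ H a) (hv : v ∈ H b) (hg : g * (a * u) * g⁻¹ = b * v) : g * a * g⁻¹ = b := by
  set N := Nat.card (H a) * Nat.card (H b) with hN
  set M := orderOf a * orderOf b with hM
  have hcop : N.Coprime M := Nat.Coprime.mul_left
    ((dade_coprime_orderOf hD ha ha).mul_right (dade_coprime_orderOf hD ha hb))
    ((dade_coprime_orderOf hD hb ha).mul_right (dade_coprime_orderOf hD hb hb))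
  have ha1 : 1 < orderOf a := by
    rcases (show 1 ≤ orderOf a from orderOf_pos a).eq_or_lt with h | h
    · exact absurd (orderOf_eq_one_iff.1 h.symm ▸ ha) hD.one_not_mem
    · exact h
  have hM1 : 1 < M := lt_of_lt_of_le ha1 (Nat.le_mul_of_pos_right _ (orderOf_pos b))
  obtain ⟨t, -, ht⟩ := Nat.exists_mul_mod_eq_one_of_coprime hcop hM1
  have key : ∀ c u : G, Commute c u → orderOf c ∣ M → u ^ N = 1 → (c * u) ^ (N * t) = c := by
    intro c u hcu hdvd hu
    rw [hcu.mul_pow, pow_mul u, hu, one_pow, mul_one]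
    conv_rhs => rw [← pow_one c]
    rw [pow_eq_pow_iff_modEq]
    exact Nat.ModEq.of_dvd hdvd (ht.trans (Nat.mod_eq_of_lt hM1).symm)
  have huN : u ^ N = 1 := orderOf_dvd_iff_pow_eq_one.1
    ((Subgroup.orderOf_dvd_natCard _ hu).trans (Dvd.intro _ rfl))
  have hvN : v ^ N = 1 := orderOf_dvd_iff_pow_eq_one.1
    ((Subgroup.orderOf_dvd_natCard _ hv).trans (Dvd.intro_left _ rfl))
  have h := congrArg (· ^ (N * t)) hg
  simp only [conj_pow] at h
  rwa [key a u (dade_commute hD ha hu) (Dvd.intro _ rfl) huN,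
    key b v (dade_commute hD hb hv) (Dvd.intro_left _ rfl) hvN] at h

/-- The centraliser of `a` is `(L ∩ C(a)) · H a`. -/
theorem dade_exists_mul (hD : DadeHypothesis A L H) {a c : G} (ha : a ∈ A)
    (hc : c ∈ Subgroup.centralizer ({a} : Set G)) :
    ∃ k ∈ L ⊓ Subgroup.centralizer ({a} : Set G), ∃ h ∈ H a, c = k * h := by
  rw [← hD.sup_eq a ha, sup_comm] at hc
  rw [← SetLike.mem_coe, Subgroup.coe_mul_of_left_le_normalizer_right] at hc
  · obtain ⟨k, hk, h, hh, rfl⟩ := Set.mem_mul.1 hc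
    exact ⟨k, hk, h, hh, rfl⟩
  · intro k hk
    rw [Subgroup.mem_set_normalizer_iff]
    intro x
    refine ⟨fun hx => hD.conj_mem_H a ha k hk.2 x hx, fun hx => ?_⟩
    have := hD.conj_mem_H a ha k⁻¹ (inv_mem hk.2) _ hx
    simpa [mul_assoc] using this

/-- `H a` is exactly the set of elements of `C(a)` killed by `|H a|`. -/
theorem dade_mem_iff (hD : DadeHypothesis A L H) {a c : G} (ha : a ∈ A) :
    c ∈ H a ↔ c ∈ Subgroup.centralizer ({a} : Set G) ∧ c ^ Nat.card (H a) = 1 := by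
  refine ⟨fun hc => ⟨hD.le_centralizer a ha hc, orderOf_dvd_iff_pow_eq_one.1
    (Subgroup.orderOf_dvd_natCard _ hc)⟩, fun ⟨hc, hpow⟩ => ?_⟩
  obtain ⟨k, hk, h, hh, rfl⟩ := dade_exists_mul hD ha hc
  have hind : ∀ n : ℕ, ∃ w ∈ H a, (k * h) ^ n = w * k ^ n := by
    intro n
    induction n with
    | zero => exact ⟨1, one_mem _, by simp⟩
    | succ n ih =>
      obtain ⟨w, hw, e⟩ := ih
      refine ⟨w * (k ^ (n + 1) * h * (k ^ (n + 1))⁻¹),
        mul_mem hw (hD.conj_mem_H a ha _ (pow_mem hk.2 _) h hh), ?_⟩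
      rw [pow_succ, e, pow_succ]; group
  obtain ⟨w, hw, e⟩ := hind (Nat.card (H a))
  rw [hpow] at e
  have hkn : k ^ Nat.card (H a) ∈ H a ⊓ (L ⊓ Subgroup.centralizer ({a} : Set G)) :=
    Subgroup.mem_inf.2 ⟨by
      rw [show k ^ Nat.card (H a) = w⁻¹ from eq_inv_of_mul_eq_one_right e.symm]; exact inv_mem hw,
      pow_mem hk _⟩
  rw [hD.inf_eq_bot a ha, Subgroup.mem_bot] at hkn
  have h1 := Nat.dvd_gcd (orderOf_dvd_iff_pow_eq_one.2 hkn) (Subgroup.orderOf_dvd_natCard _ hk)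
  rw [(hD.coprime a ha a ha).gcd_eq_one, Nat.dvd_one, orderOf_eq_one_iff] at h1
  rwa [h1, one_mul]

/-- `|C(a)| = |H a| · |L ∩ C(a)|`. -/
theorem dade_card_centralizer (hD : DadeHypothesis A L H) {a : G} (ha : a ∈ A) :
    Nat.card ↥(Subgroup.centralizer ({a} : Set G)) =
      Nat.card ↥(L ⊓ Subgroup.centralizer ({a} : Set G)) * Nat.card (H a) := by
  rw [← Nat.card_prod]
  refine (Nat.card_eq_of_bijective
    (fun p : ↥(L ⊓ Subgroup.centralizer ({a} : Set G)) × H a =>
      (⟨(p.1 : G) * p.2, mul_mem p.1.2.2 (hD.le_centralizer a ha p.2.2)⟩ :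
        ↥(Subgroup.centralizer ({a} : Set G)))) ⟨?_, ?_⟩).symm
  · intro p q h
    have h' : (p.1 : G) * p.2 = q.1 * q.2 := congrArg Subtype.val h
    have hx : (q.1 : G)⁻¹ * p.1 ∈ H a ⊓ (L ⊓ Subgroup.centralizer ({a} : Set G)) :=
      Subgroup.mem_inf.2 ⟨by
        rw [show (q.1 : G)⁻¹ * p.1 = q.2 * (p.2 : G)⁻¹ by
          rw [eq_mul_inv_iff_mul_eq, mul_assoc, h']; group]
        exact mul_mem q.2.2 (inv_mem p.2.2), mul_mem (inv_mem q.1.2) p.1.2⟩
    rw [hD.inf_eq_bot a ha, Subgroup.mem_bot, inv_mul_eq_one] at hx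
    exact Prod.ext (Subtype.ext hx.symm) (Subtype.ext (by rw [hx] at h'; exact mul_left_cancel h'))
  · rintro ⟨c, hc⟩
    obtain ⟨k, hk, h, hh, rfl⟩ := dade_exists_mul hD ha hc
    exact ⟨(⟨k, hk⟩, ⟨h, hh⟩), rfl⟩

theorem dade_card_conj (hD : DadeHypothesis A L H) {a l : G} (ha : a ∈ A) (hl : l ∈ L) :
    Nat.card (H (l * a * l⁻¹)) = Nat.card (H a) := by
  have hb := hD.conj_mem l hl a ha
  have hC : ∀ x : G, x ∈ Subgroup.centralizer ({a} : Set G) ↔
      MulAut.conj l x ∈ Subgroup.centralizer ({l * a * l⁻¹} : Set G) := fun x => by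
    simp only [Subgroup.mem_centralizer_singleton_iff]
    rw [← MulAut.conj_apply, ← map_mul, ← map_mul]
    exact (MulAut.conj l).injective.eq_iff.symm
  have e1 : Nat.card ↥(Subgroup.centralizer ({a} : Set G)) =
      Nat.card ↥(Subgroup.centralizer ({l * a * l⁻¹} : Set G)) :=
    Nat.card_congr ((MulAut.conj l).toEquiv.subtypeEquiv hC)
  have e2 : Nat.card ↥(L ⊓ Subgroup.centralizer ({a} : Set G)) =
      Nat.card ↥(L ⊓ Subgroup.centralizer ({l * a * l⁻¹} : Set G)) :=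
    Nat.card_congr ((MulAut.conj l).toEquiv.subtypeEquiv fun x => by
      rw [Subgroup.mem_inf, Subgroup.mem_inf]
      refine and_congr ⟨fun hx => mul_mem (mul_mem hl hx) (inv_mem hl), fun hx => ?_⟩ (hC x)
      have := mul_mem (mul_mem (inv_mem hl) hx) hl
      simpa [MulAut.conj_apply, mul_assoc] using this)
  rw [dade_card_centralizer hD ha, dade_card_centralizer hD hb, ← e2] at e1
  exact (Nat.eq_of_mul_eq_mul_left Nat.card_pos e1).symm

theorem dade_conj_mem (hD : DadeHypothesis A L H) {a l u : G} (ha : a ∈ A) (hl : l ∈ L)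
    (hu : u ∈ H a) : l * u * l⁻¹ ∈ H (l * a * l⁻¹) := by
  obtain ⟨h1, h2⟩ := (dade_mem_iff hD ha).1 hu
  refine (dade_mem_iff hD (hD.conj_mem l hl a ha)).2 ⟨?_, ?_⟩
  · rw [Subgroup.mem_centralizer_singleton_iff] at h1 ⊢
    rw [← MulAut.conj_apply, ← MulAut.conj_apply, ← map_mul, h1, map_mul]
  · rw [dade_card_conj hD ha hl, conj_pow, h2]; group

end

open Classical in
theorem isClassFunction_dadeIsometry (A : Set G) (L : Subgroup G) (H : G → Subgroup G)
    (α : L → ℂ) : IsClassFunction G (dadeIsometry A L H α) := by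
  intro g h
  have key : (fun a : L => (a : G) ∈ A ∧ ∃ x : G, ∃ u ∈ H (a : G), x * (h * g * h⁻¹) * x⁻¹ = (a : G) * u) =
      fun a : L => (a : G) ∈ A ∧ ∃ x : G, ∃ u ∈ H (a : G), x * g * x⁻¹ = (a : G) * u := by
    funext a
    refine propext (and_congr_right fun _ => ⟨?_, ?_⟩)
    · rintro ⟨x, u, hu, e⟩; exact ⟨x * h, u, hu, by rw [← e]; group⟩
    · rintro ⟨x, u, hu, e⟩; exact ⟨x * h⁻¹, u, hu, by rw [← e]; group⟩
  exact congrArg (fun P : L → Prop => if hP : ∃ a, P a then α (Classical.choose hP) else 0) key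

theorem dadeIsometry_apply [Finite G] (hD : DadeHypothesis A L H) {α : L → ℂ}
    (hα : IsClassFunction L α) {a : L} (ha : (a : G) ∈ A) {g x u : G} (hu : u ∈ H (a : G))
    (hg : x * g * x⁻¹ = (a : G) * u) : dadeIsometry A L H α g = α a := by
  have h : ∃ b : ↥L, (b : G) ∈ A ∧ ∃ x : G, ∃ u ∈ H (b : G), x * g * x⁻¹ = (b : G) * u :=
    ⟨a, ha, x, u, hu, hg⟩
  rw [dadeIsometry, dif_pos h]
  obtain ⟨hb, y, v, hv, hgy⟩ := h.choose_spec
  have e := dade_conj_base hD ha hb hu hv (g := y * x⁻¹) (by rw [← hgy, ← hg]; group)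
  obtain ⟨l, hl, hla⟩ := hD.fusion a ha (y * x⁻¹) (by rw [e]; exact hb)
  rw [e] at hla
  rw [← hα a ⟨l, hl⟩]
  exact congrArg α (Subtype.ext hla.symm)

open Classical in
/-- The inner product of a Dade image with a class function `F`: the average of `F` over the cosets. -/
theorem classInner_dadeIsometry [Fintype G] [Fintype L] (hD : DadeHypothesis A L H) {α : L → ℂ}
    (hα : IsClassFunction L α) (hαA : ∀ x : L, (x : G) ∉ A → α x = 0) {F : G → ℂ}
    (hF : IsClassFunction G F) (ψ : L → ℂ)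
    (hψ : ∀ a : L, (a : G) ∈ A → ψ a = (Nat.card (H a) : ℂ)⁻¹ *
      ∑ᶠ u ∈ (H a : Set G), F (a * u)) :
    classInner (dadeIsometry A L H α) F = classInner α ψ := by
  set T := (univ : Finset (L × G × G)).filter fun p => (p.1 : G) ∈ A ∧ p.2.1 ∈ H (p.1 : G) with hT
  set f : L × G × G → G := fun p => p.2.2⁻¹ * ((p.1 : G) * p.2.1) * p.2.2 with hf
  set w : L × G × G → ℂ := fun p =>
    (Nat.card (H (p.1 : G)) : ℂ)⁻¹ * α p.1 * conj (F ((p.1 : G) * p.2.1)) with hw
  have hfib : ∀ g : G, ∑ p ∈ T with f p = g, w p =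
      (Nat.card L : ℂ) * (dadeIsometry A L H α g * conj (F g)) := by
    intro g
    rcases (T.filter fun p => f p = g).eq_empty_or_nonempty with he | ⟨⟨a₀, u₀, x₀⟩, hp⟩
    · have hz : dadeIsometry A L H α g = 0 := by
        refine dif_neg ?_
        rintro ⟨a, ha, x, u, hu, hg⟩
        have : ((a, u, x) : L × G × G) ∈ T.filter fun p => f p = g := by
          simp only [mem_filter, hT, mem_univ, true_and, hf, ← hg]
          exact ⟨⟨ha, hu⟩, by group⟩
        rw [he] at this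
        exact notMem_empty _ this
      rw [he, sum_empty, hz, zero_mul, mul_zero]
    simp only [mem_filter, hT, mem_univ, true_and, hf] at hp
    obtain ⟨⟨ha₀, hu₀⟩, hg₀⟩ := hp
    have hxg : x₀ * g * x₀⁻¹ = (a₀ : G) * u₀ := by rw [← hg₀]; group
    have hcard : (T.filter fun p => f p = g).card = Nat.card L * Nat.card (H (a₀ : G)) := by
      rw [← Nat.card_prod, ← Nat.card_eq_finsetCard]
      have hmem : ∀ q : L × H (a₀ : G),
          ((q.1 * a₀ * q.1⁻¹, (q.1 : G) * ((q.2 : G) * u₀ * (q.2 : G)⁻¹) * (q.1 : G)⁻¹,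
            (q.1 : G) * q.2 * x₀) : L × G × G) ∈ T.filter fun p => f p = g := by
        rintro ⟨⟨l, hl⟩, ⟨h, hh⟩⟩
        simp only [mem_filter, hT, mem_univ, true_and, hf, Subgroup.coe_mul, InvMemClass.coe_inv]
        refine ⟨⟨hD.conj_mem l hl _ ha₀, dade_conj_mem hD ha₀ hl
          (mul_mem (mul_mem hh hu₀) (inv_mem hh))⟩, ?_⟩
        have hc := (dade_commute hD ha₀ hh).eq
        calc (l * h * x₀)⁻¹ * (l * (a₀ : G) * l⁻¹ * (l * (h * u₀ * h⁻¹) * l⁻¹)) * (l * h * x₀)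
            = x₀⁻¹ * h⁻¹ * ((a₀ : G) * h) * u₀ * x₀ := by group
          _ = g := by rw [hc, ← hg₀]; group
      refine (Nat.card_eq_of_bijective (fun q => ⟨_, hmem q⟩) ⟨?_, ?_⟩).symm
      · rintro ⟨⟨l, hl⟩, ⟨h, hh⟩⟩ ⟨⟨l', hl'⟩, ⟨h', hh'⟩⟩ he
        have e : l * h * x₀ = l' * h' * x₀ := congrArg (fun z => (Subtype.val z).2.2) he
        have e' : l * h = l' * h' := mul_right_cancel e
        have hq : l'⁻¹ * l = h' * h⁻¹ := by rw [eq_mul_inv_iff_mul_eq, mul_assoc, e']; group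
        have hx : l'⁻¹ * l ∈ H (a₀ : G) ⊓ (L ⊓ Subgroup.centralizer ({(a₀ : G)} : Set G)) :=
          Subgroup.mem_inf.2 ⟨by rw [hq]; exact mul_mem hh' (inv_mem hh), Subgroup.mem_inf.2
            ⟨mul_mem (inv_mem hl') hl,
              by rw [hq]; exact hD.le_centralizer _ ha₀ (mul_mem hh' (inv_mem hh))⟩⟩
        rw [hD.inf_eq_bot _ ha₀, Subgroup.mem_bot, inv_mul_eq_one] at hx
        subst hx
        exact Prod.ext rfl (Subtype.ext (mul_left_cancel e'))
      · rintro ⟨⟨a, u, x⟩, hp⟩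
        have hp' := hp
        simp only [mem_filter, hT, mem_univ, true_and, hf] at hp'
        obtain ⟨⟨ha, hu⟩, hg⟩ := hp'
        have hy : x * x₀⁻¹ * ((a₀ : G) * u₀) * (x * x₀⁻¹)⁻¹ = (a : G) * u := by
          rw [← hxg, ← hg]; group
        have hb := dade_conj_base hD ha₀ ha hu₀ hu hy
        obtain ⟨l, hl, hla⟩ := hD.fusion _ ha₀ (x * x₀⁻¹) (by rw [hb]; exact ha)
        have hc : l⁻¹ * (x * x₀⁻¹) ∈ Subgroup.centralizer ({(a₀ : G)} : Set G) := by
          rw [Subgroup.mem_centralizer_singleton_iff]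
          calc l⁻¹ * (x * x₀⁻¹) * (a₀ : G)
              = l⁻¹ * (x * x₀⁻¹ * (a₀ : G) * (x * x₀⁻¹)⁻¹) * (x * x₀⁻¹) := by group
            _ = (a₀ : G) * (l⁻¹ * (x * x₀⁻¹)) := by rw [← hla]; group
        obtain ⟨k, hk, h, hh, hkh⟩ := dade_exists_mul hD ha₀ hc
        have hx : x = l * k * h * x₀ := by
          rw [mul_assoc l k h, ← hkh]; group
        have hcomm := (dade_commute hD ha₀ hh).eq
        have hlk : l * k * (a₀ : G) * (l * k)⁻¹ = (a : G) := by
          have hka : k * (a₀ : G) = (a₀ : G) * k := Subgroup.mem_centralizer_singleton_iff.1 hk.2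
          calc l * k * (a₀ : G) * (l * k)⁻¹ = l * (k * (a₀ : G)) * k⁻¹ * l⁻¹ := by group
            _ = (a : G) := by rw [hka, ← hb, ← hla]; group
        refine ⟨(⟨l * k, mul_mem hl hk.1⟩, ⟨h, hh⟩), Subtype.ext ?_⟩
        refine Prod.ext (Subtype.ext hlk) (Prod.ext ?_ hx.symm)
        refine mul_left_cancel (a := (a : G)) ?_
        show (a : G) * (l * k * (h * u₀ * h⁻¹) * (l * k)⁻¹) = (a : G) * u
        rw [← hy, hx, ← hlk]
        calc l * k * (a₀ : G) * (l * k)⁻¹ * (l * k * (h * u₀ * h⁻¹) * (l * k)⁻¹)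
            = l * k * ((a₀ : G) * h) * u₀ * h⁻¹ * (l * k)⁻¹ := by group
          _ = _ := by rw [hcomm]; group
    have hconst : ∀ p ∈ T.filter (fun p => f p = g),
        w p = (Nat.card (H (a₀ : G)) : ℂ)⁻¹ * (dadeIsometry A L H α g * conj (F g)) := by
      rintro ⟨a, u, x⟩ hp
      simp only [mem_filter, hT, mem_univ, true_and, hf] at hp
      obtain ⟨⟨ha, hu⟩, hg⟩ := hp
      have hxa : x * g * x⁻¹ = (a : G) * u := by rw [← hg]; group
      have hb := dade_conj_base hD ha₀ ha hu₀ hu (g := x * x₀⁻¹) (by rw [← hxg, ← hxa]; group)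
      obtain ⟨l, hl, hla⟩ := hD.fusion _ ha₀ (x * x₀⁻¹) (by rw [hb]; exact ha)
      rw [hb] at hla
      have hc := dade_card_conj hD ha₀ hl
      rw [hla] at hc
      simp only [hw]
      rw [hc, dadeIsometry_apply hD hα ha hu hxa, ← hxa, hF g x, mul_assoc]
    rw [sum_congr rfl hconst, sum_const, hcard, nsmul_eq_mul, Nat.cast_mul]
    field_simp [(Nat.cast_ne_zero (R := ℂ)).2 (Nat.card_pos (α := H (a₀ : G))).ne']
  have hG : (Nat.card G : ℂ) ≠ 0 := Nat.cast_ne_zero.2 Nat.card_pos.ne'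
  have hL : (Nat.card L : ℂ) ≠ 0 := Nat.cast_ne_zero.2 Nat.card_pos.ne'
  have hsum : ∑ p ∈ T, w p = (Nat.card L : ℂ) *
      ∑ g : G, dadeIsometry A L H α g * conj (F g) := by
    rw [← sum_fiberwise T f w, mul_sum]
    exact sum_congr rfl fun g _ => hfib g
  have hsum' : ∑ p ∈ T, w p = (Nat.card G : ℂ) * ∑ a : L, α a * conj (ψ a) := by
    rw [hT, sum_filter, Fintype.sum_prod_type, mul_sum]
    refine sum_congr rfl fun a _ => ?_
    by_cases ha : (a : G) ∈ A
    · simp only [ha, true_and, Fintype.sum_prod_type, sum_const, card_univ, nsmul_eq_mul,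
        ← Nat.card_eq_fintype_card, hw]
      rw [← mul_sum, ← sum_filter, ← mul_sum, hψ a ha, map_mul, map_inv₀, Complex.conj_natCast,
        finsum_mem_eq_finite_toFinset_sum _ (Set.toFinite _), map_sum]
      have : (univ.filter fun u : G => u ∈ H (a : G)) =
          (Set.toFinite (H (a : G) : Set G)).toFinset := by ext; simp
      rw [this]; ring
    · simp [ha, hαA a ha]
  simp only [classInner]
  rw [hsum] at hsum'
  field_simp
  linear_combination hsum'

end Cfsg.Agent.OddOrder
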