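import Cfsg.Agent.Lib.OddOrder.DadeFrobenius
import Cfsg.Agent.S1526

/-!
# Peterfalvi (7.11): no covering by Frobenius Dade supports

A group of odd order is not covered by pairwise disjoint sets of conjugates of cosets `a R(a)`,
`a ∈ K_i \ {1}`, attached to Frobenius groups `L_i` with kernels `K_i` of coprime orders.
-/

set_option autoImplicit false
set_option linter.style.haveILetI false

namespace Cfsg.Agent.OddOrder

open scoped ComplexConjugate
open Cfsg Cfsg.Agent.Char

variable {G : Type*} [Group G] [Fintype G]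

section Pair

variable {LA A LB B : Subgroup G} {UA UB : Finset G} (I : DadeFamily LA A UA) (J : DadeFamily LB B UB)
  (hd : Disjoint UA UB)
include hd

theorem dadeFamily_inner_diff_eq_zero {χ φ : IrrCharacter G} (hχ : χ ∈ J.F) (hφ : φ ∈ J.F) {f : G → ℂ}
    (hf : ∀ g ∉ UA, f g = 0) : classInner f (χ.1 - φ.1) = 0 := by
  rw [classInner, Finset.sum_eq_zero, mul_zero]
  intro g _
  by_cases hg : g ∈ UA
  · rw [Pi.sub_apply, J.off χ hχ φ hφ g (Finset.disjoint_left.mp hd hg), sub_self, map_zero, mul_zero]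
  · rw [hf g hg, zero_mul]

theorem dadeFamily_coef_const {χ φ : IrrCharacter G} (hχ : χ ∈ J.F) (hφ : φ ∈ J.F) : I.coef χ = I.coef φ := by
  have h := dadeFamily_inner_diff_eq_zero J hd hχ hφ I.T_off
  rw [classInner_sub_right, I.coef_spec, I.coef_spec, sub_eq_zero] at h
  exact_mod_cast h

theorem dadeFamily_disjoint : Disjoint I.F J.F := by
  classical
  rw [Finset.disjoint_left]
  intro χ hA hB
  obtain ⟨χ', hA', hne'⟩ := Finset.exists_mem_ne (by rw [I.card_F]; exact I.s_two) χ
  obtain ⟨φ, hB', hneφ⟩ := Finset.exists_mem_ne (by rw [J.card_F]; exact J.s_two) χ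
  have h0 := dadeFamily_inner_diff_eq_zero J hd hB hB' (f := χ.1 - χ'.1) fun g hg => by
    rw [Pi.sub_apply, I.off χ hA χ' hA' g hg, sub_self]
  rw [classInner_sub_left, classInner_sub_right, classInner_sub_right, classInner_irr, classInner_irr,
    classInner_irr, classInner_irr, if_pos rfl, if_neg (Ne.symm hneφ), if_neg hne'] at h0
  split_ifs at h0 <;> norm_num at h0

end Pair

theorem false_of_dadeFamilies {ι : Type*} [Fintype ι] [Nonempty ι] (hodd : Odd (Nat.card G))
    (L H : ι → Subgroup G) (U : ι → Finset G) (D : ∀ i, DadeFamily (L i) (H i) (U i))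
    (hcop : ∀ i j, i ≠ j → Nat.Coprime (Nat.card (H i)) (Nat.card (H j)))
    (hd : ∀ i j, i ≠ j → Disjoint (U i) (U j)) (h1U : ∀ i, (1 : G) ∉ U i)
    (hcover : ∀ g : G, g ≠ 1 → ∃ i, g ∈ U i) : False := by
  classical
  have hFd : ∀ i j, i ≠ j → Disjoint (D i).F (D j).F := fun i j hij =>
    dadeFamily_disjoint (D i) (D j) (hd i j hij)
  set G0 : ℝ := (Nat.card G : ℝ) with hG0
  have hGpos : 0 < G0 := by rw [hG0]; exact_mod_cast Nat.card_pos
  -- coefficient of `T i` on the family `j`
  let c : ι → ι → ℤ := fun i j => (D i).coef (D j).θ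
  have hc : ∀ i j, i ≠ j → ∀ χ ∈ (D j).F, (D i).coef χ = c i j := fun i j hij χ hχ =>
    dadeFamily_coef_const (D i) (D j) (hd i j hij) hχ (D j).θ_mem
  -- norm
  have hnorm : ∀ i, ∑ j ∈ Finset.univ.erase i, ((D j).s : ℤ) * c i j ^ 2 ≤ (D i).e - 1 := by
    intro i
    have hdis : (↑(Finset.univ : Finset ι) : Set ι).PairwiseDisjoint fun j => (D j).F :=
      fun a _ b _ hab => hFd a b hab
    have hsub : insert (trivialChar G) (Finset.univ.biUnion fun j => (D j).F) ⊆
        (Finset.univ : Finset (IrrCharacter G)) := Finset.subset_univ _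
    have h1 := Finset.sum_le_sum_of_subset_of_nonneg (f := fun χ => (D i).coef χ ^ 2) hsub
      fun χ _ _ => sq_nonneg _
    have h3 : ∑ j ∈ Finset.univ.erase i, ∑ χ ∈ (D j).F, (D i).coef χ ^ 2 =
        ∑ j ∈ Finset.univ.erase i, ((D j).s : ℤ) * c i j ^ 2 := by
      refine Finset.sum_congr rfl fun j hj => ?_
      rw [Finset.sum_congr rfl (g := fun _ => c i j ^ 2) fun χ hχ => by
          rw [hc i j (Finset.ne_of_mem_erase hj).symm χ hχ],
        Finset.sum_const, (D j).card_F, nsmul_eq_mul]
    rw [Finset.sum_insert, (D i).norm_T, (D i).coef_triv, Finset.sum_biUnion hdis,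
      ← Finset.add_sum_erase _ _ (Finset.mem_univ i), h3] at h1
    · have h2 : 1 ≤ ∑ χ ∈ (D i).F, (D i).coef χ ^ 2 := by
        obtain ⟨χ, hχ, hne⟩ := Finset.exists_ne_zero_of_sum_ne_zero
          (fun h0 => by
            have := (D i).odd_sum
            rw [h0] at this
            exact Int.not_odd_zero this :
            ∑ χ ∈ (D i).F, (D i).coef χ ≠ 0)
        refine le_trans ?_ (Finset.single_le_sum (f := fun χ => (D i).coef χ ^ 2)
          (fun χ _ => sq_nonneg _) hχ)
        have := sq_pos_of_ne_zero hne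
        omega
      linarith
    · rw [Finset.mem_biUnion]
      rintro ⟨j, -, hj⟩
      exact (D j).triv_notMem hj
  -- parity
  have hpar : ∀ i j, i ≠ j → c i j ≠ 0 ∨ c j i ≠ 0 := by
    intro i j hij
    by_contra hcon
    push Not at hcon
    obtain ⟨h1, h2⟩ := hcon
    have h0 : classInner (D i).T (D j).T = 0 := by
      rw [classInner, Finset.sum_eq_zero, mul_zero]
      intro g _
      by_cases hg : g ∈ U i
      · rw [(D j).T_off g (Finset.disjoint_left.mp (hd i j hij) hg), map_zero, mul_zero]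
      · rw [(D i).T_off g hg, zero_mul]
    rw [classInner_eq_sum_coeff (D j).T_class] at h0
    simp only [(D i).coef_spec, (D j).coef_spec, map_intCast] at h0
    have h0' : ∑ χ : IrrCharacter G, (D i).coef χ * (D j).coef χ = 0 := by exact_mod_cast h0
    have hz : ((∑ χ : IrrCharacter G, (D i).coef χ * (D j).coef χ : ℤ) : ZMod 2) = 0 := by
      rw [h0']; rfl
    set R := (Finset.univ.erase (trivialChar G)) \ ((D i).F ∪ (D j).F) with hR
    have hmemR : ∀ χ, χ ∈ R ↔ χ ≠ trivialChar G ∧ χ ∉ (D i).F ∧ χ ∉ (D j).F := fun χ => by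
      simp [hR, and_assoc]
    have hclosed : ∀ χ ∈ R, conjIrr χ ∈ R := by
      intro χ hχ
      rw [hmemR] at hχ ⊢
      refine ⟨fun h => hχ.1 ?_, fun h => hχ.2.1 ?_, fun h => hχ.2.2 ?_⟩
      · rw [← conjIrr_conjIrr χ, h]
        exact Subtype.ext (funext fun g => map_one conj)
      · rw [← conjIrr_conjIrr χ]; exact (D i).conj_mem _ h
      · rw [← conjIrr_conjIrr χ]; exact (D j).conj_mem _ h
    have heven : ((∑ χ ∈ R, (D i).coef χ * (D j).coef χ : ℤ) : ZMod 2) = 0 := by
      push_cast
      refine Finset.sum_involution (fun χ _ => conjIrr χ) ?_ ?_ hclosed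
        (fun χ _ => conjIrr_conjIrr χ)
      · intro χ hχ
        rw [hmemR] at hχ
        rw [(D i).coef_conj χ hχ.2.1, (D j).coef_conj χ hχ.2.2]
        exact CharTwo.add_self_eq_zero _
      · intro χ hχ _ hfix
        have h1 := Cfsg.Agent.S0161.result hodd χ ((conjIrr_eq_self_iff χ).mp hfix)
        exact ((hmemR χ).mp hχ).1 (Subtype.ext h1)
    have hFF : ∑ χ ∈ (D i).F ∪ (D j).F, (D i).coef χ * (D j).coef χ = 0 := by
      refine Finset.sum_eq_zero fun χ hχ => ?_
      rcases Finset.mem_union.mp hχ with h | h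
      · rw [hc j i hij.symm χ h, h2, mul_zero]
      · rw [hc i j hij χ h, h1, zero_mul]
    rw [← Finset.add_sum_erase _ _ (Finset.mem_univ (trivialChar G)), (D i).coef_triv, (D j).coef_triv,
      ← Finset.sum_sdiff (fun χ hχ => Finset.mem_erase.mpr ⟨fun h => by
          rcases Finset.mem_union.mp hχ with h' | h'
          · exact (D i).triv_notMem (h ▸ h')
          · exact (D j).triv_notMem (h ▸ h'), Finset.mem_univ _⟩ :
        (D i).F ∪ (D j).F ⊆ Finset.univ.erase (trivialChar G)), hFF, ← hR] at hz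
    push_cast at hz heven
    rw [heven] at hz
    norm_num at hz
  -- masses
  have hmass : ∀ i, ∑ j, ∑ g ∈ U j, Complex.normSq ((D i).θ.1 g) ≤ G0 := by
    intro i
    have h := classInner_irr_self (D i).θ.2
    rw [classInner_self] at h
    have h' : (Nat.card G : ℝ)⁻¹ * ∑ g : G, Complex.normSq ((D i).θ.1 g) = 1 := by exact_mod_cast h
    rw [inv_mul_eq_one₀ (Nat.cast_ne_zero.2 Nat.card_pos.ne')] at h'
    rw [hG0, h']
    rw [← Finset.sum_biUnion fun a _ b _ hab => hd a b hab]
    exact Finset.sum_le_sum_of_subset_of_nonneg (Finset.subset_univ _)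
      fun g _ _ => Complex.normSq_nonneg _
  have hR : ∀ i, ∑ j ∈ Finset.univ.erase i,
      (c j i : ℝ) ^ 2 * ((D j).s / ((D j).s * (D j).e + 1)) ≤
        ((D i).e : ℝ) / ((D i).s * (D i).e + 1) := by
    intro i
    have h1 := hmass i
    rw [← Finset.add_sum_erase _ _ (Finset.mem_univ i)] at h1
    have hn : (0 : ℝ) < (D i).s * (D i).e + 1 := by positivity
    have h3 : G0 * (∑ j ∈ Finset.univ.erase i,
        (c j i : ℝ) ^ 2 * ((D j).s / ((D j).s * (D j).e + 1))) ≤
        ∑ j ∈ Finset.univ.erase i, ∑ g ∈ U j, Complex.normSq ((D i).θ.1 g) := by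
      rw [Finset.mul_sum]
      refine Finset.sum_le_sum fun j hj => ?_
      have hji := Finset.ne_of_mem_erase hj
      have hnj : (0 : ℝ) < (D j).s * (D j).e + 1 := by positivity
      have h4 := (D j).mass_other (D i).θ
        (Finset.disjoint_left.mp (hFd i j hji.symm) (D i).θ_mem)
      rw [← mul_div_assoc, ← mul_div_assoc, div_le_iff₀ hnj,
        mul_comm (∑ g ∈ U j, Complex.normSq _), ← mul_assoc]
      exact h4
    have h5 := (D i).mass_self
    rw [le_div_iff₀ hn]
    refine le_of_mul_le_mul_left ?_ hGpos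
    nlinarith
  -- sizes of the unions
  have hhpos : ∀ i, (0 : ℝ) < Nat.card (H i) * (D i).e := fun i => by
    have := (D i).e_three
    have h1 : 0 < Nat.card (H i) * (D i).e := Nat.mul_pos Nat.card_pos (by omega)
    exact_mod_cast h1
  let u : ι → ℝ := fun i => ((U i).card : ℝ) / G0
  have hU : ∀ i, u i + 1 / ((Nat.card (H i) : ℝ) * (D i).e) = 1 / ((D i).e : ℝ) := by
    intro i
    have h1 := congrArg (Nat.cast (R := ℝ)) (D i).card_union
    push_cast [Nat.cast_sub (Nat.card_pos (α := H i))] at h1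
    have he : (0 : ℝ) < (D i).e := by
      have := (D i).e_three
      exact_mod_cast (by omega : 0 < (D i).e)
    have hh : (0 : ℝ) < Nat.card (H i) := by exact_mod_cast Nat.card_pos
    simp only [u]
    field_simp
    linear_combination h1
  have hcov : ∑ i, u i + 1 / G0 = 1 := by
    have h1 : (Finset.univ.biUnion fun i => U i) = Finset.univ.erase (1 : G) := by
      ext g
      simp only [Finset.mem_biUnion, Finset.mem_univ, true_and, Finset.mem_erase, and_true]
      exact ⟨fun ⟨i, hg⟩ h0 => h1U i (h0 ▸ hg), fun hg => hcover g hg⟩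
    have h2 : ∑ i, (U i).card = Nat.card G - 1 := by
      rw [← Finset.card_biUnion fun a _ b _ hab => hd a b hab, h1,
        Finset.card_erase_of_mem (Finset.mem_univ _), Finset.card_univ, Nat.card_eq_fintype_card]
    have h3 := congrArg (Nat.cast (R := ℝ)) h2
    push_cast [Nat.cast_sub (Nat.card_pos (α := G))] at h3
    simp only [u, ← Finset.sum_div, h3, ← hG0]
    rw [← add_div, sub_add_cancel, div_self hGpos.ne']
  refine Cfsg.Agent.S1526.numeric (fun i => (D i).e) (fun i => (D i).s) u (fun i => (D i).e_three)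
    (fun i => (D i).e_odd) (fun i => (D i).s_two) (fun i => (D i).s_even) ?_ ?_ ?_
    (fun i => (Finset.univ.erase i).filter fun j => c i j ≠ 0)
    (fun i => Finset.filter_subset _ _) ?_ ?_
  · intro i j hij heq
    have h2 : (D i).s * (D i).e + 1 = 1 :=
      Nat.eq_one_of_dvd_coprimes (hcop i j hij) (D i).dvd_card (heq ▸ (D j).dvd_card)
    have h3 := Nat.mul_le_mul (D i).s_two (D i).e_three
    omega
  · intro i
    have := hU i
    have h1 : (0 : ℝ) < 1 / ((Nat.card (H i) : ℝ) * (D i).e) := one_div_pos.mpr (hhpos i)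
    linarith
  · intro i
    have h1 := hcov
    rw [← Finset.add_sum_erase _ _ (Finset.mem_univ i)] at h1
    have h2 : 1 / G0 ≤ 1 / ((Nat.card (H i) : ℝ) * (D i).e) := by
      refine one_div_le_one_div_of_le (hhpos i) ?_
      have h3 : Nat.card (H i) * (D i).e ≤ Nat.card G :=
        (D i).card_norm ▸ Subgroup.card_le_card_group _
      rw [hG0]; exact_mod_cast h3
    have := hU i
    linarith
  · intro i
    have h1 : ∑ j ∈ (Finset.univ.erase i).filter (fun j => c i j ≠ 0), ((D j).s : ℤ) ≤
        (D i).e - 1 := by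
      refine le_trans ?_ (hnorm i)
      rw [Finset.sum_filter]
      refine Finset.sum_le_sum fun j _ => ?_
      split_ifs with h
      · refine le_mul_of_one_le_right (Int.natCast_nonneg _) ?_
        have := sq_pos_of_ne_zero h
        omega
      · positivity
    have := (D i).e_three
    have h2 : ((∑ j ∈ (Finset.univ.erase i).filter (fun j => c i j ≠ 0), (D j).s : ℕ) : ℤ) ≤
        (D i).e - 1 := by push_cast; exact h1
    omega
  · intro i
    refine le_trans ?_ (hR i)
    rw [← Finset.filter_not, Finset.sum_filter]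
    refine Finset.sum_le_sum fun j hj => ?_
    have hpos : (0 : ℝ) ≤ (D j).s / ((D j).s * (D j).e + 1) := by positivity
    by_cases h : c i j = 0
    · rw [if_pos (not_not.mpr h)]
      exact le_mul_of_one_le_left hpos
        (Cfsg.Agent.S1526.int_one_le_sq ((hpar i j (Finset.ne_of_mem_erase hj).symm).resolve_left (not_not.mpr h)))
    · rw [if_neg (not_not.mpr h)]
      positivity

/-- Peterfalvi (7.11). -/
theorem no_dade_frobenius_cover {G : Type*} [Group G] [Fintype G] (hodd : Odd (Nat.card G))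
    {ι : Type*} [Fintype ι] [Nonempty ι] (L K : ι → Subgroup G) (R : ι → G → Subgroup G)
    (hF : ∀ i, IsFrobDade (L i) (K i) (R i))
    (hcop : ∀ i j, i ≠ j → Nat.Coprime (Nat.card (K i)) (Nat.card (K j)))
    (hd : ∀ i j, i ≠ j → Disjoint (dadeUnion ((K i : Set G) \ {1}) (R i))
      (dadeUnion ((K j : Set G) \ {1}) (R j)))
    (hcover : ∀ g : G, g ≠ 1 → ∃ i, g ∈ dadeUnion ((K i : Set G) \ {1}) (R i)) : False :=
  false_of_dadeFamilies hodd L K _ (fun i => (exists_dadeFamily (hF i) hodd).some) hcop hd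
    (fun i => one_notMem_dadeUnion (hF i).dade) hcover

end Cfsg.Agent.OddOrder
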