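import Cfsg.Agent.Lib.OddOrder.DadeVirtual
import Cfsg.Agent.S1525

/-!
# The inverse Dade map (Peterfalvi (7.1)-(7.3))

`invDade A L H χ` is the average of `χ` over the cosets `a H(a)`, `a ∈ A`. It is adjoint to the Dade
isometry and decreases the norm on the conjugates of these cosets.
-/

set_option autoImplicit false

namespace Cfsg.Agent.OddOrder

open scoped ComplexConjugate
open Cfsg

universe u

variable {G : Type u} [Group G] {A : Set G} {L : Subgroup G} {H : G → Subgroup G}

open scoped Classical in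
/-- The average of `χ` over `a H(a)` at `a ∈ A`, extended by zero to `L`. -/
noncomputable def invDade [Fintype G] (A : Set G) (L : Subgroup G) (H : G → Subgroup G)
    (χ : G → ℂ) : L → ℂ :=
  fun a => if (a : G) ∈ A then cosetAvg χ (H a) a else 0

open scoped Classical in
/-- The union of the conjugates of the cosets `a H(a)`, `a ∈ A`. -/
noncomputable def dadeUnion [Fintype G] (A : Set G) (H : G → Subgroup G) : Finset G :=
  Finset.univ.filter fun g => ∃ a ∈ A, ∃ u ∈ H a, ∃ x : G, x * g * x⁻¹ = a * u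

section

variable [Fintype G]

theorem invDade_of_mem {a : L} (ha : (a : G) ∈ A) (χ : G → ℂ) :
    invDade A L H χ a = cosetAvg χ (H a) a := if_pos ha

theorem invDade_of_notMem {a : L} (ha : (a : G) ∉ A) (χ : G → ℂ) :
    invDade A L H χ a = 0 := if_neg ha

theorem mem_dadeUnion {g : G} :
    g ∈ dadeUnion A H ↔ ∃ a ∈ A, ∃ u ∈ H a, ∃ x : G, x * g * x⁻¹ = a * u := by
  simp [dadeUnion]

theorem isClassFunction_invDade (hD : DadeHypothesis A L H) {χ : G → ℂ}
    (hχ : IsClassFunction G χ) : IsClassFunction L (invDade A L H χ) := by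
  intro a l
  have hconj : ((l * a * l⁻¹ : L) : G) = (l : G) * a * (l : G)⁻¹ := rfl
  by_cases ha : (a : G) ∈ A
  · have hla : ((l * a * l⁻¹ : L) : G) ∈ A := hD.conj_mem _ l.2 _ ha
    rw [invDade_of_mem ha, invDade_of_mem hla, hconj]
    refine cosetAvg_map_conj hχ _ _ fun x => ⟨fun hx => dade_conj_mem hD ha l.2 hx, fun hx => ?_⟩
    have h2 := dade_conj_mem hD (hD.conj_mem _ l.2 _ ha) (inv_mem l.2) hx
    simpa [mul_assoc] using h2
  · have hla : ((l * a * l⁻¹ : L) : G) ∉ A := fun h => ha (by
      have := hD.conj_mem _ (inv_mem l.2) _ h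
      simpa [hconj, mul_assoc] using this)
    rw [invDade_of_notMem ha, invDade_of_notMem hla]

/-- Peterfalvi (7.2): the inverse map is adjoint to the Dade isometry. -/
theorem classInner_dade_invDade [Fintype L] (hD : DadeHypothesis A L H) {α : L → ℂ}
    (hα : IsClassFunction L α) (hαA : ∀ x : L, (x : G) ∉ A → α x = 0) {χ : G → ℂ}
    (hχ : IsClassFunction G χ) :
    classInner (dadeIsometry A L H α) χ = classInner α (invDade A L H χ) :=
  classInner_dadeIsometry hD hα hαA hχ _ fun _ ha => invDade_of_mem ha χ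

theorem dadeIsometry_eq_zero {g : G} (hg : g ∉ dadeUnion A H) (α : L → ℂ) :
    dadeIsometry A L H α g = 0 := by
  refine dif_neg ?_
  rintro ⟨a, ha, x, u, hu, he⟩
  exact hg (mem_dadeUnion.2 ⟨a, ha, u, hu, x, he⟩)

theorem one_notMem_dadeUnion (hD : DadeHypothesis A L H) : (1 : G) ∉ dadeUnion A H := by
  rw [mem_dadeUnion]
  rintro ⟨a, ha, u, hu, x, he⟩
  rw [mul_one, mul_inv_cancel] at he
  have h1 : a ∈ H a ⊓ (L ⊓ Subgroup.centralizer ({a} : Set G)) :=
    Subgroup.mem_inf.2 ⟨by
        have h' := inv_mem hu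
        rwa [← eq_inv_of_mul_eq_one_left he.symm] at h',
      Subgroup.mem_inf.2 ⟨hD.subset ha, Subgroup.mem_centralizer_singleton_iff.2 rfl⟩⟩
  rw [hD.inf_eq_bot a ha, Subgroup.mem_bot] at h1
  exact hD.one_not_mem (h1 ▸ ha)

/-- Peterfalvi (7.3). -/
theorem sum_normSq_invDade_le [Fintype L] (hD : DadeHypothesis A L H) {χ : G → ℂ}
    (hχ : IsClassFunction G χ) :
    (Nat.card L : ℝ)⁻¹ * ∑ a : L, Complex.normSq (invDade A L H χ a) ≤
      (Nat.card G : ℝ)⁻¹ * ∑ g ∈ dadeUnion A H, Complex.normSq (χ g) := by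
  classical
  have h := Cfsg.Agent.S1525.result A L H hD χ hχ (invDade A L H χ)
    fun a ha => invDade_of_mem ha χ
  rw [finsum_mem_eq_toFinset_sum, finsum_mem_eq_toFinset_sum] at h
  refine le_trans (le_of_eq ?_) (h.trans (le_of_eq ?_))
  · congr 1
    refine (Finset.sum_subset (Finset.subset_univ _) fun a _ ha => ?_).symm.trans
      (Finset.sum_congr rfl fun a _ => Complex.normSq_eq_norm_sq _)
    rw [invDade_of_notMem (by simpa using ha), map_zero]
  · congr 1
    refine Finset.sum_congr ?_ fun g _ => (Complex.normSq_eq_norm_sq _).symm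
    ext g
    simp [mem_dadeUnion]

/-- The Dade image of the indicator function of `A` is that of the union, so `|Ã| / |G| = |A| / |L|`. -/
theorem card_dadeUnion (hD : DadeHypothesis A L H) :
    Nat.card L * (dadeUnion A H).card = Nat.card G * Nat.card {a : L // (a : G) ∈ A} := by
  classical
  haveI := Fintype.ofFinite L
  set α : L → ℂ := fun a => if (a : G) ∈ A then 1 else 0 with hαdef
  have hα : IsClassFunction L α := by
    intro a l
    have hiff : ((l * a * l⁻¹ : L) : G) ∈ A ↔ (a : G) ∈ A := by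
      refine ⟨fun h => ?_, fun h => hD.conj_mem _ l.2 _ h⟩
      have := hD.conj_mem _ (inv_mem l.2) _ h
      simpa [mul_assoc] using this
    simp only [hαdef, hiff]
  have h1 : IsClassFunction G (fun _ => (1 : ℂ)) := fun _ _ => rfl
  have h := classInner_dade_invDade hD hα (fun x hx => if_neg hx) h1
  have hL : ∀ g : G, dadeIsometry A L H α g * conj ((fun _ => (1 : ℂ)) g) =
      if g ∈ dadeUnion A H then 1 else 0 := by
    intro g
    simp only [map_one, mul_one]
    split_ifs with hg
    · obtain ⟨a, ha, u, hu, x, hx⟩ := mem_dadeUnion.1 hg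
      rw [dadeIsometry_apply hD hα (a := ⟨a, hD.subset ha⟩) ha hu hx]
      exact if_pos ha
    · exact dadeIsometry_eq_zero hg α
  have hR : ∀ a : L, α a * conj (invDade A L H (fun _ => (1 : ℂ)) a) =
      if (a : G) ∈ A then 1 else 0 := by
    intro a
    simp only [hαdef]
    split_ifs with ha
    · rw [invDade_of_mem ha, cosetAvg_eq_sum, Finset.sum_const, Finset.card_univ,
        ← Nat.card_eq_fintype_card, nsmul_eq_mul, mul_one,
        inv_mul_cancel₀ (Nat.cast_ne_zero.2 Nat.card_pos.ne'), map_one, mul_one]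
    · rw [zero_mul]
  simp only [classInner] at h
  rw [Finset.sum_congr rfl fun g _ => hL g, Finset.sum_congr rfl fun a _ => hR a,
    Finset.sum_boole, Finset.sum_boole, Finset.filter_mem_eq_inter, Finset.univ_inter,
    ← Fintype.card_subtype, ← Nat.card_eq_fintype_card (α := {a : L // (a : G) ∈ A})] at h
  have hG : (Nat.card G : ℂ) ≠ 0 := Nat.cast_ne_zero.2 Nat.card_pos.ne'
  have hL0 : (Nat.card L : ℂ) ≠ 0 := Nat.cast_ne_zero.2 Nat.card_pos.ne'
  field_simp at h
  rw [mul_comm]
  exact_mod_cast h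

end

end Cfsg.Agent.OddOrder
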