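import Cfsg.Agent.Lib.OddOrder.FrobeniusTI
import Cfsg.Agent.Lib.OddOrder.DadeInverse

/-!
# Frobenius subgroups in a Dade set-up: one family of exceptional characters

The analogue of `FamilyData` for a Frobenius group `L` with kernel `K` such that `K \ {1}` satisfies
the Dade hypothesis in `G`; the conjugates of `K` are replaced by the conjugates of the cosets
`a R(a)` (Peterfalvi (7.8), (7.9)).
-/

set_option autoImplicit false
set_option linter.style.haveILetI false

namespace Cfsg.Agent.OddOrder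

open scoped ComplexConjugate
open Cfsg Cfsg.Agent.Char

variable {G : Type*} [Group G]

/-- `L` is a Frobenius group with kernel `K` and `(K \ {1}, L, R)` is a Dade set-up. -/
structure IsFrobDade (L K : Subgroup G) (R : G → Subgroup G) : Prop where
  lt : K < L
  ne_bot : K ≠ ⊥
  conj_mem : ∀ x ∈ L, ∀ h ∈ K, x * h * x⁻¹ ∈ K
  frob : ∀ h ∈ K, h ≠ 1 → L ⊓ Subgroup.centralizer ({h} : Set G) ≤ K
  dade : DadeHypothesis ((K : Set G) \ {1}) L R

theorem IsFrobDade.normal_subgroupOf {L K : Subgroup G} {R : G → Subgroup G}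
    (hF : IsFrobDade L K R) : (K.subgroupOf L).Normal :=
  ⟨fun k hk x => hF.conj_mem _ x.2 _ hk⟩

theorem IsFrobDade.isFrobTI {L K : Subgroup G} {R : G → Subgroup G}
    (hF : IsFrobDade L K R) : IsFrobTI (K.subgroupOf L) := by
  haveI := hF.normal_subgroupOf
  have htop : ∀ n : L, n ∈ Subgroup.normalizer ((K.subgroupOf L : Subgroup L) : Set L) := fun n => by
    rw [Subgroup.normalizer_eq_top]; trivial
  refine ⟨?_, ?_, fun n _ x hx hx1 hcomm => ?_, fun g _ _ _ _ => htop g⟩
  · rw [ne_eq, Subgroup.subgroupOf_eq_bot, disjoint_iff, inf_eq_left.2 hF.lt.le]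
    exact hF.ne_bot
  · obtain ⟨n, hn, hnK⟩ := SetLike.exists_of_lt hF.lt
    exact ⟨⟨n, hn⟩, htop _, hnK⟩
  · refine hF.frob (x : G) hx (fun h1 => hx1 (Subtype.ext h1)) ⟨n.2, ?_⟩
    exact Subgroup.mem_centralizer_singleton_iff.2 (congrArg Subtype.val hcomm)

variable [Fintype G]

/-- A family of exceptional characters attached to `K` with support `U`, and the coefficients of
the image of `1_K - λ₀`. -/
structure DadeFamily (L K : Subgroup G) (U : Finset G) : Type _ where
  e : ℕ
  s : ℕ
  e_three : 3 ≤ e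
  e_odd : Odd e
  s_two : 2 ≤ s
  s_even : Even s
  dvd_card : s * e + 1 ∣ Nat.card K
  card_norm : Nat.card L = Nat.card K * e
  F : Finset (IrrCharacter G)
  θ : IrrCharacter G
  θ_mem : θ ∈ F
  card_F : F.card = s
  triv_notMem : trivialChar G ∉ F
  conj_mem : ∀ χ ∈ F, conjIrr χ ∈ F
  off : ∀ χ ∈ F, ∀ φ ∈ F, ∀ g ∉ U, χ.1 g = φ.1 g
  T : G → ℂ
  T_class : IsClassFunction G T
  T_off : ∀ g ∉ U, T g = 0
  coef : IrrCharacter G → ℤ
  coef_spec : ∀ χ : IrrCharacter G, classInner T χ.1 = coef χ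
  norm_T : ∑ χ : IrrCharacter G, coef χ ^ 2 = e + 1
  coef_triv : coef (trivialChar G) = 1
  coef_conj : ∀ χ ∉ F, coef (conjIrr χ) = coef χ
  odd_sum : Odd (∑ χ ∈ F, coef χ)
  card_union : Nat.card K * e * U.card = Nat.card G * (Nat.card K - 1)
  mass_self : (Nat.card G : ℝ) * ((s * e + 1 : ℝ) - e) ≤
    (s * e + 1 : ℝ) * ∑ g ∈ U, Complex.normSq (θ.1 g)
  mass_other : ∀ χ ∉ F, (Nat.card G : ℝ) * (coef χ : ℝ) ^ 2 * s ≤
    (s * e + 1 : ℝ) * ∑ g ∈ U, Complex.normSq (χ.1 g)

theorem exists_dadeFamily {L K : Subgroup G} {R : G → Subgroup G} (hF : IsFrobDade L K R)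
    (hodd : Odd (Nat.card G)) :
    Nonempty (DadeFamily L K (dadeUnion ((K : Set G) \ {1}) R)) := by
  classical
  set A : Set G := (K : Set G) \ {1} with hA
  have hD : DadeHypothesis A L R := hF.dade
  set H : Subgroup L := K.subgroupOf L with hH
  have h : IsFrobTI H := hF.isFrobTI
  haveI : H.Normal := hF.normal_subgroupOf
  set N := Subgroup.normalizer (H : Set L) with hN
  have hNtop : N = ⊤ := by rw [hN, Subgroup.normalizer_eq_top]
  have hcardH : Nat.card H = Nat.card K :=
    Nat.card_congr (Subgroup.subgroupOfEquivOfLe hF.lt.le).toEquiv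
  have hmemA : ∀ x : L, (x : G) ∈ A ↔ x ∈ H ∧ x ≠ 1 := fun x => by
    simp [hA, hH, Subgroup.mem_subgroupOf]
  haveI : Finite (H →* ℂ) := Nat.finite_of_card_ne_zero
    (by rw [card_monoidHom_complex]; exact Subgroup.index_ne_zero_of_finite)
  haveI := Fintype.ofFinite (H →* ℂ)
  set e := (H.subgroupOf N).index with he
  have hcardN : Nat.card N = Nat.card H * e := card_normalizer_eq H
  have hHpos : (Nat.card H : ℂ) ≠ 0 := Nat.cast_ne_zero.2 Nat.card_pos.ne'
  let cN : N → H ≃* H := fun n => H.normalizerMonoidHom n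
  -- orbits of linear characters
  let orb : (H →* ℂ) → Finset (H →* ℂ) := fun f => Finset.univ.image fun n : N => conjLin H n f
  have mem_orb : ∀ a f, a ∈ orb f ↔ ∃ n : N, conjLin H n f = a := fun a f => by simp [orb]
  have orb_eq : ∀ a f, a ∈ orb f → orb a = orb f := by
    intro a f ha
    obtain ⟨n, hn⟩ := (mem_orb a f).mp ha
    ext b
    rw [mem_orb, mem_orb]
    constructor
    · rintro ⟨m, hm⟩
      exact ⟨n * m, by rw [conjLin_mul, hn, hm]⟩
    · rintro ⟨m, hm⟩
      exact ⟨n⁻¹ * m, by rw [conjLin_mul, conjLin_inv H hn, hm]⟩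
  have self_mem : ∀ f, f ∈ orb f := fun f => (mem_orb f f).mpr ⟨1, conjLin_one H f⟩
  have orb_ne : ∀ a f, f ≠ 1 → a ∈ orb f → a ≠ 1 := by
    intro a f hf ha ha1
    obtain ⟨n, hn⟩ := (mem_orb a f).mp ha
    exact hf (by rw [← conjLin_inv H hn, ha1, conjLin_trivial])
  have hfib : ∀ a f, f ≠ 1 →
      (Finset.univ.filter fun n : N => conjLin H n f = a).card =
        if a ∈ orb f then Nat.card H else 0 := by
    intro a f hf
    split_ifs with ha
    · obtain ⟨n₀, hn₀⟩ := (mem_orb a f).mp ha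
      rw [← Fintype.card_subtype, ← Nat.card_eq_fintype_card]
      refine Nat.card_congr
        { toFun := fun n => ⟨((n.1 * n₀⁻¹ : N) : L),
            (h.conjLin_eq_self_iff hf _).mp (by rw [conjLin_mul, n.2, conjLin_inv H hn₀])⟩
          invFun := fun x => ⟨⟨(x : L), Subgroup.le_normalizer x.2⟩ * n₀,
            by rw [conjLin_mul, (h.conjLin_eq_self_iff hf _).mpr x.2, hn₀]⟩
          left_inv := fun n => Subtype.ext (Subtype.ext (by simp))
          right_inv := fun x => Subtype.ext (by simp) }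
    · rw [Finset.card_eq_zero, Finset.filter_eq_empty_iff]
      exact fun n _ hn => ha ((mem_orb a f).mpr ⟨n, hn⟩)
  have card_orb : ∀ f, f ≠ 1 → (orb f).card = e := by
    intro f hf
    have h1 := Finset.card_eq_sum_card_image (fun n : N => conjLin H n f) Finset.univ
    rw [Finset.card_univ, ← Nat.card_eq_fintype_card, hcardN,
      Finset.sum_congr rfl (g := fun _ => Nat.card H) (fun a ha => by
        rw [hfib a f hf, if_pos ha]), Finset.sum_const, smul_eq_mul] at h1
    exact Nat.eq_of_mul_eq_mul_right (m := Nat.card H) Nat.card_pos (h1.symm.trans (mul_comm _ _))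
  set 𝒪 := (Finset.univ.erase (1 : H →* ℂ)).image orb with h𝒪
  set s := 𝒪.card with hs
  have hn : Fintype.card (H →* ℂ) = s * e + 1 := by
    have h1 := Finset.card_eq_sum_card_image orb (Finset.univ.erase (1 : H →* ℂ))
    rw [← h𝒪, Finset.sum_congr rfl (g := fun _ => e) (fun O hO => by
      obtain ⟨f, hf, rfl⟩ := Finset.mem_image.mp hO
      have hf1 := Finset.ne_of_mem_erase hf
      rw [← card_orb f hf1]
      refine congrArg Finset.card (Finset.ext fun a => ?_)
      rw [Finset.mem_filter, Finset.mem_erase]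
      exact ⟨fun ha => ha.2 ▸ self_mem a,
        fun ha => ⟨⟨orb_ne a f hf1 ha, Finset.mem_univ _⟩, orb_eq a f ha⟩⟩),
      Finset.sum_const, smul_eq_mul, Finset.card_erase_of_mem (Finset.mem_univ _),
      Finset.card_univ] at h1
    have h2 : 0 < Fintype.card (H →* ℂ) := Fintype.card_pos
    have h3 : Fintype.card (H →* ℂ) - 1 = s * e := h1
    omega
  have hindex : s * e + 1 = (commutator H).index := by
    rw [← hn, ← Nat.card_eq_fintype_card, card_monoidHom_complex]
  have hdvd : s * e + 1 ∣ Nat.card H := hindex ▸ Subgroup.index_dvd_card _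
  have hLodd : Odd (Nat.card L) := hodd.of_dvd_nat (Subgroup.card_subgroup_dvd_card L)
  have heodd : Odd e := hLodd.of_dvd_nat
    ((dvd_mul_left e _).trans (hcardN ▸ Subgroup.card_subgroup_dvd_card N))
  have he3 : 3 ≤ e := by
    have hne : e ≠ 1 := by
      rw [he, ne_eq, Subgroup.index_eq_one, Subgroup.subgroupOf_eq_top]
      obtain ⟨n, hn, hnH⟩ := h.exists_notMem
      exact fun hh => hnH (hh hn)
    obtain ⟨k, hk⟩ := heodd
    omega
  have hseven : Even s := by
    rcases Nat.even_or_odd s with hh | hh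
    · exact hh
    · exfalso
      have h1 : Odd (s * e + 1) :=
        hLodd.of_dvd_nat (hdvd.trans (Subgroup.card_subgroup_dvd_card H))
      exact (Nat.not_even_iff_odd.mpr h1) (hh.mul heodd).add_one
  have hs2 : 2 ≤ s := by
    have h1 := h.one_lt_index_commutator
    rw [← hindex] at h1
    obtain ⟨k, hk⟩ := hseven
    rcases Nat.eq_zero_or_pos s with h0 | h0
    · rw [h0] at h1; omega
    · omega
  -- representatives
  have hrep₀ : ∀ O : 𝒪, ∃ f, f ≠ 1 ∧ orb f = O.1 := fun O => by
    obtain ⟨f, hf, hfO⟩ := Finset.mem_image.mp O.2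
    exact ⟨f, Finset.ne_of_mem_erase hf, hfO⟩
  choose r hr1 hrO using hrep₀
  let eO : Fin s ≃ 𝒪 := 𝒪.equivFin.symm
  let rep : Fin s → (H →* ℂ) := fun i => r (eO i)
  have hrep1 : ∀ i, rep i ≠ 1 := fun i => hr1 _
  have hrep : ∀ i j, rep i ∈ orb (rep j) ↔ i = j := by
    refine fun i j => ⟨fun hm => eO.injective (Subtype.ext ?_), fun hij => hij ▸ self_mem _⟩
    rw [← hrO, ← hrO]
    exact orb_eq _ _ hm
  have hcover : ∀ f, f ≠ 1 → ∃ i, f ∈ orb (rep i) := fun f hf => by
    refine ⟨eO.symm ⟨orb f, Finset.mem_image.mpr ⟨f, Finset.mem_erase.mpr ⟨hf, Finset.mem_univ _⟩,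
      rfl⟩⟩, ?_⟩
    simp only [rep, Equiv.apply_symm_apply, hrO]
    exact self_mem f
  let i₀ : Fin s := ⟨0, by omega⟩
  -- inner products
  have hip : ∀ a b : H →* ℂ, classInner (⇑a) (⇑b) = if a = b then 1 else 0 := fun a b => by
    have := classInner_irr (linIrr a) (linIrr b)
    simpa [linIrr, linIrr_injective.eq_iff] using this
  let Q : (H →* ℂ) → (H →* ℂ) → ℂ := fun a c =>
    (Nat.card H : ℂ)⁻¹ * ∑ n : N, if a = conjLin H n c then 1 else 0
  have hQ : ∀ a c, c ≠ 1 → Q a c = if a ∈ orb c then 1 else 0 := fun a c hc => by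
    simp only [Q, Finset.sum_boole]
    rw [Finset.filter_congr (q := fun n : N => conjLin H n c = a) (fun n _ => eq_comm), hfib a c hc]
    split_ifs
    · rw [inv_mul_cancel₀ hHpos]
    · rw [Nat.cast_zero, mul_zero]
  have hQ1 : ∀ a, Q a 1 = if a = 1 then (e : ℂ) else 0 := fun a => by
    simp only [Q, conjLin_trivial]
    split_ifs
    · rw [Finset.sum_const, Finset.card_univ, ← Nat.card_eq_fintype_card, hcardN, nsmul_eq_mul,
        mul_one, Nat.cast_mul, inv_mul_cancel_left₀ hHpos]
    · rw [Finset.sum_const_zero, mul_zero]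
  have hQne : ∀ c, c ≠ 1 → Q 1 c = 0 := fun c hc => by
    rw [hQ 1 c hc, if_neg fun hm => orb_ne 1 c hc hm rfl]
  have hres : ∀ c d : H →* ℂ, (fun x : H => indFun H (⇑c - ⇑d) (x : L)) =
      (Nat.card H : ℂ)⁻¹ • ∑ n : N, (⇑(conjLin H n c) - ⇑(conjLin H n d)) := by
    intro c d
    funext x
    simp only [Pi.smul_apply, Finset.sum_apply, Pi.sub_apply, smul_eq_mul, conjLin_apply]
    by_cases hx : x = 1
    · simp [hx, indFun_apply_one]
    · have hx1 : (x : L) ≠ 1 := fun h0 => hx (Subtype.ext h0)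
      simp only [indFun]
      congr 1
      symm
      refine Fintype.sum_of_injective (fun n : N => ((n : L))⁻¹)
        (fun a b (hab : ((a : L))⁻¹ = (b : L)⁻¹) => Subtype.ext (inv_inj.mp hab)) _ _ ?_ ?_
      · intro y hy
        refine extendByZero_of_notMem _ _ fun hm => hy ⟨⟨y⁻¹, ?_⟩, inv_inv y⟩
        exact h.ti y⁻¹ x x.2 hx1 (by rwa [inv_inv])
      · intro n
        rw [inv_inv, extendByZero_of_mem _ _ ((Subgroup.mem_normalizer_iff.mp n.2 (x : L)).mp x.2)]
        rfl
  have hind : ∀ a b c d : H →* ℂ, classInner (indFun H (⇑a - ⇑b)) (indFun H (⇑c - ⇑d)) =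
      (Q a c - Q a d) - (Q b c - Q b d) := by
    intro a b c d
    rw [classInner_indFun H _ (isClassFunction_indFun H _), hres c d, classInner_smul_right,
      classInner_sum_right, map_inv₀, map_natCast]
    simp only [classInner_sub_left, classInner_sub_right, hip, Finset.sum_sub_distrib, Q, mul_sub]
    ring
  -- the Dade images
  set U := dadeUnion A R with hU
  let τ : (L → ℂ) → G → ℂ := dadeIsometry A L R
  have hsupp : ∀ a b : H →* ℂ, ∀ x : L, (x : G) ∉ A → indFun H (⇑a - ⇑b) x = 0 := by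
    intro a b x hx
    by_cases h1 : x = 1
    · simp [h1, indFun_apply_one]
    · refine indFun_eq_zero_of_forall_notMem H _ fun y hy => hx ((hmemA x).2 ⟨?_, h1⟩)
      have := (inferInstance : H.Normal).conj_mem _ hy y
      simpa [mul_assoc] using this
  have hgenL : ∀ a b : H →* ℂ, IsGeneralizedCharacter L (indFun H (⇑a - ⇑b)) := fun a b => by
    rw [indFun_sub]
    exact IsGeneralizedCharacter.sub (isGeneralizedCharacter_indFun H (irr_isGeneralized (linIrr a)))
      (isGeneralizedCharacter_indFun H (irr_isGeneralized (linIrr b)))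
  have hgen : ∀ a b : H →* ℂ, IsGeneralizedCharacter G (τ (indFun H (⇑a - ⇑b))) := fun a b =>
    isGeneralizedCharacter_dadeIsometry hD (hgenL a b) (hsupp a b)
  have hadj : ∀ (a b : H →* ℂ) (F : G → ℂ), IsClassFunction G F →
      classInner (τ (indFun H (⇑a - ⇑b))) F = classInner (indFun H (⇑a - ⇑b)) (invDade A L R F) :=
    fun a b F hFc => classInner_dade_invDade hD (isClassFunction_indFun H _) (hsupp a b) hFc
  have hback : ∀ a b : H →* ℂ,
      invDade A L R (τ (indFun H (⇑a - ⇑b))) = indFun H (⇑a - ⇑b) := by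
    intro a b
    funext x
    by_cases hx : (x : G) ∈ A
    · rw [invDade_of_mem hx, cosetAvg_eq_sum, Finset.sum_congr rfl (g := fun _ => indFun H (⇑a - ⇑b) x)
        (fun u _ => dadeIsometry_apply hD (isClassFunction_indFun H _) hx (x := 1) u.2 (by group)),
        Finset.sum_const, Finset.card_univ, ← Nat.card_eq_fintype_card, nsmul_eq_mul,
        inv_mul_cancel_left₀ (Nat.cast_ne_zero.2 Nat.card_pos.ne')]
    · rw [invDade_of_notMem hx, hsupp a b x hx]
  have hindG : ∀ a b c d : H →* ℂ,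
      classInner (τ (indFun H (⇑a - ⇑b))) (τ (indFun H (⇑c - ⇑d))) =
        (Q a c - Q a d) - (Q b c - Q b d) := by
    intro a b c d
    rw [hadj a b _ (isClassFunction_dadeIsometry A L R _), hback, hind]
  have hτone : ∀ a b : H →* ℂ, τ (indFun H (⇑a - ⇑b)) 1 = 0 := fun a b =>
    dadeIsometry_eq_zero (one_notMem_dadeUnion hD) _
  let D : Fin s → G → ℂ := fun i => τ (indFun H (⇑(rep i) - ⇑(rep i₀)))
  let T : G → ℂ := τ (indFun H (⇑(1 : H →* ℂ) - ⇑(rep i₀)))
  have hoff : ∀ c d : H →* ℂ, ∀ g ∉ U, τ (indFun H (⇑c - ⇑d)) g = 0 :=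
    fun c d g hg => dadeIsometry_eq_zero hg _
  have hgram : ∀ i j, i ≠ i₀ → j ≠ i₀ → classInner (D i) (D j) = if i = j then 2 else 1 := by
    intro i j hi hj
    simp only [D, hindG, hQ _ _ (hrep1 _), hrep]
    rw [if_neg hi, if_neg (Ne.symm hj), if_pos trivial]
    split_ifs <;> norm_num
  have hD0 : D i₀ = 0 := by
    show τ (indFun H (⇑(rep i₀) - ⇑(rep i₀))) = 0
    rw [sub_self, indFun_zero]
    funext g
    show dadeIsometry A L R 0 g = 0
    simp [dadeIsometry]
  obtain ⟨εc, hεc, μ, hμ, hμi, hτ⟩ := Cfsg.Agent.S0198.result s i₀ D hD0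
    (fun i => hgen _ _) (fun i => hτone _ _) hgram
  obtain ⟨ε, hε, rfl⟩ : ∃ ε : ℤ, (ε = 1 ∨ ε = -1) ∧ εc = ε := by
    rcases hεc with hh | hh
    · exact ⟨1, Or.inl rfl, by simp [hh]⟩
    · exact ⟨-1, Or.inr rfl, by simp [hh]⟩
  let θ : Fin s → IrrCharacter G := fun i => ⟨μ i, hμ i⟩
  have hθi : Function.Injective θ := fun i j hij => hμi (congrArg Subtype.val hij)
  have hε2 : (ε : ℂ) * ε = 1 := by rcases hε with hh | hh <;> simp [hh]
  -- multiplicities in the restriction
  let m : IrrCharacter G → (H →* ℂ) → ℂ := fun χ f =>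
    classInner (⇑f) (fun x : H => invDade A L R χ.1 (x : L))
  have hρc : ∀ χ : IrrCharacter G, IsClassFunction L (invDade A L R χ.1) := fun χ =>
    isClassFunction_invDade hD (IsCharacter.isClassFunction (irr_isCharacter χ))
  have hmind : ∀ (χ : IrrCharacter G) (a b : H →* ℂ),
      classInner (τ (indFun H (⇑a - ⇑b))) χ.1 = m χ a - m χ b := fun χ a b => by
    rw [hadj a b _ (IsCharacter.isClassFunction (irr_isCharacter χ)),
      classInner_indFun H _ (hρc χ), classInner_sub_left]
  have hdint : ∀ χ a b, ∃ k : ℤ, m χ a - m χ b = k := fun χ a b => by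
    rw [← hmind]
    exact IsGeneralizedCharacter.exists_int_classInner (hgen a b) (irr_isGeneralized χ)
  have hminv : ∀ χ (n : N) f, m χ (conjLin H n f) = m χ f := by
    intro χ n f
    simp only [m, classInner]
    congr 1
    refine Fintype.sum_equiv (cN n).toEquiv _ _ fun x => ?_
    show f (cN n x) * conj (invDade A L R χ.1 x) =
      f (cN n x) * conj (invDade A L R χ.1 ((cN n x : H) : L))
    congr 2
    exact (hρc χ (x : L) (n : L)).symm
  let δ : IrrCharacter G → Fin s → ℂ := fun χ i => if θ i = χ then 1 else 0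
  have hdiff : ∀ χ i, m χ (rep i) = m χ (rep i₀) + (ε : ℂ) * (δ χ i - δ χ i₀) := by
    intro χ i
    have h1 := hmind χ (rep i) (rep i₀)
    rw [show τ (indFun H (⇑(rep i) - ⇑(rep i₀))) = D i from rfl, hτ i, classInner_smul_left,
      classInner_sub_left, show μ i = (θ i).1 from rfl, show μ i₀ = (θ i₀).1 from rfl,
      classInner_irr, classInner_irr] at h1
    linear_combination -h1
  have hlin : ∀ χ f, f ≠ 1 → ∀ i, f ∈ orb (rep i) →
      m χ f = m χ (rep i₀) + (ε : ℂ) * (δ χ i - δ χ i₀) := by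
    intro χ f _ i hi
    obtain ⟨n, rfl⟩ := (mem_orb _ _).mp hi
    rw [hminv, hdiff]
  set F := Finset.univ.image θ with hF
  have hconst : ∀ χ ∉ F, ∀ f, f ≠ 1 → m χ f = m χ (rep i₀) := by
    intro χ hχ f hf
    obtain ⟨i, hi⟩ := hcover f hf
    have h0 : ∀ j, δ χ j = 0 := fun j => if_neg fun hj =>
      hχ (Finset.mem_image.mpr ⟨j, Finset.mem_univ _, hj⟩)
    rw [hlin χ f hf i hi, h0, h0, sub_self, mul_zero, add_zero]
  have hnonconst : ∀ χ ∈ F, ∃ f f', f ≠ 1 ∧ f' ≠ 1 ∧ m χ f ≠ m χ f' := by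
    intro χ hχ
    obtain ⟨i, -, rfl⟩ := Finset.mem_image.mp hχ
    obtain ⟨j, hj⟩ : ∃ j, j ≠ i := Fintype.exists_ne_of_one_lt_card (by simp; omega) i
    refine ⟨rep i, rep j, hrep1 _, hrep1 _, fun heq => ?_⟩
    rw [hdiff _ i, hdiff _ j] at heq
    simp only [δ, hθi.eq_iff, if_neg hj, if_pos] at heq
    have : (ε : ℂ) = 0 := by linear_combination heq
    rw [this, mul_zero] at hε2
    exact zero_ne_one hε2
  -- conjugation
  let cl : (H →* ℂ) → (H →* ℂ) := fun f => (starRingEnd ℂ).toMonoidHom.comp f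
  have hcl1 : cl 1 = 1 := MonoidHom.ext fun x => map_one (starRingEnd ℂ)
  have hcl : ∀ f, f ≠ 1 → cl f ≠ 1 := fun f hf h0 => hf (MonoidHom.ext fun x => by
    have := congrArg conj (DFunLike.congr_fun h0 x)
    simpa [cl] using this)
  have hmconj : ∀ χ f, m (conjIrr χ) f = conj (m χ (cl f)) := by
    intro χ f
    have hρ : ∀ x : L, invDade A L R (conjIrr χ).1 x = conj (invDade A L R χ.1 x) := by
      intro x
      by_cases hx : (x : G) ∈ A
      · simp [invDade_of_mem hx, cosetAvg_eq_sum, map_sum]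
      · simp [invDade_of_notMem hx]
    simp [m, cl, classInner, hρ]
  have hFconj : ∀ χ ∈ F, conjIrr χ ∈ F := by
    intro χ hχ
    by_contra hnot
    obtain ⟨f, f', hf, hf', hne⟩ := hnonconst χ hχ
    have hm : ∀ g, m χ g = conj (m (conjIrr χ) (cl g)) := fun g => by rw [← hmconj, conjIrr_conjIrr]
    rw [hm, hm] at hne
    exact hne (congrArg conj
      ((hconst _ hnot _ (hcl f hf)).trans (hconst _ hnot _ (hcl f' hf')).symm))
  have hmtriv : ∀ f, m (trivialChar G) f =
      (if f = 1 then 1 else 0) - (Nat.card H : ℂ)⁻¹ := by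
    intro f
    have hval : ∀ x : H, invDade A L R (trivialChar G).1 (x : L) = 1 - if x = 1 then 1 else 0 := by
      intro x
      by_cases hx : x = 1
      · subst hx
        rw [if_pos rfl, sub_self, invDade_of_notMem]
        exact fun hh => ((hmemA _).1 hh).2 rfl
      · have hxA : ((x : L) : G) ∈ A := (hmemA _).2 ⟨x.2, fun hh => hx (Subtype.ext hh)⟩
        rw [if_neg hx, sub_zero, invDade_of_mem hxA, cosetAvg_eq_sum]
        simp [trivialChar]
    show classInner (⇑f) (fun x : H => invDade A L R (trivialChar G).1 (x : L)) = _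
    simp only [hval]
    rw [← hip f 1]
    simp only [classInner, map_sub, apply_ite conj, map_one, map_zero, mul_sub, mul_ite, mul_one,
      mul_zero, Finset.sum_sub_distrib, Finset.sum_ite_eq', Finset.mem_univ, if_true, MonoidHom.one_apply]
  have htriv : trivialChar G ∉ F := fun hm => by
    obtain ⟨f, f', hf, hf', hne⟩ := hnonconst _ hm
    rw [hmtriv, hmtriv, if_neg hf, if_neg hf'] at hne
    exact hne rfl
  -- the coefficients of `T`
  have hcoef : ∀ χ : IrrCharacter G, ∃ k : ℤ, classInner T χ.1 = k := fun χ => by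
    rw [hmind]
    exact hdint χ 1 (rep i₀)
  choose coef hcoef using hcoef
  have hcm : ∀ χ, (coef χ : ℂ) = m χ 1 - m χ (rep i₀) := fun χ => by rw [← hcoef, hmind]
  have hcfam : ∀ i, i ≠ i₀ → coef (θ i) = coef (θ i₀) + ε := by
    intro i hi
    have h1 : classInner T (D i) = 1 := by
      simp only [T, D, hindG, hQ _ _ (hrep1 _), hrep]
      rw [if_neg fun hm => orb_ne _ _ (hrep1 i) hm rfl,
        if_neg fun hm => orb_ne _ _ (hrep1 i₀) hm rfl, if_neg (Ne.symm hi), if_pos trivial]
      norm_num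
    rw [hτ i, classInner_smul_right, classInner_sub_right, map_intCast,
      show μ i = (θ i).1 from rfl, show μ i₀ = (θ i₀).1 from rfl, hcoef, hcoef] at h1
    have h2 : (coef (θ i) : ℂ) = (coef (θ i₀) + ε : ℤ) := by
      push_cast
      linear_combination (ε : ℂ) * h1 - ((coef (θ i) : ℂ) - coef (θ i₀)) * hε2
    exact_mod_cast h2
  have hodd_sum : Odd (∑ χ ∈ F, coef χ) := by
    rw [hF, Finset.sum_image fun a _ b _ hab => hθi hab,
      ← Finset.add_sum_erase _ _ (Finset.mem_univ i₀),
      Finset.sum_congr rfl (fun i hi => hcfam i (Finset.ne_of_mem_erase hi)), Finset.sum_const,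
      Finset.card_erase_of_mem (Finset.mem_univ _), Finset.card_univ, Fintype.card_fin,
      nsmul_eq_mul]
    obtain ⟨k, hk⟩ := hseven
    obtain ⟨l, hl⟩ : ∃ l : ℤ, ε = 2 * l + 1 := by
      rcases hε with hh | hh
      · exact ⟨0, by omega⟩
      · exact ⟨-1, by omega⟩
    refine ⟨(k : ℤ) * coef (θ i₀) + (2 * k - 1) * l + k - 1, ?_⟩
    have hcast : (((s - 1 : ℕ)) : ℤ) = 2 * k - 1 := by omega
    rw [hcast, hl]
    ring
  have hnorm : ∑ χ : IrrCharacter G, coef χ ^ 2 = (e : ℤ) + 1 := by
    have h1 : classInner T T = (e : ℂ) + 1 := by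
      simp only [T, hindG, hQne _ (hrep1 _), hQ1, hQ _ _ (hrep1 _), hrep]
      simp [hrep1]
    rw [classInner_eq_sum_coeff (T := T) (T' := T) (isClassFunction_dadeIsometry A L R _)] at h1
    simp only [hcoef, map_intCast] at h1
    have h2 : ((∑ χ : IrrCharacter G, coef χ ^ 2 : ℤ) : ℂ) = (((e : ℤ) + 1 : ℤ) : ℂ) := by
      push_cast
      simp only [sq]
      exact h1
    exact_mod_cast h2
  -- masses
  have hcardU : Nat.card H * e * U.card = Nat.card G * (Nat.card H - 1) := by
    have h1 := card_dadeUnion hD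
    have hcA : Nat.card {a : L // (a : G) ∈ A} = Nat.card H - 1 := by
      rw [← Nat.card_congr ((Equiv.subtypeSubtypeEquivSubtypeInter (· ∈ H) (· ≠ (1 : L))).trans
          (Equiv.subtypeEquivRight fun x => (hmemA x).symm)), Nat.card_eq_fintype_card,
        Fintype.card_subtype]
      rw [Finset.filter_congr (q := fun x : H => x ≠ 1) (fun x _ => by simp), Finset.filter_ne',
        Finset.card_erase_of_mem (Finset.mem_univ _), Finset.card_univ, Nat.card_eq_fintype_card]
    rw [hcA] at h1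
    rwa [← hcardN, hNtop, Subgroup.card_top]
  have hbess : ∀ (χ : IrrCharacter G) (m₁ : ℂ) (u : (H →* ℂ) → ℝ),
      (∀ f, m χ f = m₁ + (u f : ℂ)) →
      (Nat.card G : ℝ) * ((s * e + 1 : ℝ) * ∑ f, u f ^ 2 - (∑ f, u f) ^ 2) ≤
        (s * e + 1 : ℝ) * ((e : ℝ) * ∑ g ∈ U, Complex.normSq (χ.1 g)) := by
    intro χ m₁ u hu
    obtain ⟨n, hn'⟩ : ∃ n : ℝ, n = (s * e + 1 : ℝ) := ⟨_, rfl⟩
    have hnpos : (0 : ℝ) < n := hn' ▸
      add_pos_of_nonneg_of_pos (mul_nonneg (Nat.cast_nonneg _) (Nat.cast_nonneg _)) one_pos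
    have hncard : (Fintype.card (H →* ℂ) : ℝ) = n := by rw [hn, hn']; push_cast; ring
    rw [← hn']
    set b : (H →* ℂ) → ℝ := fun f => u f - (∑ f, u f) / n with hb
    have hb0 : ∑ f, b f = 0 := by
      simp only [hb, Finset.sum_sub_distrib, Finset.sum_const, Finset.card_univ, nsmul_eq_mul]
      rw [hncard]; field_simp; ring
    have hbu : ∑ f, (b f : ℂ) * (m₁ + (u f : ℂ)) = ((∑ f, b f ^ 2 : ℝ) : ℂ) := by
      have h3 : ∀ f, (b f : ℂ) * (m₁ + (u f : ℂ)) =
          ((b f ^ 2 : ℝ) : ℂ) + (m₁ + (((∑ f, u f) / n : ℝ) : ℂ)) * (b f : ℂ) := fun f => by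
        simp only [hb]; push_cast; ring
      rw [Finset.sum_congr rfl fun f _ => h3 f, Finset.sum_add_distrib, ← Finset.mul_sum,
        ← Complex.ofReal_sum Finset.univ b, hb0, Complex.ofReal_zero, mul_zero, add_zero,
        Complex.ofReal_sum]
    have hbsq : n * ∑ f, b f ^ 2 = n * ∑ f, u f ^ 2 - (∑ f, u f) ^ 2 := by
      have h3 : ∀ f, b f ^ 2 = u f ^ 2 - 2 * ((∑ f, u f) / n) * u f + ((∑ f, u f) / n) ^ 2 :=
        fun f => by simp only [hb]; ring
      rw [Finset.sum_congr rfl fun f _ => h3 f, Finset.sum_add_distrib, Finset.sum_sub_distrib,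
        ← Finset.mul_sum, Finset.sum_const, Finset.card_univ, nsmul_eq_mul, hncard]
      field_simp
      ring
    set B : ℝ := ∑ f, b f ^ 2 with hB
    set ψ : H → ℂ := fun x => invDade A L R χ.1 (x : L) with hψ
    set w : H → ℂ := ∑ f, (b f : ℂ) • ⇑f with hw
    have hwψ : classInner w ψ = (B : ℂ) := by
      rw [hw, classInner_sum_left]
      simp only [classInner_smul_left]
      rw [Finset.sum_congr rfl (fun f _ => congrArg ((b f : ℂ) * ·) (hu f))]
      exact hbu
    have hψw : classInner ψ w = (B : ℂ) := by rw [← conj_classInner, hwψ, Complex.conj_ofReal]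
    have hww : classInner w w = (B : ℂ) := by
      conv_lhs => arg 2; rw [hw]
      rw [classInner_sum_right]
      simp only [classInner_smul_right, Complex.conj_ofReal]
      rw [hw]
      simp only [classInner_sum_left, classInner_smul_left, hip, mul_ite, mul_one, mul_zero,
        Finset.sum_ite_eq', Finset.mem_univ, if_true, hB]
      push_cast
      exact Finset.sum_congr rfl fun f _ => (sq _).symm
    have hdecomp : classInner (ψ - w) (ψ - w) = classInner ψ ψ - (B : ℂ) := by
      rw [classInner_sub_left, classInner_sub_right, classInner_sub_right, hwψ, hψw, hww]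
      ring
    have hre : (Nat.card H : ℝ)⁻¹ * ∑ x, Complex.normSq ((ψ - w) x) =
        (Nat.card H : ℝ)⁻¹ * ∑ x, Complex.normSq (ψ x) - B := by
      rw [classInner_self, classInner_self] at hdecomp
      exact_mod_cast hdecomp
    have hH0 : (0 : ℝ) < Nat.card H := by exact_mod_cast Nat.card_pos
    have hle : (Nat.card H : ℝ) * B ≤ ∑ x, Complex.normSq (ψ x) := by
      have hnn : 0 ≤ (Nat.card H : ℝ)⁻¹ * ∑ x, Complex.normSq ((ψ - w) x) :=
        mul_nonneg (inv_nonneg.2 hH0.le) (Finset.sum_nonneg fun x _ => Complex.normSq_nonneg _)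
      field_simp at hre hnn
      linarith
    have hsum : ∑ x, Complex.normSq (ψ x) = ∑ x : L, Complex.normSq (invDade A L R χ.1 x) := by
      refine Fintype.sum_of_injective (Subtype.val : H → L) Subtype.val_injective _ _ ?_ (fun _ => rfl)
      intro x hx
      rw [invDade_of_notMem (fun hh => hx ⟨⟨x, ((hmemA x).1 hh).1⟩, rfl⟩), map_zero]
    have hS := sum_normSq_invDade_le hD (IsCharacter.isClassFunction (irr_isCharacter χ))
    rw [← hsum, ← hU, show Nat.card L = Nat.card H * e by
      rw [← hcardN, hNtop, Subgroup.card_top]] at hS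
    have he00 : (0 : ℝ) < e := by exact_mod_cast (by omega : 0 < e)
    have hG1 : (0 : ℝ) < Nat.card G := by exact_mod_cast Nat.card_pos
    push_cast at hS
    field_simp at hS
    have hG0 : (0 : ℝ) ≤ Nat.card G := Nat.cast_nonneg _
    rw [← hbsq]
    refine le_of_mul_le_mul_left ?_ hH0
    nlinarith [mul_le_mul_of_nonneg_left hle (mul_nonneg hG0 hnpos.le)]
  have he0 : (0 : ℝ) < e := by exact_mod_cast (by omega : 0 < e)
  have hFcard : F.card = s := by rw [hF, Finset.card_image_of_injective _ hθi]; simp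
  refine ⟨
    { e := e, s := s, e_three := he3, e_odd := heodd, s_two := hs2, s_even := hseven
      dvd_card := hcardH ▸ hdvd
      card_norm := by rw [← hcardH, ← hcardN, hNtop, Subgroup.card_top], F := F, θ := θ i₀
      θ_mem := Finset.mem_image_of_mem _ (Finset.mem_univ _), card_F := hFcard
      triv_notMem := htriv, conj_mem := hFconj, off := ?_, T := T
      T_class := isClassFunction_dadeIsometry A L R _, T_off := hoff _ _, coef := coef
      coef_spec := hcoef, norm_T := hnorm, coef_triv := ?_, coef_conj := ?_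
      odd_sum := hodd_sum, card_union := hcardH ▸ hcardU, mass_self := ?_, mass_other := ?_ }⟩
  · intro χ hχ φ hφ g hg
    obtain ⟨i, -, rfl⟩ := Finset.mem_image.mp hχ
    obtain ⟨j, -, rfl⟩ := Finset.mem_image.mp hφ
    have hk : ∀ k, μ k g = μ i₀ g := fun k => by
      have h1 := congrFun (hτ k) g
      rw [show D k g = 0 from hoff _ _ g hg, Pi.smul_apply, smul_eq_mul, Pi.sub_apply] at h1
      exact sub_eq_zero.mp ((mul_eq_zero.mp h1.symm).resolve_left
        (left_ne_zero_of_mul_eq_one hε2))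
    exact (hk i).trans (hk j).symm
  · have h1 := hcm (trivialChar G)
    rw [hmtriv, hmtriv, if_pos rfl, if_neg (hrep1 _), zero_sub, sub_neg_eq_add, sub_add_cancel] at h1
    exact_mod_cast h1
  · intro χ hχ
    have h1 : (coef (conjIrr χ) : ℂ) = coef χ := by
      rw [hcm, hmconj, hmconj, hcl1, hconst χ hχ _ (hcl _ (hrep1 _)), ← map_sub, ← hcm,
        map_intCast]
    exact_mod_cast h1
  · obtain ⟨r, hr⟩ : ∃ r : ℂ, m (θ i₀) (rep i₀) = r := ⟨_, rfl⟩
    set c : ℤ := coef (θ i₀) + ε with hc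
    set O := orb (rep i₀) with hO
    have h1O : (1 : H →* ℂ) ∉ O := fun hm => orb_ne _ _ (hrep1 i₀) hm rfl
    have hb := hbess (θ i₀) (r - ε)
      (fun f => (if f = 1 then (c : ℝ) else 0) + if f ∈ O then (ε : ℝ) else 0) (fun f => by
        by_cases hf : f = 1
        · subst hf
          rw [if_pos rfl, if_neg h1O, hc]
          push_cast
          have := hcm (θ i₀)
          rw [hr] at this
          linear_combination -this
        · obtain ⟨i, hi⟩ := hcover f hf
          rw [hlin _ f hf i hi, hr, if_neg hf]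
          simp only [δ, hθi.eq_iff, if_pos]
          have hiff : f ∈ O ↔ i = i₀ := by
            refine ⟨fun hm => (hrep i i₀).mp ?_, fun hh => ?_⟩
            · rw [← orb_eq f (rep i₀) hm, orb_eq f _ hi]
              exact self_mem _
            · subst hh; exact hi
          by_cases hii : i = i₀
          · rw [if_pos (hiff.mpr hii), if_pos hii]; push_cast; ring
          · rw [if_neg (mt hiff.mp hii), if_neg hii]; push_cast; ring)
    have hεr : (ε : ℝ) * ε = 1 := by rcases hε with hh | hh <;> simp [hh]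
    have hS1 : ∑ f : H →* ℂ, ((if f = 1 then (c : ℝ) else 0) + if f ∈ O then (ε : ℝ) else 0) =
        c + e * ε := by
      rw [Finset.sum_add_distrib, Finset.sum_ite_eq', if_pos (Finset.mem_univ _),
        Finset.sum_ite_mem, Finset.univ_inter, Finset.sum_const, card_orb _ (hrep1 _), nsmul_eq_mul]
    have hS2 : ∑ f : H →* ℂ, ((if f = 1 then (c : ℝ) else 0) + if f ∈ O then (ε : ℝ) else 0) ^ 2 =
        (c : ℝ) ^ 2 + e := by
      have h3 : ∀ f : H →* ℂ, ((if f = 1 then (c : ℝ) else 0) + if f ∈ O then (ε : ℝ) else 0) ^ 2 =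
          (if f = 1 then (c : ℝ) ^ 2 else 0) + if f ∈ O then (1 : ℝ) else 0 := fun f => by
        by_cases hf : f = 1
        · subst hf; simp [h1O]
        · simp only [if_neg hf, zero_add]
          split_ifs
          · rw [sq, hεr]
          · simp
      rw [Finset.sum_congr rfl fun f _ => h3 f, Finset.sum_add_distrib, Finset.sum_ite_eq',
        if_pos (Finset.mem_univ _), Finset.sum_ite_mem, Finset.univ_inter, Finset.sum_const,
        card_orb _ (hrep1 _), nsmul_eq_mul, mul_one]
    rw [hS1, hS2] at hb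
    have hint : (0 : ℤ) ≤ (s : ℤ) * e * (c * c) - 2 * e * (ε * c) := by
      have h2 : (2 : ℤ) ≤ s := by exact_mod_cast hs2
      have h4 : ε * c ≤ c * c := by
        rcases hε with hh | hh <;> rw [hh]
        · have := Int.le_self_sq c; rw [sq] at this; linarith
        · have := Int.le_self_sq (-c); rw [sq, neg_mul_neg] at this; linarith
      nlinarith [mul_le_mul_of_nonneg_right h2
        (mul_nonneg (Int.natCast_nonneg e) (mul_self_nonneg c)),
        mul_le_mul_of_nonneg_left h4 (Int.natCast_nonneg e)]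
    have hint' : (0 : ℝ) ≤ (s : ℝ) * e * ((c : ℝ) * c) - 2 * e * (ε * c) := by exact_mod_cast hint
    have hid : (s * e + 1 : ℝ) * ((c : ℝ) ^ 2 + e) - ((c : ℝ) + e * ε) ^ 2 =
        ((s : ℝ) * e * ((c : ℝ) * c) - 2 * e * (ε * c)) + e * ((s * e + 1 : ℝ) - e) := by
      linear_combination (-((e : ℝ) * e)) * hεr
    rw [hid, mul_add] at hb
    refine le_of_mul_le_mul_left ?_ he0
    linarith [mul_nonneg (Nat.cast_nonneg (α := ℝ) (Nat.card G)) hint']
  · intro χ hχ
    obtain ⟨r, hr⟩ : ∃ r : ℂ, m χ (rep i₀) = r := ⟨_, rfl⟩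
    have hb := hbess χ r (fun f => if f = 1 then (coef χ : ℝ) else 0) (fun f => by
      by_cases hf : f = 1
      · subst hf
        rw [if_pos rfl]
        push_cast
        linear_combination -(hcm χ) + hr
      · rw [if_neg hf, hconst χ hχ f hf, hr, Complex.ofReal_zero, add_zero])
    have hS : ∀ x : ℝ, ∑ f : H →* ℂ, (if f = 1 then x else 0) = x := fun x => by
      rw [Finset.sum_ite_eq', if_pos (Finset.mem_univ _)]
    simp only [ite_pow, zero_pow two_ne_zero, hS] at hb
    refine le_of_mul_le_mul_left ?_ he0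
    linarith

end Cfsg.Agent.OddOrder
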