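import Cfsg.Agent.Lib.OddOrder.DadeInverse
import Cfsg.Agent.Lib.OddOrder.CoherenceInduced
import Cfsg.Agent.Lib.OddOrder.FrobeniusTI
import Cfsg.Agent.S0161

/-!
# Peterfalvi (7.5), (7.7), (7.8), (7.9)

The norm inequality for a family of disjoint Dade supports, the expansion of the inverse Dade map on an
orthogonal family, and the consequences of coherence of the characters induced from a kernel `K` with
`A = K \ {1}`.
-/

set_option autoImplicit false
set_option linter.style.haveILetI false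
set_option linter.unusedSectionVars false

namespace Cfsg.Agent.OddOrder

open scoped ComplexConjugate
open Cfsg Finset

universe u v

section Family

variable {G : Type u} [Group G] [Fintype G] {ι : Type v} [Fintype ι]

open scoped Classical in
/-- The elements outside all the sets of conjugates of cosets. -/
noncomputable def dadeRest (A : ι → Set G) (H : ι → G → Subgroup G) : Finset G :=
  Finset.univ \ Finset.univ.biUnion fun i => dadeUnion (A i) (H i)

variable {A : ι → Set G} {L : ι → Subgroup G} {H : ι → G → Subgroup G}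

theorem mem_dadeRest {g : G} : g ∈ dadeRest A H ↔ ∀ i, g ∉ dadeUnion (A i) (H i) := by
  simp [dadeRest]

theorem sum_eq_sum_dadeUnion_add_rest {β : Type*} [AddCommMonoid β]
    (hd : ∀ i j, i ≠ j → Disjoint (dadeUnion (A i) (H i)) (dadeUnion (A j) (H j))) (f : G → β) :
    ∑ i, ∑ g ∈ dadeUnion (A i) (H i), f g + ∑ g ∈ dadeRest A H, f g = ∑ g, f g := by
  classical
  rw [← Finset.sum_biUnion fun a _ b _ hab => hd a b hab, dadeRest, add_comm]
  exact Finset.sum_sdiff (Finset.subset_univ _)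

/-- Peterfalvi (7.5), for a class function. -/
theorem dade_family_norm_le' [∀ i, Fintype (L i)] (hD : ∀ i, DadeHypothesis (A i) (L i) (H i))
    (hd : ∀ i j, i ≠ j → Disjoint (dadeUnion (A i) (H i)) (dadeUnion (A j) (H j)))
    {χ : G → ℂ} (hχ : IsClassFunction G χ) :
    ∑ i, (Nat.card (L i) : ℝ)⁻¹ * ∑ a : L i, Complex.normSq (invDade (A i) (L i) (H i) χ a) +
        (Nat.card G : ℝ)⁻¹ * ∑ g ∈ dadeRest A H, Complex.normSq (χ g) ≤
      (Nat.card G : ℝ)⁻¹ * ∑ g, Complex.normSq (χ g) := by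
  rw [← sum_eq_sum_dadeUnion_add_rest hd (fun g => Complex.normSq (χ g)), mul_add,
    Finset.mul_sum _ (fun i => ∑ g ∈ dadeUnion (A i) (H i), Complex.normSq (χ g))]
  refine add_le_add ?_ le_rfl
  exact Finset.sum_le_sum fun i _ => sum_normSq_invDade_le (hD i) hχ

/-- Peterfalvi (7.5). -/
theorem dade_family_norm_le [∀ i, Fintype (L i)] (hD : ∀ i, DadeHypothesis (A i) (L i) (H i))
    (hd : ∀ i j, i ≠ j → Disjoint (dadeUnion (A i) (H i)) (dadeUnion (A j) (H j)))
    {χ : G → ℂ} (hχ : IsIrrCharacter G χ) :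
    ∑ i, (Nat.card (L i) : ℝ)⁻¹ * ∑ a : L i, Complex.normSq (invDade (A i) (L i) (H i) χ a) +
        (Nat.card G : ℝ)⁻¹ * ∑ g ∈ dadeRest A H, Complex.normSq (χ g) ≤ 1 := by
  refine (dade_family_norm_le' hD hd (Char.IsCharacter.isClassFunction (Char.IsIrrCharacter.isCharacter hχ))).trans (le_of_eq ?_)
  have h := Char.classInner_irr_self hχ
  rw [Char.classInner_self] at h
  exact_mod_cast h

theorem card_dadeRest (hD : ∀ i, DadeHypothesis (A i) (L i) (H i))
    (hd : ∀ i j, i ≠ j → Disjoint (dadeUnion (A i) (H i)) (dadeUnion (A j) (H j))) :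
    ((dadeRest A H).card : ℝ) / Nat.card G =
      1 - ∑ i, (Nat.card {a : L i // (a : G) ∈ A i} : ℝ) / Nat.card (L i) := by
  have hG : (Nat.card G : ℝ) ≠ 0 := Nat.cast_ne_zero.2 Nat.card_pos.ne'
  have h := sum_eq_sum_dadeUnion_add_rest (A := A) (H := H) hd (fun _ => (1 : ℝ))
  simp only [Finset.sum_const, nsmul_eq_mul, mul_one, Finset.card_univ] at h
  rw [← Nat.card_eq_fintype_card] at h
  have hi : ∀ i, ((dadeUnion (A i) (H i)).card : ℝ) / Nat.card G =
      (Nat.card {a : L i // (a : G) ∈ A i} : ℝ) / Nat.card (L i) := fun i => by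
    rw [div_eq_div_iff hG (Nat.cast_ne_zero.2 Nat.card_pos.ne')]
    have := congrArg (Nat.cast (R := ℝ)) (card_dadeUnion (hD i))
    push_cast at this
    linear_combination this
  rw [← Finset.sum_congr rfl fun i _ => hi i, ← Finset.sum_div, eq_sub_iff_add_eq, ← add_div,
    add_comm, h, div_self hG]

end Family

section Expansion

variable {L : Type u} [Group L] [Fintype L]

/-- The projection formula on the span of an orthogonal family. -/
theorem eq_sum_proj (T : Finset (L → ℂ)) (horth : ∀ ζ ∈ T, ∀ η ∈ T, ζ ≠ η → classInner ζ η = 0)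
    {f : L → ℂ} (hf : f ∈ Submodule.span ℂ (↑T : Set (L → ℂ))) :
    f = ∑ ζ ∈ T, (classInner f ζ / classInner ζ ζ) • ζ := by
  induction hf using Submodule.span_induction with
  | mem x hx =>
    rw [Finset.sum_eq_single_of_mem x hx fun y hy hne => by
      rw [horth x hx y hy (Ne.symm hne), zero_div, zero_smul]]
    by_cases h : classInner x x = 0
    · rw [h, div_zero, zero_smul]; exact Char.classInner_self_eq_zero h
    · rw [div_self h, one_smul]
  | zero => simp
  | add x y _ _ hx hy =>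
    simp only [Char.classInner_add_left, add_div, add_smul, Finset.sum_add_distrib]
    rw [← hx, ← hy]
  | smul c x _ hx =>
    simp only [Char.classInner_smul_left, mul_div_assoc, mul_smul, ← Finset.smul_sum]
    rw [← hx]

variable {G : Type u} [Group G] [Fintype G] {A : Set G} {M : Subgroup G} [Fintype M]
  {H : G → Subgroup G}

/-- Peterfalvi (7.7). -/
theorem invDade_expand (hD : DadeHypothesis A M H) (T : Finset (M → ℂ))
    (horth : ∀ ζ ∈ T, ∀ η ∈ T, ζ ≠ η → classInner ζ η = 0)
    (hclass : ∀ ζ ∈ T, IsClassFunction M ζ) {ζ₀ : M → ℂ} (hζ₀ : ζ₀ ∈ T)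
    (hsupp : ∀ ζ ∈ T, ∀ x : M, (x : G) ∉ A → (ζ - (ζ 1 / ζ₀ 1) • ζ₀) x = 0)
    (hspan : ∀ f : M → ℂ, IsClassFunction M f → (∀ x : M, (x : G) ∉ A → x ≠ 1 → f x = 0) →
      f ∈ Submodule.span ℂ (↑T : Set (M → ℂ)))
    {χ : G → ℂ} (hχ : IsClassFunction G χ) {x : M} (hx : (x : G) ∈ A) :
    invDade A M H χ x = ∑ ζ ∈ T,
      conj (classInner (dadeIsometry A M H (ζ - (ζ 1 / ζ₀ 1) • ζ₀)) χ) / classInner ζ ζ * ζ x := by
  classical
  set f := invDade A M H χ with hf
  have hfc : IsClassFunction M f := isClassFunction_invDade hD hχ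
  have h1 : classInner f ζ₀ = conj (classInner ζ₀ f) := (Char.conj_classInner _ _).symm
  have hcoef : ∀ ζ ∈ T, classInner f ζ =
      conj (classInner (dadeIsometry A M H (ζ - (ζ 1 / ζ₀ 1) • ζ₀)) χ) +
        conj (ζ 1) / conj (ζ₀ 1) * classInner f ζ₀ := by
    intro ζ hζ
    rw [classInner_dade_invDade hD ?_ (hsupp ζ hζ) hχ, Char.classInner_sub_left,
      Char.classInner_smul_left, map_sub, map_mul, Char.conj_classInner, Char.conj_classInner,
      map_div₀]
    · ring
    · intro a b
      simp only [Pi.sub_apply, Pi.smul_apply, hclass ζ hζ a b, hclass ζ₀ hζ₀ a b]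
  have hδ := eq_sum_proj T horth (hspan (fun a => if a = 1 then (Nat.card M : ℂ) else 0)
    (fun a b => by simp) fun a _ ha => if_neg ha)
  have hδ' : ∀ ζ : M → ℂ,
      classInner (fun a => if a = 1 then (Nat.card M : ℂ) else 0) ζ = conj (ζ 1) := fun ζ => by
    simp [classInner, ite_mul, Finset.sum_ite_eq']
  have hx1 : x ≠ 1 := fun h => hD.one_not_mem (by simpa [h] using hx)
  have h0 : ∑ ζ ∈ T, conj (ζ 1) / classInner ζ ζ * ζ x = 0 := by
    have h := congrFun hδ x
    simp only [Finset.sum_apply, Pi.smul_apply, smul_eq_mul, hδ', if_neg hx1] at h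
    exact h.symm
  have h := congrFun (eq_sum_proj T horth (hspan f hfc fun a ha _ => invDade_of_notMem ha χ)) x
  rw [h, Finset.sum_apply]
  simp only [Pi.smul_apply, smul_eq_mul]
  rw [Finset.sum_congr rfl (g := fun ζ =>
      conj (classInner (dadeIsometry A M H (ζ - (ζ 1 / ζ₀ 1) • ζ₀)) χ) / classInner ζ ζ * ζ x +
        classInner f ζ₀ / conj (ζ₀ 1) * (conj (ζ 1) / classInner ζ ζ * ζ x)) fun ζ hζ => by
      rw [hcoef ζ hζ]; ring,
    Finset.sum_add_distrib, ← Finset.mul_sum, h0, mul_zero, add_zero]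

end Expansion

section Induced

variable {L : Type u} [Group L] [Fintype L] (K : Subgroup L)

open scoped Classical in
/-- The distinct functions induced from the non-principal irreducible characters of `K`. -/
noncomputable def indIrr : Finset (L → ℂ) :=
  (Finset.univ.erase (Char.trivialChar K)).image fun θ : IrrCharacter K => indFun K θ.1

theorem mem_indIrr {φ : L → ℂ} : φ ∈ indIrr K ↔ φ ∈ inducedIrrAbove K ⊥ := by
  classical
  simp only [indIrr, Finset.mem_image, Finset.mem_erase, Finset.mem_univ, and_true]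
  constructor
  · rintro ⟨θ, hne, rfl⟩
    refine ⟨θ.1, θ.2, fun h => hne (Subtype.ext h), fun a ha => ?_, rfl⟩
    rw [show a = 1 from Subtype.ext (Subgroup.mem_bot.1 ha)]
  · rintro ⟨θ, hθ, hne, -, rfl⟩
    exact ⟨⟨θ, hθ⟩, fun h => hne (congrArg Subtype.val h), rfl⟩

variable [K.Normal]

theorem indFun_conjFun_eq (θ : K → ℂ) (g : L) : indFun K (Char.conjFun K θ g) = indFun K θ := by
  funext x
  simp only [indFun]
  congr 1
  refine Fintype.sum_equiv (Equiv.mulRight g⁻¹) _ _ fun y => ?_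
  rw [Equiv.coe_mulRight]
  by_cases hy : y⁻¹ * x * y ∈ K
  · have hy' : (y * g⁻¹)⁻¹ * x * (y * g⁻¹) ∈ K := by
      rw [show (y * g⁻¹)⁻¹ * x * (y * g⁻¹) = g * (y⁻¹ * x * y) * g⁻¹ by group]
      exact (‹K.Normal›).conj_mem _ hy g
    rw [Char.extendByZero_of_mem _ _ hy, Char.extendByZero_of_mem _ _ hy']
    exact congrArg θ (Subtype.ext (by simp; group))
  · have hy' : (y * g⁻¹)⁻¹ * x * (y * g⁻¹) ∉ K := fun h => hy (by
      have := (‹K.Normal›).conj_mem _ h g⁻¹
      rwa [show g⁻¹ * ((y * g⁻¹)⁻¹ * x * (y * g⁻¹)) * g⁻¹⁻¹ = y⁻¹ * x * y by group] at this)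
    rw [Char.extendByZero_of_notMem _ _ hy, Char.extendByZero_of_notMem _ _ hy']

theorem classInner_indFun_eq_zero {θ θ' : K → ℂ} (hθ : IsIrrCharacter K θ) (hθ' : IsIrrCharacter K θ')
    (h : indFun K θ ≠ indFun K θ') : classInner (indFun K θ) (indFun K θ') = 0 := by
  have h1 := Char.card_mul_classInner_indFun_normal K hθ hθ'
  haveI : IsEmpty {g : L // Char.conjFun K θ' g = θ} :=
    ⟨fun g => h (by rw [← g.2, indFun_conjFun_eq])⟩
  rw [Nat.card_of_isEmpty (α := {g : L // Char.conjFun K θ' g = θ}), Nat.cast_zero, mul_eq_zero] at h1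
  exact h1.resolve_left (Nat.cast_ne_zero.2 Nat.card_pos.ne')

theorem indFun_resFun_of_support {f : L → ℂ} (hf : IsClassFunction L f)
    (h0 : ∀ x, x ∉ K → f x = 0) : indFun K (Char.resFun K f) = (K.index : ℂ) • f := by
  funext x
  rw [Pi.smul_apply, smul_eq_mul]
  by_cases hx : x ∈ K
  · simp only [indFun]
    rw [Finset.sum_congr rfl (g := fun _ => f x) fun y _ => ?_, Finset.sum_const, Finset.card_univ,
      nsmul_eq_mul, ← Nat.card_eq_fintype_card, ← K.card_mul_index, Nat.cast_mul, ← mul_assoc,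
      ← mul_assoc, inv_mul_cancel₀ (Nat.cast_ne_zero.2 Nat.card_pos.ne'), one_mul]
    have hy : y⁻¹ * x * y ∈ K := by simpa using (‹K.Normal›).conj_mem x hx y⁻¹
    rw [Char.extendByZero_of_mem _ _ hy, Char.resFun_apply]
    simpa using hf x y⁻¹
  · rw [Char.indFun_of_notMem_normal K _ hx, h0 x hx, mul_zero]

open scoped Classical in
theorem indFun_one_apply (x : L) :
    indFun K (fun _ => (1 : ℂ)) x = if x ∈ K then (K.index : ℂ) else 0 := by
  have h := congrFun (indFun_resFun_of_support K (f := fun y => if y ∈ K then (1 : ℂ) else 0)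
    (fun a b => if_congr ⟨fun h => by simpa [mul_assoc] using (‹K.Normal›).conj_mem _ h b⁻¹,
      fun h => (‹K.Normal›).conj_mem _ h b⟩ rfl rfl) fun y hy => if_neg hy) x
  rw [show Char.resFun K (fun y : L => if y ∈ K then (1 : ℂ) else 0) = fun _ => 1 from
    funext fun k => if_pos k.2] at h
  rw [h, Pi.smul_apply, smul_eq_mul, mul_ite, mul_one, mul_zero]

theorem classInner_indFun_one_self :
    classInner (indFun K fun _ => (1 : ℂ)) (indFun K fun _ => (1 : ℂ)) = K.index := by
  haveI : Fintype K := Fintype.ofFinite _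
  rw [Char.classInner_indFun K _ (Char.isClassFunction_indFun K _), classInner,
    Finset.sum_congr rfl (g := fun _ => (K.index : ℂ)) fun k _ => by
      rw [indFun_one_apply, if_pos k.2, map_natCast, one_mul],
    Finset.sum_const, Finset.card_univ, nsmul_eq_mul, ← Nat.card_eq_fintype_card, ← mul_assoc,
    inv_mul_cancel₀ Char.card_ne_zero, one_mul]

theorem indFun_one_notMem_indIrr : indFun K (fun _ => (1 : ℂ)) ∉ indIrr K := by
  rw [mem_indIrr]
  rintro ⟨θ, hθ, hne, -, he⟩
  have h1 := Char.card_mul_classInner_indFun_normal K hθ Char.isIrrCharacter_one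
  haveI : IsEmpty {g : L // Char.conjFun K (fun _ => (1 : ℂ)) g = θ} := ⟨fun g => hne g.2.symm⟩
  rw [Nat.card_of_isEmpty (α := {g : L // Char.conjFun K (fun _ => (1 : ℂ)) g = θ}), ← he, classInner_indFun_one_self, Nat.cast_zero, mul_eq_zero,
    Nat.cast_eq_zero, Nat.cast_eq_zero] at h1
  exact h1.elim Nat.card_pos.ne' Subgroup.index_ne_zero_of_finite

open scoped Classical in
theorem indIrr_orth : ∀ φ ∈ insert (indFun K fun _ => (1 : ℂ)) (indIrr K),
    ∀ ψ ∈ insert (indFun K fun _ => (1 : ℂ)) (indIrr K), φ ≠ ψ → classInner φ ψ = 0 := by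
  have h : ∀ φ ∈ insert (indFun K fun _ => (1 : ℂ)) (indIrr K),
      ∃ θ, IsIrrCharacter K θ ∧ φ = indFun K θ := by
    intro φ hφ
    rcases Finset.mem_insert.1 hφ with rfl | hφ
    · exact ⟨_, Char.isIrrCharacter_one, rfl⟩
    · obtain ⟨θ, hθ, -, -, rfl⟩ := (mem_indIrr K).1 hφ
      exact ⟨θ, hθ, rfl⟩
  intro φ hφ ψ hψ hne
  obtain ⟨θ, hθ, rfl⟩ := h φ hφ
  obtain ⟨θ', hθ', rfl⟩ := h ψ hψ
  exact classInner_indFun_eq_zero K hθ hθ' hne

open scoped Classical in
theorem indIrr_span {f : L → ℂ} (hf : IsClassFunction L f) (h0 : ∀ x, x ∉ K → f x = 0) :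
    f ∈ Submodule.span ℂ (↑(insert (indFun K fun _ => (1 : ℂ)) (indIrr K)) : Set (L → ℂ)) := by
  haveI : Fintype K := Fintype.ofFinite _
  have hr : IsClassFunction K (Char.resFun K f) := fun a b => hf a b
  have h := congrArg (indFun K) (Char.eq_sum_classInner_smul hr)
  rw [indFun_resFun_of_support K hf h0, Char.indFun_sum] at h
  rw [show f = (K.index : ℂ)⁻¹ • ((K.index : ℂ) • f) by
    rw [smul_smul, inv_mul_cancel₀ (Nat.cast_ne_zero.2 Subgroup.index_ne_zero_of_finite), one_smul],
    h]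
  refine Submodule.smul_mem _ _ (Submodule.sum_mem _ fun θ _ => ?_)
  rw [Char.indFun_smul]
  refine Submodule.smul_mem _ _ (Submodule.subset_span (Finset.mem_coe.2 (Finset.mem_insert.2 ?_)))
  by_cases hθ : θ = Char.trivialChar K
  · subst hθ; exact Or.inl rfl
  · exact Or.inr ((mem_indIrr K).2 ⟨θ.1, θ.2, fun h => hθ (Subtype.ext h), fun a ha => by
      rw [show a = 1 from Subtype.ext (Subgroup.mem_bot.1 ha)], rfl⟩)

theorem isCharacter_of_mem_indIrr {φ : L → ℂ} (h : φ ∈ inducedIrrAbove K ⊥) : IsCharacter L φ := by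
  obtain ⟨θ, hθ, -, -, rfl⟩ := h
  exact Char.isCharacter_indFun K (Char.IsIrrCharacter.isCharacter hθ)

theorem indIrr_apply_notMem {φ : L → ℂ} (h : φ ∈ inducedIrrAbove K ⊥) {x : L} (hx : x ∉ K) :
    φ x = 0 := by
  obtain ⟨θ, -, -, -, rfl⟩ := h
  exact Char.indFun_of_notMem_normal K θ hx

theorem exists_indIrr_apply_one {φ : L → ℂ} (h : φ ∈ inducedIrrAbove K ⊥) :
    ∃ m : ℕ, φ 1 = m * K.index := by
  obtain ⟨θ, hθ, -, -, rfl⟩ := h
  obtain ⟨m, -, hm⟩ := Char.IsIrrCharacter.exists_degree hθ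
  exact ⟨m, by rw [Char.indFun_apply_one, hm, mul_comm]⟩

theorem classInner_indIrr_one {φ : L → ℂ} (h : φ ∈ inducedIrrAbove K ⊥) :
    classInner φ (fun _ => (1 : ℂ)) = 0 := by
  haveI : Fintype K := Fintype.ofFinite _
  obtain ⟨θ, hθ, hne, -, rfl⟩ := h
  rw [Char.classInner_indFun K θ fun _ _ => rfl]
  exact Char.classInner_irr_of_ne hθ Char.isIrrCharacter_one hne

theorem classInner_indIrr_indFun_one {φ : L → ℂ} (h : φ ∈ inducedIrrAbove K ⊥) :
    classInner φ (indFun K fun _ => (1 : ℂ)) = 0 := by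
  classical
  exact indIrr_orth K φ (Finset.mem_insert_of_mem ((mem_indIrr K).2 h)) _ (Finset.mem_insert_self _ _)
    fun e => indFun_one_notMem_indIrr K (e ▸ (mem_indIrr K).2 h)

theorem indIrr_inner {φ ψ : L → ℂ} (hφ : φ ∈ inducedIrrAbove K ⊥) (hψ : ψ ∈ inducedIrrAbove K ⊥)
    (hne : φ ≠ ψ) : classInner φ ψ = 0 := by
  classical
  exact indIrr_orth K φ (Finset.mem_insert_of_mem ((mem_indIrr K).2 hφ)) ψ
    (Finset.mem_insert_of_mem ((mem_indIrr K).2 hψ)) hne

theorem indIrr_self_ne_zero {φ : L → ℂ} (hφ : φ ∈ inducedIrrAbove K ⊥) : classInner φ φ ≠ 0 := by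
  intro h
  obtain ⟨θ, hθ, -, -, rfl⟩ := hφ
  have := congrFun (Char.classInner_self_eq_zero h) 1
  rw [Char.indFun_apply_one, Pi.zero_apply] at this
  exact (mul_eq_zero.1 this).elim (Nat.cast_ne_zero.2 Subgroup.index_ne_zero_of_finite)
    (Char.IsIrrCharacter.apply_one_ne_zero hθ)

open scoped Classical in
/-- The regular character of `L` decomposed on the functions induced from `K`. -/
theorem sum_indIrr (x : L) : ∑ φ ∈ indIrr K, φ 1 / classInner φ φ * φ x =
    (if x = 1 then (Nat.card L : ℂ) else 0) - indFun K (fun _ => (1 : ℂ)) x := by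
  have h := congrFun (eq_sum_proj _ (indIrr_orth K) (indIrr_span K
    (f := fun a => if a = 1 then (Nat.card L : ℂ) else 0) (fun a b => by simp)
    fun a ha => if_neg (fun (h : a = 1) => ha (h ▸ K.one_mem)))) x
  have hδ : ∀ ζ : L → ℂ,
      classInner (fun a => if a = 1 then (Nat.card L : ℂ) else 0) ζ = conj (ζ 1) := fun ζ => by
    simp [classInner, ite_mul, Finset.sum_ite_eq']
  rw [Finset.sum_apply, Finset.sum_insert (indFun_one_notMem_indIrr K)] at h
  simp only [Pi.smul_apply, smul_eq_mul, hδ] at h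
  rw [classInner_indFun_one_self, Char.indFun_apply_one, map_mul, map_natCast, map_one, mul_one,
    div_self (Nat.cast_ne_zero.2 Subgroup.index_ne_zero_of_finite), one_mul] at h
  rw [h, add_sub_cancel_left]
  refine Finset.sum_congr rfl fun φ hφ => ?_
  obtain ⟨m, hm⟩ := exists_indIrr_apply_one K ((mem_indIrr K).1 hφ)
  rw [hm, map_mul, map_natCast, map_natCast]

end Induced

section DadeLinear

variable {G : Type u} [Group G] {A : Set G} {L : Subgroup G} {H : G → Subgroup G}

theorem dadeIsometry_add (α β : L → ℂ) :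
    dadeIsometry A L H (α + β) = dadeIsometry A L H α + dadeIsometry A L H β := by
  funext g
  simp only [dadeIsometry, Pi.add_apply]
  split_ifs <;> simp

theorem dadeIsometry_sub (α β : L → ℂ) :
    dadeIsometry A L H (α - β) = dadeIsometry A L H α - dadeIsometry A L H β := by
  funext g
  simp only [dadeIsometry, Pi.sub_apply]
  split_ifs <;> simp

theorem conjFun_dadeIsometry (α : L → ℂ) :
    conjFun (dadeIsometry A L H α) = dadeIsometry A L H (conjFun α) := by
  funext g
  simp only [conjFun, dadeIsometry]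
  split_ifs <;> simp

variable [Fintype G]

theorem classInner_dade_disjoint {A' : Set G} {L' : Subgroup G} {H' : G → Subgroup G}
    (hd : Disjoint (dadeUnion A H) (dadeUnion A' H')) (α : L → ℂ) (β : L' → ℂ) :
    classInner (dadeIsometry A L H α) (dadeIsometry A' L' H' β) = 0 := by
  rw [classInner, Finset.sum_eq_zero, mul_zero]
  intro g _
  by_cases hg : g ∈ dadeUnion A H
  · rw [dadeIsometry_eq_zero (Finset.disjoint_left.1 hd hg) β, map_zero, mul_zero]
  · rw [dadeIsometry_eq_zero hg α, zero_mul]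

theorem classInner_dade_one [Fintype L] (hD : DadeHypothesis A L H) {α : L → ℂ}
    (hα : IsClassFunction L α) (hαA : ∀ x : L, (x : G) ∉ A → α x = 0) :
    classInner (dadeIsometry A L H α) (fun _ => (1 : ℂ)) = classInner α (fun _ => (1 : ℂ)) :=
  classInner_dadeIsometry hD hα hαA (fun _ _ => rfl) _ fun a _ => by
    haveI := Fintype.ofFinite (H (a : G))
    show (1 : ℂ) = cosetAvg (fun _ => (1 : ℂ)) (H a) a
    rw [cosetAvg_eq_sum, Finset.sum_const, Finset.card_univ, ← Nat.card_eq_fintype_card, nsmul_eq_mul,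
      mul_one, inv_mul_cancel₀ (Nat.cast_ne_zero.2 Nat.card_pos.ne')]

theorem classInner_dade_dade [Fintype L] (hD : DadeHypothesis A L H) {α β : L → ℂ}
    (hα : IsClassFunction L α) (hαA : ∀ x : L, (x : G) ∉ A → α x = 0)
    (hβ : IsGeneralizedCharacter L β) (hβA : ∀ x : L, (x : G) ∉ A → β x = 0) :
    classInner (dadeIsometry A L H α) (dadeIsometry A L H β) = classInner α β :=
  classInner_dadeIsometry hD hα hαA (Char.IsGeneralizedCharacter.isClassFunction
    (isGeneralizedCharacter_dadeIsometry hD hβ hβA)) _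
    fun a ha => by
      haveI := Fintype.ofFinite (H (a : G))
      show β a = cosetAvg (dadeIsometry A L H β) (H a) a
      rw [cosetAvg_eq_sum, Finset.sum_congr rfl (g := fun _ => β a) fun u _ =>
          dadeIsometry_apply hD (Char.IsGeneralizedCharacter.isClassFunction hβ) ha u.2 (x := 1) (by simp),
        Finset.sum_const, Finset.card_univ, ← Nat.card_eq_fintype_card, nsmul_eq_mul, ← mul_assoc,
        inv_mul_cancel₀ (Nat.cast_ne_zero.2 Nat.card_pos.ne'), one_mul]

end DadeLinear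

section Coh

variable {G : Type u} [Group G] [Fintype G]

/-- Hypothesis (7.6) with `A = K \ {1}`: the Dade hypothesis and a coherent extension `τ₁` of the Dade
map on the functions induced from `K`, with a member `ζ` of norm `1` and degree `[L : K]`. -/
structure CohSetting (A : Set G) (L : Subgroup G) [Fintype L] (H : G → Subgroup G) (K : Subgroup L)
    (τ₁ : (L → ℂ) → G → ℂ) (ζ : L → ℂ) : Prop where
  dade : DadeHypothesis A L H
  support : ∀ x : L, (x : G) ∈ A ↔ x ∈ K ∧ x ≠ 1
  normal : K.Normal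
  isometry : IsLinearIsometryOn (zspan (inducedIrrAbove K ⊥)) τ₁
  extends_dade : ∀ α ∈ zspanOn (inducedIrrAbove K ⊥) {1}ᶜ, τ₁ α = dadeIsometry A L H α
  mem : ζ ∈ inducedIrrAbove K ⊥
  norm_one : classInner ζ ζ = 1
  apply_one : ζ 1 = K.index
  exists_other : ∃ ζ' ∈ inducedIrrAbove K ⊥, ζ' ≠ ζ ∧ ζ' 1 = ζ 1

/-- The image of `1_K^L - ζ`. -/
noncomputable def dadeBeta (A : Set G) (L : Subgroup G) [Fintype L] (H : G → Subgroup G) (K : Subgroup L)
    (ζ : L → ℂ) : G → ℂ :=
  dadeIsometry A L H (indFun K (fun _ => (1 : ℂ)) - ζ)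

/-- The sum of the images weighted by degree over norm, scaled by `[L : K]`. -/
noncomputable def dadeV {L : Subgroup G} [Fintype L] (K : Subgroup L) (τ₁ : (L → ℂ) → G → ℂ) :
    G → ℂ :=
  ∑ η ∈ indIrr K, (η 1 / K.index / classInner η η) • τ₁ η

namespace CohSetting

variable {A : Set G} {L : Subgroup G} [Fintype L] {H : G → Subgroup G} {K : Subgroup L}
  {τ₁ : (L → ℂ) → G → ℂ} {ζ : L → ℂ} (hS : CohSetting A L H K τ₁ ζ)

include hS

theorem index_ne_zero : (K.index : ℂ) ≠ 0 := Nat.cast_ne_zero.2 Subgroup.index_ne_zero_of_finite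

theorem notMem_A {x : L} (hx : (x : G) ∉ A) : x = 1 ∨ x ∉ K :=
  or_iff_not_imp_left.2 fun h hK => hx ((hS.support x).2 ⟨hK, h⟩)

theorem alpha_gen : IsGeneralizedCharacter L (indFun K (fun _ => (1 : ℂ)) - ζ) :=
  haveI := hS.normal
  Char.IsGeneralizedCharacter.sub
    (Char.IsCharacter.isGeneralized (Char.isCharacter_indFun K Char.isCharacter_one))
    (Char.IsCharacter.isGeneralized (isCharacter_of_mem_indIrr K hS.mem))

theorem alpha_vanish (x : L) (hx : (x : G) ∉ A) : (indFun K (fun _ => (1 : ℂ)) - ζ) x = 0 := by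
  haveI := hS.normal
  rcases hS.notMem_A hx with rfl | h
  · rw [Pi.sub_apply, Char.indFun_apply_one, hS.apply_one, mul_one, sub_self]
  · rw [Pi.sub_apply, Char.indFun_of_notMem_normal K _ h, indIrr_apply_notMem K hS.mem h, sub_zero]

theorem beta_gen : IsGeneralizedCharacter G (dadeBeta A L H K ζ) :=
  isGeneralizedCharacter_dadeIsometry hS.dade hS.alpha_gen hS.alpha_vanish

theorem sub_mem_zspanOn {η : L → ℂ} (hη : η ∈ inducedIrrAbove K ⊥) {m : ℕ}
    (hm : η 1 = m * K.index) : η - (m : ℂ) • ζ ∈ zspanOn (inducedIrrAbove K ⊥) {1}ᶜ := by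
  refine Char.mem_zspanOn_compl_one.2 ⟨?_, ?_⟩
  · rw [show (m : ℂ) • ζ = (m : ℤ) • ζ by rw [← Int.cast_smul_eq_zsmul ℂ, Int.cast_natCast]]
    exact Submodule.sub_mem _ (Submodule.subset_span hη)
      (Submodule.smul_mem _ _ (Submodule.subset_span hS.mem))
  · rw [Pi.sub_apply, Pi.smul_apply, hm, hS.apply_one, smul_eq_mul, sub_self]

theorem sub_vanish {η : L → ℂ} (hη : η ∈ inducedIrrAbove K ⊥) {m : ℕ} (hm : η 1 = m * K.index)
    (x : L) (hx : (x : G) ∉ A) : (η - (m : ℂ) • ζ) x = 0 := by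
  haveI := hS.normal
  rcases hS.notMem_A hx with rfl | h
  · exact (Char.mem_zspanOn_compl_one.1 (hS.sub_mem_zspanOn hη hm)).2
  · rw [Pi.sub_apply, Pi.smul_apply, indIrr_apply_notMem K hη h, indIrr_apply_notMem K hS.mem h,
      smul_zero, sub_zero]

theorem sub_gen {η : L → ℂ} (hη : η ∈ inducedIrrAbove K ⊥) (m : ℕ) :
    IsGeneralizedCharacter L (η - (m : ℂ) • ζ) :=
  haveI := hS.normal
  Char.IsGeneralizedCharacter.sub (Char.IsCharacter.isGeneralized (isCharacter_of_mem_indIrr K hη))
    (Char.IsCharacter.isGeneralized (Char.IsCharacter.natCast_smul (isCharacter_of_mem_indIrr K hS.mem) m))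

theorem dade_sub {η : L → ℂ} (hη : η ∈ inducedIrrAbove K ⊥) {m : ℕ} (hm : η 1 = m * K.index) :
    dadeIsometry A L H (η - (m : ℂ) • ζ) = τ₁ η - (m : ℂ) • τ₁ ζ := by
  have hE : IsLinearIsometryOn
      ((Submodule.span ℤ (inducedIrrAbove K ⊥) : Submodule ℤ (L → ℂ)) : Set (L → ℂ)) τ₁ := hS.isometry
  have h1 : η ∈ Submodule.span ℤ (inducedIrrAbove K ⊥) := Submodule.subset_span hη
  have h2 : ζ ∈ Submodule.span ℤ (inducedIrrAbove K ⊥) := Submodule.subset_span hS.mem
  rw [← hS.extends_dade _ (hS.sub_mem_zspanOn hη hm),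
    show (m : ℂ) • ζ = (m : ℤ) • ζ by rw [← Int.cast_smul_eq_zsmul ℂ, Int.cast_natCast],
    Char.iso_map_sub hE h1 (Submodule.smul_mem _ _ h2), hS.isometry.2.1 ζ h2,
    show (m : ℤ) • τ₁ ζ = (m : ℂ) • τ₁ ζ by rw [← Int.cast_smul_eq_zsmul ℂ, Int.cast_natCast]]

theorem image_gen {η : L → ℂ} (hη : η ∈ inducedIrrAbove K ⊥) : IsGeneralizedCharacter G (τ₁ η) :=
  hS.isometry.2.2.2 η (Submodule.subset_span hη)

theorem image_inner {η φ : L → ℂ} (hη : η ∈ inducedIrrAbove K ⊥) (hφ : φ ∈ inducedIrrAbove K ⊥) :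
    classInner (τ₁ η) (τ₁ φ) = classInner η φ :=
  hS.isometry.2.2.1 η (Submodule.subset_span hη) φ (Submodule.subset_span hφ)

/-- Peterfalvi (7.8), the images are orthogonal to the principal character. -/
theorem image_one {η : L → ℂ} (hη : η ∈ inducedIrrAbove K ⊥) :
    classInner (τ₁ η) (fun _ => (1 : ℂ)) = 0 := by
  haveI := hS.normal
  have key : ∀ η ∈ inducedIrrAbove K ⊥, ∀ m : ℕ, η 1 = m * K.index →
      classInner (τ₁ η) (fun _ => (1 : ℂ)) = m * classInner (τ₁ ζ) (fun _ => (1 : ℂ)) := by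
    intro η hη m hm
    have h := classInner_dade_one hS.dade (Char.IsGeneralizedCharacter.isClassFunction (hS.sub_gen hη m)) (hS.sub_vanish hη hm)
    rw [hS.dade_sub hη hm, Char.classInner_sub_left, Char.classInner_sub_left,
      Char.classInner_smul_left, Char.classInner_smul_left, classInner_indIrr_one K hη,
      classInner_indIrr_one K hS.mem, mul_zero, sub_zero, sub_eq_zero] at h
    exact h
  obtain ⟨m, hm⟩ := exists_indIrr_apply_one K hη
  rw [key η hη m hm]
  suffices h : classInner (τ₁ ζ) (fun _ => (1 : ℂ)) = 0 by rw [h, mul_zero]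
  obtain ⟨ζ', hζ', hne, h1⟩ := hS.exists_other
  have h2 := key ζ' hζ' 1 (by rw [h1, hS.apply_one, Nat.cast_one, one_mul])
  rw [Nat.cast_one, one_mul] at h2
  have h3 := hS.image_inner hζ' hS.mem
  rw [indIrr_inner K hζ' hS.mem hne] at h3
  obtain ⟨f, hf⟩ := Char.IsGeneralizedCharacter.irr_or_neg_of_norm_one (hS.image_gen hS.mem)
    ((hS.image_inner hS.mem hS.mem).trans hS.norm_one)
  by_contra h4
  have hf1 : f.1 = fun _ => (1 : ℂ) := by
    by_contra h5
    have h6 := Char.classInner_irr_of_ne f.2 Char.isIrrCharacter_one h5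
    rcases hf with hf | hf
    · exact h4 (by rw [hf]; exact h6)
    · exact h4 (by rw [hf, Char.classInner_neg_left, h6, neg_zero])
  rw [← h2] at h4
  rcases hf with hf | hf
  · rw [hf, hf1] at h3; exact h4 h3
  · rw [hf, hf1, Char.classInner_neg_right, neg_eq_zero] at h3; exact h4 h3

/-- Peterfalvi (7.8 a). -/
theorem beta_one : classInner (dadeBeta A L H K ζ) (fun _ => (1 : ℂ)) = 1 := by
  haveI := hS.normal
  haveI : Fintype K := Fintype.ofFinite _
  rw [dadeBeta, classInner_dade_one hS.dade (Char.IsGeneralizedCharacter.isClassFunction hS.alpha_gen) hS.alpha_vanish,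
    Char.classInner_sub_left, classInner_indIrr_one K hS.mem, sub_zero,
    Char.classInner_indFun K _ fun _ _ => rfl]
  exact Char.classInner_irr_self Char.isIrrCharacter_one

theorem beta_norm : classInner (dadeBeta A L H K ζ) (dadeBeta A L H K ζ) = K.index + 1 := by
  haveI := hS.normal
  rw [dadeBeta, classInner_dade_dade hS.dade (Char.IsGeneralizedCharacter.isClassFunction hS.alpha_gen) hS.alpha_vanish hS.alpha_gen
      hS.alpha_vanish, Char.classInner_sub_left, Char.classInner_sub_right, Char.classInner_sub_right,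
    classInner_indFun_one_self, hS.norm_one, classInner_indIrr_indFun_one K hS.mem,
    ← Char.conj_classInner ζ (indFun K fun _ => (1 : ℂ)), classInner_indIrr_indFun_one K hS.mem,
    map_zero]
  ring

theorem exists_coef : ∃ a : ℤ, classInner (dadeBeta A L H K ζ) (τ₁ ζ) = a - 1 := by
  obtain ⟨z, hz⟩ := Char.IsGeneralizedCharacter.exists_int_classInner hS.beta_gen (hS.image_gen hS.mem)
  exact ⟨z + 1, by rw [hz]; push_cast; ring⟩

/-- Peterfalvi (7.8 b). -/
theorem beta_image {a : ℤ} (ha : classInner (dadeBeta A L H K ζ) (τ₁ ζ) = a - 1) {η : L → ℂ}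
    (hη : η ∈ inducedIrrAbove K ⊥) :
    classInner (dadeBeta A L H K ζ) (τ₁ η) = a * (η 1 / K.index) - classInner ζ η := by
  haveI := hS.normal
  obtain ⟨m, hm⟩ := exists_indIrr_apply_one K hη
  have h : classInner (dadeBeta A L H K ζ) (dadeIsometry A L H (η - (m : ℂ) • ζ)) =
      classInner (indFun K (fun _ => (1 : ℂ)) - ζ) (η - (m : ℂ) • ζ) :=
    classInner_dade_dade hS.dade (Char.IsGeneralizedCharacter.isClassFunction hS.alpha_gen) hS.alpha_vanish (hS.sub_gen hη m)
      (hS.sub_vanish hη hm)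
  rw [hS.dade_sub hη hm, Char.classInner_sub_right, Char.classInner_smul_right, ha,
    Char.classInner_sub_left, Char.classInner_sub_right, Char.classInner_sub_right,
    Char.classInner_smul_right, Char.classInner_smul_right,
    ← Char.conj_classInner η (indFun K fun _ => (1 : ℂ)), classInner_indIrr_indFun_one K hη,
    ← Char.conj_classInner ζ (indFun K fun _ => (1 : ℂ)), classInner_indIrr_indFun_one K hS.mem,
    hS.norm_one, map_natCast, map_zero] at h
  rw [hm, mul_div_cancel_right₀ _ hS.index_ne_zero]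
  linear_combination h

theorem sum_weight {x : L} (hx : (x : G) ∈ A) :
    ∑ η ∈ indIrr K, η 1 / K.index / classInner η η * η x = -1 := by
  haveI := hS.normal
  rw [Finset.sum_congr rfl (g := fun η => (K.index : ℂ)⁻¹ * (η 1 / classInner η η * η x))
      fun η _ => by ring,
    ← Finset.mul_sum, sum_indIrr, if_neg ((hS.support x).1 hx).2, indFun_one_apply,
    if_pos ((hS.support x).1 hx).1, zero_sub, mul_neg, inv_mul_cancel₀ hS.index_ne_zero]

/-- Peterfalvi (7.7) for the functions induced from `K`. -/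
theorem invDade_eq {χ : G → ℂ} (hχ : IsClassFunction G χ) {x : L} (hx : (x : G) ∈ A) :
    invDade A L H χ x = conj (classInner (dadeBeta A L H K ζ) χ) + conj (classInner (τ₁ ζ) χ) +
      ∑ η ∈ indIrr K, conj (classInner (τ₁ η) χ) / classInner η η * η x := by
  classical
  haveI := hS.normal
  have h1 : (indFun K fun _ => (1 : ℂ)) 1 / ζ 1 = 1 := by
    rw [Char.indFun_apply_one, hS.apply_one, mul_one, div_self hS.index_ne_zero]
  have hd : ∀ η ∈ indIrr K, ∀ m : ℕ, η 1 = m * K.index → η 1 / ζ 1 = m := fun η _ m hm => by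
    rw [hm, hS.apply_one, mul_div_cancel_right₀ _ hS.index_ne_zero]
  rw [invDade_expand hS.dade _ (indIrr_orth K) ?_
    (Finset.mem_insert_of_mem ((mem_indIrr K).2 hS.mem)) ?_ ?_ hχ hx,
    Finset.sum_insert (indFun_one_notMem_indIrr K), h1, one_smul, classInner_indFun_one_self,
    indFun_one_apply, if_pos ((hS.support x).1 hx).1, div_mul_cancel₀ _ hS.index_ne_zero, add_assoc]
  · congr 1
    rw [Finset.sum_congr rfl (g := fun η => conj (classInner (τ₁ η) χ) / classInner η η * η x -
        conj (classInner (τ₁ ζ) χ) * (η 1 / K.index / classInner η η * η x)) fun η hη => ?_,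
      Finset.sum_sub_distrib, ← Finset.mul_sum, hS.sum_weight hx]
    · ring
    obtain ⟨m, hm⟩ := exists_indIrr_apply_one K ((mem_indIrr K).1 hη)
    rw [hd η hη m hm, hS.dade_sub ((mem_indIrr K).1 hη) hm, Char.classInner_sub_left,
      Char.classInner_smul_left, map_sub, map_mul, map_natCast, hm,
      mul_div_cancel_right₀ _ hS.index_ne_zero]
    ring
  · intro φ hφ
    rcases Finset.mem_insert.1 hφ with rfl | hφ
    · exact Char.isClassFunction_indFun K _
    · exact Char.IsCharacter.isClassFunction (isCharacter_of_mem_indIrr K ((mem_indIrr K).1 hφ))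
  · intro φ hφ y hy
    rcases Finset.mem_insert.1 hφ with rfl | hφ
    · rw [h1, one_smul]; exact hS.alpha_vanish y hy
    · obtain ⟨m, hm⟩ := exists_indIrr_apply_one K ((mem_indIrr K).1 hφ)
      rw [hd φ hφ m hm]
      exact hS.sub_vanish ((mem_indIrr K).1 hφ) hm y hy
  · exact fun f hf h0 => indIrr_span K hf fun y hy =>
      h0 y (fun h => hy ((hS.support y).1 h).1) fun h => hy (h ▸ K.one_mem)

/-- Peterfalvi (7.8), the inverse image of `τ₁ ζ`. -/
theorem invDade_self {a : ℤ} (ha : classInner (dadeBeta A L H K ζ) (τ₁ ζ) = a - 1) {x : L}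
    (hx : (x : G) ∈ A) : invDade A L H (τ₁ ζ) x = a + ζ x := by
  haveI := hS.normal
  rw [hS.invDade_eq (Char.IsGeneralizedCharacter.isClassFunction (hS.image_gen hS.mem)) hx, ha, hS.image_inner hS.mem hS.mem,
    hS.norm_one, Finset.sum_eq_single_of_mem ζ ((mem_indIrr K).2 hS.mem) fun η hη hne => ?_,
    hS.image_inner hS.mem hS.mem, hS.norm_one]
  · simp
  · rw [hS.image_inner ((mem_indIrr K).1 hη) hS.mem,
      indIrr_inner K ((mem_indIrr K).1 hη) hS.mem hne, map_zero, zero_div, zero_mul]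

/-- Peterfalvi (7.8), the inverse image of a function orthogonal to the images. -/
theorem invDade_orth {χ : G → ℂ} (hχ : IsClassFunction G χ)
    (horth : ∀ η ∈ inducedIrrAbove K ⊥, classInner (τ₁ η) χ = 0) {x : L} (hx : (x : G) ∈ A) :
    invDade A L H χ x = conj (classInner (dadeBeta A L H K ζ) χ) := by
  haveI := hS.normal
  rw [hS.invDade_eq hχ hx, horth ζ hS.mem, map_zero, add_zero, Finset.sum_eq_zero, add_zero]
  exact fun η hη => by rw [horth η ((mem_indIrr K).1 hη), map_zero, zero_div, zero_mul]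

open scoped Classical in
theorem sum_support (F : L → ℝ) :
    ∑ x : L, (if (x : G) ∈ A then F x else 0) = ∑ x : L, (if x ∈ K then F x else 0) - F 1 := by
  rw [eq_sub_iff_add_eq]
  have h1 : F 1 = ∑ x : L, (if x = 1 then F x else 0) := by simp
  rw [h1, ← Finset.sum_add_distrib]
  refine Finset.sum_congr rfl fun x _ => ?_
  by_cases hx : x = 1
  · subst hx
    rw [if_neg (fun h => ((hS.support 1).1 h).2 rfl), if_pos rfl, if_pos K.one_mem, zero_add]
  · rw [if_neg hx, add_zero]
    exact if_congr ((hS.support x).trans (and_iff_left hx)) rfl rfl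

/-- Peterfalvi (7.8), the norm of the inverse image of a function orthogonal to the images. -/
theorem norm_invDade_orth {χ : G → ℂ} (hχ : IsClassFunction G χ)
    (horth : ∀ η ∈ inducedIrrAbove K ⊥, classInner (τ₁ η) χ = 0) :
    (Nat.card L : ℝ)⁻¹ * ∑ x : L, Complex.normSq (invDade A L H χ x) =
      Complex.normSq (classInner (dadeBeta A L H K ζ) χ) * ((Nat.card K - 1 : ℕ) : ℝ) /
        (K.index * Nat.card K) := by
  classical
  rw [Finset.sum_congr rfl (g := fun x : L => if (x : G) ∈ A then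
      Complex.normSq (classInner (dadeBeta A L H K ζ) χ) else 0) fun x _ => ?_,
    hS.sum_support, Finset.sum_ite, Finset.sum_const_zero, add_zero, Finset.sum_const,
    ← Fintype.card_subtype, ← Nat.card_eq_fintype_card, nsmul_eq_mul, ← K.card_mul_index,
    Nat.cast_sub Nat.card_pos]
  · push_cast
    field_simp
  · split_ifs with hx
    · rw [hS.invDade_orth hχ horth hx, Complex.normSq_conj]
    · rw [invDade_of_notMem hx, map_zero]

/-- Peterfalvi (7.8), the norm of the inverse image of `τ₁ ζ`. -/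
theorem norm_invDade_self {a : ℤ} (ha : classInner (dadeBeta A L H K ζ) (τ₁ ζ) = a - 1) :
    (Nat.card L : ℝ)⁻¹ * ∑ x : L, Complex.normSq (invDade A L H (τ₁ ζ) x) =
      1 - (K.index : ℝ) / Nat.card K +
        ((a : ℝ) ^ 2 * (((Nat.card K : ℝ) - 1) / K.index) - 2 * a) / Nat.card K := by
  classical
  haveI := hS.normal
  have hζ0 : ∀ x : L, x ∉ K → ζ x = 0 := fun x hx => indIrr_apply_notMem K hS.mem hx
  have hsum : ∑ x : L, (ζ x).re = 0 := by
    have h := classInner_indIrr_one K hS.mem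
    simp only [classInner, map_one, mul_one, mul_eq_zero, inv_eq_zero, Char.card_ne_zero,
      false_or] at h
    rw [← Complex.re_sum, h, Complex.zero_re]
  have hsq : ∑ x : L, Complex.normSq (ζ x) = Nat.card L := by
    have h := hS.norm_one
    rw [Char.classInner_self] at h
    have h' : (Nat.card L : ℝ)⁻¹ * ∑ g : L, Complex.normSq (ζ g) = 1 := by exact_mod_cast h
    rwa [inv_mul_eq_one₀ (Nat.cast_ne_zero.2 Nat.card_pos.ne'), eq_comm] at h'
  rw [Finset.sum_congr rfl (g := fun x : L => if (x : G) ∈ A then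
      Complex.normSq ((a : ℂ) + ζ x) else 0) fun x _ => ?_, hS.sum_support,
    Finset.sum_congr rfl (g := fun x : L => ((if x ∈ K then (a : ℝ) ^ 2 else 0) + 2 * a * (ζ x).re) +
      Complex.normSq (ζ x)) fun x _ => ?_,
    Finset.sum_add_distrib, Finset.sum_add_distrib, ← Finset.mul_sum, hsum, hsq, Finset.sum_ite,
    Finset.sum_const_zero, add_zero, Finset.sum_const, ← Fintype.card_subtype,
    ← Nat.card_eq_fintype_card, nsmul_eq_mul, hS.apply_one, ← K.card_mul_index,
    show (a : ℂ) + (K.index : ℂ) = (((a : ℝ) + K.index : ℝ) : ℂ) by push_cast; rfl,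
    Complex.normSq_ofReal]
  · have h1 : (K.index : ℝ) ≠ 0 := Nat.cast_ne_zero.2 Subgroup.index_ne_zero_of_finite
    have h2 : (Nat.card K : ℝ) ≠ 0 := Nat.cast_ne_zero.2 Nat.card_pos.ne'
    push_cast
    field_simp
    ring
  · split_ifs with hx
    · rw [show Complex.normSq ((a : ℂ) + ζ x) =
        (a : ℝ) ^ 2 + Complex.normSq (ζ x) + 2 * a * (ζ x).re by
          rw [Complex.normSq_add]; simp [Complex.normSq_intCast, sq, mul_comm, mul_assoc]]
      ring
    · simp [hζ0 x hx]
  · split_ifs with hx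
    · rw [hS.invDade_self ha hx]
    · rw [invDade_of_notMem hx, map_zero]

/-- Peterfalvi (7.8 c). -/
theorem norm_invDade_self_ge (hsize : 2 * K.index + 1 ≤ Nat.card K) :
    1 - (K.index : ℝ) / Nat.card K ≤
      (Nat.card L : ℝ)⁻¹ * ∑ x : L, Complex.normSq (invDade A L H (τ₁ ζ) x) := by
  obtain ⟨a, ha⟩ := hS.exists_coef
  rw [hS.norm_invDade_self ha, le_add_iff_nonneg_right]
  refine div_nonneg ?_ (Nat.cast_nonneg _)
  have he : (0 : ℝ) < K.index := Nat.cast_pos.2 (Nat.pos_of_ne_zero Subgroup.index_ne_zero_of_finite)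
  have hN : (2 : ℝ) ≤ ((Nat.card K : ℝ) - 1) / K.index := by
    rw [le_div_iff₀ he, le_sub_iff_add_le]
    exact_mod_cast hsize
  have h1 : (a : ℝ) ≤ (a : ℝ) ^ 2 := by exact_mod_cast Int.le_self_sq a
  nlinarith [mul_le_mul_of_nonneg_left hN (sq_nonneg (a : ℝ))]

theorem dadeV_image {η : L → ℂ} (hη : η ∈ inducedIrrAbove K ⊥) :
    classInner (dadeV K τ₁) (τ₁ η) = η 1 / K.index := by
  haveI := hS.normal
  rw [dadeV, Char.classInner_sum_left,
    Finset.sum_eq_single_of_mem η ((mem_indIrr K).2 hη) fun φ hφ hne => ?_,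
    Char.classInner_smul_left, hS.image_inner hη hη, div_mul_cancel₀ _ (indIrr_self_ne_zero K hη)]
  rw [Char.classInner_smul_left, hS.image_inner ((mem_indIrr K).1 hφ) hη,
    indIrr_inner K ((mem_indIrr K).1 hφ) hη hne, mul_zero]

theorem conj_weight {η : L → ℂ} (hη : η ∈ inducedIrrAbove K ⊥) :
    conj (η 1 / K.index / classInner η η) = η 1 / K.index / classInner η η := by
  haveI := hS.normal
  obtain ⟨m, hm⟩ := exists_indIrr_apply_one K hη
  rw [hm, map_div₀, map_div₀, map_mul, map_natCast, map_natCast, Char.conj_classInner]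

theorem dadeV_one : classInner (dadeV K τ₁) (fun _ => (1 : ℂ)) = 0 := by
  rw [dadeV, Char.classInner_sum_left, Finset.sum_eq_zero]
  exact fun η hη => by rw [Char.classInner_smul_left, hS.image_one ((mem_indIrr K).1 hη), mul_zero]

theorem beta_dadeV {a : ℤ} (ha : classInner (dadeBeta A L H K ζ) (τ₁ ζ) = a - 1) :
    classInner (dadeBeta A L H K ζ) (dadeV K τ₁) =
      a * (((Nat.card K : ℂ) - 1) / K.index) - 1 := by
  haveI := hS.normal
  rw [dadeV, Char.classInner_sum_right,
    Finset.sum_congr rfl (g := fun η => (a : ℂ) * ((K.index : ℂ)⁻¹ * (K.index : ℂ)⁻¹) *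
        (η 1 / classInner η η * η 1) -
      η 1 / K.index / classInner η η * classInner ζ η) fun η hη => by
        rw [Char.classInner_smul_right, hS.conj_weight ((mem_indIrr K).1 hη),
          hS.beta_image ha ((mem_indIrr K).1 hη)]
        ring,
    Finset.sum_sub_distrib, ← Finset.mul_sum, sum_indIrr, if_pos rfl, Char.indFun_apply_one, mul_one,
    Finset.sum_eq_single_of_mem ζ ((mem_indIrr K).2 hS.mem) fun η hη hne => by
      rw [indIrr_inner K hS.mem ((mem_indIrr K).1 hη) hne.symm, mul_zero],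
    hS.norm_one, hS.apply_one, div_self hS.index_ne_zero, ← K.card_mul_index, Nat.cast_mul]
  field_simp [hS.index_ne_zero]

/-- Peterfalvi (7.8 b): the decomposition of `β` and the norm of its last component. -/
theorem gamma {a : ℤ} (ha : classInner (dadeBeta A L H K ζ) (τ₁ ζ) = a - 1) (Γ : G → ℂ)
    (hΓ : Γ = dadeBeta A L H K ζ - (fun _ => (1 : ℂ)) + τ₁ ζ - (a : ℂ) • dadeV K τ₁) :
    classInner Γ (fun _ => (1 : ℂ)) = 0 ∧
      (∀ η ∈ inducedIrrAbove K ⊥, classInner Γ (τ₁ η) = 0) ∧
      classInner Γ Γ = (K.index : ℂ) - 1 + 2 * a - a ^ 2 * (((Nat.card K : ℂ) - 1) / K.index) := by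
  haveI := hS.normal
  have h11 : classInner (fun _ : G => (1 : ℂ)) (fun _ => 1) = 1 :=
    Char.classInner_irr_self Char.isIrrCharacter_one
  have h1η : ∀ η ∈ inducedIrrAbove K ⊥, classInner (fun _ : G => (1 : ℂ)) (τ₁ η) = 0 := fun η hη => by
    rw [← Char.conj_classInner, hS.image_one hη, map_zero]
  have hone : classInner Γ (fun _ => (1 : ℂ)) = 0 := by
    rw [hΓ, Char.classInner_sub_left, Char.classInner_add_left, Char.classInner_sub_left, hS.beta_one,
      h11, hS.image_one hS.mem, Char.classInner_smul_left, hS.dadeV_one]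
    ring
  have himg : ∀ η ∈ inducedIrrAbove K ⊥, classInner Γ (τ₁ η) = 0 := fun η hη => by
    rw [hΓ, Char.classInner_sub_left, Char.classInner_add_left, Char.classInner_sub_left,
      hS.beta_image ha hη, h1η η hη, hS.image_inner hS.mem hη, Char.classInner_smul_left,
      hS.dadeV_image hη]
    ring
  have hV : classInner Γ (dadeV K τ₁) = 0 := by
    rw [dadeV, Char.classInner_sum_right, Finset.sum_eq_zero]
    exact fun η hη => by rw [Char.classInner_smul_right, himg η ((mem_indIrr K).1 hη), mul_zero]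
  refine ⟨hone, himg, ?_⟩
  conv_lhs => arg 2; rw [hΓ]
  rw [Char.classInner_sub_right, Char.classInner_add_right, Char.classInner_sub_right, hone,
    himg ζ hS.mem, Char.classInner_smul_right, hV, mul_zero, sub_zero, sub_zero, add_zero,
    hΓ, Char.classInner_sub_left, Char.classInner_add_left, Char.classInner_sub_left, hS.beta_norm,
    ← Char.conj_classInner (dadeBeta A L H K ζ) (fun _ => (1 : ℂ)), hS.beta_one,
    ← Char.conj_classInner (dadeBeta A L H K ζ) (τ₁ ζ), ha, Char.classInner_smul_left,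
    ← Char.conj_classInner (dadeBeta A L H K ζ) (dadeV K τ₁), hS.beta_dadeV ha]
  simp only [map_sub, map_mul, map_div₀, map_one, map_intCast, map_natCast]
  ring

section Cross

theorem exists_sign (hirr : ∀ η ∈ inducedIrrAbove K ⊥, IsIrrCharacter L η) :
    ∃ e : ℂ, (e = 1 ∨ e = -1) ∧ ∀ η ∈ inducedIrrAbove K ⊥, IsIrrCharacter G (e • τ₁ η) :=
  Char.exists_common_sign hirr hS.isometry fun α hα h1 => by
    rw [hS.extends_dade α (Char.mem_zspanOn_compl_one.2 ⟨hα, h1⟩)]
    exact dadeIsometry_eq_zero (one_notMem_dadeUnion hS.dade) α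

theorem conj_mem {η : L → ℂ} (hη : η ∈ inducedIrrAbove K ⊥) : conjFun η ∈ inducedIrrAbove K ⊥ :=
  haveI := hS.normal
  conj_mem_inducedIrrAbove K hη

theorem conj_ne (hodd : Odd (Nat.card G)) (hirr : ∀ η ∈ inducedIrrAbove K ⊥, IsIrrCharacter L η)
    {η : L → ℂ} (hη : η ∈ inducedIrrAbove K ⊥) : conjFun η ≠ η := by
  haveI := hS.normal
  intro h
  have hL : Odd (Nat.card L) := hodd.of_dvd_nat (Subgroup.card_subgroup_dvd_card L)
  have h1 : η = fun _ => (1 : ℂ) := Cfsg.Agent.S0161.result hL ⟨η, hirr η hη⟩ fun g =>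
    Complex.conj_eq_iff_im.1 (congrFun h g)
  have h2 := classInner_indIrr_one K hη
  rw [h1, Char.classInner_irr_self Char.isIrrCharacter_one] at h2
  exact one_ne_zero h2

theorem dade_conj_sub {η : L → ℂ} (hη : η ∈ inducedIrrAbove K ⊥) :
    dadeIsometry A L H (η - conjFun η) = τ₁ η - τ₁ (conjFun η) := by
  haveI := hS.normal
  have hE : IsLinearIsometryOn
      ((Submodule.span ℤ (inducedIrrAbove K ⊥) : Submodule ℤ (L → ℂ)) : Set (L → ℂ)) τ₁ := hS.isometry
  have h1 : η ∈ Submodule.span ℤ (inducedIrrAbove K ⊥) := Submodule.subset_span hη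
  have h2 : conjFun η ∈ Submodule.span ℤ (inducedIrrAbove K ⊥) := Submodule.subset_span (hS.conj_mem hη)
  rw [← hS.extends_dade _ (Char.mem_zspanOn_compl_one.2 ⟨Submodule.sub_mem _ h1 h2, ?_⟩),
    Char.iso_map_sub hE h1 h2]
  obtain ⟨m, hm⟩ := exists_indIrr_apply_one K hη
  simp [conjFun, hm]

/-- The coherent extension commutes with complex conjugation. -/
theorem image_conj (hodd : Odd (Nat.card G)) (hirr : ∀ η ∈ inducedIrrAbove K ⊥, IsIrrCharacter L η)
    {η : L → ℂ} (hη : η ∈ inducedIrrAbove K ⊥) : τ₁ (conjFun η) = conjFun (τ₁ η) := by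
  haveI := hS.normal
  obtain ⟨e, he, hirrG⟩ := hS.exists_sign hirr
  have hee : e * e = 1 := by rcases he with rfl | rfl <;> norm_num
  have hec : conj e = e := by rcases he with rfl | rfl <;> simp
  have hη' := hS.conj_mem hη
  let f : IrrCharacter G := ⟨_, hirrG η hη⟩
  let f₂ : IrrCharacter G := ⟨_, hirrG _ hη'⟩
  have hD := congrArg conjFun (hS.dade_conj_sub hη)
  rw [conjFun_dadeIsometry, show conjFun (η - conjFun η) = conjFun η - η by funext x; simp [conjFun],
    show conjFun η - η = conjFun η - conjFun (conjFun η) by rw [conjFun_conjFun],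
    hS.dade_conj_sub hη', conjFun_conjFun] at hD
  have key : (Char.conjIrr f).1 - (Char.conjIrr f₂).1 = f₂.1 - f.1 := by
    funext g
    have := congrFun hD g
    simp only [conjFun, Pi.sub_apply, map_sub] at this
    simp only [f, f₂, Pi.sub_apply, Char.conjIrr_apply, Pi.smul_apply, smul_eq_mul, map_mul, hec]
    linear_combination (-e) * this
  have hne : f₂ ≠ f := fun h => hS.conj_ne hodd hirr hη <| Char.image_injective hirr hS.isometry hη' hη
    (by
      have h' := congrArg (fun F : IrrCharacter G => e • F.1) h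
      simpa only [f, f₂, smul_smul, hee, one_smul] using h')
  have h0 := congrArg (fun F => classInner F f.1) key
  simp only [Char.classInner_sub_left, Char.classInner_irr, if_neg hne, if_true] at h0
  have hf2 : Char.conjIrr f₂ = f := by
    by_contra hne2
    rw [if_neg hne2] at h0
    split_ifs at h0 <;> norm_num at h0
  funext g
  have h1 : (Char.conjIrr f₂).1 g = f.1 g := by rw [hf2]
  simp only [f, f₂, Char.conjIrr_apply, Pi.smul_apply, smul_eq_mul, map_mul, hec] at h1
  have h2 : conj (τ₁ (conjFun η) g) = τ₁ η g :=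
    mul_left_cancel₀ (left_ne_zero_of_mul_eq_one hee) h1
  rw [conjFun, ← h2, Complex.conj_conj]

/-- The coefficients of `β` off the images are invariant under complex conjugation. -/
theorem beta_conjIrr (hodd : Odd (Nat.card G)) (hirr : ∀ η ∈ inducedIrrAbove K ⊥, IsIrrCharacter L η)
    {χ : IrrCharacter G} (h : ∀ η ∈ inducedIrrAbove K ⊥, classInner (τ₁ η) χ.1 = 0) :
    classInner (dadeBeta A L H K ζ) (Char.conjIrr χ).1 =
        conj (classInner (dadeBeta A L H K ζ) χ.1) ∧
      ∀ η ∈ inducedIrrAbove K ⊥, classInner (τ₁ η) (Char.conjIrr χ).1 = 0 := by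
  haveI := hS.normal
  have hc : ∀ F : G → ℂ, classInner F (Char.conjIrr χ).1 = conj (classInner (conjFun F) χ.1) :=
    fun F => by
      rw [← classInner_conjFun, conjFun_conjFun]
      rfl
  refine ⟨?_, fun η hη => ?_⟩
  · have hβc : conjFun (dadeBeta A L H K ζ) =
        dadeBeta A L H K ζ + (τ₁ ζ - τ₁ (conjFun ζ)) := by
      rw [← hS.dade_conj_sub hS.mem, dadeBeta, conjFun_dadeIsometry, ← dadeIsometry_add]
      congr 1
      funext x
      simp only [conjFun, Pi.sub_apply, Pi.add_apply, map_sub, indFun_one_apply]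
      split_ifs <;> simp
      all_goals ring
    rw [hc, hβc, Char.classInner_add_left, Char.classInner_sub_left, h ζ hS.mem,
      h _ (hS.conj_mem hS.mem), sub_zero, add_zero]
  · rw [hc, ← hS.image_conj hodd hirr hη, h _ (hS.conj_mem hη), map_zero]

variable {A' : Set G} {L' : Subgroup G} [Fintype L'] {H' : G → Subgroup G} {K' : Subgroup L'}
  {τ₁' : (L' → ℂ) → G → ℂ} {ζ' : L' → ℂ} (hS' : CohSetting A' L' H' K' τ₁' ζ')
  (hd : Disjoint (dadeUnion A H) (dadeUnion A' H'))

include hS' hd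

/-- Peterfalvi (7.9): the images of two coherent sets with disjoint supports are orthogonal. -/
theorem image_orth (hodd : Odd (Nat.card G)) (hirr : ∀ η ∈ inducedIrrAbove K ⊥, IsIrrCharacter L η)
    (hirr' : ∀ η ∈ inducedIrrAbove K' ⊥, IsIrrCharacter L' η) {η : L → ℂ}
    (hη : η ∈ inducedIrrAbove K ⊥) {φ : L' → ℂ} (hφ : φ ∈ inducedIrrAbove K' ⊥) :
    classInner (τ₁ η) (τ₁' φ) = 0 := by
  haveI := hS.normal
  haveI := hS'.normal
  obtain ⟨e, he, hirrG⟩ := hS.exists_sign hirr
  obtain ⟨e', he', hirrG'⟩ := hS'.exists_sign hirr'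
  have hee : e * e = 1 := by rcases he with rfl | rfl <;> norm_num
  have hee' : e' * e' = 1 := by rcases he' with rfl | rfl <;> norm_num
  let f : IrrCharacter G := ⟨_, hirrG η hη⟩
  let f₂ : IrrCharacter G := ⟨_, hirrG _ (hS.conj_mem hη)⟩
  let g : IrrCharacter G := ⟨_, hirrG' φ hφ⟩
  let g₂ : IrrCharacter G := ⟨_, hirrG' _ (hS'.conj_mem hφ)⟩
  by_contra hne
  have hfg : f = g := by
    by_contra h
    have h1 := Char.classInner_irr f g
    rw [if_neg h] at h1
    simp only [f, g, Char.classInner_smul_left, Char.classInner_smul_right, mul_eq_zero,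
      map_eq_zero, left_ne_zero_of_mul_eq_one hee, left_ne_zero_of_mul_eq_one hee', false_or] at h1
    exact hne h1
  have hf2 : f ≠ f₂ := fun h => hS.conj_ne hodd hirr hη <| Char.image_injective hirr hS.isometry
    (hS.conj_mem hη) hη (by
      have h' := congrArg (fun F : IrrCharacter G => e • F.1) h.symm
      simpa only [f, f₂, smul_smul, hee, one_smul] using h')
  have hg2 : g ≠ g₂ := fun h => hS'.conj_ne hodd hirr' hφ <| Char.image_injective hirr' hS'.isometry
    (hS'.conj_mem hφ) hφ (by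
      have h' := congrArg (fun F : IrrCharacter G => e' • F.1) h.symm
      simpa only [g, g₂, smul_smul, hee', one_smul] using h')
  have h0 : classInner (f.1 - f₂.1) (g.1 - g₂.1) = 0 := by
    simp only [f, f₂, g, g₂, ← smul_sub, ← hS.dade_conj_sub hη, ← hS'.dade_conj_sub hφ,
      Char.classInner_smul_left, Char.classInner_smul_right, classInner_dade_disjoint hd, mul_zero]
  simp only [Char.classInner_sub_left, Char.classInner_sub_right, Char.classInner_irr] at h0
  rw [← hfg] at h0 hg2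
  rw [if_pos rfl, if_neg hg2, if_neg (Ne.symm hf2)] at h0
  split_ifs at h0 <;> norm_num at h0

theorem beta_image_other {η : L → ℂ} (hη : η ∈ inducedIrrAbove K ⊥) {m : ℕ}
    (hm : η 1 = m * K.index) :
    classInner (dadeBeta A' L' H' K' ζ') (τ₁ η) = m * classInner (dadeBeta A' L' H' K' ζ') (τ₁ ζ) := by
  have h : classInner (dadeBeta A' L' H' K' ζ') (dadeIsometry A L H (η - (m : ℂ) • ζ)) = 0 :=
    classInner_dade_disjoint hd.symm _ _
  rw [hS.dade_sub hη hm, Char.classInner_sub_right, Char.classInner_smul_right, map_natCast,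
    sub_eq_zero] at h
  exact h

/-- An irreducible character is orthogonal to the images, or to `β'` if `β'` is orthogonal to `τ₁ ζ`. -/
theorem orth_or_beta_other (hirr : ∀ η ∈ inducedIrrAbove K ⊥, IsIrrCharacter L η)
    (hz : classInner (dadeBeta A' L' H' K' ζ') (τ₁ ζ) = 0) (χ : IrrCharacter G) :
    (∀ η ∈ inducedIrrAbove K ⊥, classInner (τ₁ η) χ.1 = 0) ∨
      classInner (dadeBeta A' L' H' K' ζ') χ.1 = 0 := by
  haveI := hS.normal
  refine or_iff_not_imp_left.2 fun h => ?_
  push Not at h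
  obtain ⟨η, hη, hne⟩ := h
  obtain ⟨e, he, hirrG⟩ := hS.exists_sign hirr
  let f : IrrCharacter G := ⟨_, hirrG η hη⟩
  have hχ : f = χ := by
    by_contra h'
    have h1 := Char.classInner_irr f χ
    rw [if_neg h', Char.classInner_smul_left, mul_eq_zero] at h1
    exact h1.elim (by rcases he with rfl | rfl <;> norm_num) hne
  obtain ⟨m, hm⟩ := exists_indIrr_apply_one K hη
  rw [← hχ, Char.classInner_smul_right, hS.beta_image_other hS' hd hη hm, hz, mul_zero, mul_zero]

/-- Peterfalvi (7.9). -/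
theorem cross_ne_zero (hodd : Odd (Nat.card G)) (hirr : ∀ η ∈ inducedIrrAbove K ⊥, IsIrrCharacter L η)
    (hirr' : ∀ η ∈ inducedIrrAbove K' ⊥, IsIrrCharacter L' η) :
    classInner (dadeBeta A L H K ζ) (τ₁' ζ') ≠ 0 ∨
      classInner (dadeBeta A' L' H' K' ζ') (τ₁ ζ) ≠ 0 := by
  classical
  haveI := hS.normal
  haveI := hS'.normal
  by_contra hcon
  push Not at hcon
  obtain ⟨hz', hz⟩ := hcon
  set β := dadeBeta A L H K ζ with hβdef
  set β' := dadeBeta A' L' H' K' ζ' with hβdef'
  choose b hb using fun χ : IrrCharacter G =>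
    Char.IsGeneralizedCharacter.exists_int_classInner hS.beta_gen (Char.irr_isGeneralized χ)
  choose b' hb' using fun χ : IrrCharacter G =>
    Char.IsGeneralizedCharacter.exists_int_classInner hS'.beta_gen (Char.irr_isGeneralized χ)
  have h0 : classInner β β' = 0 := classInner_dade_disjoint hd _ _
  rw [classInner_eq_sum_coeff (Char.IsGeneralizedCharacter.isClassFunction hS'.beta_gen)] at h0
  simp only [hβdef, hb, hb', map_intCast] at h0
  have h0' : ∑ χ : IrrCharacter G, b χ * b' χ = 0 := by exact_mod_cast h0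
  -- coefficients on the images, and elsewhere
  have hhit : ∀ χ : IrrCharacter G,
      (∀ η ∈ inducedIrrAbove K ⊥, classInner (τ₁ η) χ.1 = 0) ∨ b' χ = 0 := fun χ =>
    (hS.orth_or_beta_other hS' hd hirr hz χ).imp_right fun h => by exact_mod_cast (hb' χ).symm.trans h
  have hhit' : ∀ χ : IrrCharacter G,
      (∀ φ ∈ inducedIrrAbove K' ⊥, classInner (τ₁' φ) χ.1 = 0) ∨ b χ = 0 := fun χ =>
    (hS'.orth_or_beta_other hS hd.symm hirr' hz' χ).imp_right fun h => by
      exact_mod_cast (hb χ).symm.trans h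
  have hconjS : ∀ χ : IrrCharacter G, (∀ η ∈ inducedIrrAbove K ⊥, classInner (τ₁ η) χ.1 = 0) →
      b (Char.conjIrr χ) = b χ ∧
        ∀ η ∈ inducedIrrAbove K ⊥, classInner (τ₁ η) (Char.conjIrr χ).1 = 0 := by
    intro χ h
    obtain ⟨h1, h2⟩ := hS.beta_conjIrr hodd hirr h
    rw [hb, hb χ, map_intCast] at h1
    exact ⟨by exact_mod_cast h1, h2⟩
  have hconjS' : ∀ χ : IrrCharacter G, (∀ η ∈ inducedIrrAbove K' ⊥, classInner (τ₁' η) χ.1 = 0) →
      b' (Char.conjIrr χ) = b' χ ∧
        ∀ η ∈ inducedIrrAbove K' ⊥, classInner (τ₁' η) (Char.conjIrr χ).1 = 0 := by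
    intro χ h
    obtain ⟨h1, h2⟩ := hS'.beta_conjIrr hodd hirr' h
    rw [hb', hb' χ, map_intCast] at h1
    exact ⟨by exact_mod_cast h1, h2⟩
  have hpair : ∀ χ : IrrCharacter G, b (Char.conjIrr χ) * b' (Char.conjIrr χ) = b χ * b' χ := by
    intro χ
    by_cases h1 : ∀ η ∈ inducedIrrAbove K ⊥, classInner (τ₁ η) χ.1 = 0
    · by_cases h2 : ∀ φ ∈ inducedIrrAbove K' ⊥, classInner (τ₁' φ) χ.1 = 0
      · rw [(hconjS χ h1).1, (hconjS' χ h2).1]
      · rw [(hhit' χ).resolve_left h2, (hhit' (Char.conjIrr χ)).resolve_left fun h => h2 (by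
          have := (hconjS' _ h).2
          rwa [Char.conjIrr_conjIrr] at this), zero_mul, zero_mul]
    · rw [(hhit χ).resolve_left h1, (hhit (Char.conjIrr χ)).resolve_left fun h => h1 (by
        have := (hconjS _ h).2
        rwa [Char.conjIrr_conjIrr] at this), mul_zero, mul_zero]
  have hz2 : ((∑ χ : IrrCharacter G, b χ * b' χ : ℤ) : ZMod 2) = 0 := by rw [h0']; rfl
  have hb1 : b (Char.trivialChar G) = 1 := by
    exact_mod_cast (hb (Char.trivialChar G)).symm.trans hS.beta_one
  have hb1' : b' (Char.trivialChar G) = 1 := by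
    exact_mod_cast (hb' (Char.trivialChar G)).symm.trans hS'.beta_one
  have hfix : Char.conjIrr (Char.trivialChar G) = Char.trivialChar G :=
    Subtype.ext (funext fun g => map_one conj)
  have heven : ((∑ χ ∈ Finset.univ.erase (Char.trivialChar G), b χ * b' χ : ℤ) : ZMod 2) = 0 := by
    push_cast
    refine Finset.sum_involution (fun χ _ => Char.conjIrr χ) ?_ ?_ ?_
      (fun χ _ => Char.conjIrr_conjIrr χ)
    · intro χ _
      have h := congrArg (Int.cast (R := ZMod 2)) (hpair χ)
      push_cast at h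
      rw [h]
      exact CharTwo.add_self_eq_zero _
    · intro χ hχ _ hfixχ
      exact Finset.ne_of_mem_erase hχ
        (Subtype.ext (Cfsg.Agent.S0161.result hodd χ ((Char.conjIrr_eq_self_iff χ).mp hfixχ)))
    · intro χ hχ
      refine Finset.mem_erase.2 ⟨fun h => Finset.ne_of_mem_erase hχ ?_, Finset.mem_univ _⟩
      rw [← Char.conjIrr_conjIrr χ, h, hfix]
  rw [← Finset.add_sum_erase _ _ (Finset.mem_univ (Char.trivialChar G)), hb1, hb1'] at hz2
  push_cast at hz2 heven
  rw [heven] at hz2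
  norm_num at hz2

end Cross

end CohSetting

end Coh

end Cfsg.Agent.OddOrder
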