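import Cfsg.Agent.Lib.OddOrder.KappaConsequences
import Cfsg.Agent.Lib.OddOrder.SigmaDecomp
import Cfsg.Agent.Lib.Coprime.Commutator
import Cfsg.Agent.S1446

/-!
# `M = K U M_σ` with `K ≠ 1`: the derived subgroup, and `|K|` is prime when `U ≠ 1`

`U` is abelian, `M' = U M_σ`, `C_{M_σ}(K) ≤ M''`, and, when `U ≠ 1`, `M_σ` is nilpotent, `C_{M_σ}(U) = 1`
and `|K|` is a prime.
-/

set_option autoImplicit false
set_option linter.unusedSectionVars false
set_option linter.style.haveILetI false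

namespace Cfsg.Agent.OddOrder

open Cfsg
open Subgroup (centralizer normalizer zpowers)
open scoped Pointwise commutatorElement

universe u

/-- If `H = K D` with `K` abelian of order prime to that of `D ⊴ H` and `D ≤ H'`, then `C_D(K) ≤ D'`. -/
theorem inf_centralizer_le_derived {H : Type u} [Group H] [Finite H] {D K : Subgroup H} [D.Normal]
    (hK : IsMulCommutative K) (hcop : (Nat.card K).Coprime (Nat.card D)) (hsup : K ⊔ D = ⊤)
    (hD : D ≤ commutator H) : D ⊓ centralizer (K : Set H) ≤ ⁅D, D⁆ := by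
  set f := QuotientGroup.mk' (⁅D, D⁆ : Subgroup H)
  set V := D.map f with hV
  set A := K.map f with hA
  have hVc : V ≤ centralizer (V : Set (H ⧸ ⁅D, D⁆)) := Coprime.le_centralizer_iff_commutator_eq_bot.2 (by
    rw [hV, ← Subgroup.map_commutator]
    exact (Subgroup.map_eq_bot_iff _).2 (QuotientGroup.ker_mk' _).ge)
  haveI : IsMulCommutative V := PGroup.isMulCommutative_of_forall fun a ha b hb =>
    (Subgroup.mem_centralizer_iff.1 (hVc hb) a ha)
  haveI : V.Normal := (inferInstance : D.Normal).map f (QuotientGroup.mk'_surjective _)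
  have htop : A ⊔ V = ⊤ := by
    rw [hA, hV, ← Subgroup.map_sup, hsup, Subgroup.map_top_of_surjective f (QuotientGroup.mk'_surjective _)]
  have hAc : A ≤ centralizer (A : Set (H ⧸ ⁅D, D⁆)) := fun a ha => Subgroup.mem_centralizer_iff.2 fun b hb => by
    obtain ⟨a, ha, rfl⟩ := ha
    obtain ⟨b, hb, rfl⟩ := hb
    rw [← map_mul, PGroup.mul_comm_of_isMulCommutative hK hb ha, map_mul]
  haveI hWn : (⁅V, A⁆ : Subgroup (H ⧸ ⁅D, D⁆)).Normal := Subgroup.normalizer_eq_top_iff.1 (top_le_iff.1 (by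
    rw [← htop]
    exact sup_le (Subgroup.normalizer_commutator_ge_right V A) (Subgroup.normalizer_commutator_ge_left V A)))
  have hVW : V ≤ ⁅V, A⁆ := by
    let g := QuotientGroup.mk' (⁅V, A⁆ : Subgroup (H ⧸ ⁅D, D⁆))
    have hVA : V.map g ≤ centralizer (A.map g : Set _) :=
      Coprime.le_centralizer_iff_commutator_eq_bot.2 ((Subgroup.map_commutator A V g).symm.trans
        ((Subgroup.map_eq_bot_iff _).2 ((Subgroup.commutator_comm A V).le.trans (QuotientGroup.ker_mk' _).ge)))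
    have hself : ∀ X : Subgroup (H ⧸ ⁅D, D⁆), X ≤ centralizer (X : Set _) →
        X.map g ≤ centralizer (X.map g : Set _) := fun X hX =>
      Coprime.le_centralizer_iff_commutator_eq_bot.2 ((Subgroup.map_commutator X X g).symm.trans
        ((congrArg (Subgroup.map g) (Coprime.le_centralizer_iff_commutator_eq_bot.1 hX)).trans
          (Subgroup.map_bot g)))
    have habel : (A ⊔ V).map g ≤ centralizer ((A ⊔ V).map g : Set _) := by
      rw [Subgroup.map_sup]
      refine sup_le (Subgroup.le_centralizer_iff.1 (sup_le (hself A hAc) hVA)) ?_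
      exact Subgroup.le_centralizer_iff.1 (sup_le (Subgroup.le_centralizer_iff.1 hVA) (hself V hVc))
    have h3 : ⁅A ⊔ V, A ⊔ V⁆ ≤ ⁅V, A⁆ :=
      ((Subgroup.map_eq_bot_iff _).1 ((Subgroup.map_commutator _ _ g).trans
        (Coprime.le_centralizer_iff_commutator_eq_bot.1 habel))).trans (QuotientGroup.ker_mk' _).le
    refine le_trans ?_ ((Subgroup.commutator_mono htop.ge htop.ge).trans h3)
    rw [hV, ← Subgroup.map_top_of_surjective f (QuotientGroup.mk'_surjective _), ← Subgroup.map_commutator]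
    exact Subgroup.map_mono hD
  intro y hy
  have hcopV : (Nat.card A).Coprime (Nat.card V) :=
    (hcop.coprime_dvd_left (Subgroup.card_map_dvd K f)).coprime_dvd_right (Subgroup.card_map_dvd D f)
  have h1 : f y ∈ (V ⊓ centralizer (A : Set _)) ⊓ ⁅V, A⁆ := by
    refine ⟨⟨Subgroup.mem_map_of_mem f hy.1, Subgroup.mem_centralizer_iff.2 ?_⟩, hVW (Subgroup.mem_map_of_mem f hy.1)⟩
    rintro _ ⟨a, ha, rfl⟩
    rw [← map_mul, Subgroup.mem_centralizer_iff.1 hy.2 a ha, map_mul]
  rw [Coprime.inf_centralizer_inf_commutator_eq_bot ((Subgroup.normalizer_eq_top V).symm ▸ le_top) hcopV,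
    Subgroup.mem_bot] at h1
  exact (QuotientGroup.eq_one_iff y).1 h1

variable {G : Type u} [Group G] [Finite G] {M K U : Subgroup G}

namespace DecompP

variable (hG : IsMinSimpleOddOrder G) (h13 : BG13 G) (hM : IsCoatom M) (hd : IsSigmaDecomposition M K U)
  (hK1 : K ≠ ⊥)
include hG h13 hM hd hK1

theorem pData : PData M K (K ⊔ U) :=
  ⟨hG, h13, hM, hd.hall, hK1, isComplIn_sup_decomposition hG hM hd, le_sup_left⟩

theorem fixed_eq_bot {k : G} (hk : k ∈ K) (hk1 : k ≠ 1) : U ⊓ centralizer ({k} : Set G) = ⊥ :=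
  decomposition_fpf hG h13 hM hd k hk hk1

theorem coprime_left : (Nat.card K).Coprime (Nat.card U) :=
  Nat.coprime_of_dvd fun l hl h1 h2 => (not_mem_of_dvd_decomposition hG hM hd hl h2).2 (hd.hall.2.1 l hl h1)

theorem commutator_right : ⁅U, K⁆ = U := by
  obtain ⟨k, hk, hk1⟩ := (Subgroup.bot_or_exists_ne_one _).resolve_left hK1
  have hC : U ⊓ centralizer (K : Set G) = ⊥ := le_bot_iff.1
    (fixed_eq_bot hG h13 hM hd hK1 hk hk1 ▸ inf_le_inf_left U (Subgroup.centralizer_le (Set.singleton_subset_iff.2 hk)))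
  have h := Coprime.commutator_sup_centralizer hd.normal (coprime_left hG h13 hM hd hK1)
    (Or.inl (Coprime.isSolvable_of_le hd.hall.1 (isSolvable_of_coatom hG hM)))
  rwa [hC, sup_bot_eq] at h

theorem isMulCommutative_right : IsMulCommutative U := by
  have hle : U ≤ ⁅(K ⊔ U : Subgroup G), (K ⊔ U : Subgroup G)⁆ :=
    (commutator_right hG h13 hM hd hK1).ge.trans (Subgroup.commutator_mono le_sup_right le_sup_left)
  exact PGroup.isMulCommutative_of_forall fun x hx y hy => PGroup.mul_comm_of_isMulCommutative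
    (S1420.result hG M hM _ (isComplIn_sup_decomposition hG hM hd)).2.1 (hle hx) (hle hy)

theorem isComplIn_left : IsComplIn (U ⊔ sigmaCore M) K M := by
  have hn := Decomp.le_normalizer_sup hd
  refine ⟨Decomp.sup_le_coatom hd, hd.hall.1, Coprime.disjoint_of_coprime_card ?_, fun m hm => ?_⟩
  · rw [Decomp.card_right_sup hd]
    refine Nat.Coprime.mul_left (coprime_left hG h13 hM hd hK1).symm (Nat.coprime_of_dvd fun l hl h1 h2 => ?_)
    exact (hd.hall.2.1 l hl h2).2.2.1 (isPiGrp_piCoreOf (sigma M) M l hl h1)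
  · obtain ⟨u, hu, b, hb, rfl⟩ := hd.compl.2.2.2 m hm
    obtain ⟨k, hk, s, hs, rfl⟩ := (Coprime.mem_sup_iff_of_le_normalizer (Decomp.le_normalizer_left hd)).1 hb
    refine ⟨u * (k * s * k⁻¹), Subgroup.mul_mem _ (Subgroup.mem_sup_left hu) (Subgroup.mem_sup_right ?_), k, hk,
      by group⟩
    exact (Subgroup.mem_normalizer_iff.1 (Decomp.le_normalizer_left hd hk) s).1 hs

/-- `M' = U M_σ`. -/
theorem commutator_eq : ⁅M, M⁆ = U ⊔ sigmaCore M := by
  refine le_antisymm ?_ (sup_le ((commutator_right hG h13 hM hd hK1).ge.trans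
    (Subgroup.commutator_mono hd.compl.1 hd.hall.1)) (sigmaCore_le_commutator hG hM))
  set W := U ⊔ sigmaCore M with hW
  have hWM : W ≤ M := Decomp.sup_le_coatom hd
  haveI : (W.subgroupOf M).Normal :=
    (Subgroup.normal_subgroupOf_iff_le_normalizer hWM).2 (Decomp.le_normalizer_sup hd)
  refine Subgroup.commutator_le.2 fun a ha b hb => ?_
  obtain ⟨w, hw, k, hk, rfl⟩ := (isComplIn_left hG h13 hM hd hK1).2.2.2 a ha
  obtain ⟨w', hw', k', hk', rfl⟩ := (isComplIn_left hG h13 hM hd hK1).2.2.2 b hb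
  have hkM := hd.hall.1 hk
  have hk'M := hd.hall.1 hk'
  set f := QuotientGroup.mk' (W.subgroupOf M)
  have hw1 : ∀ z (hz : z ∈ W), f ⟨z, hWM hz⟩ = 1 := fun z hz => (QuotientGroup.eq_one_iff _).2 hz
  have hcomm : (⟨k, hkM⟩ : M) * ⟨k', hk'M⟩ = ⟨k', hk'M⟩ * ⟨k, hkM⟩ := Subtype.ext
    (PGroup.mul_comm_of_isMulCommutative (PGroup.isMulCommutative_of_forall fun x hx y hy =>
      (Subgroup.mem_centralizer_iff.1 (mem_centralizer_of_isCyclic hd.cyclic hy) x hx)) hk hk')
  have h := congrArg f hcomm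
  refine Subgroup.mem_subgroupOf.1 (show (⁅(⟨w, hWM hw⟩ : M) * ⟨k, hkM⟩, (⟨w', hWM hw'⟩ : M) * ⟨k', hk'M⟩⁆ : M) ∈ W.subgroupOf M from (QuotientGroup.eq_one_iff
    (⁅(⟨w, hWM hw⟩ : M) * ⟨k, hkM⟩, (⟨w', hWM hw'⟩ : M) * ⟨k', hk'M⟩⁆)).1 ?_)
  show f _ = 1
  rw [map_commutatorElement, map_mul, map_mul, hw1 w hw, hw1 w' hw', one_mul, one_mul,
    commutatorElement_eq_one_iff_mul_comm, ← map_mul, ← map_mul, hcomm]

/-- `C_{M_σ}(K) ≤ M''`. -/
theorem kstar_le_derived_two :
    sigmaCore M ⊓ centralizer (K : Set G) ≤ ⁅⁅M, M⁆, ⁅M, M⁆⁆ := by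
  intro y hy
  have hD := commutator_eq hG h13 hM hd hK1
  have hyM : y ∈ M := sigmaCore_le M hy.1
  have hDM : ⁅M, M⁆ ≤ M := M.commutator_le_self
  set D := (⁅M, M⁆ : Subgroup G).subgroupOf M with hDdef
  haveI : D.Normal := (Subgroup.normal_subgroupOf_iff_le_normalizer hDM).2
    (hD ▸ Decomp.le_normalizer_sup hd)
  have hcompl := isComplIn_left hG h13 hM hd hK1
  rw [← hD] at hcompl
  have key := inf_centralizer_le_derived (D := D) (K := K.subgroupOf M)
    (PGroup.isMulCommutative_of_forall fun a ha b hb => Subtype.ext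
      (Subgroup.mem_centralizer_iff.1 (mem_centralizer_of_isCyclic hd.cyclic hb) (a : G) ha))
    (by
      rw [hDdef, Coprime.card_subgroupOf hd.hall.1, Coprime.card_subgroupOf hDM, hD, Decomp.card_right_sup hd]
      refine (coprime_left hG h13 hM hd hK1).mul_right (Nat.coprime_of_dvd fun l hl h1 h2 => ?_)
      exact (hd.hall.2.1 l hl h1).2.2.1 (isPiGrp_piCoreOf (sigma M) M l hl h2))
    (by
      rw [eq_top_iff]
      intro m _
      obtain ⟨a, ha, b, hb, hab⟩ := hcompl.2.2.2 (m : G) m.2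
      have : m = ⟨a, hDM ha⟩ * ⟨b, hd.hall.1 hb⟩ := Subtype.ext hab
      rw [this]
      exact Subgroup.mul_mem _ (Subgroup.mem_sup_right ha) (Subgroup.mem_sup_left hb))
    (by
      intro m hm
      have h1 : (m : G) ∈ (commutator M).map M.subtype := by rw [Subgroup.map_subtype_commutator]; exact hm
      obtain ⟨m', hm', e⟩ := h1
      rwa [← Subtype.ext e])
  have hmem := key (x := ⟨y, hyM⟩) ⟨sigmaCore_le_commutator hG hM hy.1, Subgroup.mem_centralizer_iff.2
    fun a ha => Subtype.ext (Subgroup.mem_centralizer_iff.1 hy.2 (a : G) ha)⟩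
  have h2 := Subgroup.mem_map_of_mem M.subtype hmem
  rw [Subgroup.map_commutator, hDdef, Subgroup.map_subgroupOf_eq_of_le hDM] at h2
  exact h2

section ne_bot

variable (hU1 : U ≠ ⊥)
include hU1

theorem nilpotent : Group.IsNilpotent (sigmaCore M) := by
  obtain ⟨r, hr, hrd⟩ := Nat.exists_prime_and_dvd (fun e => hU1 (Subgroup.card_eq_one.1 e))
  haveI := Fact.mk hr
  exact isNilpotent_sigmaCore_of_prime hG hM (hrd.trans (Subgroup.card_dvd_of_le hd.compl.1))
    (not_mem_of_dvd_decomposition hG hM hd hr hrd).1 (not_mem_of_dvd_decomposition hG hM hd hr hrd).2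

/-- A nontrivial `K`-invariant subgroup of `U` without fixed points on `M_σ`. -/
theorem exists_fpf : ∃ A : Subgroup G, A ≤ U ∧ A ≠ ⊥ ∧ K ≤ normalizer (A : Set G) ∧
    sigmaCore M ⊓ centralizer (A : Set G) = ⊥ := by
  obtain ⟨r, hr, hrd⟩ := Nat.exists_prime_and_dvd (fun e => hU1 (Subgroup.card_eq_one.1 e))
  haveI := Fact.mk hr
  have hUM := hd.compl.1
  obtain ⟨T⟩ : Nonempty (Sylow r U) := inferInstance
  set T' := (T : Subgroup U).map U.subtype with hT'
  have hTM : T' ≤ M := (Subgroup.map_subtype_le _).trans hUM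
  have hidx : ¬ r ∣ (T'.subgroupOf M).index := fun h => by
    have h1 := Subgroup.relIndex_mul_relIndex T' U M (Subgroup.map_subtype_le _) hUM
    change r ∣ T'.relIndex M at h
    rw [← h1] at h
    rcases hr.dvd_mul.1 h with h2 | h2
    · exact T.not_dvd_index (by rwa [Subgroup.relIndex, Subgroup.subgroupOf,
        Subgroup.comap_map_eq_self_of_injective U.subtype_injective] at h2)
    · exact (Decomp.isPiHallOf_right hG hM hd).2.2 r hr
        ⟨hr, (not_mem_of_dvd_decomposition hG hM hd hr hrd).2, (not_mem_of_dvd_decomposition hG hM hd hr hrd).1⟩ h2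
  set S : Sylow r M := ((T.2.map U.subtype).comap_of_injective M.subtype M.subtype_injective).toSylow hidx
  have hSe : (S : Subgroup M).map M.subtype = T' := Subgroup.map_subgroupOf_eq_of_le hTM
  obtain ⟨-, hC, -⟩ := S1429.result hG M hM
    (fun h => (not_mem_of_dvd_decomposition hG hM hd hr hrd).2
      (h r hr (hrd.trans (Subgroup.card_dvd_of_le hUM)) (not_mem_of_dvd_decomposition hG hM hd hr hrd).1))
    r (hrd.trans (Subgroup.card_dvd_of_le hUM))
    (fun h => h.elim (not_mem_of_dvd_decomposition hG hM hd hr hrd).1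
      (not_mem_of_dvd_decomposition hG hM hd hr hrd).2) S
  rw [hSe] at hC
  set A := Subgroup.closure {x : G | x ∈ T' ∧ x ^ r = 1} with hA
  have hAU : A ≤ U := (Subgroup.closure_le _).2 fun x hx => Subgroup.map_subtype_le _ hx.1
  haveI := isMulCommutative_right hG h13 hM hd hK1
  have hmem : ∀ x ∈ U, x ^ r = 1 → x ∈ T' := fun x hx hxr => by
    have hp : IsPGroup r (zpowers (⟨x, hx⟩ : U)) := by
      refine isPGroup_zpowers (p := r) ⟨1, ?_⟩
      rw [pow_one]; exact Subtype.ext hxr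
    obtain ⟨T₁, hT₁⟩ := hp.exists_le_sylow
    open scoped IsMulCommutative in haveI : Group.IsNilpotent U := CommGroup.isNilpotent
    haveI : (T : Subgroup U).Normal := inferInstance
    obtain ⟨c, hc⟩ := MulAction.exists_smul_eq U T T₁
    rw [Sylow.smul_eq_of_normal] at hc
    exact ⟨_, hc ▸ hT₁ (Subgroup.mem_zpowers _), rfl⟩
  refine ⟨A, hAU, fun e => ?_, fun k hk => ?_, hC⟩
  · obtain ⟨z, hz⟩ := exists_prime_orderOf_dvd_card' (G := U) r hrd
    have hzr : (z : G) ^ r = 1 := orderOf_dvd_iff_pow_eq_one.1 (by rw [Subgroup.orderOf_coe, hz])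
    have hzA : (z : G) ∈ A := Subgroup.subset_closure ⟨hmem _ z.2 hzr, hzr⟩
    rw [e] at hzA
    have hz1 := Subgroup.mem_bot.1 hzA
    rw [← Subgroup.orderOf_coe, hz1, orderOf_one] at hz
    exact hr.ne_one hz.symm
  · refine Coprime.mem_normalizer_of_conj_smul_eq (Subgroup.eq_of_le_of_card_ge ?_
      (le_of_eq (Coprime.card_conj_smul _ _).symm))
    show A.map (MulAut.conj k).toMonoidHom ≤ A
    rw [hA, MonoidHom.map_closure, Subgroup.closure_le]
    rintro _ ⟨x, hx, rfl⟩
    have hxU := (Subgroup.mem_normalizer_iff.1 (hd.normal hk) x).1 (Subgroup.map_subtype_le _ hx.1)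
    have hxr : (k * x * k⁻¹) ^ r = 1 := by rw [conj_pow, hx.2, mul_one, mul_inv_cancel]
    exact Subgroup.subset_closure ⟨hmem _ hxU hxr, hxr⟩

theorem sigmaCore_inf_centralizer_right : sigmaCore M ⊓ centralizer (U : Set G) = ⊥ := by
  obtain ⟨A, hAU, -, -, hC⟩ := exists_fpf hG h13 hM hd hK1 hU1
  exact le_bot_iff.1 (hC ▸ inf_le_inf_left _ (Subgroup.centralizer_le hAU))

/-- `|K|` is prime and `|M_σ| = |C_{M_σ}(K)| ^ |K|`. -/
theorem card_prime : (Nat.card K).Prime ∧
    Nat.card (sigmaCore M) = Nat.card ↥(sigmaCore M ⊓ centralizer (K : Set G)) ^ Nat.card K := by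
  obtain ⟨A, hAU, hA1, hKA, hC⟩ := exists_fpf hG h13 hM hd hK1 hU1
  have hAK : A ⊓ K = ⊥ := le_bot_iff.1 ((inf_le_inf_right K hAU).trans (Decomp.right_inf_left hd).le)
  have hle : A ⊔ K ≤ M := sup_le (hAU.trans hd.compl.1) hd.hall.1
  have hcop : (Nat.card ↥(A ⊔ K)).Coprime (Nat.card (sigmaCore M)) := by
    rw [sup_comm, Coprime.card_sup_of_le_normalizer hKA (by rwa [inf_comm])]
    refine Nat.coprime_of_dvd fun l hl h1 h2 => ?_
    have hs := isPiGrp_piCoreOf (sigma M) M l hl h2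
    rcases hl.dvd_mul.1 h1 with h | h
    · exact (hd.hall.2.1 l hl h).2.2.1 hs
    · exact (not_mem_of_dvd_decomposition hG hM hd hl (h.trans (Subgroup.card_dvd_of_le hAU))).1 hs
  obtain ⟨h1, h2, -⟩ := S1446.result A K (sigmaCore M) hA1 hK1 hAK hKA
    (fun k hk hk1 => le_bot_iff.1 ((inf_le_inf_right _ hAU).trans (fixed_eq_bot hG h13 hM hd hK1 hk hk1).le))
    (Coprime.isSolvable_of_le hle (isSolvable_of_coatom hG hM)) (odd_subgroup hG.1 _)
    (sigmaCore_ne_bot hG hM) (nilpotent hG h13 hM hd hK1 hU1) ((hAU.trans hd.compl.1).trans (le_normalizer_sigmaCore M))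
    (hd.hall.1.trans (le_normalizer_sigmaCore M)) hcop hC
    (fun k hk hk1 => (pData hG h13 hM hd hK1).primeAction hk hk1)
  exact ⟨h1, h2⟩

end ne_bot

end DecompP

end Cfsg.Agent.OddOrder
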