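import Cfsg.Agent.S1386
import Cfsg.Agent.S1472
import Cfsg.Agent.Lib.OddOrder.FittingHall
import Cfsg.Agent.Lib.Coprime.Basic
import Cfsg.Agent.Lib.OddOrder.TypeDefs

/-!
# The end of the odd order theorem

`isSolvable_of_forall_not_minSimple`: the minimal counterexample reduction.

`false_of_rows`: a minimal simple group of odd order contradicts the three structure rows S1385 (some
pair `S`, `T` of type P unless all maximal subgroups are of Type I), S1541 (not all are of Type I) and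
S1544 (the field configuration), by Appendix C (S1472).
-/

set_option autoImplicit false

namespace Cfsg.Agent.OddOrder.Final

open Cfsg Subgroup
open scoped Pointwise

universe u

/-- If there is no minimal simple group of odd order in a universe, every finite group of odd order
there is solvable. -/
theorem isSolvable_of_forall_not_minSimple
    (h : ∀ (H : Type u) [Group H] [Finite H], ¬ IsMinSimpleOddOrder H)
    (G : Type u) [Group G] [Finite G] (hG : Odd (Nat.card G)) : Group.IsSolvable G := by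
  suffices hn : ∀ n : ℕ, ∀ (G : Type u) [Group G] [Finite G], Nat.card G = n → Odd (Nat.card G) →
      Group.IsSolvable G from hn _ G rfl hG
  intro n
  induction n using Nat.strong_induction_on with
  | _ n ih =>
    intro G _ _ hn hodd
    by_contra hns
    have hsub : ∀ K : Subgroup G, K ≠ ⊤ → Group.IsSolvable K := by
      intro K hK
      have hdvd := K.card_subgroup_dvd_card
      refine ih (Nat.card K) ?_ K rfl (hodd.of_dvd_nat hdvd)
      rw [← hn]
      exact lt_of_le_of_ne (Nat.le_of_dvd Nat.card_pos hdvd) fun e =>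
        hK (Subgroup.eq_top_of_card_eq K e)
    have hnt : Nontrivial G := by
      by_contra h1
      rw [not_nontrivial_iff_subsingleton] at h1
      exact hns inferInstance
    refine h G ⟨hodd, ⟨fun N hN => ?_⟩, ?_, hsub⟩
    · by_contra hN'
      obtain ⟨hbot, htop⟩ := not_or.1 hN'
      have hK := hsub N htop
      have hQ : Group.IsSolvable (G ⧸ N) := by
        refine ih (Nat.card (G ⧸ N)) ?_ _ rfl (hodd.of_dvd_nat (Subgroup.card_quotient_dvd_card N))
        rw [← hn, Subgroup.card_eq_card_quotient_mul_card_subgroup N]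
        exact lt_mul_of_one_lt_right Nat.card_pos
          (N.one_lt_card_iff_ne_bot.2 hbot)
      exact hns ((Group.isSolvable_iff_subgroup_quotient N).2 ⟨hK, hQ⟩)
    · intro hc
      exact hns (Group.isSolvable_of_comm fun a b => mul_comm' a b)

/-! ### Transport of type-P data along an automorphism fixing `M` -/

variable {G : Type u} [Group G]

theorem centralizer_singleton_map (φ : G ≃* G) (x : G) :
    centralizer ({φ x} : Set G) = (centralizer ({x} : Set G)).map φ.toMonoidHom := by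
  ext y
  rw [mem_map_equiv, mem_centralizer_singleton_iff, mem_centralizer_singleton_iff,
    ← φ.symm.injective.eq_iff, map_mul, map_mul, φ.symm_apply_apply]

theorem isComplIn_map (φ : G ≃* G) {A B M : Subgroup G} (h : IsComplIn A B M) :
    IsComplIn (A.map φ.toMonoidHom) (B.map φ.toMonoidHom) (M.map φ.toMonoidHom) := by
  obtain ⟨hA, hB, hAB, hmul⟩ := h
  refine ⟨map_mono hA, map_mono hB, ?_, ?_⟩
  · rw [← Subgroup.map_inf _ _ _ φ.injective, hAB, Subgroup.map_bot]
  · rintro _ ⟨m, hm, rfl⟩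
    obtain ⟨a, ha, b, hb, rfl⟩ := hmul m hm
    exact ⟨φ a, mem_map_of_mem _ ha, φ b, mem_map_of_mem _ hb, map_mul φ a b⟩

theorem isSelfNormalizingCyclic_map (φ : G ≃* G) {W₁ W₂ : Subgroup G}
    (h : IsSelfNormalizingCyclic W₁ W₂) :
    IsSelfNormalizingCyclic (W₁.map φ.toMonoidHom) (W₂.map φ.toMonoidHom) := by
  obtain ⟨h1, h2, h12, hc, hcyc, hN⟩ := h
  refine ⟨?_, ?_, ?_, ?_, ?_, ?_⟩
  · rwa [Ne, map_eq_bot_iff_of_injective _ φ.injective]
  · rwa [Ne, map_eq_bot_iff_of_injective _ φ.injective]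
  · rw [← Subgroup.map_inf _ _ _ φ.injective, h12, Subgroup.map_bot]
  · rintro _ ⟨a, ha, rfl⟩ _ ⟨b, hb, rfl⟩
    show φ a * φ b = φ b * φ a
    rw [← map_mul, hc a ha b hb, map_mul]
  · rw [← Subgroup.map_sup]
    exact ((W₁ ⊔ W₂).equivMapOfInjective _ φ.injective).isCyclic.1 hcyc
  · intro X hX hXne
    rw [← Subgroup.map_sup]
    rw [← hN (φ ⁻¹' X) ?_ ?_]
    · ext g
      rw [mem_map_equiv, Subgroup.mem_set_normalizer_iff, Subgroup.mem_set_normalizer_iff]
      constructor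
      · intro hg y
        show φ y ∈ X ↔ φ (φ.symm g * y * (φ.symm g)⁻¹) ∈ X
        rw [map_mul, map_mul, map_inv, φ.apply_symm_apply]
        exact hg (φ y)
      · intro hg y
        have h' : φ (φ.symm y) ∈ X ↔ φ (φ.symm g * φ.symm y * (φ.symm g)⁻¹) ∈ X := hg (φ.symm y)
        rwa [map_mul, map_mul, map_inv, φ.apply_symm_apply, φ.apply_symm_apply] at h'
    · intro y hy
      obtain ⟨hy1, hy2⟩ := hX hy
      rw [← Subgroup.map_sup] at hy1
      refine ⟨?_, ?_⟩
      · obtain ⟨z, hz, hzy⟩ := hy1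
        rwa [← φ.injective hzy]
      · rintro (h' | h')
        · exact hy2 (Or.inl (mem_map_of_mem _ h'))
        · exact hy2 (Or.inr (mem_map_of_mem _ h'))
    · obtain ⟨y, hy⟩ := hXne
      exact ⟨φ.symm y, by simpa using hy⟩

theorem map_conj_eq_of_mem_normalizer {N : Subgroup G} {s : G} (hs : s ∈ normalizer (N : Set G)) :
    N.map (MulAut.conj s).toMonoidHom = N := by
  ext x
  rw [mem_map_equiv, MulAut.conj_symm_apply, mem_normalizer_iff.1 hs (s⁻¹ * x * s)]
  simp [mul_assoc]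

theorem le_normalizer_map_subtype (M : Subgroup G) (N : Subgroup M) [N.Normal] :
    M ≤ normalizer ((N.map M.subtype : Subgroup G) : Set G) := by
  have h := le_normalizer_map (H := N) M.subtype
  rwa [normalizer_eq_top, ← MonoidHom.range_eq_map, range_subtype] at h

/-- Conjugation by an element of `M` carries type-P data of `M` to type-P data of `M`. -/
theorem isTypePWith_conj [Finite G] {M W₁ U W₂ : Subgroup G} {s : G} (hs : s ∈ M)
    (h : IsTypePWith M W₁ U W₂) :
    IsTypePWith M (W₁.map (MulAut.conj s).toMonoidHom) (U.map (MulAut.conj s).toMonoidHom)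
      (W₂.map (MulAut.conj s).toMonoidHom) := by
  set φ := MulAut.conj s with hφ
  have hM : M.map φ.toMonoidHom = M := map_conj_eq_of_mem_normalizer (le_normalizer hs)
  have hM' : ⁅M, M⁆.map φ.toMonoidHom = ⁅M, M⁆ := by rw [map_commutator, hM]
  have hM'' : ⁅⁅M, M⁆, ⁅M, M⁆⁆.map φ.toMonoidHom = ⁅⁅M, M⁆, ⁅M, M⁆⁆ := by rw [map_commutator, hM']
  have hF : (fittingHallOf M).map φ.toMonoidHom = fittingHallOf M :=
    map_conj_eq_of_mem_normalizer (le_normalizer_map_subtype M (fittingHall M) hs)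
  exact {
    W₁_ne := by rw [Ne, map_eq_bot_iff_of_injective _ φ.injective]; exact h.W₁_ne
    W₁_cyclic := (W₁.equivMapOfInjective _ φ.injective).isCyclic.1 h.W₁_cyclic
    W₁_hall := by
      conv => arg 2; rw [← hM]
      rw [relIndex_map_map_of_injective _ _ φ.injective,
        Nat.card_congr (W₁.equivMapOfInjective _ φ.injective).toEquiv.symm]
      exact h.W₁_hall
    W₁_compl := by
      have := isComplIn_map φ h.W₁_compl
      rwa [hM, hM'] at this
    U_nilpotent := by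
      haveI := h.U_nilpotent
      exact Group.nilpotent_of_mulEquiv (U.equivMapOfInjective _ φ.injective)
    U_normal := (map_mono h.U_normal).trans (le_normalizer_map _)
    U_compl := by
      have := isComplIn_map φ h.U_compl
      rwa [hM', hF] at this
    H_not_cyclic := h.H_not_cyclic
    derived_two_le := h.derived_two_le
    fitting_eq := h.fitting_eq
    fitting_le := h.fitting_le
    W₂_le := by
      refine (map_mono h.W₂_le).trans ?_
      rw [Subgroup.map_inf _ _ _ φ.injective, hM'', hF]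
    W₂_centralizer := by
      rintro _ ⟨x, hx, rfl⟩ hx1
      show ⁅M, M⁆ ⊓ centralizer ({φ x} : Set G) = _
      rw [centralizer_singleton_map, ← hM', ← Subgroup.map_inf _ _ _ φ.injective,
        h.W₂_centralizer x hx fun e => hx1 (by rw [e, map_one])]
    selfNormalizing := isSelfNormalizingCyclic_map φ h.selfNormalizing }

theorem isSelfNormalizingCyclic_symm {W₁ W₂ : Subgroup G} (h : IsSelfNormalizingCyclic W₁ W₂) :
    IsSelfNormalizingCyclic W₂ W₁ := by
  obtain ⟨h1, h2, h12, hc, hcyc, hN⟩ := h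
  refine ⟨h2, h1, by rwa [inf_comm], fun a ha b hb => (hc b hb a ha).symm, ?_, fun X hX => ?_⟩
  · rwa [sup_comm]
  · rw [sup_comm]
    exact hN X (by rwa [sup_comm, Set.union_comm])

/-- A subgroup of a type `P` subgroup `M` complementing `M'` and forming with some `W₂ ≤ M` a
self-normalizing cyclic pair belongs, together with `W₂`, to type-P data of `M`. -/
theorem exists_typePWith [Finite G] {M W₁ W₂ : Subgroup G} (hP : IsOfTypeP M)
    (hW : IsSelfNormalizingCyclic W₁ W₂) (hc : IsComplIn ⁅M, M⁆ W₁ M) (hW₂ : W₂ ≤ M) :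
    ∃ U : Subgroup G, IsTypePWith M W₁ U W₂ := by
  obtain ⟨A, U, B, hP⟩ := hP
  have hcard : Nat.card W₁ = Nat.card A :=
    Nat.eq_of_mul_eq_mul_left Nat.card_pos
      ((card_eq_of_isComplIn hc).trans (card_eq_of_isComplIn hP.W₁_compl).symm)
  have hN : A ≤ normalizer ((⁅M, M⁆ : Subgroup G) : Set G) := fun a ha => by
    have hM : M.map (MulAut.conj a).toMonoidHom = M :=
      map_conj_eq_of_mem_normalizer (le_normalizer (hP.W₁_compl.2.1 ha))
    have h' : ⁅M, M⁆.map (MulAut.conj a).toMonoidHom = ⁅M, M⁆ := by rw [map_commutator, hM]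
    rw [mem_normalizer_iff]
    intro x
    conv_rhs => rw [← h']
    rw [mem_map_equiv, MulAut.conj_symm_apply]
    simp [mul_assoc]
  have hK : W₁ ≤ A ⊔ ⁅M, M⁆ := fun w hw => by
    obtain ⟨d, hd, a, ha, rfl⟩ := hP.W₁_compl.2.2.2 w (hc.2.1 hw)
    exact mul_mem (mem_sup_right hd) (mem_sup_left ha)
  have hrel : A.relIndex M = Nat.card (⁅M, M⁆ : Subgroup G) := by
    have h1 := relIndex_mul_relIndex ⊥ A M bot_le hP.W₁_compl.2.1
    rw [relIndex_bot_left, relIndex_bot_left, ← card_eq_of_isComplIn hP.W₁_compl, mul_comm (Nat.card _)] at h1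
    exact Nat.eq_of_mul_eq_mul_right Nat.card_pos h1
  have hcop : (Nat.card A).Coprime (Nat.card (⁅M, M⁆ : Subgroup G)) := by
    rw [← hrel]; exact hP.W₁_hall
  haveI := hP.W₁_cyclic
  obtain ⟨s, hs, e⟩ := Coprime.exists_conj_eq_of_le_sup hN hK hcard hcop (Or.inr (Group.isSolvable_of_comm fun a b => mul_comm' a b))
  have hs' : s ∈ M := M.commutator_le_self hs
  have e' : A.map (MulAut.conj s).toMonoidHom = W₁ := e
  have hP' := isTypePWith_conj hs' hP
  rw [e'] at hP'
  have h2 := S1386.result W₁ W₂ M _ _ hW hc hW₂ hP'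
  rw [h2] at hP'
  exact ⟨_, hP'⟩

theorem isOfTypeP_of_II_to_V {M : Subgroup G}
    (h : IsOfTypeII M ∨ IsOfTypeIII M ∨ IsOfTypeIV M ∨ IsOfTypeV M) : IsOfTypeP M := by
  rcases h with h | h | h | h <;> obtain ⟨A, U, B, hP, -⟩ := h <;> exact ⟨A, U, B, hP⟩

/-- The conclusion of S1385 for `G`. -/
def StructureDichotomy (G : Type u) [Group G] : Prop :=
    (∀ M : Subgroup G, IsCoatom M → IsOfTypeI' M) ∨
      ∃ W₁ W₂ S T : Subgroup G, IsSelfNormalizingCyclic W₁ W₂ ∧ IsCoatom S ∧ IsCoatom T ∧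
        IsComplIn ⁅S, S⁆ W₁ S ∧ IsComplIn ⁅T, T⁆ W₂ T ∧ S ⊓ T = W₁ ⊔ W₂ ∧
        (IsOfTypeII S ∨ IsOfTypeII T) ∧
        (IsOfTypeII S ∨ IsOfTypeIII S ∨ IsOfTypeIV S ∨ IsOfTypeV S) ∧
        (IsOfTypeII T ∨ IsOfTypeIII T ∨ IsOfTypeIV T ∨ IsOfTypeV T) ∧
        ∀ M : Subgroup G, IsCoatom M → IsOfTypeI' M ∨
          ∃ g : G, M = S.map (MulAut.conj g).toMonoidHom ∨ M = T.map (MulAut.conj g).toMonoidHom

/-- The part of S1544 for `G` used in the final contradiction. -/
def FieldConfiguration (G : Type u) [Group G] : Prop :=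
  ∀ (S T W₁ W₂ U V : Subgroup G), IsCoatom S → IsCoatom T → IsTypePWith S W₁ U W₂ →
    IsTypePWith T W₂ V W₁ → S ⊓ T = W₁ ⊔ W₂ → (IsOfTypeII S ∨ IsOfTypeII T) →
    (IsOfTypeII S ∨ IsOfTypeIII S ∨ IsOfTypeIV S ∨ IsOfTypeV S) →
    (IsOfTypeII T ∨ IsOfTypeIII T ∨ IsOfTypeIV T ∨ IsOfTypeV T) →
    Nat.card W₁ < Nat.card W₂ →
    (Nat.card W₁).Prime ∧ (Nat.card W₂).Prime ∧
      Nat.card U * (Nat.card W₂ - 1) = Nat.card W₂ ^ Nat.card W₁ - 1 ∧
      Nat.Coprime ((Nat.card W₂ ^ Nat.card W₁ - 1) / (Nat.card W₂ - 1)) (Nat.card W₂ - 1) ∧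
      U ≤ normalizer (fittingHallOf S : Set G) ∧
      (Nat.card (fittingHallOf T)).Coprime (Nat.card W₂) ∧
      IsMulCommutative (fittingHallOf T) ∧
      W₂ ≤ normalizer (fittingHallOf T : Set G) ∧
      ∃ y ∈ fittingHallOf T, W₂.map (MulAut.conj y).toMonoidHom ≤ normalizer (U : Set G) ∧
      ∃ (F : Type) (_ : Field F) (_ : Fintype F) (f : G → F) (ψ : G → F),
        Fintype.card F = Nat.card W₂ ^ Nat.card W₁ ∧ Set.BijOn f (fittingHallOf S : Set G) Set.univ ∧
        (∀ x ∈ fittingHallOf S, ∀ x' ∈ fittingHallOf S, f (x * x') = f x + f x') ∧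
        (∀ u ∈ U, ψ u ≠ 0 ∧ ∀ x ∈ fittingHallOf S, f (u * x * u⁻¹) = ψ u * f x) ∧
        (∀ u ∈ U, ∀ u' ∈ U, ψ (u * u') = ψ u * ψ u') ∧ Set.InjOn ψ (U : Set G) ∧
        (∀ x ∈ fittingHallOf S, f x ^ Nat.card W₂ = f x → x ∈ W₂)

theorem false_of_fieldConfiguration [Finite G] (h : FieldConfiguration G) {S T W₁ W₂ U V : Subgroup G}
    (hS : IsCoatom S) (hT : IsCoatom T) (hSP : IsTypePWith S W₁ U W₂) (hTP : IsTypePWith T W₂ V W₁)
    (hST : S ⊓ T = W₁ ⊔ W₂) (hII : IsOfTypeII S ∨ IsOfTypeII T)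
    (hS25 : IsOfTypeII S ∨ IsOfTypeIII S ∨ IsOfTypeIV S ∨ IsOfTypeV S)
    (hT25 : IsOfTypeII T ∨ IsOfTypeIII T ∨ IsOfTypeIV T ∨ IsOfTypeV T)
    (hqp : Nat.card W₁ < Nat.card W₂) : False := by
  obtain ⟨hq, hp, hU, hA, hUP, hQp, hQ, hW₂Q, y, hy, hyW₂, F, iF, iFt, f, ψ, hF, hf, hfadd, hψ,
      hψmul, hψinj, hP₀⟩ := h S T W₁ W₂ U V hS hT hSP hTP hST hII hS25 hT25 hqp
  haveI := Fact.mk hq
  haveI := Fact.mk hp
  exact absurd (S1472.result (Nat.card W₂) (Nat.card W₁) hA F hF (fittingHallOf S) U (fittingHallOf T) f ψ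
      hf hfadd hUP hψ hψmul hψinj hU hQ hQp (fun x hx hfx => hW₂Q (hP₀ x hx hfx)) y hy
      (fun x hx hfx => hyW₂ (mem_map_of_mem _ (hP₀ x hx hfx)))) (not_le.2 hqp)

/-- **The final contradiction**: S1385, S1541 and (part of) S1544 together are inconsistent. -/
theorem false_of_rows [Finite G] (hstr : StructureDichotomy G)
    (hnotI : ∃ M : Subgroup G, IsCoatom M ∧ ¬ IsOfTypeI' M) (hfield : FieldConfiguration G) :
    False := by
  obtain ⟨W₁, W₂, S, T, hW, hS, hT, hc₁, hc₂, hST, hII, hS25, hT25, -⟩ :=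
    hstr.resolve_left fun h => by
      obtain ⟨M, hM, hMI⟩ := hnotI
      exact hMI (h M hM)
  have hWS : W₁ ⊔ W₂ ≤ S := hST ▸ inf_le_left
  have hWT : W₁ ⊔ W₂ ≤ T := hST ▸ inf_le_right
  obtain ⟨U, hSP⟩ := exists_typePWith (isOfTypeP_of_II_to_V hS25) hW hc₁ (le_sup_right.trans hWS)
  obtain ⟨V, hTP⟩ := exists_typePWith (isOfTypeP_of_II_to_V hT25) (isSelfNormalizingCyclic_symm hW)
    hc₂ (le_sup_left.trans hWT)
  rcases lt_trichotomy (Nat.card W₁) (Nat.card W₂) with hlt | heq | hlt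
  · exact false_of_fieldConfiguration hfield hS hT hSP hTP hST hII hS25 hT25 hlt
  · haveI := hW.2.2.2.2.1
    have e := S1386.eq_of_card_eq_in_cyclic (W₁ ⊔ W₂) W₁ W₂ le_sup_left le_sup_right heq
    have h12 := hW.2.2.1
    rw [← e, inf_idem] at h12
    exact hW.1 h12
  · exact false_of_fieldConfiguration hfield hT hS hTP hSP (by rw [inf_comm, hST, sup_comm]) hII.symm
      hT25 hS25 hlt

end Cfsg.Agent.OddOrder.Final
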