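import Cfsg.Agent.Lib.OddOrder.PF.BGFacts
import Cfsg.Agent.Lib.OddOrder.PiCore
import Cfsg.Agent.Lib.OddOrder.Final

/-!
# The structure dichotomy S1385

Glue: the conclusion of S1385 (all maximal subgroups of Type I, or a pair `S`, `T` of type P) from the
rows of sections 14–16 (S1351, S1352, S1355, S1364–S1366, S1368–S1370, S1380–S1383).
-/

set_option autoImplicit false

namespace Cfsg.Agent.OddOrder.Dichotomy

open Cfsg Subgroup
open scoped Pointwise

universe u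
variable {G : Type u} [Group G] [Finite G] (B : PF.BGFacts G)

omit [Finite G] in
theorem sigmaCore_le (M : Subgroup G) : sigmaCore M ≤ M := Subgroup.map_subtype_le _

include B

theorem kappaHall_eq_bot {M K : Subgroup G} (hK : IsPiHallOf (kappa M) K M) (h : kappa M = ∅) :
    K = ⊥ := by
  by_contra hne
  obtain ⟨p, hp, hd⟩ := Nat.exists_prime_and_dvd (Nat.ne_of_gt (K.one_lt_card_iff_ne_bot.2 hne))
  have := hK.2.1 p hp hd
  rw [h] at this
  exact this

theorem kappaHall_ne_bot {M K : Subgroup G} (hK : IsPiHallOf (kappa M) K M) (h : (kappa M).Nonempty) :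
    K ≠ ⊥ := by
  rintro rfl
  obtain ⟨p, hp⟩ := h
  refine hK.2.2 p hp.1 hp ?_
  rw [relIndex_bot_left]
  exact hp.2.1

theorem exists_decomposition {M : Subgroup G} (hM : IsCoatom M) :
    ∃ K U : Subgroup G, IsPiHallOf (kappa M) K M ∧ IsSigmaDecomposition M K U := by
  obtain ⟨⟨K, hK⟩, hcyc⟩ := B.s1351 M hM
  obtain ⟨U, hU⟩ := (B.s1352 M hM K (hcyc K hK) hK).1
  exact ⟨K, U, hK, hU⟩

theorem isOfTypeI_of_kappa_empty {M : Subgroup G} (hM : IsCoatom M) (h : kappa M = ∅) :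
    IsOfTypeI' M := by
  obtain ⟨K, U, hK, hKU⟩ := exists_decomposition B hM
  have hK0 := kappaHall_eq_bot B hK h
  refine (B.s1380 M hM K U hKU).2 ⟨hK0, ?_⟩
  intro hU
  obtain ⟨-, -, hle, hlt, -⟩ := B.s1355 M hM
  refine not_le_of_gt hlt fun m hm => hle ?_
  obtain ⟨a, ha, b, hb, rfl⟩ := hKU.compl.2.2.2 m hm
  rw [hU, mem_bot] at ha
  rw [hK0, bot_sup_eq] at hb
  rwa [ha, one_mul]

/-- A cyclic Hall `κ`-subgroup complements the derived subgroup. -/
theorem isComplIn_commutator {M K U : Subgroup G} (hM : IsCoatom M) (hKU : IsSigmaDecomposition M K U)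
    (hK1 : K ≠ ⊥) : IsComplIn ⁅M, M⁆ K M := by
  obtain ⟨hD, -⟩ := B.s1365 M hM K U hKU hK1
  obtain ⟨hUM, -, hdisj, hmul⟩ := hKU.compl
  have hKM := hKU.hall.1
  have hnorm : M ≤ normalizer (sigmaCore M : Set G) :=
    Final.le_normalizer_map_subtype M (piCore (sigma M) ↥M)
  refine ⟨commutator_le_self M, hKM, ?_, fun m hm => ?_⟩
  · rw [eq_bot_iff]
    intro x hx
    obtain ⟨hxD, hxK⟩ := mem_inf.1 hx
    have hxD' : x ∈ (U : Set G) * (sigmaCore M : Set G) := by
      rw [← coe_mul_of_left_le_normalizer_right U (sigmaCore M) (hUM.trans hnorm), ← hD]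
      exact hxD
    obtain ⟨u, hu, s, hs, rfl⟩ := Set.mem_mul.1 hxD'
    have hu1 : u = 1 := by
      rw [← mem_bot, ← hdisj]
      refine mem_inf.2 ⟨hu, ?_⟩
      have := mul_mem (mem_sup_left hxK : u * s ∈ K ⊔ sigmaCore M) (mem_sup_right (inv_mem hs))
      rwa [mul_inv_cancel_right] at this
    rw [hu1, one_mul] at hxK ⊢
    rw [mem_bot]
    by_contra hs1
    obtain ⟨p, hp, hd⟩ := Nat.exists_prime_and_dvd (mt orderOf_eq_one_iff.1 hs1)
    exact (hKU.hall.2.1 p hp (hd.trans (Subgroup.orderOf_dvd_natCard K hxK))).2.2.1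
      (isPiGrp_piCoreOf (sigma M) M p hp (hd.trans (Subgroup.orderOf_dvd_natCard _ hs)))
  · obtain ⟨u, hu, z, hz, rfl⟩ := hmul m hm
    have hz' : z ∈ (K : Set G) * (sigmaCore M : Set G) := by
      rw [← coe_mul_of_left_le_normalizer_right K (sigmaCore M) (hKM.trans hnorm)]
      exact hz
    obtain ⟨k, hk, s, hs, rfl⟩ := Set.mem_mul.1 hz'
    refine ⟨u * (k * s * k⁻¹), ?_, k, hk, by group⟩
    rw [hD]
    exact mul_mem (mem_sup_left hu) (mem_sup_right ((mem_normalizer_iff.1 (hnorm (hKM hk)) s).1 hs))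

theorem isSelfNormalizingCyclic_pair {M K U Mstar : Subgroup G} (hM : IsCoatom M)
    (hKU : IsSigmaDecomposition M K U) (hK1 : K ≠ ⊥) (hMstar : IsCoatom Mstar)
    (hKst : K = sigmaCore Mstar ⊓ centralizer ((sigmaCore M ⊓ centralizer (K : Set G)) : Set G))
    (hKstH : IsPiHallOf (kappa Mstar) (sigmaCore M ⊓ centralizer (K : Set G)) Mstar) :
    IsSelfNormalizingCyclic K (sigmaCore M ⊓ centralizer (K : Set G)) := by
  obtain ⟨-, hcyc⟩ := B.s1368 M hM K U hKU hK1 Mstar hMstar hKst hKstH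
  obtain ⟨hTI, hN⟩ := B.s1370 M hM K U hKU hK1
  refine ⟨hK1, (B.s1364 M hM K U hKU hK1).2.1, ?_, ?_, hcyc, fun X hX hXne => ?_⟩
  · rw [eq_bot_iff]
    intro x hx
    obtain ⟨hxK, hxS, -⟩ := mem_inf.1 hx |>.imp id mem_inf.1
    have : x ∈ ⁅M, M⁆ ⊓ K := mem_inf.2 ⟨(B.s1355 M hM).2.2.1 hxS, hxK⟩
    rwa [(isComplIn_commutator B hM hKU hK1).2.2.1] at this
  · intro a ha b hb
    exact mem_centralizer_iff.1 (mem_inf.1 hb).2 a ha
  · refine le_antisymm (fun g hg => ?_) (fun z hz => ?_)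
    · obtain ⟨x, hx⟩ := hXne
      rw [← hN]
      by_contra hg'
      have h1 := hTI g hg' x (hX hx) (hX ((mem_set_normalizer_iff.1 hg x).1 hx))
      exact (hX hx).2 (Or.inl (by rw [h1]; exact one_mem K))
    · rw [mem_set_normalizer_iff]
      haveI := hcyc
      have hcomm : ∀ w ∈ X, z * w * z⁻¹ = w := fun w hw => by
        have e : z * w = w * z :=
          congrArg Subtype.val (mul_comm' (⟨z, hz⟩ : ↥(K ⊔ (sigmaCore M ⊓ centralizer (K : Set G)))) ⟨w, (hX hw).1⟩)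
        rw [e, mul_inv_cancel_right]
      refine fun y => ⟨fun hy => by rwa [hcomm y hy], fun hy => ?_⟩
      have e := hcomm _ hy
      have e' : z * y * z⁻¹ = y := by
        have := congrArg (fun t => z⁻¹ * t * z) e
        simpa [mul_assoc] using this
      rwa [e'] at hy

theorem type_II_to_V {M K U : Subgroup G} (hM : IsCoatom M) (hKU : IsSigmaDecomposition M K U)
    (hK1 : K ≠ ⊥) : IsOfTypeII M ∨ IsOfTypeIII M ∨ IsOfTypeIV M ∨ IsOfTypeV M := by
  by_cases hU : U = ⊥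
  · by_cases hF : fittingHallOf M = sigmaCore M
    · exact Or.inr (Or.inr (Or.inr ((B.s1383 M hM K U hKU).2 ⟨hK1, hU, hF⟩)))
    · rcases (B.s1382 M hM K U hKU).2 ⟨hK1, hU, hF⟩ with h | h
      · exact Or.inr (Or.inl h)
      · exact Or.inr (Or.inr (Or.inl h))
  · exact Or.inl ((B.s1381 M hM K U hKU).2 ⟨hK1, hU⟩)

/-- The conclusion of S1385. -/
theorem structureDichotomy : Final.StructureDichotomy G := by
  by_cases hall : ∀ M : Subgroup G, IsCoatom M → kappa M = ∅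
  · exact Or.inl fun M hM => isOfTypeI_of_kappa_empty B hM (hall M hM)
  push Not at hall
  obtain ⟨M, hM, hk⟩ := hall
  obtain ⟨K, U, hK, hKU⟩ := exists_decomposition B hM
  have hK1 := kappaHall_ne_bot B hK hk
  obtain ⟨Mstar, ⟨hMstar, hKst, hKstH⟩, -⟩ := B.s1366 M hM K U hKU hK1
  obtain ⟨hKscyc, hKs1, -, -⟩ := B.s1364 M hM K U hKU hK1
  obtain ⟨Ustar, hKUstar⟩ := (B.s1352 Mstar hMstar _ hKscyc hKstH).1
  obtain ⟨hII, hconj⟩ := B.s1369 M hM K U hKU hK1 Mstar hMstar hKst hKstH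
  refine Or.inr ⟨K, sigmaCore M ⊓ centralizer (K : Set G), M, Mstar,
    isSelfNormalizingCyclic_pair B hM hKU hK1 hMstar hKst hKstH, hM, hMstar,
    isComplIn_commutator B hM hKU hK1, isComplIn_commutator B hMstar hKUstar hKs1,
    (B.s1368 M hM K U hKU hK1 Mstar hMstar hKst hKstH).1, ?_,
    type_II_to_V B hM hKU hK1, type_II_to_V B hMstar hKUstar hKs1, fun H hH => ?_⟩
  · rcases hII with hU | hU
    · exact Or.inl ((B.s1381 M hM K U hKU).2 ⟨hK1, hU⟩)
    · exact Or.inr ((B.s1381 Mstar hMstar _ Ustar hKUstar).2 ⟨hKs1, hU Ustar hKUstar⟩)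
  · rcases (kappa H).eq_empty_or_nonempty with h | h
    · exact Or.inl (isOfTypeI_of_kappa_empty B hH h)
    · exact Or.inr (hconj H hH h)

end Cfsg.Agent.OddOrder.Dichotomy
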