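import Cfsg.Agent.Lib.OddOrder.Embedding

/-!
# Bender–Glauberman 14.7: properties of the pair `M`, `M*`
-/

set_option autoImplicit false
set_option linter.unusedSectionVars false
set_option linter.style.haveILetI false

namespace Cfsg.Agent.OddOrder

open Cfsg
open Subgroup (centralizer normalizer zpowers)
open scoped Pointwise

universe u
variable {G : Type u} [Group G] [Finite G] {M Mstar K : Subgroup G}

theorem dvd_order_not_two {H : Subgroup G} (hG : IsMinSimpleOddOrder G) (h1 : H ≠ ⊥) :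
    3 ≤ Nat.card H := by
  have hodd := odd_subgroup hG.1 H
  have : 1 < Nat.card H :=
    lt_of_le_of_ne Nat.card_pos fun e => h1 (Subgroup.card_eq_one.1 e.symm)
  obtain ⟨c, hc⟩ := hodd
  omega

namespace DualPair

variable (P : DualPair M Mstar K)
include P

theorem not_mem_sigma {l : ℕ} (hl : l ∈ Cfsg.sigma M) : l ∉ Cfsg.sigma Mstar :=
  fun h => P.ne (P.mem.eq_of_mem_sigma P.mem' hl h)

theorem sigmaCore_inf_sigmaCore : Cfsg.sigmaCore M ⊓ Cfsg.sigmaCore Mstar = ⊥ :=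
  Coprime.disjoint_of_coprime_card (Nat.coprime_of_dvd fun l hl h1 h2 =>
    P.not_mem_sigma (isPiGrp_piCoreOf (Cfsg.sigma M) M l hl h1)
      (isPiGrp_piCoreOf (Cfsg.sigma Mstar) Mstar l hl h2))

theorem K_le_sigmaCore : K ≤ Cfsg.sigmaCore Mstar := P.part.ge.trans inf_le_left

theorem K_le : K ≤ Mstar := P.mem.le_K.trans P.mem'.le

theorem kstar_le : Cfsg.sigmaCore M ⊓ centralizer (K : Set G) ≤ Mstar := P.mem'.hall.1

theorem sigmaCore_inf : Cfsg.sigmaCore M ⊓ Mstar = Cfsg.sigmaCore M ⊓ centralizer (K : Set G) := by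
  refine le_antisymm (fun r hr => ⟨hr.1, Subgroup.mem_centralizer_iff.2 fun k hk => ?_⟩)
    (le_inf inf_le_left P.kstar_le)
  have h : r * k * r⁻¹ * k⁻¹ ∈ Cfsg.sigmaCore M ⊓ Cfsg.sigmaCore Mstar := by
    constructor
    · have := (Cfsg.sigmaCore M).mul_mem hr.1 ((Subgroup.mem_normalizer_iff.1
        (le_normalizer_sigmaCore M (P.mem.hall.1 hk)) r⁻¹).1 (inv_mem hr.1))
      simpa [mul_assoc] using this
    · exact (Cfsg.sigmaCore Mstar).mul_mem ((Subgroup.mem_normalizer_iff.1 (le_normalizer_sigmaCore Mstar hr.2) k).1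
        (P.K_le_sigmaCore hk)) ((Cfsg.sigmaCore Mstar).inv_mem (P.K_le_sigmaCore hk))
  rw [P.sigmaCore_inf_sigmaCore, Subgroup.mem_bot, mul_inv_eq_one, mul_inv_eq_iff_eq_mul] at h
  exact h.symm

theorem sigmaCore'_inf : Cfsg.sigmaCore Mstar ⊓ M = K := by
  refine le_antisymm ?_ (le_inf P.K_le_sigmaCore P.mem.hall.1)
  intro r hr
  have hc : r ∈ centralizer ((Cfsg.sigmaCore M ⊓ centralizer (K : Set G) : Subgroup G) : Set G) := by
    refine Subgroup.mem_centralizer_iff.2 fun y hy => ?_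
    have h : y * r * y⁻¹ * r⁻¹ ∈ Cfsg.sigmaCore M ⊓ Cfsg.sigmaCore Mstar := by
      constructor
      · have := (Cfsg.sigmaCore M).mul_mem hy.1 ((Subgroup.mem_normalizer_iff.1
          (le_normalizer_sigmaCore M hr.2) y⁻¹).1 (inv_mem hy.1))
        simpa [mul_assoc] using this
      · exact (Cfsg.sigmaCore Mstar).mul_mem
          ((Subgroup.mem_normalizer_iff.1 (le_normalizer_sigmaCore Mstar (P.kstar_le hy)) r).1
          hr.1) ((Cfsg.sigmaCore Mstar).inv_mem hr.1)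
    rw [P.sigmaCore_inf_sigmaCore, Subgroup.mem_bot, mul_inv_eq_one, mul_inv_eq_iff_eq_mul] at h
    exact h
  exact P.part.le ⟨hr.1, hc⟩

/-- `M ∩ M* = K K*`. -/
theorem inf_eq : M ⊓ Mstar = K ⊔ (Cfsg.sigmaCore M ⊓ centralizer (K : Set G)) := by
  refine le_antisymm (fun g hg => ?_) (le_inf P.mem.le P.mem'.le)
  obtain ⟨E, d⟩ := P.mem.exists_data
  obtain ⟨p, hp, hpd⟩ := Nat.exists_prime_and_dvd (fun e => P.mem.ne_bot (Subgroup.card_eq_one.1 e))
  haveI := Fact.mk hp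
  obtain ⟨z, hz⟩ := exists_prime_orderOf_dvd_card' (G := K) p hpd
  rw [← Subgroup.orderOf_coe] at hz
  rw [← d.inf_normalizer_self (X := zpowers (z : G)) (Subgroup.zpowers_le.2 z.2) (by rw [Nat.card_zpowers, hz])]
  refine ⟨hg.1, Coprime.mem_normalizer_of_conj_smul_eq
    (Subgroup.eq_of_le_of_card_ge ?_ (le_of_eq (Coprime.card_conj_smul _ _).symm))⟩
  rw [← P.sigmaCore'_inf]
  rintro _ ⟨k, hk, rfl⟩
  exact ⟨(Subgroup.mem_normalizer_iff.1 (le_normalizer_sigmaCore Mstar hg.2) k).1 hk.1,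
    M.mul_mem (M.mul_mem hg.1 hk.2) (M.inv_mem hg.1)⟩

/-- `K*` is a Hall `σ(M)`-subgroup of `M*`. -/
theorem kstar_hall : IsPiHallOf (Cfsg.sigma M) (Cfsg.sigmaCore M ⊓ centralizer (K : Set G)) Mstar := by
  refine ⟨P.kstar_le, P.mem.part_primes, fun l hl hls hd => ?_⟩
  haveI := Fact.mk hl
  have hlk : l ∉ Cfsg.kappa Mstar := fun h => P.mem'.hall.2.2 l hl h hd
  obtain ⟨E', d'⟩ := P.mem'.exists_data
  obtain ⟨U, hUab, hUhall, hDn, -, hfix⟩ := d'.exists_U
  haveI := hUab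
  have hlM : l ∣ Nat.card Mstar := by
    have h := Subgroup.relIndex_mul_relIndex ⊥ (Cfsg.sigmaCore M ⊓ centralizer (K : Set G)) Mstar bot_le P.kstar_le
    rw [Subgroup.relIndex_bot_left, Subgroup.relIndex_bot_left] at h
    exact hd.trans (Dvd.intro_left _ h)
  have hlU : l ∣ Nat.card U := by
    have h := Subgroup.relIndex_mul_relIndex ⊥ U Mstar bot_le hUhall.1
    rw [Subgroup.relIndex_bot_left, Subgroup.relIndex_bot_left] at h
    exact (hl.dvd_mul.1 (h.symm ▸ hlM)).resolve_right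
      (hUhall.2.2 l hl ⟨hl, hlk, P.not_mem_sigma hls⟩)
  let R : Subgroup G :=
    { carrier := {u | u ∈ U ∧ u ^ l = 1}
      one_mem' := ⟨one_mem _, one_pow _⟩
      mul_mem' := fun {a b} ha hb => ⟨mul_mem ha.1 hb.1, by
        rw [(show Commute a b from PGroup.mul_comm_of_isMulCommutative hUab ha.1 hb.1).mul_pow, ha.2, hb.2,
          one_mul]⟩
      inv_mem' := fun {a} ha => ⟨inv_mem ha.1, by rw [inv_pow, ha.2, inv_one]⟩ }
  obtain ⟨w, hw⟩ := exists_prime_orderOf_dvd_card' (G := U) l hlU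
  rw [← Subgroup.orderOf_coe] at hw
  have hwR : (w : G) ∈ R := ⟨w.2, orderOf_dvd_iff_pow_eq_one.1 (dvd_of_eq hw)⟩
  have hRn : Cfsg.sigmaCore M ⊓ centralizer (K : Set G) ≤ normalizer (R : Set G) := by
    refine fun y hy => Coprime.mem_normalizer_of_conj_smul_eq
      (Subgroup.eq_of_le_of_card_ge (fun v hv => ?_) (le_of_eq (Coprime.card_conj_smul _ _).symm))
    rw [Coprime.mem_conj_smul_iff] at hv
    refine ⟨?_, ?_⟩
    · have h := (Subgroup.mem_normalizer_iff.1 (hDn hy) _).1 hv.1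
      simpa [mul_assoc] using h
    · have h := hv.2
      rw [show y⁻¹ * v * y = y⁻¹ * v * y⁻¹⁻¹ by rw [inv_inv], conj_pow, mul_inv_eq_one, mul_eq_left] at h
      exact h
  have hRl : ∀ q : ℕ, q.Prime → q ∣ Nat.card R → q = l := fun q hq hqd => by
    haveI := Fact.mk hq
    obtain ⟨v, hv⟩ := exists_prime_orderOf_dvd_card' (G := R) q hqd
    exact (Nat.prime_dvd_prime_iff_eq hq hl).1 (hv ▸ orderOf_dvd_of_pow_eq_one (Subtype.ext v.2.2))
  have hdis : (Cfsg.sigmaCore M ⊓ centralizer (K : Set G)) ⊓ R = ⊥ :=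
    Coprime.disjoint_of_coprime_card (Nat.coprime_of_dvd fun q hq h1 h2 => hlk (by
      rw [← hRl q hq h2]; exact P.mem'.hall.2.1 q hq h1))
  have hY : ∀ q : ℕ, q.Prime → q ∣ Nat.card ↥((Cfsg.sigmaCore M ⊓ centralizer (K : Set G)) ⊔ R) →
      q ∈ Cfsg.sigma M := fun q hq hqd => by
    rw [Coprime.card_sup_of_le_normalizer hRn hdis] at hqd
    rcases hq.dvd_mul.1 hqd with h | h
    · exact P.mem.part_primes q hq h
    · rw [hRl q hq h]; exact hls
  obtain ⟨E, d⟩ := P.mem.exists_data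
  have hwσ := d.le_sigmaCore_of_meets hY (fun e => P.mem.part_ne_bot (by
    rwa [inf_eq_right.2 le_sup_left] at e)) (Subgroup.mem_sup_right hwR)
  have hwD : (w : G) ∈ Cfsg.sigmaCore M ⊓ centralizer (K : Set G) :=
    P.sigmaCore_inf.le ⟨hwσ, hUhall.1 w.2⟩
  have hw1 : (w : G) ∈ (Cfsg.sigmaCore M ⊓ centralizer (K : Set G)) ⊓ R := ⟨hwD, hwR⟩
  rw [hdis, Subgroup.mem_bot] at hw1
  exact hl.ne_one (hw.symm.trans (by rw [hw1, orderOf_one]))

theorem centralizer_product {x y : G} (hx : x ∈ K) (hx1 : x ≠ 1)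
    (hy : y ∈ Cfsg.sigmaCore M ⊓ centralizer (K : Set G)) (hy1 : y ≠ 1) :
    M ⊓ centralizer ({x} : Set G) = K ⊔ (Cfsg.sigmaCore M ⊓ centralizer (K : Set G)) ∧
      Mstar ⊓ centralizer ({y} : Set G) = K ⊔ (Cfsg.sigmaCore M ⊓ centralizer (K : Set G)) ∧
      centralizer ({x * y} : Set G) = K ⊔ (Cfsg.sigmaCore M ⊓ centralizer (K : Set G)) := by
  have h1 := (kappa_centralizer P.mem.minSimple P.mem.h13 P.mem.coatom P.mem.hall).2 P.mem.ne_bot x hx hx1
  refine ⟨h1, ?_, le_antisymm ?_ fun g hg => ?_⟩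
  · rw [(kappa_centralizer P.mem.minSimple P.mem.h13 P.mem'.coatom P.mem'.hall).2 P.mem'.ne_bot y hy hy1,
      P.part, sup_comm]
  · rw [← h1]
    have hxy : Commute x y := Subgroup.mem_centralizer_iff.1 hy.2 x hx
    have hcop : (orderOf x).Coprime (orderOf y) := P.mem.coprime.coprime_dvd_left
      (Subgroup.orderOf_dvd_natCard _ hx) |>.coprime_dvd_right (Subgroup.orderOf_dvd_natCard _ hy)
    have key : ∀ {v : G}, v ∈ zpowers (x * y) → centralizer ({x * y} : Set G) ≤ centralizer ({v} : Set G) :=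
      fun {v} hv g hg => by
        obtain ⟨i, rfl⟩ := Subgroup.mem_zpowers_iff.1 hv
        exact Subgroup.mem_centralizer_singleton_iff.2
          ((show Commute g (x * y) from Subgroup.mem_centralizer_singleton_iff.1 hg).zpow_right i)
    refine le_inf ?_ (key (mem_zpowers_mul_of_coprime hxy hcop))
    obtain ⟨l, hl, hld⟩ := Nat.exists_prime_and_dvd (fun e => hy1 (orderOf_eq_one_iff.1 e))
    haveI := Fact.mk hl
    obtain ⟨Y, hYy, hY⟩ := exists_card_le_zpowers hld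
    refine le_trans ?_ (P.mem.normalizer_le (hYy.trans (Subgroup.zpowers_le.2 hy)) hY).1
    refine (key (hxy.eq ▸ mem_zpowers_mul_of_coprime hxy.symm hcop.symm)).trans ?_
    rw [← Subgroup.centralizer_closure, ← Subgroup.zpowers_eq_closure]
    exact Subgroup.centralizer_le hYy
  · exact Subgroup.centralizer_le (Set.singleton_subset_iff.2 (Subgroup.mul_mem_sup hx hy))
      (mem_centralizer_of_isCyclic P.mem.cyclic hg)

/-- The set `Ẑ` is the set of elements of `Z` outside the `σ`-cores of the members. -/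
theorem memberSet_eq :
    memberSet (K ⊔ (Cfsg.sigmaCore M ⊓ centralizer (K : Set G))) =
      (↑(K ⊔ (Cfsg.sigmaCore M ⊓ centralizer (K : Set G))) : Set G) \
        ((K : Set G) ∪ ↑(Cfsg.sigmaCore M ⊓ centralizer (K : Set G))) := by
  ext z
  constructor
  · rintro ⟨hz, h⟩
    refine ⟨hz, ?_⟩
    rintro (hk | hy)
    · exact h Mstar _ P.mem' (P.K_le_sigmaCore hk)
    · exact h M K P.mem hy.1
  · rintro ⟨hz, h⟩
    refine ⟨hz, fun L K₀ hL hzL => h ?_⟩
    rcases P.only L K₀ hL with rfl | rfl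
    · exact Or.inr (P.mem.part_eq.ge ⟨hzL, hz⟩)
    · exact Or.inl (P.part.le (P.mem'.part_eq.ge ⟨hzL, hz⟩))

theorem not_mem_conj {g : G} (hg : g ∉ M) {z : G}
    (hz : z ∈ memberSet (K ⊔ (Cfsg.sigmaCore M ⊓ centralizer (K : Set G)))) :
    z ∉ M.map (MulAut.conj g).toMonoidHom := fun hzg => by
  obtain ⟨k, hk, y, hy, rfl⟩ := (Coprime.mem_sup_iff_of_le_normalizer
    ((Subgroup.le_centralizer_iff.1 P.mem.part_le_centralizer).trans (Subgroup.centralizer_le_normalizer _))).1 hz.1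
  obtain ⟨E, d⟩ := P.mem.exists_data
  have hky : Commute k y := Subgroup.mem_centralizer_iff.1 hy.2 k hk
  have hy' : y ∈ zpowers (k * y) := hky.eq ▸ mem_zpowers_mul_of_coprime hky.symm
    ((P.mem.coprime.coprime_dvd_left (Subgroup.orderOf_dvd_natCard _ hk)).coprime_dvd_right
      (Subgroup.orderOf_dvd_natCard _ hy)).symm
  have h : y ∈ (Cfsg.sigmaCore M ⊓ centralizer (K : Set G)) ⊓ M.map (MulAut.conj g).toMonoidHom :=
    ⟨hy, Subgroup.zpowers_le.2 hzg hy'⟩
  rw [d.inf_conj_eq_bot hg, Subgroup.mem_bot] at h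
  rw [h, mul_one] at hz
  exact hz.2 Mstar _ P.mem' (P.K_le_sigmaCore hk)

theorem ncard_conj :
    Set.ncard {a : G | ∃ g : G, ∃ z ∈ memberSet (K ⊔ (Cfsg.sigmaCore M ⊓ centralizer (K : Set G))),
      a = g * z * g⁻¹} =
      (K ⊔ (Cfsg.sigmaCore M ⊓ centralizer (K : Set G))).index *
        Set.ncard (memberSet (K ⊔ (Cfsg.sigmaCore M ⊓ centralizer (K : Set G)))) := by
  set Z := K ⊔ (Cfsg.sigmaCore M ⊓ centralizer (K : Set G))
  let f : (G ⧸ Z) × memberSet Z → G := fun w => w.1.out * w.2.1 * w.1.out⁻¹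
  have hf : Function.Injective f := by
    rintro ⟨q, z⟩ ⟨q', z'⟩ e
    have e' : q.out * z.1 * q.out⁻¹ = q'.out * z'.1 * q'.out⁻¹ := e
    have h : (q'.out⁻¹ * q.out) * z.1 * (q'.out⁻¹ * q.out)⁻¹ = z'.1 := by
      calc (q'.out⁻¹ * q.out) * z.1 * (q'.out⁻¹ * q.out)⁻¹ = q'.out⁻¹ * (q.out * z.1 * q.out⁻¹) * q'.out := by group
        _ = z'.1 := by rw [e']; group
    obtain ⟨ha, hz⟩ := P.mem.eq_of_conj z.2 z'.2.1 h
    have hq : q' = q := by
      rw [← QuotientGroup.out_eq' q, ← QuotientGroup.out_eq' q']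
      exact QuotientGroup.eq.2 ha
    exact Prod.ext hq.symm (Subtype.ext hz)
  have hr : Set.range f = {a : G | ∃ g : G, ∃ z ∈ memberSet Z, a = g * z * g⁻¹} := by
    ext a
    constructor
    · rintro ⟨⟨q, z⟩, rfl⟩
      exact ⟨q.out, z.1, z.2, rfl⟩
    · rintro ⟨g, z, hz, rfl⟩
      obtain ⟨h, hh⟩ := QuotientGroup.mk_out_eq_mul Z g
      refine ⟨((g : G ⧸ Z), ⟨z, hz⟩), ?_⟩
      show (g : G ⧸ Z).out * z * (g : G ⧸ Z).out⁻¹ = g * z * g⁻¹
      have hc : (h : G) * z = z * h := congrArg Subtype.val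
        ((@IsCyclic.commGroup Z _ P.mem.cyclic).mul_comm h ⟨z, hz.1⟩)
      rw [hh, mul_inv_rev, mul_assoc g, hc, mul_assoc g, ← mul_assoc (z * (h : G)), mul_inv_cancel_right,
        mul_assoc g]
  rw [← hr, ← Nat.card_coe_set_eq, Nat.card_range_of_injective hf, Nat.card_prod, Nat.card_coe_set_eq]
  rfl

theorem ncard_memberSet :
    Set.ncard (memberSet (K ⊔ (Cfsg.sigmaCore M ⊓ centralizer (K : Set G)))) +
      Nat.card K + Nat.card ↥(Cfsg.sigmaCore M ⊓ centralizer (K : Set G)) =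
      Nat.card K * Nat.card ↥(Cfsg.sigmaCore M ⊓ centralizer (K : Set G)) + 1 := by
  rw [P.memberSet_eq]
  set D := Cfsg.sigmaCore M ⊓ centralizer (K : Set G)
  have hsub : ((K : Set G) ∪ ↑D) ⊆ (↑(K ⊔ D) : Set G) :=
    Set.union_subset (fun _ h => Subgroup.mem_sup_left h) (fun _ h => Subgroup.mem_sup_right h)
  have hint : (K : Set G) ∩ ↑D = {1} := by
    rw [← Subgroup.coe_inf, Coprime.disjoint_of_coprime_card P.mem.coprime, Subgroup.coe_bot]
  have h1 := Set.ncard_union_add_ncard_inter (K : Set G) (↑D : Set G) (Set.toFinite _) (Set.toFinite _)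
  rw [hint, Set.ncard_singleton] at h1
  have h2 := Set.ncard_sdiff_add_ncard_of_subset hsub (Set.toFinite _)
  have h3 : (↑(K ⊔ D) : Set G).ncard = Nat.card K * Nat.card D := by
    rw [← Nat.card_coe_set_eq, ← P.mem.card_eq]
    rfl
  have h4 : (K : Set G).ncard = Nat.card K := (Nat.card_coe_set_eq _).symm
  have h5 : (↑D : Set G).ncard = Nat.card D := (Nat.card_coe_set_eq _).symm
  omega

end DualPair

/-- The conclusion of the frozen statement S1434 (BG 14.7). -/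
theorem dualPair_facts (hG : IsMinSimpleOddOrder G) (h13 : BG13 G) (hM : IsCoatom M) {U : Subgroup G}
    (hKU : IsSigmaDecomposition M K U) (hK1 : K ≠ ⊥) (hMstar : IsCoatom Mstar)
    (hKst : K = sigmaCore Mstar ⊓ centralizer ((sigmaCore M ⊓ centralizer (K : Set G) : Subgroup G) : Set G))
    (hKstH : IsPiHallOf (kappa Mstar) (sigmaCore M ⊓ centralizer (K : Set G)) Mstar) :
    kappa M = tau1 M ∧ IsPiHallOf (sigma M) (sigmaCore M ⊓ centralizer (K : Set G)) Mstar ∧
      (∀ x ∈ K, x ≠ 1 → ∀ y ∈ (sigmaCore M ⊓ centralizer (K : Set G)), y ≠ 1 →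
        M ⊓ centralizer ({x} : Set G) = K ⊔ (sigmaCore M ⊓ centralizer (K : Set G)) ∧
        Mstar ⊓ centralizer ({y} : Set G) = K ⊔ (sigmaCore M ⊓ centralizer (K : Set G)) ∧
        centralizer ({x * y} : Set G) = K ⊔ (sigmaCore M ⊓ centralizer (K : Set G))) ∧
      (∀ g : G, g ∉ M → ∀ z ∈ ((↑(K ⊔ (sigmaCore M ⊓ centralizer (K : Set G))) : Set G) \
          ((K : Set G) ∪ ↑(sigmaCore M ⊓ centralizer (K : Set G)))), z ∉ M.map (MulAut.conj g).toMonoidHom) ∧
      Nat.card K * Nat.card ↥(sigmaCore M ⊓ centralizer (K : Set G)) *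
          Set.ncard {a : G | ∃ g : G, ∃ z ∈ ((↑(K ⊔ (sigmaCore M ⊓ centralizer (K : Set G))) : Set G) \
            ((K : Set G) ∪ ↑(sigmaCore M ⊓ centralizer (K : Set G)))), a = g * z * g⁻¹} =
        (Nat.card K * Nat.card ↥(sigmaCore M ⊓ centralizer (K : Set G)) - Nat.card K -
          Nat.card ↥(sigmaCore M ⊓ centralizer (K : Set G)) + 1) * Nat.card G ∧
      Nat.card G < 2 * Set.ncard {a : G | ∃ g : G, ∃ z ∈ ((↑(K ⊔ (sigmaCore M ⊓ centralizer (K : Set G))) : Set G) \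
          ((K : Set G) ∪ ↑(sigmaCore M ⊓ centralizer (K : Set G)))), a = g * z * g⁻¹} := by
  have P := dualPair_of_conditions hG h13 hM hKU.hall hK1 hMstar hKst hKstH
  set D := sigmaCore M ⊓ centralizer (K : Set G) with hD
  obtain ⟨E, d⟩ := P.mem.exists_data
  refine ⟨d.kappa_eq, P.kstar_hall, fun x hx hx1 y hy hy1 => P.centralizer_product hx hx1 hy hy1, ?_⟩
  rw [← P.memberSet_eq]
  refine ⟨fun g hg z hz => P.not_mem_conj hg hz, ?_⟩
  rw [P.ncard_conj]
  have hcard : Nat.card G = (K ⊔ D).index * (Nat.card K * Nat.card D) := by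
    rw [← P.mem.card_eq, (K ⊔ D).index_mul_card]
  have hT := P.ncard_memberSet
  rw [← hD] at hT
  have hk := dvd_order_not_two hG hK1
  have hd : 3 ≤ Nat.card D := dvd_order_not_two hG P.mem.part_ne_bot
  set k := Nat.card K
  set n := Nat.card D
  set T := Set.ncard (memberSet (K ⊔ D))
  set I := (K ⊔ D).index
  have hT' : T = k * n - k - n + 1 := by
    have hkn : k + n ≤ k * n := by nlinarith
    omega
  refine ⟨?_, ?_⟩
  · rw [hcard, ← hT']
    ring
  · have hne : k ≠ n := by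
      intro e
      have hcop : (Nat.card K).Coprime (Nat.card D) := P.mem.coprime
      rw [show Nat.card D = n from rfl, show Nat.card K = k from rfl, e, Nat.coprime_self] at hcop
      omega
    have hI : 0 < I := Nat.pos_of_ne_zero Subgroup.index_ne_zero_of_finite
    have hkey : k * n < 2 * T := by
      have hko : Odd k := odd_subgroup hG.1 K
      have hno : Odd n := odd_subgroup hG.1 D
      obtain ⟨a, ha⟩ := hko
      obtain ⟨b, hb⟩ := hno
      rcases Nat.lt_or_gt_of_ne hne with h | h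
      · have : k + 2 ≤ n := by omega
        nlinarith
      · have : n + 2 ≤ k := by omega
        nlinarith
    rw [hcard]
    calc I * (k * n) < I * (2 * T) := Nat.mul_lt_mul_of_pos_left hkey hI
      _ = 2 * (I * T) := by ring

end Cfsg.Agent.OddOrder
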