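import Cfsg.Agent.Lib.OddOrder.TauTwo
import Cfsg.Agent.Lib.Components.Fitting
import Cfsg.Agent.S1409
import Cfsg.Agent.S1417

/-!
# `F(M) = F(M_σ) × Y`, with `Y = O_{σ(M)'}(F(M))` a cyclic `τ₂`-group centralizing `M_σ`

* `le_fittingOf`: normal nilpotent subgroups lie in `fittingOf`;
* `not_pRankLE_one_of_normal`: a normal subgroup of `M` of prime order `p ∉ σ(M)` forces `p`-rank two;
* `sigmaComplCore_*`: the facts about `Y`.
-/

set_option autoImplicit false
set_option linter.style.haveILetI false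
set_option linter.unusedSectionVars false

namespace Cfsg.Agent.OddOrder

open Cfsg
open Subgroup (centralizer normalizer zpowers)

universe u
variable {G : Type u} [Group G] [Finite G]

theorem le_fittingOf {H N : Subgroup G} (hle : N ≤ H) (hn : H ≤ normalizer (N : Set G))
    (hN : Group.IsNilpotent N) : N ≤ fittingOf H := by
  haveI := hN
  haveI : Group.IsNilpotent (N.subgroupOf H) :=
    Group.nilpotent_of_mulEquiv (Subgroup.subgroupOfEquivOfLe hle).symm
  exact (Subgroup.map_subgroupOf_eq_of_le hle).ge.trans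
    (Subgroup.map_mono (Components.le_fittingSubgroup ((Subgroup.normal_subgroupOf_iff_le_normalizer hle).2 hn)))

/-- `Y = O_{σ(M)'}(F(M))`. -/
def sigmaComplCore (M : Subgroup G) : Subgroup G :=
  piCoreOf {q | q.Prime ∧ q ∉ sigma M} (fittingOf M)

theorem sigmaComplCore_le_fittingOf (M : Subgroup G) : sigmaComplCore M ≤ fittingOf M := piCoreOf_le _ _

theorem le_normalizer_sigmaComplCore (M : Subgroup G) : M ≤ normalizer (sigmaComplCore M : Set G) :=
  (le_normalizer_fittingOf M).trans (normalizer_le_normalizer_piCoreOf _ _)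

theorem not_mem_sigma_of_dvd_sigmaComplCore {M : Subgroup G} {p : ℕ} (hp : p.Prime)
    (hd : p ∣ Nat.card (sigmaComplCore M)) : p ∉ sigma M := (isPiGrp_piCoreOf _ _ p hp hd).2

theorem sigmaComplCore_inf_sigmaCore (M : Subgroup G) : sigmaComplCore M ⊓ sigmaCore M = ⊥ :=
  Coprime.disjoint_of_coprime_card (Nat.coprime_of_dvd fun _ hp h1 h2 =>
    not_mem_sigma_of_dvd_sigmaComplCore hp h1 (isPiGrp_piCoreOf (sigma M) M _ hp h2))

theorem sigmaComplCore_le_centralizer (M : Subgroup G) :
    sigmaComplCore M ≤ centralizer (sigmaCore M : Set G) :=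
  le_centralizer_of_normalize (sigmaComplCore_inf_sigmaCore M)
    (((sigmaComplCore_le_fittingOf M).trans (fittingOf_le M)).trans (le_normalizer_sigmaCore M))
    ((sigmaCore_le M).trans (le_normalizer_sigmaComplCore M))

variable {p : ℕ} [Fact p.Prime]

/-- A normal subgroup of `M` of order `p ∉ σ(M)` forces `M` to have `p`-rank two. -/
theorem not_pRankLE_one_of_normal (hG : IsMinSimpleOddOrder G) {M : Subgroup G} (hM : IsCoatom M)
    (hp : p ∉ sigma M) {X : Subgroup G} (hX : Nat.card X = p) (hXM : X ≤ M)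
    (hn : M ≤ normalizer (X : Set G)) : ¬ PRankLE p 1 M :=
  (S1409.result hG M hM p hp X hX (normalizer_eq_of_normal hG hM hXM hn fun e => by
    rw [e, Subgroup.card_bot] at hX
    exact (Fact.out : p.Prime).ne_one hX.symm).le).1.2

/-- The primes of `Y` are in `τ₂(M)`. -/
theorem mem_tau2_of_dvd_sigmaComplCore (hG : IsMinSimpleOddOrder G) {M : Subgroup G} (hM : IsCoatom M)
    (hd : p ∣ Nat.card (sigmaComplCore M)) : p ∈ tau2 M := by
  have hp := not_mem_sigma_of_dvd_sigmaComplCore (Fact.out : p.Prime) hd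
  refine ⟨Fact.out, hp, ?_, fun hr => ?_⟩
  · by_contra h
    exact hp (alpha_subset_sigma hG hM ⟨Fact.out, h⟩)
  obtain ⟨z, hz⟩ := exists_prime_orderOf_dvd_card' p hd
  rw [← Subgroup.orderOf_coe] at hz
  have hzp : (z : G) ∈ pOf p M := mem_pOf (sigmaComplCore_le_fittingOf M z.2) (k := 1)
    (by rw [pow_one]; exact hz ▸ pow_orderOf_eq_one _)
  have h2 : p ≠ 2 := ne_two_of_odd_of_dvd hG.1 (hd.trans (sigmaComplCore M).card_subgroup_dvd_card)
  haveI hc : IsCyclic (pOf p M) :=
    IsolatedP.isCyclic_of_pRankLE_one h2 (isPGroup_pOf M) (pRankLE_of_le (pOf_le M) hr)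
  refine not_pRankLE_one_of_normal hG hM hp (X := zpowers (z : G)) (by rw [Nat.card_zpowers, hz])
    (Subgroup.zpowers_le.2 (pOf_le M hzp)) (fun m hm => ?_) hr
  refine Subgroup.mem_normalizer_iff_map_conj_eq.2 ?_
  have hle : ∀ w : G, w ∈ pOf p M → zpowers w ≤ pOf p M := fun w hw => Subgroup.zpowers_le.2 hw
  have hw : m * (z : G) * m⁻¹ ∈ pOf p M :=
    (Subgroup.mem_normalizer_iff.1 (le_normalizer_pOf M hm) _).1 hzp
  have hmap : (zpowers (z : G)).map (MulAut.conj m).toMonoidHom = zpowers (m * (z : G) * m⁻¹) :=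
    MonoidHom.map_zpowers _ _
  refine hmap.trans ?_
  refine eq_of_card_eq_cyclic hc (hle _ hw) (hle _ hzp) ?_
  rw [Nat.card_zpowers, Nat.card_zpowers, show m * (z : G) * m⁻¹ = MulAut.conj m (z : G) from rfl,
    MulEquiv.orderOf_eq]

omit [Fact p.Prime] in
/-- `Y` is cyclic. -/
theorem isCyclic_sigmaComplCore (hG : IsMinSimpleOddOrder G) {M : Subgroup G} (hM : IsCoatom M) :
    IsCyclic (sigmaComplCore M) := by
  haveI : Group.IsNilpotent (sigmaComplCore M) :=
    haveI := isNilpotent_fittingOf M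
    Group.nilpotent_of_mulEquiv (Subgroup.subgroupOfEquivOfLe (sigmaComplCore_le_fittingOf M))
  haveI : IsZGroup (sigmaComplCore M) := by
    rw [isZGroup_iff]
    intro q hq S
    haveI := Fact.mk hq
    by_contra hnc
    set T := (S : Subgroup (sigmaComplCore M)).map (sigmaComplCore M).subtype
    have hd : q ∣ Nat.card (sigmaComplCore M) := by
      by_contra hd
      refine hnc ?_
      have : (S : Subgroup (sigmaComplCore M)) = ⊥ := PCore.eq_bot_of_isPGroup_of_coprime S.2
        ((hq.coprime_iff_not_dvd.2 fun h => hd (h.trans (S : Subgroup (sigmaComplCore M)).card_subgroup_dvd_card)).symm)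
      show IsCyclic (S : Subgroup (sigmaComplCore M))
      rw [this]
      infer_instance
    have h2 : q ≠ 2 := ne_two_of_odd_of_dvd hG.1 (hd.trans (sigmaComplCore M).card_subgroup_dvd_card)
    have hr : ¬ PRankLE q 1 (sigmaComplCore M) := fun h => hnc (IsolatedP.isCyclic_of_pRankLE_one h2 S.2
      (pRankLE_of_injective (f := (S : Subgroup (sigmaComplCore M)).subtype)
        (S : Subgroup (sigmaComplCore M)).subtype_injective h))
    obtain ⟨A, hAS, hAe, hAc⟩ := exists_square_le hr S
    have hAY : A ≤ sigmaComplCore M := hAS.trans (Subgroup.map_subtype_le _)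
    have hAM : A ≤ M := hAY.trans ((sigmaComplCore_le_fittingOf M).trans (fittingOf_le M))
    obtain ⟨-, -, -, hC, -⟩ := S1417.result hG M hM q (mem_tau2_of_dvd_sigmaComplCore hG hM hd) A
      ⟨hAM, hAe, hAc⟩
    refine sigmaCore_ne_bot hG hM (le_bot_iff.1 (hC ▸ le_inf le_rfl ?_))
    exact Subgroup.le_centralizer_iff.1 (hAY.trans (sigmaComplCore_le_centralizer M))
  infer_instance

omit [Fact p.Prime] in
theorem fittingOf_sigmaCore_le (M : Subgroup G) : fittingOf (sigmaCore M) ≤ fittingOf M :=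
  le_fittingOf ((fittingOf_le _).trans (sigmaCore_le M))
    ((le_normalizer_sigmaCore M).trans
      (Components.normalizer_le_normalizer_map_of_characteristic _ (fittingSubgroup (sigmaCore M)))) (isNilpotent_fittingOf _)

omit [Fact p.Prime] in
/-- `F(M) = F(M_σ) Y`. -/
theorem fittingOf_eq_sup (M : Subgroup G) :
    fittingOf M = fittingOf (sigmaCore M) ⊔ sigmaComplCore M := by
  refine le_antisymm (fittingOf_le_of_forall fun r hr => ?_)
    (sup_le (fittingOf_sigmaCore_le M) (sigmaComplCore_le_fittingOf M))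
  haveI := Fact.mk hr
  have hπ : ∀ q : ℕ, q.Prime → q ∣ Nat.card (pOf r M) → q = r := fun q hq hd => by
    obtain ⟨k, hk⟩ := (isPGroup_pOf (r := r) M).exists_card_eq
    exact (Nat.prime_dvd_prime_iff_eq hq hr).1 (hq.dvd_of_dvd_pow (hk ▸ hd))
  by_cases hs : r ∈ sigma M
  · have hle : pOf r M ≤ sigmaCore M :=
      le_piCoreOf (pOf_le M) (le_normalizer_pOf M) fun q hq hd => hπ q hq hd ▸ hs
    exact le_sup_of_le_left (le_fittingOf hle ((sigmaCore_le M).trans (le_normalizer_pOf M))
      (isPGroup_pOf M).isNilpotent)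
  · exact le_sup_of_le_right (le_piCoreOf (pOf_le_fittingOf M hr)
      ((fittingOf_le M).trans (le_normalizer_pOf M)) fun q hq hd => ⟨hq, hπ q hq hd ▸ hs⟩)

end Cfsg.Agent.OddOrder
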