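import Cfsg.Agent.Lib.OddOrder.CoherenceCentral
import Cfsg.Agent.Lib.CharInt.TI
import Cfsg.Agent.Lib.Char.RealChar
import Cfsg.Agent.Lib.Char.FixedIrr
import Cfsg.Prelude.Def_OddOrderLocal

set_option autoImplicit false
set_option linter.unusedSectionVars false

/-!
Characters of a group with a normal subgroup containing the centralisers of its non-identity
elements, and the isometry given by induction from the normaliser of a TI subgroup.
-/

namespace Cfsg.Agent.OddOrder

open scoped ComplexConjugate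
open Finset

universe u

section Real

variable {X : Type u} [Group X] [Fintype X]

/-- In a group of odd order only the trivial irreducible character is real. -/
theorem eq_trivial_of_real_of_odd (hodd : Odd (Nat.card X)) (χ : IrrCharacter X)
    (h : ∀ g, (χ.1 g).im = 0) : χ = Char.trivialChar X := by
  by_contra hne
  apply (Char.fsIndicator_ne_zero_iff χ).2 h
  rw [Char.fsIndicator_eq_sum]
  have hbij : Function.Bijective fun g : X => g * g := by
    have hc : (Nat.card X).Coprime 2 := Nat.coprime_two_right.2 hodd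
    have : (fun g : X => g * g) = ⇑(powCoprime hc) := funext fun g => (pow_two g).symm
    rw [this]
    exact (powCoprime hc).bijective
  rw [Fintype.sum_bijective _ hbij (fun g => χ.1 (g * g)) χ.1 fun g => rfl, Char.sum_apply_eq_zero hne,
    mul_zero]

theorem conjFun_ne_of_odd (hodd : Odd (Nat.card X)) {χ : X → ℂ} (hχ : IsIrrCharacter X χ)
    (hne : ∃ x, χ x ≠ χ 1) : conjFun χ ≠ χ := by
  intro h
  have := eq_trivial_of_real_of_odd hodd ⟨χ, hχ⟩ fun g => Complex.conj_eq_iff_im.1 (congrFun h g)
  obtain ⟨x, hx⟩ := hne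
  exact hx (by rw [show χ = fun _ => (1 : ℂ) from congrArg Subtype.val this])

end Real

section Frobenius

variable {L : Type u} [Group L] [Fintype L] (K : Subgroup L) [K.Normal]

/-- The centralisers of the non-identity elements of `K` lie in `K`. -/
abbrev CentIn : Prop := ∀ k ∈ K, k ≠ 1 → Subgroup.centralizer ({k} : Set L) ≤ K

variable {K}

theorem stab_le_of_cent (hC : CentIn K) [Fintype K] (θ : IrrCharacter K) (hθ : θ ≠ Char.trivialChar K)
    {g : L} (hg : Char.conjFun K θ.1 g = θ.1) : g ∈ K := by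
  obtain ⟨a, ha, hconj⟩ := (Char.exists_fixed_irr_iff (MulAut.conjNormal g : MulAut K)).1 ⟨θ, hθ, hg⟩
  obtain ⟨m, hm⟩ := isConj_iff.1 hconj
  have hm' : (m : L) * a * (m : L)⁻¹ = g * a * g⁻¹ := by
    simpa using congrArg Subtype.val hm
  have hmem : (m : L)⁻¹ * g ∈ K := by
    refine hC a a.2 (fun e => ha (Subtype.ext e)) ?_
    rw [Subgroup.mem_centralizer_singleton_iff]
    calc (m : L)⁻¹ * g * a = (m : L)⁻¹ * (g * a * g⁻¹) * g := by group
      _ = (m : L)⁻¹ * ((m : L) * a * (m : L)⁻¹) * g := by rw [hm']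
      _ = _ := by group
  simpa using mul_mem m.2 hmem

theorem isIrrCharacter_indFun_of_cent (hC : CentIn K) {θ : K → ℂ} (hθ : IsIrrCharacter K θ)
    (hne : θ ≠ fun _ => 1) : IsIrrCharacter L (indFun K θ) := by
  haveI : Fintype K := Fintype.ofFinite _
  exact Char.isIrrCharacter_indFun_inertia K K le_rfl ⟨θ, hθ⟩
    (fun g hg => stab_le_of_cent hC ⟨θ, hθ⟩ (fun e => hne (congrArg Subtype.val e)) hg)
    (ψ := ⟨θ, hθ⟩) one_ne_zero (fun n => by simp)

theorem inducedNonTriv_irr (hC : CentIn K) (Z : Subgroup L) :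
    ∀ φ ∈ inducedNonTriv K Z, IsIrrCharacter L φ := by
  rintro φ ⟨θ, hθ, ⟨z, -, hne⟩, rfl⟩
  exact isIrrCharacter_indFun_of_cent hC hθ fun e => hne (by rw [e])

/-- An element of order `2` outside `K` inverts it. -/
theorem comm_of_even_index (hC : CentIn K) (hoddK : Odd (Nat.card K)) (heven : Even K.index) :
    ∀ a b : K, a * b = b * a := by
  classical
  have h2 : 2 ∣ Nat.card L := (even_iff_two_dvd.1 heven).trans (Subgroup.index_dvd_card K)
  haveI := Fact.mk Nat.prime_two
  obtain ⟨t, ht⟩ := exists_prime_orderOf_dvd_card' 2 h2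
  have htK : t ∉ K := fun h => Nat.not_even_iff_odd.2 hoddK
    (even_iff_two_dvd.2 (ht ▸ Subgroup.orderOf_dvd_natCard K h))
  have ht2 : t * t = 1 := by rw [← pow_two, ← ht, pow_orderOf_eq_one]
  have hφ : MonoidHom.FixedPointFree (MulAut.conjNormal t : MulAut K) := by
    intro g hg
    by_contra hne
    refine htK (hC g g.2 (fun e => hne (Subtype.ext e)) (Subgroup.mem_centralizer_singleton_iff.2 ?_))
    have h := congrArg Subtype.val hg
    rw [MulAut.conjNormal_apply] at h
    conv_rhs => rw [← h]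
    group
  exact fun a b => hφ.commute_all_of_involutive (fun g => by
    rw [← MulAut.mul_apply, ← map_mul, ht2, map_one]; rfl) a b

end Frobenius

section TI

variable {G : Type u} [Group G] [Fintype G] (N : Subgroup G) [Fintype N]

/-- Induction from the normaliser of a TI subgroup is an isometry on the degree zero combinations of
a set of characters vanishing outside the subgroup. -/
theorem indFun_isometry_ti (K : Subgroup G) (hTI : IsTISubset (K : Set G))
    (hN : Subgroup.normalizer (K : Set G) ≤ N) (S : Set (N → ℂ))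
    (hchar : ∀ φ ∈ S, IsCharacter N φ) (hvan : ∀ φ ∈ S, ∀ x : N, (x : G) ∉ K → φ x = 0) :
    IsLinearIsometryOn (zspanOn S {1}ᶜ) (fun α => indFun N α) ∧
      ∀ α ∈ zspanOn S {1}ᶜ, indFun N α 1 = 0 := by
  have hspan : ∀ α ∈ Cfsg.zspan S,
      (IsClassFunction N α ∧ ∀ x : N, (x : G) ∉ K → α x = 0) ∧ IsGeneralizedCharacter N α := by
    intro α hα
    induction hα using Submodule.span_induction with
    | mem x hx => exact ⟨⟨Char.IsCharacter.isClassFunction (hchar x hx), hvan x hx⟩,
        Char.IsCharacter.isGeneralized (hchar x hx)⟩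
    | zero => exact ⟨⟨fun _ _ => rfl, fun _ _ => rfl⟩, Char.IsGeneralizedCharacter.zero⟩
    | add a b _ _ ha hb =>
      exact ⟨⟨fun g x => by simp [ha.1.1 g x, hb.1.1 g x], fun x hx => by simp [ha.1.2 x hx, hb.1.2 x hx]⟩,
        Char.IsGeneralizedCharacter.add ha.2 hb.2⟩
    | smul n a _ ha =>
      refine ⟨⟨fun g x => by simp [ha.1.1 g x], fun x hx => by simp [ha.1.2 x hx]⟩, ?_⟩
      have := Char.IsGeneralizedCharacter.intCast_smul ha.2 n
      rwa [Int.cast_smul_eq_zsmul] at this
  set T : Set G := (K : Set G) \ {1}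
  have hT : ∀ g : G, ∀ s ∈ T, g⁻¹ * s * g ∈ T → g ∈ N := by
    intro g s hs hg
    by_contra hgN
    refine hs.2 (hTI g⁻¹ (fun h => hgN (hN (by simpa using inv_mem h))) s hs.1 ?_)
    simpa using hg.1
  have hsupp : ∀ α ∈ zspanOn S {1}ᶜ, ∀ x : N, (x : G) ∉ T → α x = 0 := by
    intro α hα x hx
    by_cases hxK : (x : G) ∈ K
    · have : (x : G) = 1 := by
        by_contra h
        exact hx ⟨hxK, h⟩
      exact hα.2 x (by simp [show x = 1 from Subtype.ext this])
    · exact (hspan α hα.1).1.2 x hxK
  refine ⟨⟨fun α _ β _ => Char.indFun_add N α β, fun α _ n => ?_, fun α hα β hβ => ?_,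
    fun α hα => Char.isGeneralizedCharacter_indFun N (hspan α hα.1).2⟩, fun α hα => ?_⟩
  · simp only [← Int.cast_smul_eq_zsmul ℂ n]
    exact Char.indFun_smul N _ α
  · exact CharInt.classInner_indFun_ti hT (hsupp α hα) (hspan β hβ.1).1.1 (hsupp β hβ)
  · show indFun N α 1 = 0
    rw [Char.indFun_apply_one, hsupp α hα 1 (fun h => h.2 rfl), mul_zero]

end TI

end Cfsg.Agent.OddOrder
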