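import Cfsg.Agent.Lib.OddOrder.Members

/-!
# Bender–Glauberman 14.7, the counting argument: not every member of `Z` is `M_σ K`
-/

set_option autoImplicit false
set_option linter.unusedSectionVars false
set_option linter.style.haveILetI false

namespace Cfsg.Agent.OddOrder

open Cfsg
open Subgroup (centralizer normalizer zpowers)
open scoped Pointwise

universe u
variable {G : Type u} [Group G] [Finite G]

theorem supportR_eq_bot_of_le {N : Subgroup G} {y : G} (h : centralizer ({y} : Set G) ≤ N) :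
    supportR N y = ⊥ := by
  unfold supportR
  rw [dif_neg fun hh => hh.1 h]

/-- BG 14.4 (b): the conjugates of `M` through `x ∈ M_σ#` are the transforms of `M` by `R(x)`. -/
theorem exists_transporter (hG : IsMinSimpleOddOrder G) (h13 : BG13 G) {M C : Subgroup G} (hM : IsCoatom M)
    (hC : IsCoatom C) {y : G} (hy : y ∈ sigmaCore M) (hyC : y ∈ sigmaCore C) (hy1 : y ≠ 1) :
    ∃ r ∈ supportR M y, MulAut.conj r • M = C := by
  obtain ⟨p, hp, hpd⟩ := Nat.exists_prime_and_dvd (fun e => hy1 (orderOf_eq_one_iff.1 e))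
  obtain ⟨g, hg⟩ := h13.partition M C hM hC
    ⟨p, isPiGrp_piCoreOf (sigma M) M p hp (hpd.trans (Subgroup.orderOf_dvd_natCard _ hy)),
      isPiGrp_piCoreOf (sigma C) C p hp (hpd.trans (Subgroup.orderOf_dvd_natCard _ hyC))⟩
  obtain ⟨hcop, R, hRn, hRc, hR⟩ := supporting_transitive hG h13.partition h13.transfer hM hy hy1
  obtain ⟨r, ⟨hrR, hr⟩, -⟩ := hR g (hg ▸ sigmaCore_le C hyC)
  refine ⟨r, ?_, hr.trans hg.symm⟩
  set Cy := centralizer ({y} : Set G)
  by_cases hyM : Cy ≤ M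
  · have h0 : R = ⊥ := le_bot_iff.1 (hRc.2.2.1 ▸ le_inf (le_inf (hRc.2.1.trans hyM) hRc.2.1) le_rfl)
    rw [h0, Subgroup.mem_bot] at hrR
    rw [hrR]
    exact one_mem _
  obtain ⟨N, hN⟩ := exists_supporting hG h13.partition h13.transfer hM hy hy1 hyM
  have hex : ∃! L : Subgroup G, IsCoatom L ∧ Cy ≤ L :=
    ⟨N, ⟨hN.coatom, hN.centralizer_le⟩, fun L hL => hN.unique L hL.1 hL.2⟩
  unfold supportR
  rw [dif_pos ⟨hyM, hex⟩]
  have hc := Classical.choose_spec hex.exists
  rw [hN.unique _ hc.1 hc.2]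
  set R' := sigmaCore N ⊓ Cy with hR'
  suffices r ∈ R' from ⟨sigmaCore_le_fittingHallOf hG hN.coatom hN.nilpotent this.1, this.2⟩
  haveI : (R'.subgroupOf Cy).Normal := (Subgroup.normal_subgroupOf_iff_le_normalizer inf_le_right).2
    (Coprime.le_normalizer_inf_of_le (hN.centralizer_le.trans (le_normalizer_sigmaCore N)) Subgroup.le_normalizer)
  refine Subgroup.mem_subgroupOf.1 (mem_of_coprime_index (x := (⟨r, hRc.2.1 hrR⟩ : Cy)) (N := R'.subgroupOf Cy) ?_)
  have h1 := Subgroup.relIndex_mul_relIndex ⊥ R' Cy bot_le inf_le_right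
  rw [Subgroup.relIndex_bot_left, Subgroup.relIndex_bot_left, ← card_eq_of_isComplIn hN.complCent,
    mul_comm (Nat.card ↥(M ⊓ Cy))] at h1
  have hidx : (R'.subgroupOf Cy).index = Nat.card ↥(M ⊓ Cy) := Nat.eq_of_mul_eq_mul_left Nat.card_pos h1
  have h2 := Subgroup.relIndex_mul_relIndex ⊥ (M ⊓ Cy) Cy bot_le inf_le_right
  rw [Subgroup.relIndex_bot_left, Subgroup.relIndex_bot_left, ← card_eq_of_isComplIn hRc] at h2
  rw [Nat.eq_of_mul_eq_mul_left Nat.card_pos h2] at hcop
  rw [hidx, ← Subgroup.orderOf_coe]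
  exact hcop.symm.coprime_dvd_left (Subgroup.orderOf_dvd_natCard _ hrR)

theorem conj_eq_of_card_prime {Z X : Subgroup G} {q : ℕ} [Fact q.Prime] (hZ : IsCyclic Z) (hXZ : X ≤ Z)
    (hX : Nat.card X = q) {a : G} (ha : MulAut.conj a • X ≤ Z) : a ∈ normalizer (X : Set G) := by
  refine Coprime.mem_normalizer_of_conj_smul_eq
    (Subgroup.eq_of_le_of_card_ge (fun w hw => ?_) (le_of_eq (Coprime.card_conj_smul _ _).symm))
  rcases eq_or_ne w 1 with rfl | hw1
  · exact one_mem _
  obtain ⟨x, hx, hx1⟩ := (Subgroup.bot_or_exists_ne_one X).resolve_left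
    (fun e => (Fact.out : q.Prime).ne_one (by rw [← hX, e, Subgroup.card_bot]))
  have hxq : x ^ q = 1 := orderOf_dvd_iff_pow_eq_one.1 (hX ▸ Subgroup.orderOf_dvd_natCard X hx)
  have hwq : w ^ q = 1 := by
    have h := Subgroup.orderOf_dvd_natCard _ hw
    rw [Coprime.card_conj_smul, hX] at h
    exact orderOf_dvd_iff_pow_eq_one.1 h
  have e := zpowers_eq_of_isCyclic hZ (hXZ hx) (ha hw) hxq hwq hx1 hw1
  exact Subgroup.zpowers_le.2 hx (e ▸ Subgroup.mem_zpowers w)

theorem zpowers_conj_le {Z X : Subgroup G} {z a : G} (hX : X ≤ zpowers z) (hz : a * z * a⁻¹ ∈ Z) :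
    MulAut.conj a • X ≤ Z := by
  intro w hw
  rw [Coprime.mem_conj_smul_iff] at hw
  obtain ⟨i, hi⟩ := hX hw
  have h : w = (a * z * a⁻¹) ^ i := by rw [conj_zpow, show z ^ i = a⁻¹ * w * a from hi]; group
  rw [h]
  exact Z.zpow_mem hz i

/-- The elements of `Z` outside the `σ`-cores of all members. -/
def memberSet (Z : Subgroup G) : Set G :=
  {z | z ∈ Z ∧ ∀ L K' : Subgroup G, Member Z L K' → z ∉ sigmaCore L}

namespace Member

variable {Z M K : Subgroup G} (m : Member Z M K)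
include m

theorem ne_one_of_mem {z : G} (hz : z ∈ memberSet Z) : z ≠ 1 :=
  fun e => hz.2 M K m (e ▸ one_mem _)

/-- `T` is a TI set with normalizer `Z`. -/
theorem mem_of_conj {z : G} (hz : z ∈ memberSet Z) {a : G} (ha : a * z * a⁻¹ ∈ Z) : a ∈ Z := by
  obtain ⟨q, hq, hqd⟩ := Nat.exists_prime_and_dvd (fun e => m.ne_one_of_mem hz (orderOf_eq_one_iff.1 e))
  haveI := Fact.mk hq
  obtain ⟨L, K', m', hqL⟩ := m.exists_member (hqd.trans (Subgroup.orderOf_dvd_natCard Z hz.1))
  have hex : ∃ q' : ℕ, q'.Prime ∧ q' ∣ orderOf z ∧ q' ∉ sigma L := by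
    by_contra h
    push Not at h
    exact hz.2 L K' m' (m'.mem_part hz.1 h).1
  obtain ⟨q', hq', hqd', hqL'⟩ := hex
  haveI := Fact.mk hq'
  obtain ⟨X, hXz, hX⟩ := exists_card_le_zpowers hqd
  obtain ⟨X', hXz', hX'⟩ := exists_card_le_zpowers hqd'
  have hzZ : zpowers z ≤ Z := Subgroup.zpowers_le.2 hz.1
  have hXP : X ≤ sigmaCore L ⊓ centralizer (K' : Set G) := fun w hw =>
    m'.mem_part (hzZ (hXz hw)) fun l hl hld => by
      rw [(Nat.prime_dvd_prime_iff_eq hl hq).1 (hld.trans (hX ▸ Subgroup.orderOf_dvd_natCard X hw))]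
      exact hqL
  have hXK : X' ≤ K' := fun w hw => m'.mem_K (hzZ (hXz' hw)) fun l hl hld => by
    rw [(Nat.prime_dvd_prime_iff_eq hl hq').1 (hld.trans (hX' ▸ Subgroup.orderOf_dvd_natCard X' hw))]
    exact hqL'
  have hZc := m.cyclic
  have haL : a ∈ L := (m'.normalizer_le hXP hX).2
    (conj_eq_of_card_prime hZc (hXz.trans hzZ) hX (zpowers_conj_le hXz ha))
  obtain ⟨E, d⟩ := m'.exists_data
  have h := (d.inf_normalizer hXK hX').le
    ⟨haL, conj_eq_of_card_prime hZc (hXz'.trans hzZ) hX' (zpowers_conj_le hXz' ha)⟩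
  rwa [m'.sup_eq] at h

theorem eq_of_conj {z w : G} (hz : z ∈ memberSet Z) (hw : w ∈ Z) {a : G} (h : a * z * a⁻¹ = w) :
    a ∈ Z ∧ z = w := by
  have haZ := m.mem_of_conj hz (h.symm ▸ hw)
  refine ⟨haZ, ?_⟩
  have hc : a * z = z * a := congrArg Subtype.val
    ((@IsCyclic.commGroup Z _ m.cyclic).mul_comm (⟨a, haZ⟩ : Z) ⟨z, hz.1⟩)
  rw [← h, hc, mul_inv_cancel_right]

/-- No element of `T` is conjugate to an element `y r` with `y ∈ N_σ#` and `r ∈ R(y)`. -/
theorem not_support {N : Subgroup G} (hN : IsCoatom N) {y r : G} (hy : y ∈ sigmaCore N) (hy1 : y ≠ 1)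
    (hr : r ∈ supportR N y) {z : G} (hz : z ∈ memberSet Z) {a : G} (h : a * z * a⁻¹ = y * r) : False := by
  obtain ⟨hyr, hyN, hrN⟩ := supportR_parts m.minSimple m.h13 hN hy hy1 hr
  have hypow : y ∈ zpowers (a * z * a⁻¹) := h ▸
    mem_zpowers_mul_of_coprime hyr (Nat.coprime_of_dvd fun l hl h1 h2 => hrN l hl h2 (hyN l hl h1))
  obtain ⟨i, hi⟩ := hypow
  have hi' : y = a * z ^ i * a⁻¹ := hi.symm.trans conj_zpow
  have hy0Z : z ^ i ∈ Z := Z.zpow_mem hz.1 i
  have hord : orderOf (z ^ i) = orderOf y := by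
    rw [hi']
    exact ((MulEquiv.orderOf_eq (MulAut.conj a) (z ^ i))).symm
  obtain ⟨p, hp, hpd⟩ := Nat.exists_prime_and_dvd (fun e => hy1 (orderOf_eq_one_iff.1 e))
  haveI := Fact.mk hp
  obtain ⟨L, K', m', hpL⟩ := m.exists_member (q := p) ((hord.symm ▸ hpd).trans (Subgroup.orderOf_dvd_natCard Z hy0Z))
  obtain ⟨g, hg⟩ := m.h13.partition L (MulAut.conj a⁻¹ • N) m'.coatom (isCoatom_conj hN _)
    ⟨p, hpL, by rw [sigma_conj]; exact hyN p hp hpd⟩
  have hs : sigma L = sigma N := by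
    have h1 := sigma_conj a⁻¹ N
    rw [hg, show L.map (MulAut.conj g).toMonoidHom = MulAut.conj g • L from rfl, sigma_conj] at h1
    exact h1
  have hyP : z ^ i ∈ sigmaCore L ⊓ centralizer (K' : Set G) :=
    m'.mem_part hy0Z fun l hl hld => hs ▸ hyN l hl (hord ▸ hld)
  have hgL : g ∈ L := by
    obtain ⟨E, d⟩ := m'.exists_data
    by_contra hgL
    refine hy1 ?_
    have h1 : z ^ i ∈ (sigmaCore L ⊓ centralizer (K' : Set G)) ⊓ L.map (MulAut.conj g).toMonoidHom := by
      refine ⟨hyP, ?_⟩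
      rw [← hg]
      show z ^ i ∈ MulAut.conj a⁻¹ • N
      rw [Coprime.mem_conj_smul_iff, inv_inv, ← hi']
      exact sigmaCore_le N hy
    rw [d.inf_conj_eq_bot hgL, Subgroup.mem_bot] at h1
    rw [hi', h1, mul_one, mul_inv_cancel]
  have hNL : MulAut.conj a⁻¹ • N = L :=
    hg.trans (Coprime.conj_smul_eq_self_of_mem (Subgroup.le_normalizer hgL))
  have hne : z ^ i ≠ 1 := fun e => hy1 (by rw [hi', e, mul_one, mul_inv_cancel])
  obtain ⟨X, hXz, hX⟩ := exists_card_le_zpowers (x := z ^ i) (hord.symm ▸ hpd)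
  have hCle : centralizer ({z ^ i} : Set G) ≤ L := le_trans (by
    rw [← Subgroup.centralizer_closure, ← Subgroup.zpowers_eq_closure]
    exact Subgroup.centralizer_le hXz) (m'.normalizer_le (hXz.trans (Subgroup.zpowers_le.2 hyP)) hX).1
  have hCy : centralizer ({y} : Set G) ≤ N := fun w hw => by
    have h1 : a⁻¹ * w * a ∈ centralizer ({z ^ i} : Set G) := by
      refine Subgroup.mem_centralizer_singleton_iff.2 ?_
      have h2 := Subgroup.mem_centralizer_singleton_iff.1 hw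
      rw [hi'] at h2
      have h3 := congrArg (fun t => a⁻¹ * t * a) h2
      simpa [mul_assoc] using h3
    have h4 := hCle h1
    rw [← hNL, Coprime.mem_conj_smul_iff] at h4
    simpa [mul_assoc] using h4
  rw [supportR_eq_bot_of_le hCy, Subgroup.mem_bot] at hr
  rw [hr, mul_one] at h
  refine hz.2 L K' m' ?_
  have hzi : z ^ i = z := by
    rw [hi'] at h
    exact (mul_left_cancel (mul_right_cancel h)).symm
  exact hzi ▸ hyP.1

/-- BG 14.7: some member is not the product of its `σ`-core and its Hall `κ`-subgroup. -/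
theorem exists_card_ne :
    ∃ L K' : Subgroup G, Member Z L K' ∧ Nat.card L ≠ Nat.card (sigmaCore L) * Nat.card K' := by
  classical
  by_contra hall
  push Not at hall
  have hG := m.minSimple
  letI : Fintype (Subgroup G) := Fintype.ofFinite _
  set s : Finset (Subgroup G) := Finset.univ.filter fun L => ∃ K', Member Z L K' with hs
  have hex : ∀ L : s, ∃ K', Member Z L.1 K' := fun L => (Finset.mem_filter.1 L.2).2
  choose κ hκ using hex
  set T := memberSet Z
  have hbase : ∀ y : G, ∀ C : Subgroup G, IsCoatom C → y ∈ sigmaCore C →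
      ∃ C' : Subgroup G, IsCoatom C' ∧ y ∈ sigmaCore C' := fun y C h1 h2 => ⟨C, h1, h2⟩
  let base : G → Subgroup G := fun y =>
    if h : ∃ C' : Subgroup G, IsCoatom C' ∧ y ∈ sigmaCore C' then h.choose else ⊥
  have hbase' : ∀ y : G, ∀ C : Subgroup G, IsCoatom C → y ∈ sigmaCore C →
      IsCoatom (base y) ∧ y ∈ sigmaCore (base y) := fun y C h1 h2 => by
    have h : ∃ C' : Subgroup G, IsCoatom C' ∧ y ∈ sigmaCore C' := ⟨C, h1, h2⟩
    simp only [base, dif_pos h]
    exact h.choose_spec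
  -- the data attached to a pair (conjugate of a member, element of its core)
  let B := Σ L : s, (G ⧸ L.1) × {x : G // x ∈ sigmaCore L.1 ∧ x ≠ 1}
  let yB : B → G := fun b => b.2.1.out * b.2.2.1 * b.2.1.out⁻¹
  let CB : B → Subgroup G := fun b => MulAut.conj b.2.1.out • b.1.1
  have hCB : ∀ b : B, IsCoatom (CB b) ∧ yB b ∈ sigmaCore (CB b) ∧ yB b ≠ 1 := fun b => by
    refine ⟨isCoatom_conj (hκ b.1).coatom _, ?_, fun e => b.2.2.2.2 ?_⟩
    · show yB b ∈ sigmaCore (MulAut.conj b.2.1.out • b.1.1)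
      rw [sigmaCore_conj, Coprime.mem_conj_smul_iff]
      simpa [yB, mul_assoc] using b.2.2.2.1
    · have e' : b.2.1.out * b.2.2.1 * b.2.1.out⁻¹ = 1 := e
      rwa [mul_inv_eq_one, mul_eq_left] at e'
  have hr : ∀ b : B, ∃ r, r ∈ supportR (base (yB b)) (yB b) ∧ MulAut.conj r • base (yB b) = CB b := fun b => by
    obtain ⟨h1, h2⟩ := hbase' _ _ (hCB b).1 (hCB b).2.1
    obtain ⟨r, hr1, hr2⟩ := exists_transporter hG m.h13 h1 (hCB b).1 h2 (hCB b).2.1 (hCB b).2.2
    exact ⟨r, hr1, hr2⟩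
  choose rB hrB hrB' using hr
  let f : ((G ⧸ Z) × T) ⊕ B → G := Sum.elim (fun w => w.1.out * w.2.1 * w.1.out⁻¹) (fun b => yB b * rB b)
  have hf1 : ∀ w, f w ≠ 1 := by
    rintro (w | b) e
    · have e' : w.1.out * w.2.1 * w.1.out⁻¹ = 1 := e
      exact m.ne_one_of_mem w.2.2 (by rwa [mul_inv_eq_one, mul_eq_left] at e')
    · obtain ⟨h1, h2⟩ := hbase' _ _ (hCB b).1 (hCB b).2.1
      obtain ⟨hc, hy, hr⟩ := supportR_parts hG m.h13 h1 h2 (hCB b).2.2 (hrB b)
      have hone : ∀ p : ℕ, p.Prime → p ∣ orderOf (1 : G) → False :=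
        fun p hp hd => hp.not_dvd_one (by rwa [orderOf_one] at hd)
      exact (hCB b).2.2 (piPart_unique hc (Commute.one_left 1) hy hr (fun p hp hd => (hone p hp hd).elim)
        (fun p hp hd => (hone p hp hd).elim) ((show yB b * rB b = 1 from e).trans (mul_one 1).symm)).1
  have hf : Function.Injective f := by
    rintro (⟨q, z⟩ | b) (⟨q', z'⟩ | b') e
    · have e' : q.out * z.1 * q.out⁻¹ = q'.out * z'.1 * q'.out⁻¹ := e
      have h : (q'.out⁻¹ * q.out) * z.1 * (q'.out⁻¹ * q.out)⁻¹ = z'.1 := by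
        calc (q'.out⁻¹ * q.out) * z.1 * (q'.out⁻¹ * q.out)⁻¹ = q'.out⁻¹ * (q.out * z.1 * q.out⁻¹) * q'.out := by group
          _ = z'.1 := by rw [e']; group
      obtain ⟨ha, hz⟩ := m.eq_of_conj z.2 z'.2.1 h
      have hq : q' = q := by
        rw [← QuotientGroup.out_eq' q, ← QuotientGroup.out_eq' q']
        exact QuotientGroup.eq.2 ha
      exact congrArg Sum.inl (Prod.ext hq.symm (Subtype.ext hz))
    · obtain ⟨h1, h2⟩ := hbase' _ _ (hCB b').1 (hCB b').2.1
      exact (m.not_support h1 h2 (hCB b').2.2 (hrB b') z.2 e).elim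
    · obtain ⟨h1, h2⟩ := hbase' _ _ (hCB b).1 (hCB b).2.1
      exact (m.not_support h1 h2 (hCB b).2.2 (hrB b) z'.2 e.symm).elim
    · obtain ⟨h1, h2⟩ := hbase' _ _ (hCB b).1 (hCB b).2.1
      obtain ⟨h1', h2'⟩ := hbase' _ _ (hCB b').1 (hCB b').2.1
      have e' : yB b * rB b = yB b' * rB b' := e
      have hy : yB b = yB b' := not_not.1 fun hne =>
        support_disjoint hG m.h13 h1 h1' h2 h2' (hCB b).2.2 (hCB b').2.2 hne _ (hrB b) _ (hrB b') e'
      have hr : rB b = rB b' := mul_left_cancel (hy ▸ e')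
      have hC : CB b = CB b' := by rw [← hrB' b, ← hrB' b', hy, hr]
      obtain ⟨L, q, x, hx⟩ := b
      obtain ⟨L', q', x', hx'⟩ := b'
      have hC' : MulAut.conj q.out • L.1 = MulAut.conj q'.out • L'.1 := hC
      obtain ⟨p, hp, hpd⟩ := Nat.exists_prime_and_dvd (fun e => hx.2 (orderOf_eq_one_iff.1 e))
      have hpL := primes_of_mem (isPiGrp_piCoreOf (sigma L.1) L.1) hx.1 p hp hpd
      have hLL : L' = L := Subtype.ext ((hκ L).eq_of_mem_sigma (hκ L') hpL (by
        rwa [← sigma_conj q'.out, ← hC', sigma_conj]))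
      subst hLL
      have hn : q'.out⁻¹ * q.out ∈ L'.1 := by
        have hmem : q'.out⁻¹ * q.out ∈ normalizer (L'.1 : Set G) := Coprime.mem_normalizer_of_conj_smul_eq (by
          rw [← Coprime.conj_smul_smul, hC', Coprime.conj_smul_smul, inv_mul_cancel, map_one, one_smul])
        rwa [normalizer_eq_of_normal hG (hκ L').coatom le_rfl Subgroup.le_normalizer
          (ne_bot_of_le_ne_bot (sigmaCore_ne_bot hG (hκ L').coatom) (sigmaCore_le _))] at hmem
      have hq : q' = q := by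
        rw [← QuotientGroup.out_eq' q, ← QuotientGroup.out_eq' q']
        exact QuotientGroup.eq.2 hn
      subst hq
      have hxx : x = x' := mul_left_cancel (mul_right_cancel (show q'.out * x * q'.out⁻¹ = q'.out * x' * q'.out⁻¹ from hy))
      subst hxx
      rfl
  have hlt : Nat.card (((G ⧸ Z) × T) ⊕ B) < Nat.card G := by
    have h1 : Nat.card (Set.range f) = Nat.card (((G ⧸ Z) × T) ⊕ B) := Nat.card_range_of_injective hf
    rw [← h1, Nat.card_coe_set_eq, ← Set.ncard_univ G]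
    exact Set.ncard_lt_ncard (Set.ssubset_univ_iff.2 fun e => by
      obtain ⟨w, hw⟩ : (1 : G) ∈ Set.range f := e ▸ Set.mem_univ 1
      exact hf1 w hw) (Set.toFinite _)
  set I := Z.index with hI
  set a : s → ℕ := fun L => Nat.card ↥(sigmaCore L.1 ⊓ centralizer (κ L : Set G)) with ha
  have hcard : ∀ L : s, L.1.index * Nat.card (sigmaCore L.1) = I * a L ∧ 2 * L.1.index ≤ I := by
    intro L
    have hm := hκ L
    have e : L.1.index * Nat.card L.1 = I * Nat.card Z := by rw [hI, Z.index_mul_card, L.1.index_mul_card]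
    rw [hall L.1 (κ L) hm, hm.card_eq] at e
    have e' : L.1.index * Nat.card (sigmaCore L.1) = I * a L :=
      Nat.eq_of_mul_eq_mul_left (n := Nat.card (κ L)) Nat.card_pos (by linarith [e])
    refine ⟨e', ?_⟩
    have hlt : 2 * a L ≤ Nat.card (sigmaCore L.1) := by
      have hd : a L ∣ Nat.card (sigmaCore L.1) := Subgroup.card_dvd_of_le inf_le_left
      obtain ⟨c, hc⟩ := hd
      rcases Nat.lt_or_ge c 2 with hc2 | hc2
      · exfalso
        have hc1 : c = 1 := by
          rcases Nat.eq_zero_or_pos c with rfl | h0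
          · rw [mul_zero] at hc; exact absurd hc Nat.card_pos.ne'
          · omega
        rw [hc1, mul_one] at hc
        obtain ⟨E, d⟩ := hm.exists_data
        obtain ⟨l, hl, hld⟩ := Nat.exists_prime_and_dvd (fun e => hm.part_ne_bot (Subgroup.card_eq_one.1 e))
        haveI := Fact.mk hl
        obtain ⟨S⟩ : Nonempty (Sylow l ↥(sigmaCore L.1)) := inferInstance
        refine (d.kstar_ti.2.2.1 l hl hld S).2.2 ((Subgroup.map_subtype_le _).trans (le_of_eq ?_))
        exact (Subgroup.eq_of_le_of_card_ge inf_le_left (le_of_eq hc)).symm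
      · rw [hc]; nlinarith
    have hpos : 0 < Nat.card (sigmaCore L.1) := Nat.card_pos
    have hapos : 0 < a L := Nat.card_pos
    nlinarith
  have hB : Nat.card B = ∑ L : s, L.1.index * (Nat.card (sigmaCore L.1) - 1) := by
    rw [Nat.card_sigma]
    refine Finset.sum_congr rfl fun L _ => ?_
    rw [Nat.card_prod]
    congr 1
    have : Nat.card {x : G // x ∈ sigmaCore L.1 ∧ x ≠ 1} = ((sigmaCore L.1 : Set G) \ {1}).ncard := by
      rw [← Nat.card_coe_set_eq]; rfl
    rw [this, Set.ncard_sdiff_singleton_of_mem (one_mem _), ← Nat.card_coe_set_eq]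
    rfl
  have hT : Nat.card Z ≤ Nat.card T + 1 + ∑ L : s, (a L - 1) := by
    rw [Nat.card_coe_set_eq]
    have hsub : (Z : Set G) ⊆ T ∪ ({1} ∪ ⋃ L : s, (↑(sigmaCore L.1 ⊓ centralizer (κ L : Set G)) : Set G) \ {1}) := by
      intro z hz
      by_cases hzT : z ∈ T
      · exact Or.inl hzT
      · refine Or.inr ?_
        rcases eq_or_ne z 1 with rfl | hz1
        · exact Or.inl rfl
        simp only [T, memberSet, Set.mem_ofPred_eq, not_and, not_forall, not_not] at hzT
        obtain ⟨L, K', hm, hzL⟩ := hzT hz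
        refine Or.inr (Set.mem_iUnion.2 ⟨⟨L, Finset.mem_filter.2 ⟨Finset.mem_univ _, K', hm⟩⟩, ?_, hz1⟩)
        rw [SetLike.mem_coe, (hκ _).part_eq]
        exact ⟨hzL, hz⟩
    calc Nat.card Z = (Z : Set G).ncard := (Nat.card_coe_set_eq _)
      _ ≤ _ := Set.ncard_le_ncard hsub (Set.toFinite _)
      _ ≤ T.ncard + ({1} ∪ ⋃ L : s, (↑(sigmaCore L.1 ⊓ centralizer (κ L : Set G)) : Set G) \ {1}).ncard :=
        Set.ncard_union_le _ _
      _ ≤ T.ncard + (1 + ∑ L : s, (a L - 1)) := by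
        refine Nat.add_le_add_left ((Set.ncard_union_le _ _).trans ?_) _
        refine Nat.add_le_add (le_of_eq (Set.ncard_singleton 1)) ((Set.ncard_iUnion_le_of_fintype _).trans ?_)
        refine Finset.sum_le_sum fun L _ => le_of_eq ?_
        rw [Set.ncard_sdiff_singleton_of_mem (one_mem _), ← Nat.card_coe_set_eq]
        rfl
      _ = T.ncard + 1 + ∑ L : s, (a L - 1) := (add_assoc _ _ _).symm
  have htwo : 2 ≤ s.card := by
    obtain ⟨L', K', m', hne, -⟩ := m.exists_other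
    exact Finset.one_lt_card.2 ⟨M, Finset.mem_filter.2 ⟨Finset.mem_univ _, K, m⟩, L',
      Finset.mem_filter.2 ⟨Finset.mem_univ _, K', m'⟩, hne.symm⟩
  rw [Nat.card_sum, Nat.card_prod, ← Subgroup.index, ← hI, hB, ← Z.index_mul_card, ← hI] at hlt
  set A := ∑ L : s, L.1.index * (Nat.card (sigmaCore L.1) - 1)
  have h1 : A + ∑ L : s, L.1.index = ∑ L : s, I * a L := by
    rw [← Finset.sum_add_distrib]
    refine Finset.sum_congr rfl fun L _ => ?_
    rw [← (hcard L).1, ← Nat.mul_succ]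
    congr 1
    have := Nat.card_pos (α := sigmaCore L.1)
    omega
  have h2 : I * ∑ L : s, (a L - 1) + s.card * I = ∑ L : s, I * a L := by
    have hI' : s.card * I = ∑ _L : s, I := by simp
    rw [hI', Finset.mul_sum, ← Finset.sum_add_distrib]
    refine Finset.sum_congr rfl fun L _ => ?_
    rw [← Nat.mul_succ]
    congr 1
    have : 0 < a L := Nat.card_pos
    omega
  have h3 : 2 * ∑ L : s, L.1.index ≤ s.card * I := by
    rw [Finset.mul_sum]
    refine (Finset.sum_le_sum fun L _ => (hcard L).2).trans (le_of_eq ?_)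
    simp
  have h4 : I * Nat.card Z ≤ I * Nat.card T + I + I * ∑ L : s, (a L - 1) := by
    refine (Nat.mul_le_mul_left I hT).trans (le_of_eq ?_)
    ring
  have h5 : 2 * I ≤ s.card * I := Nat.mul_le_mul_right I htwo
  linarith

end Member

end Cfsg.Agent.OddOrder
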