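import Cfsg.Agent.Lib.OddOrder.KappaConsequences
import Cfsg.Agent.S1446

/-!
# Bender–Glauberman 14.7, first part: the maximal subgroups attached to `Z = K K*`

`Member Z L K₁` says that `L` has the Hall `κ(L)`-subgroup `K₁` with `K₁ C_{L_σ}(K₁) = Z`.
-/

set_option autoImplicit false
set_option linter.unusedSectionVars false
set_option linter.style.haveILetI false

namespace Cfsg.Agent.OddOrder

open Cfsg
open Subgroup (centralizer normalizer zpowers)
open scoped Pointwise commutatorElement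

universe u
variable {G : Type u} [Group G] [Finite G]

theorem sigmaCore_conj (g : G) (M : Subgroup G) :
    sigmaCore (MulAut.conj g • M) = MulAut.conj g • sigmaCore M := by
  have key : ∀ (π : Set ℕ) (g : G) (X : Subgroup G),
      MulAut.conj g • piCoreOf π X ≤ piCoreOf π (MulAut.conj g • X) := fun π g X => by
    refine le_piCoreOf (Subgroup.pointwise_smul_le_pointwise_smul_iff.2 (piCoreOf_le π X)) ?_
      ((isPiGrp_piCoreOf π X).map _)
    exact (Subgroup.map_mono (le_normalizer_piCoreOf π X)).trans (Subgroup.le_normalizer_map _)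
  show piCoreOf (sigma (MulAut.conj g • M)) (MulAut.conj g • M) = MulAut.conj g • piCoreOf (sigma M) M
  rw [sigma_conj]
  refine le_antisymm ?_ (key _ g M)
  have h := (Subgroup.pointwise_smul_le_pointwise_smul_iff (a := MulAut.conj g)).2
    (key (sigma M) g⁻¹ (MulAut.conj g • M))
  rwa [Coprime.conj_smul_smul, Coprime.conj_smul_smul, mul_inv_cancel,
    inv_mul_cancel, map_one, one_smul, one_smul] at h

theorem primes_of_mem {A : Subgroup G} {π : Set ℕ} (h : ∀ p : ℕ, p.Prime → p ∣ Nat.card A → p ∈ π) {a : G}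
    (ha : a ∈ A) : ∀ p : ℕ, p.Prime → p ∣ orderOf a → p ∈ π :=
  fun p hp hd => h p hp (hd.trans (Subgroup.orderOf_dvd_natCard _ ha))

/-- In the product of a `π`-group and a commuting `π'`-group, the factors are the `π`- and `π'`-elements. -/
theorem mem_of_commuting_sup {π : Set ℕ} {A B : Subgroup G} (hc : A ≤ centralizer (B : Set G))
    (hA : ∀ p : ℕ, p.Prime → p ∣ Nat.card A → p ∈ π) (hB : ∀ p : ℕ, p.Prime → p ∣ Nat.card B → p ∉ π)
    {g : G} (hg : g ∈ A ⊔ B) :
    ((∀ p : ℕ, p.Prime → p ∣ orderOf g → p ∈ π) → g ∈ A) ∧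
      ((∀ p : ℕ, p.Prime → p ∣ orderOf g → p ∉ π) → g ∈ B) := by
  obtain ⟨a, ha, b, hb, rfl⟩ :=
    (Coprime.mem_sup_iff_of_le_normalizer (hc.trans (Subgroup.centralizer_le_normalizer _))).1 hg
  have hab : Commute a b := (Subgroup.mem_centralizer_iff.1 (hc ha) b hb).symm
  have hone : ∀ p : ℕ, p.Prime → p ∣ orderOf (1 : G) → False :=
    fun p hp hd => hp.not_dvd_one (by rwa [orderOf_one] at hd)
  constructor
  · intro h
    have e := piPart_unique (π := π) hab (Commute.one_right (a * b)) (primes_of_mem hA ha)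
      (primes_of_mem (π := fun p => p ∉ π) hB hb) h (fun p hp hd => (hone p hp hd).elim) (mul_one _).symm
    rw [e.2, mul_one]
    exact ha
  · intro h
    have e := piPart_unique (π := π) hab (Commute.one_left (a * b)) (primes_of_mem hA ha)
      (primes_of_mem (π := fun p => p ∉ π) hB hb) (fun p hp hd => (hone p hp hd).elim) h (one_mul _).symm
    rw [e.1, one_mul]
    exact hb

theorem isCyclic_sup_of_coprime {A B : Subgroup G} (hA : IsCyclic A) (hB : IsCyclic B)
    (hc : A ≤ centralizer (B : Set G)) (hcop : (Nat.card A).Coprime (Nat.card B)) :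
    IsCyclic ↥(A ⊔ B) := by
  obtain ⟨a, ha⟩ := IsCyclic.exists_ofOrder_eq_natCard (α := A)
  obtain ⟨b, hb⟩ := IsCyclic.exists_ofOrder_eq_natCard (α := B)
  rw [← Subgroup.orderOf_coe] at ha hb
  have hab : Commute (a : G) b := (Subgroup.mem_centralizer_iff.1 (hc a.2) b b.2).symm
  have h := hab.orderOf_mul_eq_mul_orderOf_of_coprime (by rw [ha, hb]; exact hcop)
  refine isCyclic_of_orderOf_eq_card
    (⟨(a : G) * b, Subgroup.mul_mem_sup a.2 b.2⟩ : ↥(A ⊔ B)) ?_
  rw [← Subgroup.orderOf_coe, Coprime.card_sup_of_le_normalizer (hc.trans (Subgroup.centralizer_le_normalizer _))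
    (Coprime.disjoint_of_coprime_card hcop), h, ha, hb]

theorem isCyclic_of_kappa_group (hG : IsMinSimpleOddOrder G) (h13 : BG13 G) {M A : Subgroup G}
    (hM : IsCoatom M) (hAM : A ≤ M) (hA : ∀ p : ℕ, p.Prime → p ∣ Nat.card A → p ∈ kappa M) :
    IsCyclic A := by
  obtain ⟨K, hAK, hK⟩ := exists_piHallOf_ge (kappa M) (isSolvable_of_coatom hG hM) hAM hA
  rcases eq_or_ne K ⊥ with e | hK1
  · rw [show A = ⊥ from le_bot_iff.1 (e ▸ hAK)]
    infer_instance
  obtain ⟨E, d⟩ := exists_pData hG h13 hM hK hK1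
  haveI := d.cyclic
  exact isCyclic_of_injective (Subgroup.inclusion hAK) (Subgroup.inclusion_injective hAK)

namespace PData

variable {M K E : Subgroup G} (d : PData M K E)
include d

/-- BG 14.7: the maximal subgroups over `N(X)` have `K*` in a Hall `κ`-subgroup. -/
theorem dual_aux {p : ℕ} [Fact p.Prime] {X : Subgroup G} (hXK : X ≤ K) (hX : Nat.card X = p)
    {L : Subgroup G} (hL : IsCoatom L) (hNL : normalizer (X : Set G) ≤ L) :
    X ≤ Cfsg.sigmaCore L ∧ L ≠ M ∧ Cfsg.sigmaCore M ⊓ centralizer (K : Set G) ≤ L ∧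
      ∀ l : ℕ, l.Prime → l ∣ Nat.card ↥(Cfsg.sigmaCore M ⊓ centralizer (K : Set G)) → l ∈ Cfsg.kappa L := by
  have hG := d.minSimple
  have hM := d.coatom
  have hpk : p ∈ Cfsg.kappa M := d.hall.2.1 p Fact.out (hX ▸ Subgroup.card_dvd_of_le hXK)
  have hpL := d.mem_sigma_of_normalizer hXK hX hL hNL
  have hne : L ≠ M := fun e => hpk.2.2.1 (e ▸ hpL)
  have hDL : Cfsg.sigmaCore M ⊓ centralizer (K : Set G) ≤ L :=
    ((inf_le_right.trans (Subgroup.centralizer_le hXK)).trans (Subgroup.centralizer_le_normalizer _)).trans hNL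
  refine ⟨d.le_sigmaCore_of_normalizer hXK hX hL hNL, hne, hDL, fun l hl hld => ?_⟩
  haveI := Fact.mk hl
  obtain ⟨y, hy⟩ := exists_prime_orderOf_dvd_card' l hld
  rw [← Subgroup.orderOf_coe] at hy
  have hls : l ∈ Cfsg.sigma M := primes_of_mem (isPiGrp_piCoreOf (Cfsg.sigma M) M) y.2.1 l hl (dvd_of_eq hy.symm)
  have hlL : l ∉ Cfsg.sigma L := fun h => by
    obtain ⟨g, hg⟩ := d.h13.partition M L hM hL ⟨l, hls, h⟩
    refine hpk.2.2.1 ?_
    rw [← sigma_conj g M, show MulAut.conj g • M = L from hg.symm]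
    exact hpL
  have hX1 : X ≠ ⊥ := fun e => (Fact.out : p.Prime).ne_one (by rw [← hX, e, Subgroup.card_bot])
  obtain ⟨x, hx, hx1⟩ := (Subgroup.bot_or_exists_ne_one _).resolve_left hX1
  have hy1 : (y : G) ≠ 1 := fun e => hl.ne_one (hy.symm.trans (by rw [e, orderOf_one]))
  rcases sigma'_centralizer hG d.h13 hL (d.le_sigmaCore_of_normalizer hXK hX hL hNL hx) hx1
    (x' := (y : G)) ⟨hDL y.2, Subgroup.mem_centralizer_singleton_iff.2
      (Subgroup.mem_centralizer_iff.1 y.2.2 x (hXK hx)).symm⟩ hy1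
    (fun q hq hqd => by rw [(Nat.prime_dvd_prime_iff_eq hq hl).1 (hy ▸ hqd)]; exact hlL) with ⟨h, -⟩ | ⟨-, -, -, h⟩
  · exact h l hl (dvd_of_eq hy.symm)
  · refine absurd (h M hM ?_).symm hne
    rw [← Subgroup.centralizer_closure, ← Subgroup.zpowers_eq_closure]
    exact (d.unique_centralizer (Subgroup.zpowers_le.2 y.2) (by rw [Nat.card_zpowers, hy])).1

/-- `K` is prime when `M` has elements outside `σ(M) ∪ κ(M)`. -/
theorem prime_card_of_ne (hne : Nat.card M ≠ Nat.card (Cfsg.sigmaCore M) * Nat.card K) :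
    (Nat.card K).Prime := by
  have hG := d.minSimple
  have hM := d.coatom
  obtain ⟨U, hUab, hUhall, hKn, hUc, hfix⟩ := d.exists_U
  have hU1 : U ≠ ⊥ := fun e => hne (by
    rw [← card_eq_of_isComplIn d.compl, ← card_eq_of_isComplIn hUc, e, Subgroup.card_bot, one_mul, mul_comm])
  obtain ⟨r, hr, hrd⟩ := Nat.exists_prime_and_dvd (fun e => hU1 (Subgroup.card_eq_one.1 e))
  haveI := Fact.mk hr
  have hrk := (hUhall.2.1 r hr hrd).2.1
  have hrs := (hUhall.2.1 r hr hrd).2.2
  have hnil := isNilpotent_sigmaCore_of_prime hG hM (hrd.trans (Subgroup.card_dvd_of_le hUhall.1)) hrs hrk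
  have hEn : E ≤ normalizer (U : Set G) := fun e he => by
    obtain ⟨u, hu, k, hk, rfl⟩ := hUc.2.2.2 e he
    exact Subgroup.mul_mem _ (Subgroup.le_normalizer hu) (hKn hk)
  have hCU : Cfsg.sigmaCore M ⊓ centralizer (U : Set G) = ⊥ := by
    by_cases hr1 : PRankLE r 1 M
    · obtain ⟨w, hw⟩ := exists_prime_orderOf_dvd_card' (G := U) r hrd
      rw [← Subgroup.orderOf_coe] at hw
      rw [eq_bot_iff, ← sigmaCore_inf_centralizer_eq_bot_of_not_kappa hG hr1 hrs hrk
        (Subgroup.zpowers_le.2 (hUhall.1 w.2)) (by rw [Nat.card_zpowers, hw])]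
      exact inf_le_inf_left _ (Subgroup.centralizer_le (Subgroup.zpowers_le.2 w.2))
    · obtain ⟨A, hAE, hA, hAc⟩ := exists_square_le_compl d.compl hrs hr1
      obtain ⟨A₀, h⟩ := exists_exc hG hM hrs (hAE.trans d.compl.1) hA hAc
      have hAU : A ≤ U := by
        intro a ha
        haveI : (U.subgroupOf E).Normal := (Subgroup.normal_subgroupOf_iff_le_normalizer hUc.1).2 hEn
        refine Subgroup.mem_subgroupOf.1 (mem_of_coprime_index (x := (⟨a, hAE ha⟩ : E)) (N := U.subgroupOf E) ?_)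
        have h1 := Subgroup.relIndex_mul_relIndex ⊥ U E bot_le hUc.1
        rw [Subgroup.relIndex_bot_left, Subgroup.relIndex_bot_left, ← card_eq_of_isComplIn hUc] at h1
        have hidx : (U.subgroupOf E).index = Nat.card K := Nat.eq_of_mul_eq_mul_left Nat.card_pos h1
        rw [hidx, ← Subgroup.orderOf_coe]
        refine Nat.coprime_of_dvd fun l hl ha' hb => hrk ?_
        have hlr : l = r := (Nat.prime_dvd_prime_iff_eq hl hr).1
          (ha'.trans (orderOf_dvd_of_pow_eq_one (hA.2 a ha)))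
        exact hlr ▸ d.hall.2.1 l hl hb
      rw [eq_bot_iff, ← h.sigmaCore_inf_centralizer]
      exact inf_le_inf_left _ (Subgroup.centralizer_le hAU)
  have hKUM : U ⊔ K ≤ M := sup_le hUhall.1 d.hall.1
  refine (S1446.result U K (Cfsg.sigmaCore M) hU1 d.ne_bot hUc.2.2.1 hKn hfix
    (Coprime.isSolvable_of_le hKUM (isSolvable_of_coatom hG hM)) (odd_subgroup hG.1 _)
    (sigmaCore_ne_bot hG hM) hnil (hUhall.1.trans (le_normalizer_sigmaCore M))
    (d.hall.1.trans (le_normalizer_sigmaCore M)) (Nat.coprime_of_dvd fun l hl h1 h2 => ?_) hCU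
    fun k hk hk1 => d.primeAction hk hk1).1
  exact not_mem_sigma_of_compl hG hM d.compl hl (h1.trans (Subgroup.card_dvd_of_le (sup_le hUc.1 d.le)))
    (isPiGrp_piCoreOf (Cfsg.sigma M) M l hl h2)

end PData

/-- `L` has the Hall `κ(L)`-subgroup `K₁`, with `K₁ C_{L_σ}(K₁) = Z`. -/
structure Member (Z L K₁ : Subgroup G) : Prop where
  minSimple : IsMinSimpleOddOrder G
  h13 : BG13 G
  coatom : IsCoatom L
  hall : IsPiHallOf (Cfsg.kappa L) K₁ L
  ne_bot : K₁ ≠ ⊥
  sup_eq : K₁ ⊔ (Cfsg.sigmaCore L ⊓ centralizer (K₁ : Set G)) = Z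

namespace Member

variable {Z L K₁ : Subgroup G} (m : Member Z L K₁)
include m

theorem exists_data : ∃ E : Subgroup G, PData L K₁ E :=
  exists_pData m.minSimple m.h13 m.coatom m.hall m.ne_bot

theorem kappa_primes : ∀ p : ℕ, p.Prime → p ∣ Nat.card K₁ → p ∉ Cfsg.sigma L :=
  fun p hp hd => (m.hall.2.1 p hp hd).2.2.1

theorem part_primes : ∀ p : ℕ, p.Prime →
    p ∣ Nat.card ↥(Cfsg.sigmaCore L ⊓ centralizer (K₁ : Set G)) → p ∈ Cfsg.sigma L :=
  fun p hp hd => isPiGrp_piCoreOf (Cfsg.sigma L) L p hp (hd.trans (Subgroup.card_dvd_of_le inf_le_left))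

theorem part_le_centralizer :
    Cfsg.sigmaCore L ⊓ centralizer (K₁ : Set G) ≤ centralizer (K₁ : Set G) := inf_le_right

theorem le : Z ≤ L := m.sup_eq ▸ sup_le m.hall.1 (inf_le_left.trans (sigmaCore_le L))

theorem le_K : K₁ ≤ Z := m.sup_eq ▸ le_sup_left

theorem le_part : Cfsg.sigmaCore L ⊓ centralizer (K₁ : Set G) ≤ Z := m.sup_eq ▸ le_sup_right

theorem mem_part {g : G} (hg : g ∈ Z) (h : ∀ p : ℕ, p.Prime → p ∣ orderOf g → p ∈ Cfsg.sigma L) :
    g ∈ Cfsg.sigmaCore L ⊓ centralizer (K₁ : Set G) :=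
  (mem_of_commuting_sup m.part_le_centralizer m.part_primes m.kappa_primes
    (by rw [sup_comm, m.sup_eq]; exact hg)).1 h

theorem mem_K {g : G} (hg : g ∈ Z) (h : ∀ p : ℕ, p.Prime → p ∣ orderOf g → p ∉ Cfsg.sigma L) : g ∈ K₁ :=
  (mem_of_commuting_sup m.part_le_centralizer m.part_primes m.kappa_primes
    (by rw [sup_comm, m.sup_eq]; exact hg)).2 h

theorem part_eq : Cfsg.sigmaCore L ⊓ centralizer (K₁ : Set G) = Cfsg.sigmaCore L ⊓ Z :=
  le_antisymm (le_inf inf_le_left m.le_part) fun _ hg =>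
    m.mem_part hg.2 (primes_of_mem (isPiGrp_piCoreOf (Cfsg.sigma L) L) hg.1)

theorem coprime : (Nat.card K₁).Coprime (Nat.card ↥(Cfsg.sigmaCore L ⊓ centralizer (K₁ : Set G))) :=
  Nat.coprime_of_dvd fun l hl h1 h2 => m.kappa_primes l hl h1 (m.part_primes l hl h2)

theorem card_eq : Nat.card Z = Nat.card K₁ * Nat.card ↥(Cfsg.sigmaCore L ⊓ centralizer (K₁ : Set G)) := by
  rw [← m.sup_eq, Coprime.card_sup_of_le_normalizer
    ((Subgroup.le_centralizer_iff.1 m.part_le_centralizer).trans (Subgroup.centralizer_le_normalizer _))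
    (Coprime.disjoint_of_coprime_card m.coprime)]

theorem part_ne_bot : Cfsg.sigmaCore L ⊓ centralizer (K₁ : Set G) ≠ ⊥ :=
  (kappa_centralizer m.minSimple m.h13 m.coatom m.hall).1

/-- The member over the normalizer of a subgroup of prime order of `K₁`. -/
theorem step {p : ℕ} [Fact p.Prime] {X : Subgroup G} (hXK : X ≤ K₁) (hX : Nat.card X = p)
    {L' : Subgroup G} (hL' : IsCoatom L') (hNL : normalizer (X : Set G) ≤ L') :
    ∃ K' : Subgroup G, Member Z L' K' ∧ X ≤ Cfsg.sigmaCore L' ⊓ centralizer (K' : Set G) ∧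
      Cfsg.sigmaCore L ⊓ centralizer (K₁ : Set G) ≤ K' ∧ L' ≠ L := by
  have hG := m.minSimple
  obtain ⟨E, d⟩ := m.exists_data
  obtain ⟨hXσ, hne, hDL, hDκ⟩ := d.dual_aux hXK hX hL' hNL
  obtain ⟨K', hDK', hK'⟩ := exists_piHallOf_ge (Cfsg.kappa L') (isSolvable_of_coatom hG hL') hDL hDκ
  have hK'1 : K' ≠ ⊥ := ne_bot_of_le_ne_bot m.part_ne_bot hDK'
  obtain ⟨E', d'⟩ := exists_pData hG m.h13 hL' hK' hK'1
  obtain ⟨y, hy, hy1⟩ := (Subgroup.bot_or_exists_ne_one _).resolve_left m.part_ne_bot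
  have hXD' : X ≤ Cfsg.sigmaCore L' ⊓ centralizer (K' : Set G) := by
    rw [← d'.primeAction (hDK' hy) hy1]
    exact le_inf hXσ fun x hx => Subgroup.mem_centralizer_singleton_iff.2
      (Subgroup.mem_centralizer_iff.1 hy.2 x (hXK hx))
  obtain ⟨s, hs, hsd⟩ := Nat.exists_prime_and_dvd (fun e => m.part_ne_bot (Subgroup.card_eq_one.1 e))
  haveI := Fact.mk hs
  obtain ⟨w, hw⟩ := exists_prime_orderOf_dvd_card' s hsd
  rw [← Subgroup.orderOf_coe] at hw
  set Y := zpowers (w : G)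
  have hY : Nat.card Y = s := by rw [Nat.card_zpowers, hw]
  have hYD : Y ≤ Cfsg.sigmaCore L ⊓ centralizer (K₁ : Set G) := Subgroup.zpowers_le.2 w.2
  have hu := d.unique_centralizer hYD hY
  have hNY : normalizer (Y : Set G) ≤ L := le_of_forall_coatom
    (normalizer_ne_top_of_pgroup hG (IsPGroup.of_card (n := 1) (by rw [hY, pow_one]))
      (fun e => hs.ne_one (by rw [← hY, e, Subgroup.card_bot])))
    fun L'' hL'' hle => hu.2 L'' hL'' ((Subgroup.centralizer_le_normalizer _).trans hle)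
  obtain ⟨-, -, hD'L, hD'κ⟩ := d'.dual_aux (hYD.trans hDK') hY m.coatom hNY
  have hD'c : IsCyclic ↥(Cfsg.sigmaCore L' ⊓ centralizer (K' : Set G)) :=
    isCyclic_of_kappa_group hG m.h13 m.coatom hD'L hD'κ
  have hCX : L ⊓ centralizer (X : Set G) ≤ Z := by
    refine le_trans (inf_le_inf_left L (Subgroup.centralizer_le_normalizer _)) ?_
    rw [d.inf_normalizer hXK hX, m.sup_eq]
  have hD'Z : Cfsg.sigmaCore L' ⊓ centralizer (K' : Set G) ≤ Z := fun g hg =>
    hCX ⟨hD'L hg, Subgroup.centralizer_le hXD' (mem_centralizer_of_isCyclic hD'c hg)⟩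
  have hK'Z : K' ≤ Z := fun g hg => hCX ⟨hu.1 (Subgroup.centralizer_le (hYD.trans hDK')
    (mem_centralizer_of_isCyclic d'.cyclic hg)), Subgroup.centralizer_le hXD'
      (Subgroup.mem_centralizer_iff.2 fun a ha => (Subgroup.mem_centralizer_iff.1 ha.2 g hg).symm)⟩
  refine ⟨K', ⟨hG, m.h13, hL', hK', hK'1, le_antisymm (sup_le hK'Z hD'Z) ?_⟩, hXD', hDK', hne⟩
  rw [← m.sup_eq, ← (kappa_centralizer hG m.h13 hL' hK').2 hK'1 y (hDK' hy) hy1]
  refine sup_le (le_inf ?_ ?_) (le_inf hDL ?_)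
  · exact fun k hk => hNL (Subgroup.centralizer_le_normalizer _
      (Subgroup.centralizer_le hXK (mem_centralizer_of_isCyclic d.cyclic hk)))
  · exact fun k hk => Subgroup.mem_centralizer_singleton_iff.2 (Subgroup.mem_centralizer_iff.1 hy.2 k hk)
  · exact fun g hg => Subgroup.centralizer_le (Set.singleton_subset_iff.2 (hDK' hy))
      (mem_centralizer_of_isCyclic d'.cyclic (hDK' hg))

theorem exists_step {p : ℕ} [Fact p.Prime] {X : Subgroup G} (hXK : X ≤ K₁) (hX : Nat.card X = p) :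
    ∃ L' K' : Subgroup G, Member Z L' K' ∧ X ≤ Cfsg.sigmaCore L' ⊓ centralizer (K' : Set G) ∧
      Cfsg.sigmaCore L ⊓ centralizer (K₁ : Set G) ≤ K' ∧ L' ≠ L := by
  obtain ⟨L', hL', hNL⟩ := exists_coatom_ge (normalizer_ne_top_of_pgroup m.minSimple
    (IsPGroup.of_card (n := 1) (by rw [hX, pow_one]))
    (fun e => (Fact.out : p.Prime).ne_one (by rw [← hX, e, Subgroup.card_bot])))
  obtain ⟨K', h⟩ := m.step hXK hX hL' hNL
  exact ⟨L', K', h⟩

theorem exists_other : ∃ L' K' : Subgroup G, Member Z L' K' ∧ L' ≠ L ∧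
    Cfsg.sigmaCore L ⊓ centralizer (K₁ : Set G) ≤ K' := by
  obtain ⟨p, hp, hpd⟩ := Nat.exists_prime_and_dvd (fun e => m.ne_bot (Subgroup.card_eq_one.1 e))
  haveI := Fact.mk hp
  obtain ⟨z, hz⟩ := exists_prime_orderOf_dvd_card' (G := K₁) p hpd
  rw [← Subgroup.orderOf_coe] at hz
  obtain ⟨L', K', h1, -, h2, h3⟩ := m.exists_step (X := zpowers (z : G)) (Subgroup.zpowers_le.2 z.2)
    (by rw [Nat.card_zpowers, hz])
  exact ⟨L', K', h1, h3, h2⟩

theorem part_cyclic : IsCyclic ↥(Cfsg.sigmaCore L ⊓ centralizer (K₁ : Set G)) := by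
  obtain ⟨L', K', m', -, hle⟩ := m.exists_other
  obtain ⟨E', d'⟩ := m'.exists_data
  haveI := d'.cyclic
  exact isCyclic_of_injective (Subgroup.inclusion hle) (Subgroup.inclusion_injective hle)

theorem cyclic : IsCyclic Z := by
  obtain ⟨E, d⟩ := m.exists_data
  rw [← m.sup_eq]
  exact isCyclic_sup_of_coprime d.cyclic m.part_cyclic (Subgroup.le_centralizer_iff.1 m.part_le_centralizer)
    m.coprime

/-- Every prime of `Z` lies in `σ` of a member. -/
theorem exists_member {q : ℕ} [Fact q.Prime] (hq : q ∣ Nat.card Z) :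
    ∃ L' K' : Subgroup G, Member Z L' K' ∧ q ∈ Cfsg.sigma L' := by
  rw [m.card_eq] at hq
  rcases (Fact.out : q.Prime).dvd_mul.1 hq with h | h
  · obtain ⟨z, hz⟩ := exists_prime_orderOf_dvd_card' (G := K₁) q h
    rw [← Subgroup.orderOf_coe] at hz
    obtain ⟨L', K', m', hX, -, -⟩ := m.exists_step (X := zpowers (z : G)) (Subgroup.zpowers_le.2 z.2)
      (by rw [Nat.card_zpowers, hz])
    exact ⟨L', K', m', m'.part_primes q Fact.out (hz ▸ (Nat.card_zpowers (z : G)).symm.dvd.trans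
      (Subgroup.card_dvd_of_le hX))⟩
  · exact ⟨L, K₁, m, m.part_primes q Fact.out h⟩

theorem eq_of_mem_sigma {L' K' : Subgroup G} (m' : Member Z L' K') {q : ℕ} (h : q ∈ Cfsg.sigma L)
    (h' : q ∈ Cfsg.sigma L') : L' = L := by
  obtain ⟨g, hg⟩ := m.h13.partition L L' m.coatom m'.coatom ⟨q, h, h'⟩
  have hs : Cfsg.sigma L' = Cfsg.sigma L := by rw [show L' = MulAut.conj g • L from hg, sigma_conj]
  have hle : Cfsg.sigmaCore L ⊓ centralizer (K₁ : Set G) ≤ L.map (MulAut.conj g).toMonoidHom := hg ▸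
    fun x hx => sigmaCore_le L' (m'.mem_part (m.le_part hx) (hs ▸ primes_of_mem m.part_primes hx)).1
  obtain ⟨E, d⟩ := m.exists_data
  by_contra hne
  refine m.part_ne_bot ((inf_eq_left.2 hle).symm.trans (d.inf_conj_eq_bot fun hgL => hne ?_))
  rw [hg]
  exact Coprime.conj_smul_eq_self_of_mem (Subgroup.le_normalizer hgL)

/-- A subgroup of prime order of the `σ`-part has its normalizer in `L`. -/
theorem normalizer_le {q : ℕ} [Fact q.Prime] {Y : Subgroup G}
    (hY : Y ≤ Cfsg.sigmaCore L ⊓ centralizer (K₁ : Set G)) (hYc : Nat.card Y = q) :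
    centralizer (Y : Set G) ≤ L ∧ normalizer (Y : Set G) ≤ L := by
  obtain ⟨E, d⟩ := m.exists_data
  have hu := d.unique_centralizer hY hYc
  exact ⟨hu.1, le_of_forall_coatom
    (normalizer_ne_top_of_pgroup m.minSimple (IsPGroup.of_card (n := 1) (by rw [hYc, pow_one]))
      (fun e => (Fact.out : q.Prime).ne_one (by rw [← hYc, e, Subgroup.card_bot])))
    fun L'' hL'' hle => hu.2 L'' hL'' ((Subgroup.centralizer_le_normalizer _).trans hle)⟩

end Member

end Cfsg.Agent.OddOrder
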