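import Cfsg.Agent.Lib.OddOrder.SectionThirteen
import Cfsg.Agent.Lib.OddOrder.DerivedNilpotent
import Cfsg.Agent.S1419

/-!
# An element of prime order moving a square of `τ₂(M)` but fixing one of its lines
-/

set_option autoImplicit false
set_option linter.unusedSectionVars false
set_option linter.style.haveILetI false

namespace Cfsg.Agent.OddOrder

open Cfsg
open Subgroup (centralizer normalizer zpowers)
open scoped Pointwise commutatorElement

universe u
variable {G : Type u} [Group G] [Finite G] {r : ℕ} [Fact r.Prime]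

theorem isPGroup_zpowers {p : ℕ} [Fact p.Prime] {u : G} (h : ∃ k : ℕ, u ^ p ^ k = 1) :
    IsPGroup p (zpowers u) := by
  obtain ⟨k, hk⟩ := h
  obtain ⟨i, -, hi⟩ := (Nat.dvd_prime_pow (Fact.out : p.Prime)).1 (orderOf_dvd_of_pow_eq_one hk)
  exact IsPGroup.of_card (n := i) (by rw [Nat.card_zpowers, hi])

/-- If the Sylow `r`-subgroups of `G` are abelian, `r`-elements normalising `B` centralise it. -/
theorem mem_centralizer_of_abelian_sylow {S₀ : Sylow r G} (hS₀ : IsMulCommutative (S₀ : Subgroup G))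
    {B : Subgroup G} (hB : IsPGroup r B) {t : G} (ht : t ∈ normalizer (B : Set G)) (htp : ∃ k : ℕ, t ^ r ^ k = 1) :
    t ∈ centralizer (B : Set G) := by
  obtain ⟨P, hP⟩ := ((isPGroup_zpowers htp).to_sup_of_normal_right' hB
    (Subgroup.zpowers_le.2 ht)).exists_le_sylow
  obtain ⟨g, hg⟩ := MulAction.exists_smul_eq G S₀ P
  rw [← hg, Sylow.coe_subgroup_smul] at hP
  refine Subgroup.mem_centralizer_iff.2 fun b hb => ?_
  have h1 := hP (Subgroup.mem_sup_right hb)
  have h2 := hP (Subgroup.mem_sup_left (Subgroup.mem_zpowers t))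
  rw [Coprime.mem_conj_smul_iff] at h1 h2
  have h3 := congrArg (fun w => g * w * g⁻¹) (PGroup.mul_comm_of_isMulCommutative hS₀ h1 h2)
  simpa [mul_assoc] using h3

/-- An element fixing exactly the line `X` of the square `B` makes `X` invariant under `N(B)`. -/
theorem normalizer_le_normalizer_line (hG : IsMinSimpleOddOrder G) {B X : Subgroup G}
    (hB : IsElementaryAbelian r B) (hc : Nat.card B = r ^ 2) (hXB : X ≤ B) (hX : Nat.card X = r) {y : G}
    (hy : y ∈ normalizer (B : Set G)) (hyX : y ∈ centralizer (X : Set G)) (hyB : y ∉ centralizer (B : Set G))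
    (hp : ∀ t ∈ normalizer (B : Set G), (∃ k : ℕ, t ^ r ^ k = 1) → t ∈ centralizer (B : Set G)) :
    normalizer (B : Set G) ≤ normalizer (X : Set G) := by
  set N := normalizer (B : Set G) with hN
  have hBN : B ≤ N := Subgroup.le_normalizer
  haveI : Group.IsSolvable N := hG.2.2.2 N
    (normalizer_ne_top_of_pgroup hG (PGroup.isPGroup_of_elementaryAbelian hB) (square_ne_bot hB hc))
  haveI : (B.subgroupOf N).Normal := Coprime.normal_subgroupOf_of_le_normalizer le_rfl
  intro g hg
  refine Coprime.mem_normalizer_of_conj_smul_eq (Subgroup.eq_of_le_of_card_ge (fun w hw => ?_)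
    (le_of_eq (Coprime.card_conj_smul _ _).symm))
  rw [Coprime.mem_conj_smul_iff] at hw
  set c := y⁻¹ * g⁻¹ * y * g with hc'
  have hcN : c ∈ ⁅N, N⁆ := by
    have := Subgroup.commutator_mem_commutator (N.inv_mem hy) (N.inv_mem hg)
    rwa [commutatorElement_def, inv_inv, inv_inv] at this
  have hcC : c ∈ centralizer (B : Set G) := by
    refine mem_of_forall_primePart fun s hs _ u hu hus => ?_
    haveI := Fact.mk hs
    have huN' : u ∈ ⁅N, N⁆ := Subgroup.zpowers_le.2 hcN hu
    rw [← Subgroup.map_subtype_commutator] at huN'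
    obtain ⟨v, hv, rfl⟩ := huN'
    rcases eq_or_ne s r with rfl | hsr
    · exact hp _ v.2 hus
    · obtain ⟨k, hk⟩ := hus
      have h2 := commutator_mem_centralizer_of_rankTwo (G := N) (odd_subgroup hG.1 N) (B.subgroupOf N)
        (PGroup.isPGroup_of_elementaryAbelian hB).comap_subtype (fun C _ _ => by
          refine C.card_le_card_group.trans (le_of_eq ?_)
          rw [Coprime.card_subgroupOf hBN, hc]) hv
        (((Nat.coprime_primes hs Fact.out).2 hsr).pow_left k |>.coprime_dvd_left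
          (orderOf_dvd_of_pow_eq_one (Subtype.ext (hk :) : v ^ s ^ k = 1)))
      exact Subgroup.mem_centralizer_iff.2 fun b hb =>
        congrArg Subtype.val (Subgroup.mem_centralizer_iff.1 h2 ⟨b, hBN hb⟩ hb)
  set x := g⁻¹ * w * g with hx
  have hwB : w ∈ B := by
    have h := (Subgroup.mem_normalizer_iff.1 hg x).1 (hXB hw)
    rw [hx] at h
    simpa [mul_assoc] using h
  have h1 : c * x = x * c := (Subgroup.mem_centralizer_iff.1 hcC x (hXB hw)).symm
  have h2 : y * x = x * y := (Subgroup.mem_centralizer_iff.1 hyX x hw).symm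
  have hyw : y * w = w * y := by
    have e : y * g = g * y * c := by rw [hc']; group
    have : w = g * x * g⁻¹ := by rw [hx]; group
    rw [this]
    calc y * (g * x * g⁻¹) = g * y * (c * x) * g⁻¹ := by rw [← mul_assoc, ← mul_assoc, e]; group
      _ = g * (y * x) * c * g⁻¹ := by rw [h1]; group
      _ = g * x * (y * c * g⁻¹) := by rw [h2]; group
      _ = g * x * g⁻¹ * y := by rw [hc']; group
  by_contra hwX
  refine hyB (Subgroup.mem_centralizer_iff.2 fun b hb => ?_)
  have hX1 : X ≠ ⊥ := fun e => (Fact.out : r.Prime).ne_one (by rw [← hX, e, Subgroup.card_bot])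
  obtain ⟨x₀, hx₀, hx₀1⟩ := (Subgroup.bot_or_exists_ne_one _).resolve_left hX1
  have hwz : w ∉ zpowers x₀ := fun h => hwX (Subgroup.zpowers_le.2 hx₀ h)
  exact (commute_of_sup (Subgroup.mem_centralizer_iff.1 hyX x₀ hx₀).symm hyw
    ((square_eq_sup hB hc (hXB hx₀) hx₀1 hwB hwz).ge hb)).symm.eq

/-- Elements of the normal `r`-complement of `M_σ` normalising an `r`-subgroup centralise it. -/
theorem mem_centralizer_of_sigma (hG : IsMinSimpleOddOrder G) {L : Subgroup G} (hL : IsCoatom L)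
    (hrb : r ∉ beta L) {A : Subgroup G} (hA : IsPGroup r A) (hAσ : A ≤ sigmaCore L) {z : G}
    (hzσ : z ∈ sigmaCore L) (hzr : ¬ r ∣ orderOf z) (hz : z ∈ normalizer (A : Set G)) :
    z ∈ centralizer (A : Set G) := by
  by_cases hd : r ∣ Nat.card L
  · obtain ⟨K, hKn, hKr, hKm⟩ :=
      exists_normal_complement_mem ((S1414.result hG L hL).2.2.2.2 r Fact.out hd hrb).2.1
    refine Subgroup.mem_centralizer_iff.2 fun a ha => ?_
    have hzK : (⟨z, hzσ⟩ : sigmaCore L) ∈ K :=
      hKm _ fun h => hzr (h.trans (Subgroup.orderOf_coe (⟨z, hzσ⟩ : sigmaCore L)).symm.dvd)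
    have h1 : a * z * a⁻¹ * z⁻¹ ∈ A := by
      have := A.mul_mem ha ((Subgroup.mem_normalizer_iff.1 hz a⁻¹).1 (A.inv_mem ha))
      simpa [mul_assoc] using this
    have h2 : (⟨a * z * a⁻¹ * z⁻¹, hAσ h1⟩ : sigmaCore L) ∈ K :=
      K.mul_mem (hKn.conj_mem _ hzK ⟨a, hAσ ha⟩) (K.inv_mem hzK)
    obtain ⟨k, hk⟩ := hA.exists_card_eq
    have h3 : a * z * a⁻¹ * z⁻¹ = 1 := by
      refine orderOf_eq_one_iff.1 (Nat.eq_one_of_dvd_coprimes ?_ (Subgroup.orderOf_dvd_natCard A h1)
        ((Subgroup.orderOf_coe _).dvd.trans (Subgroup.orderOf_dvd_natCard K h2)))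
      rw [hk]
      exact ((Fact.out : r.Prime).coprime_iff_not_dvd.2 hKr).pow_left k
    exact mul_inv_eq_iff_eq_mul.1 (mul_inv_eq_one.1 h3)
  · have hA1 : A = ⊥ := by
      obtain ⟨k, hk⟩ := hA.exists_card_eq
      rcases Nat.eq_zero_or_pos k with rfl | hk0
      · exact Subgroup.card_eq_one.1 (by rw [hk, pow_zero])
      · exact absurd ((hk ▸ dvd_pow_self r hk0.ne').trans
          (Subgroup.card_dvd_of_le (hAσ.trans (sigmaCore_le L)))) hd
    rw [hA1]
    exact Subgroup.mem_centralizer_iff.2 fun a ha => by simp [Subgroup.mem_bot.1 ha]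

/-- An element of prime order moving the square `A` and fixing its line `R` has its centralizer, or
that of `R`, in a maximal subgroup other than `M` containing `A`. -/
theorem Exc.moving_dichotomy {M A A₀ : Subgroup G} (h : Exc r M A A₀) (h13 : BG13 G) {p : ℕ} [Fact p.Prime]
    (hpr : p ≠ r) {z : G} (hzo : orderOf z = p) (hz : z ∈ normalizer (A : Set G))
    (hzc : z ∉ centralizer (A : Set G)) {R : Subgroup G} (hRA : R ≤ A) (hR : Nat.card R = r)
    (hRz : z ∈ centralizer (R : Set G)) :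
    ∃ L : Subgroup G, IsCoatom L ∧ A ≤ L ∧ L ≠ M ∧
      (centralizer ({z} : Set G) ≤ L ∨ centralizer (R : Set G) ≤ L) := by
  have hG := h.minSimple
  have hAp := PGroup.isPGroup_of_elementaryAbelian h.elem
  obtain ⟨L, hL, hNL⟩ := exists_coatom_ge
    (normalizer_ne_top_of_pgroup hG hAp (square_ne_bot h.elem h.card))
  have hAL : A ≤ L := Subgroup.le_normalizer.trans hNL
  have hne : L ≠ M := fun e => h.not_normalizer_le (e ▸ hNL)
  have hrL : r ∈ Cfsg.sigma L := by
    by_contra hr
    obtain ⟨A₁, h'⟩ := exists_exc hG hL hr hAL h.elem h.card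
    exact h'.not_normalizer_le hNL
  have hAσ : A ≤ sigmaCore L := by
    obtain ⟨T, hT⟩ := exists_sylow_map_ge hAp hAL
    exact hT.trans (sylow_le_sigmaCore hG hL hrL T)
  have hzL : z ∈ L := hNL hz
  have hrb : r ∉ beta L := fun hb => not_ideal_of_square h.elem h.card h.setting.hmax hb.2
  have hpL : p ∣ Nat.card L := hzo ▸ Subgroup.orderOf_dvd_natCard L hzL
  have hps : p ∉ Cfsg.sigma L := fun hs => hzc (by
    obtain ⟨T, hT⟩ := exists_sylow_map_ge (isPGroup_zpowers (p := p) (u := z)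
      ⟨1, by rw [pow_one, ← hzo]; exact pow_orderOf_eq_one z⟩) (Subgroup.zpowers_le.2 hzL)
    exact mem_centralizer_of_sigma hG hL hrb hAp hAσ
      (sylow_le_sigmaCore hG hL hs T (hT (Subgroup.mem_zpowers z)))
      (by rw [hzo]; exact fun e => hpr ((Nat.prime_dvd_prime_iff_eq Fact.out Fact.out).1 e).symm) hz)
  have hR1 : R ≠ ⊥ := fun e => (Fact.out : r.Prime).ne_one (by rw [← hR, e, Subgroup.card_bot])
  have hRC : R ≤ sigmaCore L ⊓ centralizer (zpowers z : Set G) := le_inf (hRA.trans hAσ) (by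
    rw [Subgroup.le_centralizer_iff]
    exact Subgroup.zpowers_le.2 hRz)
  have hzc' : Nat.card (zpowers z) = p := by rw [Nat.card_zpowers, hzo]
  refine ⟨L, hL, hAL, hne, ?_⟩
  rcases mem_tau hG hL hpL hps with h1 | h2 | h3
  · exact Or.inr (h13.tau1_unique L hL p h1 (zpowers z) (Subgroup.zpowers_le.2 hzL) hzc' R hRC
      (hR ▸ Fact.out)).1
  · obtain ⟨E, hE, -⟩ := exists_compl hG hL (bot_le : ⊥ ≤ L) (by simp)
    obtain ⟨a, ha, ha1⟩ := (Subgroup.bot_or_exists_ne_one _).resolve_left hR1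
    refine Or.inl ((S1420.result hG L hL E hE).2.2.2 z hzL (fun e => (Fact.out : p.Prime).ne_one
      (by rw [← hzo, e, orderOf_one])) (fun q hq hqd => ?_)
      ⟨hzL, a, (hRC ha).1, ha1, (Subgroup.mem_centralizer_iff.1 hRz a ha).symm⟩).1
    rw [(Nat.prime_dvd_prime_iff_eq hq Fact.out).1 (hzo ▸ hqd)]
    exact h2
  · exact absurd (le_bot_iff.1 ((h13.tau3_regular L hL p h3 (zpowers z) (Subgroup.zpowers_le.2 hzL) hzc') ▸ hRC)) hR1

end Cfsg.Agent.OddOrder
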