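import Cfsg.Agent.Lib.OddOrder.Narrow
import Cfsg.Agent.Lib.OddOrder.RankTwoStructure
import Cfsg.Agent.Lib.PGroup.PowerFibres
import Cfsg.Agent.Lib.PGroup.ExtraspecialClassify

/-!
# Automorphisms of prime order `q ∤ p (p - 1)` of p-groups of rank at most 2

* `card_eq_mul_fixed`: orbit counting for an element of prime order;
* `dvd_add_one_of_rankTwo`: `q ∣ p + 1`;
* `card_eq_cube_of_rankTwo`: if moreover `[U, x] = U` and `U` is not abelian then `|U| = p ^ 3`.
-/

set_option autoImplicit false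
set_option linter.style.haveILetI false
set_option linter.unusedSectionVars false

namespace Cfsg.Agent.OddOrder

open Cfsg
open Subgroup (centralizer normalizer zpowers)
open scoped commutatorElement

variable {G : Type*} [Group G] [Finite G] {p : ℕ} [Fact p.Prime]

/-- A normal p-subgroup and its fixed points under an element of prime order `q ≠ p`. -/
theorem card_eq_mul_fixed {q : ℕ} (hq : q.Prime) (hqp : q ≠ p) (M : Subgroup G) [M.Normal]
    (hM : IsPGroup p M) {x : G} (hx : orderOf x = q) :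
    ∃ d : ℕ, Nat.card M = p ^ d * Nat.card ↥(M ⊓ centralizer ({x} : Set G)) ∧ p ^ d ≡ 1 [MOD q] := by
  haveI := Fact.mk hq
  have hpp : p.Prime := Fact.out
  set Γ := zpowers (MulAut.conjNormal (H := M) x) with hΓ
  have hfix : ∀ v : M, (∀ γ : Γ, γ • v = v) ↔ (v : G) ∈ centralizer ({x} : Set G) := fun v => by
    refine ⟨fun h => ?_, fun h => ?_⟩
    · refine Subgroup.mem_centralizer_singleton_iff.2 ?_
      have h' := congrArg Subtype.val (h ⟨_, Subgroup.mem_zpowers _⟩)
      rw [Submonoid.smul_def, MulAut.smul_def, MulAut.conjNormal_apply, mul_inv_eq_iff_eq_mul] at h'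
      exact h'.symm
    · rintro ⟨γ, hγ⟩
      rw [hΓ, ← MonoidHom.map_zpowers] at hγ
      obtain ⟨g, hg, rfl⟩ := hγ
      refine Subtype.ext ?_
      show (MulAut.conjNormal g v : M).1 = v.1
      rw [MulAut.conjNormal_apply, mul_inv_eq_iff_eq_mul]
      obtain ⟨i, rfl⟩ := hg
      exact ((show Commute x v from (Subgroup.mem_centralizer_singleton_iff.1 h).symm).zpow_left i).eq
  have hΓp : IsPGroup q Γ := by
    obtain ⟨i, -, hi⟩ := (Nat.dvd_prime_pow hq).1 (show orderOf (MulAut.conjNormal (H := M) x) ∣ q ^ 1 by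
      rw [pow_one]; exact hx ▸ orderOf_map_dvd _ x)
    exact IsPGroup.of_card (n := i) (by rw [hΓ, Nat.card_zpowers, hi])
  have h1 := hΓp.card_modEq_card_fixedPoints M
  set F := (centralizer ({x} : Set G)).subgroupOf M with hF
  have hcard : Nat.card (MulAction.fixedPoints Γ M) = Nat.card F :=
    Nat.card_congr (Equiv.subtypeEquivRight fun v => (hfix v).trans Subgroup.mem_subgroupOf.symm)
  have hFc : Nat.card F = Nat.card ↥(M ⊓ centralizer ({x} : Set G)) := by
    rw [← Coprime.card_subgroupOf (inf_le_left : M ⊓ centralizer ({x} : Set G) ≤ M),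
      Subgroup.inf_subgroupOf_left]
  obtain ⟨k, hk⟩ := hM.exists_card_eq
  obtain ⟨i, hi⟩ := (hM.to_subgroup F).exists_card_eq
  have hik : i ≤ k := (Nat.pow_le_pow_iff_right hpp.one_lt).1 (hi ▸ hk ▸ F.card_le_card_group)
  have hsplit : p ^ k = p ^ (k - i) * p ^ i := by rw [← pow_add, Nat.sub_add_cancel hik]
  refine ⟨k - i, by rw [← hFc, hi, hk, hsplit], ?_⟩
  rw [hcard, hk, hi, hsplit] at h1
  refine Nat.ModEq.cancel_right_of_coprime (c := p ^ i) ?_ (by rwa [one_mul])
  exact ((Nat.coprime_primes hq hpp).2 hqp).pow_right i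

/-- If `x` of prime order `q ∤ p (p - 1)` fixes all but at most `p ^ 1` of `M`, it centralises `M`. -/
theorem commute_of_card_le_mul {q : ℕ} (hq : q.Prime) (hqp : q ≠ p) (hq1 : ¬ q ∣ p - 1) (M : Subgroup G)
    [M.Normal] (hM : IsPGroup p M) {x : G} (hx : orderOf x = q)
    (h : Nat.card M ≤ p * Nat.card ↥(M ⊓ centralizer ({x} : Set G))) :
    M ≤ centralizer ({x} : Set G) := by
  have hpp : p.Prime := Fact.out
  obtain ⟨d, hd, hmod⟩ := card_eq_mul_fixed hq hqp M hM hx
  have hd1 : d ≤ 1 := by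
    refine (Nat.pow_le_pow_iff_right hpp.one_lt).1 ?_
    rw [pow_one]
    exact Nat.le_of_mul_le_mul_right (hd ▸ h) Nat.card_pos
  interval_cases d
  · rw [pow_zero, one_mul] at hd
    exact inf_eq_left.1 (Subgroup.eq_of_le_of_card_ge inf_le_left hd.le)
  · rw [pow_one] at hmod
    exact absurd ((Nat.modEq_iff_dvd' hpp.one_lt.le).1 hmod.symm) hq1

/-- A normal subgroup of exponent `p` and class at most 2 detecting coprime action on `U`. -/
theorem exists_detecting_subgroup (hp : p ≠ 2) (U : Subgroup G) [U.Normal] (hUp : IsPGroup p U) :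
    ∃ (E : Subgroup G) (_ : E.Normal), E ≤ U ∧ (∀ e ∈ E, e ^ p = 1) ∧
      ⁅E, E⁆ ≤ centralizer (E : Set G) ∧
      ∀ a : G, (orderOf a).Coprime p → E ≤ centralizer ({a} : Set G) → a ∈ centralizer (U : Set G) := by
  have hpp : p.Prime := Fact.out
  obtain ⟨H₀, hH₀, -, hH₀Z, hH₀C⟩ := PGroup.exists_critical hUp
  haveI := hH₀
  set H := H₀.map U.subtype with hHdef
  haveI hHn : H.Normal := inferInstance
  have hHU : H ≤ U := Subgroup.map_subtype_le _
  have hcl : ∀ x ∈ H, ∀ y ∈ H, ∀ z ∈ H, ⁅x, y⁆ * z = z * ⁅x, y⁆ := by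
    rintro _ ⟨x, hx, rfl⟩ _ ⟨y, hy, rfl⟩ _ ⟨z, hz, rfl⟩
    have h := hH₀Z (Subgroup.commutator_mem_commutator hx (Subgroup.mem_top y))
    rw [← map_commutatorElement, ← map_mul, ← map_mul, Subgroup.mem_centralizer_iff.mp h.2 z hz]
  have hclH : ∀ x y : H, ⁅x, y⁆ ∈ Subgroup.center H := fun x y =>
    Subgroup.mem_center_iff.mpr fun z => Subtype.ext (hcl x x.2 y y.2 z z.2).symm
  let E : Subgroup G :=
    { carrier := {x | x ∈ H ∧ x ^ p = 1}
      one_mem' := ⟨one_mem _, one_pow _⟩
      mul_mem' := fun {a b} ha hb => ⟨mul_mem ha.1 hb.1, by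
        have h1 : (⟨b, hb.1⟩ : H) ^ p = 1 := Subtype.ext hb.2
        have h2 := PGroup.mul_pow_prime hpp hp (x := (⟨a, ha.1⟩ : H)) (y := ⟨b, hb.1⟩) (hclH _ _)
          (by rw [← PGroup.commutator_pow_left (hclH _ _), h1, commutatorElement_one_left])
        have h3 := congrArg Subtype.val h2
        simp only [SubmonoidClass.coe_pow, Subgroup.coe_mul] at h3
        rw [h3, ha.2, hb.2, one_mul]⟩
      inv_mem' := fun {a} ha => ⟨inv_mem ha.1, by rw [inv_pow, ha.2, inv_one]⟩ }
  have hEH : E ≤ H := fun x hx => hx.1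
  refine ⟨E, ⟨fun x hx c => ⟨hHn.conj_mem x hx.1 c, by
    rw [conj_pow, hx.2, mul_one, mul_inv_cancel]⟩⟩, hEH.trans hHU, fun e he => he.2,
    Subgroup.commutator_le.2 fun a ha b hb => Subgroup.mem_centralizer_iff.2 fun z hz =>
      (hcl a (hEH ha) b (hEH hb) z (hEH hz)).symm, fun a hac haE => ?_⟩
  have haH := Coprime.le_centralizer_of_fix_pow_eq_one hp H (zpowers a) (hUp.to_le hHU)
    (by rw [Subgroup.normalizer_eq_top_iff.mpr hHn]; exact le_top)
    (by rwa [Nat.card_zpowers] : (Nat.card (zpowers a)).Coprime p)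
    (fun x hx hxp => Subgroup.zpowers_le.2
      (Subgroup.mem_centralizer_singleton_iff.2 (Subgroup.mem_centralizer_singleton_iff.1 (haE ⟨hx, hxp⟩)).symm))
  have hφ := PGroup.aut_eq_one_of_centralizer_le hUp H₀ hH₀C (MulAut.conjNormal a)
    (hac.coprime_dvd_left (orderOf_map_dvd _ a)) (fun h hh => Subtype.ext (by
      rw [MulAut.conjNormal_apply, mul_inv_eq_iff_eq_mul]
      exact (Subgroup.mem_centralizer_iff.1 (haH (Subgroup.mem_zpowers a)) _ ⟨h, hh, rfl⟩).symm))
  refine Subgroup.mem_centralizer_iff.2 fun u hu => ?_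
  have := congrArg Subtype.val (DFunLike.congr_fun hφ ⟨u, hu⟩)
  rw [MulAut.conjNormal_apply, MulAut.one_apply, mul_inv_eq_iff_eq_mul] at this
  exact this.symm

/-- An elementary abelian subgroup of `U` has order at most `p ^ 2` when `U` has rank at most 2. -/
theorem card_le_sq_of_rankTwo {U B : Subgroup G} (hr : PRankLE p 2 U) (hBU : B ≤ U)
    (hB : IsElementaryAbelian p B) : Nat.card B ≤ p ^ 2 := by
  rw [← Coprime.card_subgroupOf hBU]
  exact hr _ ⟨⟨fun a b => Subtype.ext (Subtype.ext (PGroup.mul_comm_of_elementaryAbelian hB a.2 b.2))⟩⟩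
    fun a ha => Subtype.ext (hB.2 _ ha)

/-- The situation of an element of prime order `q ∤ p (p - 1)` acting nontrivially on a rank two p-group:
a detecting subgroup `E` with `|E| = p² |[E,E]|`, the fixed points being `[E,E]`. -/
theorem exists_rankTwo_detecting {q : ℕ} (hp : p ≠ 2) (hq : q.Prime) (hqp : q ≠ p) (hq1 : ¬ q ∣ p - 1)
    (U : Subgroup G) [U.Normal] (hU : IsPGroup p U) (hr : PRankLE p 2 U) {x : G} (hx : orderOf x = q)
    (hxU : x ∉ centralizer (U : Set G)) :
    ∃ (E : Subgroup G) (_ : E.Normal), E ≤ U ∧ (∀ e ∈ E, e ^ p = 1) ∧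
      ⁅E, E⁆ ≤ centralizer (E : Set G) ∧ Nat.card ↥⁅E, E⁆ ≤ p ∧
      Nat.card E = p ^ 2 * Nat.card ↥⁅E, E⁆ ∧ E ⊓ centralizer ({x} : Set G) = ⁅E, E⁆ ∧ q ∣ p + 1 := by
  have hpp : p.Prime := Fact.out
  obtain ⟨E, hEn, hEU, hexp, hDc, hdet⟩ := exists_detecting_subgroup hp U hU
  have hcop : (orderOf x).Coprime p := hx ▸ (Nat.coprime_primes hq hpp).2 hqp
  have hEp : IsPGroup p E := hU.to_le hEU
  set D := ⁅E, E⁆ with hD
  have hDE : D ≤ E := E.commutator_le_self
  have hE3 : Nat.card E ≤ p ^ 3 :=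
    S3771.result hEp (pRankLE_of_le hEU hr) fun e => Subtype.ext (hexp e e.2)
  obtain ⟨d, hd, hmod⟩ := card_eq_mul_fixed hq hqp E hEp hx
  set F := E ⊓ centralizer ({x} : Set G) with hF
  have hd2 : 2 ≤ d := by
    by_contra h
    refine hxU (hdet x hcop (commute_of_card_le_mul hq hqp hq1 E hEp hx ?_))
    rw [hd]
    exact Nat.mul_le_mul_right _ ((Nat.pow_le_pow_right hpp.pos (by omega : d ≤ 1)).trans (pow_one p).le)
  have hlow : p ^ 2 * Nat.card F ≤ Nat.card E :=
    hd ▸ Nat.mul_le_mul_right _ (Nat.pow_le_pow_right hpp.pos hd2)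
  have hmain : Nat.card D ≤ p ∧ Nat.card E ≤ p ^ 2 * Nat.card D := by
    by_cases h0 : D = ⊥
    · rw [h0, Subgroup.card_bot, mul_one]
      refine ⟨hpp.one_lt.le, card_le_sq_of_rankTwo hr hEU (PGroup.isElementaryAbelian_of_forall
        (fun a ha b hb => commutatorElement_eq_one_iff_mul_comm.1 (Subgroup.mem_bot.1
          (h0 ▸ Subgroup.commutator_mem_commutator ha hb))) hexp)⟩
    obtain ⟨j, hj⟩ := (hEp.to_le hDE).exists_card_eq
    have hDlt : D < E := Coprime.commutator_lt_of_isPGroup hEp hEp Subgroup.le_normalizer fun h => h0 (by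
      rw [hD, h, Subgroup.commutator_bot_left])
    have hlt : Nat.card D < Nat.card E :=
      lt_of_le_of_ne (Subgroup.card_le_of_le hDE) fun h => hDlt.ne (Subgroup.eq_of_le_of_card_ge hDE h.ge)
    have hj0 : j ≠ 0 := fun h => h0 (Subgroup.card_eq_one.1 (by rw [hj, h, pow_zero]))
    have hj2 : j < 3 := (Nat.pow_lt_pow_iff_right hpp.one_lt).1 (hj ▸ hlt.trans_le hE3)
    interval_cases j
    · exact absurd rfl hj0
    · rw [hj, pow_one]
      exact ⟨le_rfl, hE3.trans (pow_succ p 2).le⟩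
    · exfalso
      obtain ⟨e, heE, heD⟩ := SetLike.exists_of_lt hDlt
      have hle : D ⊔ zpowers e ≤ E := sup_le hDE (Subgroup.zpowers_le.2 heE)
      have hlt' : Nat.card D < Nat.card ↥(D ⊔ zpowers e) :=
        lt_of_le_of_ne (Subgroup.card_le_of_le le_sup_left) fun h => heD
          ((Subgroup.eq_of_le_of_card_ge le_sup_left h.ge).ge (Subgroup.mem_sup_right (Subgroup.mem_zpowers e)))
      obtain ⟨i, hi⟩ := (hEp.to_le hle).exists_card_eq
      rw [hj, hi, Nat.pow_lt_pow_iff_right hpp.one_lt] at hlt'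
      have heq : D ⊔ zpowers e = E := Subgroup.eq_of_le_of_card_ge hle
        (hi ▸ hE3.trans (Nat.pow_le_pow_right hpp.pos hlt'))
      have hDE' : E ≤ centralizer (D : Set G) := Subgroup.le_centralizer_iff.1 hDc
      have heC : e ∈ centralizer (E : Set G) := by
        have h2 : D ⊔ zpowers e ≤ centralizer ({e} : Set G) := sup_le
          (fun d' hd' => Subgroup.mem_centralizer_singleton_iff.2
            (Subgroup.mem_centralizer_iff.1 (hDE' heE) d' hd'))
          (Subgroup.zpowers_le.2 (Subgroup.mem_centralizer_singleton_iff.2 rfl))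
        exact Subgroup.mem_centralizer_iff.2 fun z hz =>
          Subgroup.mem_centralizer_singleton_iff.1 (h2 (heq.ge hz))
      have hEC : E ≤ centralizer (E : Set G) := heq ▸ sup_le (heq.symm ▸ hDc)
        (heq.symm ▸ Subgroup.zpowers_le.2 heC)
      exact h0 ((Subgroup.commutator_eq_bot_iff_le_centralizer).2 hEC)
  obtain ⟨hD1, hE2⟩ := hmain
  have hDx : D ≤ F := by
    haveI : D.Normal := Subgroup.commutator_normal E E
    exact le_inf hDE (commute_of_card_le_mul hq hqp hq1 D (hEp.to_le hDE) hx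
      (hD1.trans (Nat.le_mul_of_pos_right p Nat.card_pos)))
  have hFD : F = D := (Subgroup.eq_of_le_of_card_ge hDx
    (Nat.le_of_mul_le_mul_left (hlow.trans hE2) (pow_pos hpp.pos 2))).symm
  rw [hFD] at hlow hd
  have hcardE : Nat.card E = p ^ 2 * Nat.card D := le_antisymm hE2 hlow
  have hdd : d = 2 := Nat.pow_right_injective hpp.two_le
    (Nat.eq_of_mul_eq_mul_right Nat.card_pos (hd.symm.trans hcardE))
  refine ⟨E, hEn, hEU, hexp, hDc, hD1, hcardE, hFD, ?_⟩
  subst hdd
  have h := (Nat.modEq_iff_dvd' (Nat.one_le_pow _ _ hpp.pos)).1 hmod.symm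
  rw [show p ^ 2 - 1 = (p + 1) * (p - 1) by rw [← Nat.sq_sub_sq, one_pow]] at h
  exact (hq.dvd_mul.1 h).resolve_right hq1

/-- `q ∣ p + 1`. -/
theorem dvd_add_one_of_rankTwo {q : ℕ} (hp : p ≠ 2) (hq : q.Prime) (hqp : q ≠ p) (hq1 : ¬ q ∣ p - 1)
    (U : Subgroup G) [U.Normal] (hU : IsPGroup p U) (hr : PRankLE p 2 U) {x : G} (hx : orderOf x = q)
    (hxU : x ∉ centralizer (U : Set G)) : q ∣ p + 1 := by
  obtain ⟨E, _, _, _, _, _, _, _, h⟩ := exists_rankTwo_detecting hp hq hqp hq1 U hU hr hx hxU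
  exact h

/-- The commutator subgroup of a p-group with `[G : Φ(G)] ≤ p²` is cyclic modulo `[G', G]`. -/
theorem exists_commutator_le_sup {P : Type*} [Group P] [Finite P] (hP : IsPGroup p P)
    (hi : (frattini P).index ≤ p ^ 2) :
    ∃ c : P, commutator P ≤ zpowers c ⊔ ⁅commutator P, (⊤ : Subgroup P)⁆ := by
  classical
  have := Fintype.ofFinite P
  have hpp : p.Prime := Fact.out
  obtain ⟨T, -, hTe, hTc⟩ := PGroup.exists_basis hP (Finset.univ : Finset P)
  rw [Finset.coe_univ, Subgroup.closure_univ, top_sup_eq] at hTe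
  have hT : Subgroup.closure (T : Set P) = ⊤ := PGroup.closure_eq_top_of_sup_frattini hTe
  rw [hTe, Subgroup.card_top, ← (frattini P).card_mul_index] at hTc
  have hT2 : T.card ≤ 2 := (Nat.pow_le_pow_iff_right hpp.one_lt).1
    ((Nat.eq_of_mul_eq_mul_left Nat.card_pos hTc) ▸ hi)
  obtain ⟨a, b, hab⟩ : ∃ a b : P, ∀ t ∈ T, t = a ∨ t = b := by
    rcases Nat.lt_or_ge T.card 2 with h | h
    · obtain ⟨a, ha⟩ := Finset.card_le_one_iff_subset_singleton.1 (Nat.le_of_lt_succ h)
      exact ⟨a, a, fun t ht => Or.inl (Finset.mem_singleton.1 (ha ht))⟩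
    · obtain ⟨a, b, -, rfl⟩ := Finset.card_eq_two.1 (le_antisymm hT2 h)
      exact ⟨a, b, fun t ht => by simpa using ht⟩
  refine ⟨⁅a, b⁆, ?_⟩
  set L := ⁅commutator P, (⊤ : Subgroup P)⁆
  haveI : L.Normal := Subgroup.commutator_normal _ _
  set π := QuotientGroup.mk' L
  have hcen : π ⁅a, b⁆ ∈ Subgroup.center (P ⧸ L) := Subgroup.mem_center_iff.2 fun y => by
    obtain ⟨y, rfl⟩ := QuotientGroup.mk'_surjective L y
    refine (commutatorElement_eq_one_iff_mul_comm.1 ?_).symm
    rw [← map_commutatorElement]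
    exact (QuotientGroup.eq_one_iff _).2 (Subgroup.commutator_mem_commutator
      (Subgroup.commutator_mem_commutator (Subgroup.mem_top a) (Subgroup.mem_top b)) (Subgroup.mem_top y))
  set W := zpowers (π ⁅a, b⁆) with hW
  have hgen : Subgroup.closure ((W : Set (P ⧸ L)) ∪ Set.range fun t : T => π t) = ⊤ := by
    refine top_le_iff.1 ?_
    rw [← Subgroup.map_top_of_surjective π (QuotientGroup.mk'_surjective L), ← hT, MonoidHom.map_closure]
    refine Subgroup.closure_mono ?_
    rintro _ ⟨t, ht, rfl⟩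
    exact Or.inr ⟨⟨t, ht⟩, rfl⟩
  have hall := PGroup.commutator_mem_of_generators W (Subgroup.zpowers_le.2 hcen) (fun t : T => π t) hgen
    fun s t => by
      rcases hab s s.2 with hs | hs <;> rcases hab t t.2 with ht | ht <;> simp only [hs, ht]
      · rw [commutatorElement_self]; exact one_mem _
      · rw [← map_commutatorElement]; exact Subgroup.mem_zpowers _
      · rw [← commutatorElement_inv, ← map_commutatorElement]; exact inv_mem (Subgroup.mem_zpowers _)
      · rw [commutatorElement_self]; exact one_mem _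
  rw [commutator_def, Subgroup.commutator_le]
  intro y _ z _
  have h1 : ⁅y, z⁆ ∈ W.comap π := by
    rw [Subgroup.mem_comap, map_commutatorElement]
    exact hall _ _
  rwa [hW, ← MonoidHom.map_zpowers, Subgroup.comap_map_eq, QuotientGroup.ker_mk'] at h1

/-- The non-abelian case of `card_eq_cube_of_rankTwo`. -/
theorem card_eq_cube_of_commutator_ne_bot {q : ℕ} (hp : p ≠ 2) (hq : q.Prime) (hqp : q ≠ p) (hq1 : ¬ q ∣ p - 1)
    (U : Subgroup G) [U.Normal] (hU : IsPGroup p U) (hr : PRankLE p 2 U) {x : G} (hx : orderOf x = q)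
    (hUx : U ≤ ⁅U, zpowers x⁆) (hab : ⁅U, U⁆ ≠ ⊥) : Nat.card U = p ^ 3 := by
  have hpp : p.Prime := Fact.out
  have hxU : x ∉ centralizer (U : Set G) := fun h => hab <| by
    have h0 : ⁅U, zpowers x⁆ = ⊥ := Subgroup.commutator_eq_bot_iff_le_centralizer.2
      (Subgroup.le_centralizer_iff.2 (Subgroup.zpowers_le.2 h))
    rw [le_bot_iff.1 (hUx.trans h0.le), Subgroup.commutator_bot_left]
  obtain ⟨E, hEn, hEU, hexp, hDc, hD1, hcardE, hFD, -⟩ :=
    exists_rankTwo_detecting hp hq hqp hq1 U hU hr hx hxU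
  haveI := hEn
  have hEp : IsPGroup p E := hU.to_le hEU
  set D := ⁅E, E⁆ with hD
  haveI hDn : D.Normal := Subgroup.commutator_normal E E
  have hDE : D ≤ E := E.commutator_le_self
  have hEne : E ≠ ⊥ := fun h => by
    rw [h, Subgroup.card_bot] at hcardE
    exact (Nat.one_lt_pow two_ne_zero hpp.one_lt).not_ge
      (hcardE ▸ Nat.le_mul_of_pos_right _ Nat.card_pos)
  -- no normal subgroup strictly between `D` and `E`
  have hmid : ∀ M : Subgroup G, M.Normal → M ≤ E → D ≤ M → M ≠ E → M = D := by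
    intro M hMn hME hDM hne
    haveI := hMn
    refine le_antisymm ?_ hDM
    rw [← hFD]
    refine le_inf hME (commute_of_card_le_mul hq hqp hq1 M (hEp.to_le hME) hx ?_)
    obtain ⟨i, hi⟩ := (hEp.to_le hME).exists_card_eq
    obtain ⟨j, hj⟩ := (hEp.to_le hDE).exists_card_eq
    have hlt : Nat.card M < Nat.card E :=
      lt_of_le_of_ne (Subgroup.card_le_of_le hME) fun h => hne (Subgroup.eq_of_le_of_card_ge hME h.ge)
    rw [hcardE, hj, hi, ← pow_add, Nat.pow_lt_pow_iff_right hpp.one_lt] at hlt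
    calc Nat.card M ≤ p * Nat.card D := by
          rw [hi, hj, ← pow_succ']; exact Nat.pow_le_pow_right hpp.pos (by omega)
      _ ≤ p * Nat.card ↥(M ⊓ centralizer ({x} : Set G)) :=
          Nat.mul_le_mul_left _ (Subgroup.card_le_of_le (le_inf hDM (hFD.ge.trans inf_le_right)))
  have hEU' : ⁅E, U⁆ = D := by
    refine hmid _ (Subgroup.commutator_normal E U) ?_ (Subgroup.commutator_mono le_rfl hEU) ?_
    · exact Subgroup.commutator_le_left E U
    · exact (Coprime.commutator_lt_of_isPGroup hU hEp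
        (by rw [Subgroup.normalizer_eq_top_iff.2 hEn]; exact le_top) hEne).ne
  have hDU : D ≤ centralizer (U : Set G) := by
    rw [← Subgroup.commutator_eq_bot_iff_le_centralizer]
    by_contra h
    have hlt : ⁅D, U⁆ < D := Coprime.commutator_lt_of_isPGroup hU (hEp.to_le hDE)
      (by rw [Subgroup.normalizer_eq_top_iff.2 hDn]; exact le_top)
      fun h' => h (by rw [h', Subgroup.commutator_bot_left])
    obtain ⟨i, hi⟩ := ((hEp.to_le hDE).to_le hlt.le).exists_card_eq
    have hlt' : Nat.card ↥⁅D, U⁆ < p :=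
      lt_of_lt_of_le (lt_of_le_of_ne (Subgroup.card_le_of_le hlt.le) fun e =>
        hlt.ne (Subgroup.eq_of_le_of_card_ge hlt.le e.ge)) hD1
    rw [hi] at hlt'
    nth_rewrite 2 [← pow_one p] at hlt'
    have : i = 0 := by have := (Nat.pow_lt_pow_iff_right hpp.one_lt).1 hlt'; omega
    exact h (Subgroup.card_eq_one.1 (by rw [hi, this, pow_zero]))
  -- elements of order `p` commuting with a proper element of `E` lie in `E`
  have hmemE : ∀ e ∈ E, e ∉ D → ∀ z ∈ U, z ^ p = 1 → Commute e z → z ∈ E := by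
    intro e heE heD z hzU hzp hez
    have hDel : IsElementaryAbelian p D := PGroup.isElementaryAbelian_of_forall
      (fun a ha b hb => (Subgroup.mem_centralizer_iff.1 (hDc ha) b (hDE hb)).symm) fun a ha => hexp a (hDE ha)
    have hB := PGroup.isElementaryAbelian_sup hDel (PGroup.isElementaryAbelian_zpowers (hexp e heE))
      fun a ha b hb => (Subgroup.mem_centralizer_iff.1 (hDc ha) b (Subgroup.zpowers_le.2 heE hb)).symm
    have hB' := PGroup.isElementaryAbelian_sup hB (PGroup.isElementaryAbelian_zpowers hzp) fun a ha b hb => by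
      obtain ⟨k, rfl⟩ := hb
      have : D ⊔ zpowers e ≤ centralizer ({z} : Set G) := sup_le
        (fun d hd => Subgroup.mem_centralizer_singleton_iff.2
          (Subgroup.mem_centralizer_iff.1 (hDU hd) z hzU).symm)
        (Subgroup.zpowers_le.2 (Subgroup.mem_centralizer_singleton_iff.2 hez.eq))
      exact ((show Commute a z from Subgroup.mem_centralizer_singleton_iff.1 (this ha)).zpow_right k).eq
    have hBE : D ⊔ zpowers e ≤ E := sup_le hDE (Subgroup.zpowers_le.2 heE)
    by_contra hzE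
    have h1 := card_le_sq_of_rankTwo hr (sup_le (hBE.trans hEU) (Subgroup.zpowers_le.2 hzU)) hB'
    have e2 : Nat.card D < Nat.card ↥(D ⊔ zpowers e) :=
      lt_of_le_of_ne (Subgroup.card_le_of_le le_sup_left) fun h => heD
        ((Subgroup.eq_of_le_of_card_ge le_sup_left h.ge).ge (Subgroup.mem_sup_right (Subgroup.mem_zpowers e)))
    have e3 : Nat.card ↥(D ⊔ zpowers e) < Nat.card ↥(D ⊔ zpowers e ⊔ zpowers z) :=
      lt_of_le_of_ne (Subgroup.card_le_of_le le_sup_left) fun h => hzE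
        (hBE ((Subgroup.eq_of_le_of_card_ge le_sup_left h.ge).ge (Subgroup.mem_sup_right (Subgroup.mem_zpowers z))))
    obtain ⟨i, hi⟩ := (PGroup.isPGroup_of_elementaryAbelian hB).exists_card_eq
    obtain ⟨j, hj⟩ := (PGroup.isPGroup_of_elementaryAbelian hB').exists_card_eq
    obtain ⟨k, hk⟩ := (hEp.to_le hDE).exists_card_eq
    rw [hi, hk, Nat.pow_lt_pow_iff_right hpp.one_lt] at e2
    rw [hi, hj, Nat.pow_lt_pow_iff_right hpp.one_lt] at e3
    rw [hj, Nat.pow_le_pow_iff_right hpp.one_lt] at h1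
    rcases Nat.eq_zero_or_pos k with hk0 | hk0
    · -- then `E` is abelian of order `p²` and `z` commutes with all of it
      subst hk0
      have hD0 : D = ⊥ := Subgroup.card_eq_one.1 (by rw [hk, pow_zero])
      have hEel : IsElementaryAbelian p E := PGroup.isElementaryAbelian_of_forall
        (fun a ha b hb => commutatorElement_eq_one_iff_mul_comm.1 (Subgroup.mem_bot.1
          (hD0 ▸ Subgroup.commutator_mem_commutator ha hb))) hexp
      have hEz : E ≤ centralizer (U : Set G) :=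
        Subgroup.commutator_eq_bot_iff_le_centralizer.1 (hEU'.trans hD0)
      have hB2 := PGroup.isElementaryAbelian_sup hEel (PGroup.isElementaryAbelian_zpowers hzp)
        fun a ha b hb => (Subgroup.mem_centralizer_iff.1 (hEz ha) b (Subgroup.zpowers_le.2 hzU hb)).symm
      refine hzE ((Subgroup.eq_of_le_of_card_ge (le_sup_left : E ≤ E ⊔ zpowers z) ?_).ge
        (Subgroup.mem_sup_right (Subgroup.mem_zpowers z)))
      rw [hcardE, hk, pow_zero, mul_one]
      exact card_le_sq_of_rankTwo hr (sup_le hEU (Subgroup.zpowers_le.2 hzU)) hB2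
    · omega
  by_cases hD0 : D = ⊥
  · -- `x` has no fixed points
    exfalso
    rw [hD0, Subgroup.card_bot, mul_one] at hcardE
    have hEz : E ≤ centralizer (U : Set G) :=
      Subgroup.commutator_eq_bot_iff_le_centralizer.1 (hEU'.trans hD0)
    obtain ⟨e, heE, he1⟩ : ∃ e ∈ E, e ∉ D := by
      obtain ⟨⟨e, he⟩, he1⟩ := Subgroup.ne_bot_iff_exists_ne_one.1 hEne
      exact ⟨e, he, fun h => he1 (Subtype.ext (Subgroup.mem_bot.1 (hD0 ▸ h)))⟩
    have hord : ∀ z ∈ U, z ^ p = 1 → z ∈ E := fun z hz hzp => hmemE e heE he1 z hz hzp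
      (Subgroup.mem_centralizer_iff.1 (hEz heE) z hz).symm
    have hfpf : ∀ v ∈ U, v ∈ centralizer ({x} : Set G) → v = 1 := by
      intro v hv hvx
      by_contra hv1
      obtain ⟨k, hk⟩ := hU ⟨v, hv⟩
      have hk' : v ^ p ^ k = 1 := congrArg Subtype.val hk
      obtain ⟨i, -, hi⟩ := (Nat.dvd_prime_pow hpp).1 (orderOf_dvd_of_pow_eq_one hk')
      have hi0 : i ≠ 0 := fun h => hv1 (orderOf_eq_one_iff.1 (by rw [hi, h, pow_zero]))
      set w := v ^ p ^ (i - 1) with hw
      have hwp : w ^ p = 1 := by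
        rw [hw, ← pow_mul, ← pow_succ, Nat.sub_add_cancel (Nat.one_le_iff_ne_zero.2 hi0), ← hi, pow_orderOf_eq_one]
      have hw1 : w ∈ (⊥ : Subgroup G) := hD0 ▸ hFD ▸
        (⟨hord w (pow_mem hv _) hwp, pow_mem hvx _⟩ : w ∈ E ⊓ centralizer ({x} : Set G))
      have hdvd := orderOf_dvd_of_pow_eq_one (Subgroup.mem_bot.1 hw1)
      rw [hi, Nat.pow_dvd_pow_iff_le_right hpp.one_lt] at hdvd
      omega
    -- the commutator subgroup is cyclic modulo `⁅U',U⁆`
    have hfr : (frattini U).index ≤ p ^ 2 := by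
      refine (PGroup.frattini_index_le hp hU fun z hz => Subgroup.mem_center_iff.2 fun w => Subtype.ext
        (Subgroup.mem_centralizer_iff.1 (hEz (hord z z.2 (congrArg Subtype.val hz))) w w.2)).trans ?_
      rw [← hcardE]
      exact Nat.card_le_card_of_injective (fun z => (⟨z.1.1, hord _ z.1.2 (congrArg Subtype.val z.2)⟩ : E))
        fun a b h => Subtype.ext (Subtype.ext (congrArg (fun e : E => (e : G)) h))
    obtain ⟨c, hc⟩ := exists_commutator_le_sup hU hfr
    have hU'map : (commutator U).map U.subtype = ⁅U, U⁆ := by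
      rw [commutator_def, Subgroup.map_commutator, ← MonoidHom.range_eq_map, Subgroup.range_subtype]
    set L := ⁅⁅U, U⁆, U⁆ with hL
    haveI : (⁅U, U⁆).Normal := Subgroup.commutator_normal U U
    haveI hLn : L.Normal := Subgroup.commutator_normal _ _
    have hU'U : ⁅U, U⁆ ≤ U := U.commutator_le_self
    have hLlt : L < ⁅U, U⁆ := Coprime.commutator_lt_of_isPGroup hU (hU.to_le hU'U)
      (by rw [Subgroup.normalizer_eq_top_iff.2 inferInstance]; exact le_top) hab
    have hcyc : ⁅U, U⁆ ≤ zpowers (c : G) ⊔ L := by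
      rw [← hU'map]
      refine (Subgroup.map_mono hc).trans ?_
      rw [Subgroup.map_sup, MonoidHom.map_zpowers, Subgroup.map_commutator, hU'map, ← MonoidHom.range_eq_map,
        Subgroup.range_subtype]
      rfl
    set π := QuotientGroup.mk' L
    set M := (⁅U, U⁆).map π
    haveI hMn : M.Normal := Subgroup.Normal.map inferInstance π (QuotientGroup.mk'_surjective L)
    haveI : IsCyclic M := by
      have hle : M ≤ zpowers (π c) := by
        refine (Subgroup.map_mono hcyc).trans ?_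
        rw [Subgroup.map_sup, QuotientGroup.map_mk'_self, sup_bot_eq, MonoidHom.map_zpowers]
      exact isCyclic_of_injective (Subgroup.inclusion hle) (Subgroup.inclusion_injective hle)
    obtain ⟨k, hk⟩ := ((hU.to_le hU'U).map π : IsPGroup p M).exists_card_eq
    have hone : MulAut.conjNormal (H := M) (π x) = 1 := by
      refine orderOf_eq_one_iff.1 ?_
      have h1 : orderOf (MulAut.conjNormal (H := M) (π x)) ∣ q :=
        hx ▸ (orderOf_map_dvd _ (π x)).trans (orderOf_map_dvd π x)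
      rcases (Nat.dvd_prime hq).1 h1 with h | h
      · exact h
      exfalso
      have h2 : q ∣ Nat.totient (p ^ k) := by
        rw [← hk, ← IsCyclic.card_mulAut, ← h]
        exact orderOf_dvd_natCard _
      rcases Nat.eq_zero_or_pos k with hk0 | hk0
      · rw [hk0, pow_zero, Nat.totient_one] at h2
        exact hq.ne_one (Nat.dvd_one.1 h2)
      · rw [Nat.totient_prime_pow hpp hk0] at h2
        rcases hq.dvd_mul.1 h2 with h3 | h3
        · exact hqp ((Nat.prime_dvd_prime_iff_eq hq hpp).1 (hq.dvd_of_dvd_pow h3))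
        · exact hq1 h3
    have hmapsto : ∀ m ∈ ⁅U, U⁆, ⁅x, m⁆ ∈ L := by
      intro m hm
      rw [← QuotientGroup.eq_one_iff (N := L)]
      show π ⁅x, m⁆ = 1
      rw [map_commutatorElement, commutatorElement_eq_one_iff_mul_comm]
      have := congrArg Subtype.val (DFunLike.congr_fun hone ⟨π m, ⟨m, hm, rfl⟩⟩)
      rw [MulAut.conjNormal_apply, MulAut.one_apply, mul_inv_eq_iff_eq_mul] at this
      exact this
    refine (lt_irrefl (Nat.card ↥⁅U, U⁆)) (lt_of_le_of_lt (Nat.card_le_card_of_injective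
      (fun m : ↥⁅U, U⁆ => (⟨⁅x, (m : G)⁆, hmapsto m m.2⟩ : L)) fun a b hab' => ?_)
      (lt_of_le_of_ne (Subgroup.card_le_of_le hLlt.le) fun h => hLlt.ne
        (Subgroup.eq_of_le_of_card_ge hLlt.le h.ge)))
    have h' : ⁅x, (a : G)⁆ = ⁅x, (b : G)⁆ := congrArg (fun l : L => (l : G)) hab'
    have hmem : (a : G)⁻¹ * b ∈ centralizer ({x} : Set G) := by
      refine Subgroup.mem_centralizer_singleton_iff.2 ?_
      simp only [commutatorElement_def] at h'
      have h3 : Commute ((a : G)⁻¹ * b) x⁻¹ := by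
        calc (a : G)⁻¹ * b * x⁻¹ = (a : G)⁻¹ * x⁻¹ * (x * b * x⁻¹ * (b : G)⁻¹) * b := by group
          _ = (a : G)⁻¹ * x⁻¹ * (x * a * x⁻¹ * (a : G)⁻¹) * b := by rw [h']
          _ = x⁻¹ * ((a : G)⁻¹ * b) := by group
      exact (Commute.inv_right_iff.1 h3).eq
    exact Subtype.ext (inv_mul_eq_one.1 (hfpf _ (U.mul_mem (U.inv_mem (hU'U a.2)) (hU'U b.2)) hmem))
  -- `E` is nonabelian of order `p³` and `U = E C_U(E)`
  have hDcard : Nat.card D = p := by
    obtain ⟨j, hj⟩ := (hEp.to_le hDE).exists_card_eq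
    have hj0 : j ≠ 0 := fun h => hD0 (Subgroup.card_eq_one.1 (by rw [hj, h, pow_zero]))
    exact le_antisymm hD1 (hj ▸ Nat.le_self_pow hj0 p)
  set C := U ⊓ centralizer (E : Set G) with hC
  haveI hCn : C.Normal := by
    haveI : (centralizer (E : Set G)).Normal := Subgroup.normal_centralizer
    infer_instance
  have hECD : E ⊓ C = D := by
    refine hmid _ inferInstance inf_le_left (le_inf hDE (le_inf (hDE.trans hEU) hDc)) fun h => hD0 ?_
    rw [hD, Subgroup.commutator_eq_bot_iff_le_centralizer]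
    exact (inf_eq_left.1 h).trans inf_le_right
  obtain ⟨e, heE, heD⟩ := SetLike.exists_of_lt (lt_of_le_of_ne hDE fun h => by
    rw [← h, hDcard] at hcardE
    exact (lt_mul_left hpp.pos (Nat.one_lt_pow two_ne_zero hpp.one_lt)).ne hcardE)
  have hDe : D ⊔ zpowers e ≤ E := sup_le hDE (Subgroup.zpowers_le.2 heE)
  obtain ⟨f, hfE, hfD⟩ : ∃ f ∈ E, f ∉ D ⊔ zpowers e := by
    by_contra hcon
    push Not at hcon
    refine hD0 ((Subgroup.commutator_eq_bot_iff_le_centralizer).2 ?_)
    have h2 : D ⊔ zpowers e ≤ centralizer ({e} : Set G) := sup_le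
      (fun d' hd' => Subgroup.mem_centralizer_singleton_iff.2
        (Subgroup.mem_centralizer_iff.1 (hDc hd') e heE).symm)
      (Subgroup.zpowers_le.2 (Subgroup.mem_centralizer_singleton_iff.2 rfl))
    exact le_trans (fun y hy => hcon y hy) (sup_le hDc (Subgroup.zpowers_le.2
      (Subgroup.mem_centralizer_iff.2 fun z hz => Subgroup.mem_centralizer_singleton_iff.1 (h2 (hcon z hz)))))
  have hgen : E = D ⊔ zpowers e ⊔ zpowers f := by
    have hle : D ⊔ zpowers e ⊔ zpowers f ≤ E := sup_le hDe (Subgroup.zpowers_le.2 hfE)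
    refine (Subgroup.eq_of_le_of_card_ge hle ?_).symm
    have e2 : Nat.card D < Nat.card ↥(D ⊔ zpowers e) :=
      lt_of_le_of_ne (Subgroup.card_le_of_le le_sup_left) fun h => heD
        ((Subgroup.eq_of_le_of_card_ge le_sup_left h.ge).ge (Subgroup.mem_sup_right (Subgroup.mem_zpowers e)))
    have e3 : Nat.card ↥(D ⊔ zpowers e) < Nat.card ↥(D ⊔ zpowers e ⊔ zpowers f) :=
      lt_of_le_of_ne (Subgroup.card_le_of_le le_sup_left) fun h => hfD
        ((Subgroup.eq_of_le_of_card_ge le_sup_left h.ge).ge (Subgroup.mem_sup_right (Subgroup.mem_zpowers f)))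
    obtain ⟨i, hi⟩ := (hEp.to_le hDe).exists_card_eq
    obtain ⟨j, hj⟩ := (hEp.to_le hle).exists_card_eq
    rw [hi, hDcard] at e2
    nth_rewrite 1 [← pow_one p] at e2
    rw [Nat.pow_lt_pow_iff_right hpp.one_lt] at e2
    rw [hi, hj, Nat.pow_lt_pow_iff_right hpp.one_lt] at e3
    rw [hj, hcardE, hDcard, ← pow_succ]
    exact Nat.pow_le_pow_right hpp.pos (by omega)
  have hmemD : ∀ u ∈ U, ∀ v ∈ E, ⁅u, v⁆ ∈ D := fun u hu v hv => by
    rw [← hEU', Subgroup.commutator_comm]
    exact Subgroup.commutator_mem_commutator hu hv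
  have hadd : ∀ u ∈ U, ∀ w ∈ U, ∀ v ∈ E, ⁅u * w, v⁆ = ⁅u, v⁆ * ⁅w, v⁆ := by
    intro u hu w hw v hv
    have hz := Subgroup.mem_centralizer_iff.1 (hDU (hmemD w hw v hv))
    calc ⁅u * w, v⁆ = u * ⁅w, v⁆ * u⁻¹ * ⁅u, v⁆ := by simp only [commutatorElement_def]; group
      _ = ⁅w, v⁆ * ⁅u, v⁆ := by rw [hz u hu, mul_inv_cancel_right]
      _ = ⁅u, v⁆ * ⁅w, v⁆ := (hz _ (hEU (hDE (hmemD u hu v hv)))).symm
  let φ : ↥U →* D × D :=
    MonoidHom.mk' (fun u => (⟨⁅(u : G), e⁆, hmemD u u.2 e heE⟩, ⟨⁅(u : G), f⁆, hmemD u u.2 f hfE⟩))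
      fun u w => Prod.ext (Subtype.ext (hadd u u.2 w w.2 e heE)) (Subtype.ext (hadd u u.2 w w.2 f hfE))
  have hCU : Nat.card U ≤ Nat.card C * (p * p) := by
    have hker : Nat.card φ.ker ≤ Nat.card C := by
      refine Nat.card_le_card_of_injective (fun u => (⟨u.1.1, u.1.2, ?_⟩ : C))
        fun a b h => Subtype.ext (Subtype.ext (congrArg (fun c : C => (c : G)) h))
      have h1 : ⁅(u.1 : G), e⁆ = 1 := congrArg Subtype.val (congrArg Prod.fst u.2)
      have h2 : ⁅(u.1 : G), f⁆ = 1 := congrArg Subtype.val (congrArg Prod.snd u.2)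
      have hle : D ⊔ zpowers e ⊔ zpowers f ≤ centralizer ({(u.1 : G)} : Set G) := sup_le (sup_le
          (fun d hd => Subgroup.mem_centralizer_singleton_iff.2
            (Subgroup.mem_centralizer_iff.1 (hDU hd) _ u.1.2).symm)
          (Subgroup.zpowers_le.2 (Subgroup.mem_centralizer_singleton_iff.2
            (commutatorElement_eq_one_iff_mul_comm.1 h1).symm)))
        (Subgroup.zpowers_le.2 (Subgroup.mem_centralizer_singleton_iff.2
          (commutatorElement_eq_one_iff_mul_comm.1 h2).symm))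
      exact Subgroup.mem_centralizer_iff.2 fun v hv =>
        Subgroup.mem_centralizer_singleton_iff.1 (hle (hgen.le hv))
    rw [← φ.ker.card_mul_index, Subgroup.index_ker]
    refine Nat.mul_le_mul hker ((Subgroup.card_le_card_group φ.range).trans ?_)
    rw [Nat.card_prod, hDcard]
  have hsup : C ⊔ E = U := by
    refine Subgroup.eq_of_le_of_card_ge (sup_le inf_le_left hEU) (Nat.le_of_mul_le_mul_left ?_ hpp.pos)
    have h3 : E.relIndex (C ⊔ E) = E.relIndex C := Subgroup.relIndex_sup_right C E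
    have h4 : Nat.card E * E.relIndex (C ⊔ E) = Nat.card ↥(C ⊔ E) := by
      rw [← Subgroup.relIndex_bot_left E, Subgroup.relIndex_mul_relIndex _ _ _ bot_le le_sup_right,
        Subgroup.relIndex_bot_left]
    have h5 : p * E.relIndex C = Nat.card C := by
      rw [← hDcard, ← hECD, ← Subgroup.inf_relIndex_right E C, ← Subgroup.relIndex_bot_left (E ⊓ C),
        Subgroup.relIndex_mul_relIndex _ _ _ bot_le inf_le_right, Subgroup.relIndex_bot_left]
    rw [hcardE, hDcard, h3] at h4
    calc p * Nat.card U ≤ p * (Nat.card C * (p * p)) := Nat.mul_le_mul_left _ hCU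
      _ = p * Nat.card ↥(C ⊔ E) := by rw [← h4, ← h5]; ring
  -- `x` centralises `C`
  have hxC : zpowers x ≤ centralizer (C : Set G) := by
    refine Coprime.le_centralizer_of_fix_pow_eq_one hp C (zpowers x) (hU.to_le inf_le_left)
      (by rw [Subgroup.normalizer_eq_top_iff.2 hCn]; exact le_top)
      (by rw [Nat.card_zpowers, hx]; exact (Nat.coprime_primes hq hpp).2 hqp) fun c hc hcp => ?_
    have hcE : c ∈ E := hmemE e heE heD c hc.1 hcp (Subgroup.mem_centralizer_iff.1 hc.2 e heE)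
    have hcx := (hFD.ge (hECD.le ⟨hcE, hc⟩)).2
    exact Subgroup.zpowers_le.2 (Subgroup.mem_centralizer_singleton_iff.2
      (Subgroup.mem_centralizer_singleton_iff.1 hcx).symm)
  have hle : U ≤ E := hUx.trans <| by
    rw [Subgroup.commutator_le]
    intro u hu a ha
    rw [← hsup] at hu
    obtain ⟨c, hc, v, hv, rfl⟩ := Subgroup.mem_sup_of_normal_right.1 hu
    have hca : Commute c a := Subgroup.mem_centralizer_iff.1 (hxC ha) c hc
    have hcom : ⁅c, a⁆ = 1 := commutatorElement_eq_one_iff_mul_comm.2 hca.eq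
    rw [show ⁅c * v, a⁆ = c * ⁅v, a⁆ * c⁻¹ * ⁅c, a⁆ by simp only [commutatorElement_def]; group, hcom, mul_one]
    refine hEn.conj_mem _ ?_ c
    rw [commutatorElement_def, show v * a * v⁻¹ * a⁻¹ = v * (a * v⁻¹ * a⁻¹) by group]
    exact E.mul_mem hv (hEn.conj_mem _ (E.inv_mem hv) a)
  rw [le_antisymm hle hEU, hcardE, hDcard, ← pow_succ]

end Cfsg.Agent.OddOrder
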