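import Cfsg.Agent.Lib.OddOrder.FCoreConsequences
import Cfsg.Agent.S1419
import Cfsg.Agent.S1422
import Cfsg.Agent.S1426
import Cfsg.Agent.Lib.Solvable.Schmidt

/-!
# Bender–Glauberman 15.7, parts (a) and (b): the consequences of a non-TI Fitting subgroup

`NonTI M g`: `g ∉ M` and `F(M) ∩ gF(M)g⁻¹ ≠ 1`, under `BG15Input`.
-/

set_option autoImplicit false
set_option linter.style.haveILetI false
set_option linter.unusedSectionVars false

namespace Cfsg.Agent.OddOrder

open Cfsg
open Subgroup (centralizer normalizer zpowers)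
open scoped Pointwise commutatorElement

universe u
variable {G : Type u} [Group G] [Finite G]

/-- The setting of BG 15.7. -/
structure NonTI (M : Subgroup G) (g : G) : Prop where
  minSimple : IsMinSimpleOddOrder G
  input : BG15Input G
  coatom : IsCoatom M
  not_mem : g ∉ M
  ne : fittingOf M ⊓ (fittingOf M).map (MulAut.conj g).toMonoidHom ≠ ⊥

namespace NonTI

variable {M : Subgroup G} {g : G} (h : NonTI M g)
include h

theorem normalizer_fittingOf : normalizer (fittingOf M : Set G) = M :=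
  normalizer_eq_of_normal h.minSimple h.coatom (fittingOf_le M) (le_normalizer_fittingOf M)
    fun e => h.ne (le_bot_iff.1 (inf_le_left.trans e.le))

theorem not_ti : ¬ IsTISubset (fittingOf M : Set G) := by
  intro hT
  obtain ⟨x, hx, hx1⟩ := (Subgroup.bot_or_exists_ne_one _).resolve_left h.ne
  obtain ⟨z, hz, rfl⟩ := hx.2
  have := hT g (fun hg => h.not_mem (h.normalizer_fittingOf ▸ hg)) z hz hx.1
  exact hx1 (by simp [this])

/-- BG 15.7: `M_F = M_σ`. -/
theorem fittingHall_eq : fittingHallOf M = sigmaCore M := by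
  by_contra hne
  obtain ⟨K, U, hKU⟩ := exists_decomposition h.minSimple h.input.h13 h.coatom
  exact h.not_ti (fittingHall_ne_sigmaCore h.minSimple h.input h.coatom hKU hne).2.1

theorem sigmaCore_le_fittingOf : sigmaCore M ≤ fittingOf M :=
  h.fittingHall_eq ▸ fittingHallOf_le_fittingOf M

theorem nilpotent : Group.IsNilpotent (sigmaCore M) := by
  haveI := isNilpotent_fittingOf M
  exact Group.nilpotent_of_mulEquiv (Subgroup.subgroupOfEquivOfLe h.sigmaCore_le_fittingOf)

theorem fitting_eq : fittingOf M = sigmaCore M ⊔ sigmaComplCore M := by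
  haveI := h.nilpotent
  have e : fittingOf (sigmaCore M) = sigmaCore M :=
    le_antisymm (fittingOf_le _) (le_fittingOf le_rfl Subgroup.le_normalizer h.nilpotent)
  rw [fittingOf_eq_sup M, e]

theorem mem_sigma {q : ℕ} (hq : q.Prime) (hd : q ∣ Nat.card (sigmaCore M)) : q ∈ sigma M :=
  isPiGrp_piCoreOf (sigma M) M q hq hd

/-- For `q ∈ σ(M)` every `q`-subgroup of `M` lies in `O_q(M)`. -/
theorem le_pOf_of_sigma {q : ℕ} [Fact q.Prime] (hq : q ∈ sigma M) {S : Subgroup G} (hSM : S ≤ M)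
    (hS : IsPGroup q S) : S ≤ pOf q M := by
  intro s hs
  obtain ⟨k, hk⟩ := hS ⟨s, hs⟩
  refine mem_pOf (h.sigmaCore_le_fittingOf (le_sigmaCore_of_isPiGrp h.minSimple h.coatom hSM (fun r hr hd => ?_) hs))
    (k := k) (congrArg Subtype.val hk)
  obtain ⟨n, hn⟩ := hS.exists_card_eq
  rwa [(Nat.prime_dvd_prime_iff_eq hr Fact.out).1 (hr.dvd_of_dvd_pow (hn ▸ hd))]

theorem pOf_le_sigmaCore {q : ℕ} [Fact q.Prime] (hq : q ∈ sigma M) : pOf q M ≤ sigmaCore M :=
  le_sigmaCore_of_isPiGrp h.minSimple h.coatom (pOf_le M) fun r hr hd => by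
    obtain ⟨n, hn⟩ := (isPGroup_pOf (r := q) M).exists_card_eq
    rwa [(Nat.prime_dvd_prime_iff_eq hr Fact.out).1 (hr.dvd_of_dvd_pow (hn ▸ hd))]

theorem prime_mem_sigma {r : ℕ} (hr : r.Prime)
    (hd : r ∣ Nat.card ↥(fittingOf M ⊓ (fittingOf M).map (MulAut.conj g).toMonoidHom)) : r ∈ sigma M := by
  haveI := Fact.mk hr
  by_contra hs
  obtain ⟨w, hw⟩ := exists_prime_orderOf_dvd_card' r hd
  rw [← Subgroup.orderOf_coe] at hw
  obtain ⟨hwF, z, hz, hzw⟩ := w.2
  have hzw' : MulAut.conj g z = (w : G) := hzw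
  have hzo : orderOf z = r := by rw [← hw, ← hzw', MulEquiv.orderOf_eq]
  have key : ∀ a ∈ fittingOf M, orderOf a = r → centralizer ({a} : Set G) ≤ M ∧
      ∀ L : Subgroup G, IsCoatom L → centralizer ({a} : Set G) ≤ L → L = M := by
    intro a ha hao
    have haY : a ∈ sigmaComplCore M := by
      have hrY : pOf r M ≤ piCoreOf {q : ℕ | q.Prime ∧ q ∉ sigma M} (fittingOf M) :=
        le_piCoreOf (pOf_le_fittingOf M hr) ((fittingOf_le M).trans (le_normalizer_pOf M)) fun q hq hd' => by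
          obtain ⟨n, hn⟩ := (isPGroup_pOf (r := r) M).exists_card_eq
          exact ⟨hq, (Nat.prime_dvd_prime_iff_eq hq hr).1 (hq.dvd_of_dvd_pow (hn ▸ hd')) ▸ hs⟩
      exact hrY (mem_pOf ha (k := 1) (by rw [pow_one]; exact hao ▸ pow_orderOf_eq_one a))
    have h2 := TheoremB.unique_of_tau2 h.minSimple h.coatom (X := zpowers a)
      (Subgroup.zpowers_le.2 (fittingOf_le M ha))
      (fun e => hr.ne_one (by rw [← hao, Subgroup.zpowers_eq_bot.1 e, orderOf_one]))
      (fun q hq hd' => by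
        rw [Nat.card_zpowers, hao] at hd'
        obtain rfl := (Nat.prime_dvd_prime_iff_eq hq hr).1 hd'
        exact mem_tau2_of_dvd_sigmaComplCore h.minSimple h.coatom
          (hao ▸ Subgroup.orderOf_dvd_natCard _ haY))
      (fun e => sigmaCore_ne_bot h.minSimple h.coatom (le_bot_iff.1 (e ▸ le_inf le_rfl
        (Subgroup.le_centralizer_iff.1 ((Subgroup.zpowers_le.2 haY).trans (sigmaComplCore_le_centralizer M))))))
    rwa [Semiprime.centralizer_zpowers] at h2
  obtain ⟨h1, -⟩ := key z hz hzo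
  obtain ⟨-, h2⟩ := key w hwF hw
  have hMM := h2 (MulAut.conj g • M) (isCoatom_conj h.coatom g) (by
    rw [← hzw', show MulAut.conj g z = g * z * g⁻¹ from rfl, ← conj_smul_centralizer]
    exact Subgroup.pointwise_smul_le_pointwise_smul_iff.2 h1)
  refine h.not_mem ?_
  rw [← normalizer_eq_of_normal h.minSimple h.coatom le_rfl Subgroup.le_normalizer
    (fun e => sigmaCore_ne_bot h.minSimple h.coatom (le_bot_iff.1 (e ▸ sigmaCore_le M)))]
  exact Coprime.mem_normalizer_of_conj_smul_eq hMM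

/-- BG 15.7 (a): `X ≤ M_σ`. -/
theorem le_sigmaCore : fittingOf M ⊓ (fittingOf M).map (MulAut.conj g).toMonoidHom ≤ sigmaCore M :=
  le_sigmaCore_of_isPiGrp h.minSimple h.coatom (inf_le_left.trans (fittingOf_le M))
    fun _ hr hd => h.prime_mem_sigma hr hd

theorem le_inf_conj : fittingOf M ⊓ (fittingOf M).map (MulAut.conj g).toMonoidHom ≤
    sigmaCore M ⊓ M.map (MulAut.conj g).toMonoidHom :=
  le_inf h.le_sigmaCore (inf_le_right.trans (Subgroup.map_mono (fittingOf_le M)))

theorem cyclic_inter : IsCyclic ↥(sigmaCore M ⊓ M.map (MulAut.conj g).toMonoidHom) ∧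
    (∀ p : ℕ, p.Prime → p ∣ Nat.card ↥(sigmaCore M ⊓ M.map (MulAut.conj g).toMonoidHom) → p ∉ beta M) ∧
    sigmaCore M ⊓ M.map (MulAut.conj g).toMonoidHom ⊓ ⁅sigmaCore M, sigmaCore M⁆ = ⊥ := by
  obtain ⟨E, hE⟩ := exists_complIn h.minSimple h.coatom
  exact (S1426.result h.minSimple M h.coatom E hE).2.2 g h.not_mem

/-- BG 15.7 (a): `X` is cyclic. -/
theorem cyclic : IsCyclic ↥(fittingOf M ⊓ (fittingOf M).map (MulAut.conj g).toMonoidHom) :=
  haveI := h.cyclic_inter.1
  isCyclic_of_injective (Subgroup.inclusion h.le_inf_conj) (Subgroup.inclusion_injective _)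

/-- The centralizer of a non-identity element of `X` is not contained in `M`. -/
theorem not_centralizer_le {x : G} (hx : x ∈ fittingOf M ⊓ (fittingOf M).map (MulAut.conj g).toMonoidHom)
    (hx1 : x ≠ 1) : ¬ centralizer ({x} : Set G) ≤ M := by
  intro hle
  obtain ⟨-, R, -, hR, huni⟩ := supporting_transitive h.minSimple h.input.h13.partition h.input.h13.transfer
    h.coatom (h.le_sigmaCore hx) hx1
  obtain ⟨r, ⟨hr, hrg⟩, -⟩ := huni g ((Subgroup.map_mono (fittingOf_le M)) hx.2)
  have hrM : r ∈ M := hle (hR.2.1 hr)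
  have e : MulAut.conj g • M = M := hrg.symm.trans (Coprime.conj_smul_eq_self_of_mem (Subgroup.le_normalizer hrM))
  refine h.not_mem ?_
  rw [← normalizer_eq_of_normal h.minSimple h.coatom le_rfl Subgroup.le_normalizer
    (fun e' => sigmaCore_ne_bot h.minSimple h.coatom (le_bot_iff.1 (e' ▸ sigmaCore_le M)))]
  exact Coprime.mem_normalizer_of_conj_smul_eq e

end NonTI

/-- A second maximal subgroup `N` through an element `x` of prime order `p` of `X`. -/
structure NonTIPair (M : Subgroup G) (g : G) (p : ℕ) (x : G) (N : Subgroup G) : Prop where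
  base : NonTI M g
  mem : x ∈ fittingOf M ⊓ (fittingOf M).map (MulAut.conj g).toMonoidHom
  order : orderOf x = p
  coatom' : IsCoatom N
  normalizer_le : normalizer (zpowers x : Set G) ≤ N
  ne : N ≠ M

theorem NonTI.exists_pair {M : Subgroup G} {g : G} (h : NonTI M g) {p : ℕ} [hp : Fact p.Prime]
    (hd : p ∣ Nat.card ↥(fittingOf M ⊓ (fittingOf M).map (MulAut.conj g).toMonoidHom)) :
    ∃ (x : G) (N : Subgroup G), NonTIPair M g p x N := by
  obtain ⟨x, hx⟩ := exists_prime_orderOf_dvd_card' p hd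
  rw [← Subgroup.orderOf_coe] at hx
  have hx1 : (x : G) ≠ 1 := fun e => hp.out.ne_one (by rw [← hx, e, orderOf_one])
  obtain ⟨N, hN, hle⟩ := exists_coatom_ge (normalizer_ne_top_of_pgroup h.minSimple (p := p)
    (P := zpowers (x : G)) (IsPGroup.of_card (n := 1) (by rw [Nat.card_zpowers, hx, pow_one]))
    (fun e => hx1 (Subgroup.zpowers_eq_bot.1 e)))
  refine ⟨x, N, h, x.2, hx, hN, hle, fun e => h.not_centralizer_le x.2 hx1 ?_⟩
  rw [← Semiprime.centralizer_zpowers]
  exact (Subgroup.centralizer_le_normalizer _).trans (e ▸ hle)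

namespace NonTIPair

variable {M N : Subgroup G} {g x : G} {p : ℕ} [hp : Fact p.Prime] (h : NonTIPair M g p x N)
include h

theorem ne_one : x ≠ 1 := fun e => hp.out.ne_one (by rw [← h.order, e, orderOf_one])

theorem mem_core : x ∈ sigmaCore M := h.base.le_sigmaCore h.mem

theorem dvd_card : p ∣ Nat.card (sigmaCore M) := h.order ▸ Subgroup.orderOf_dvd_natCard _ h.mem_core

theorem mem_sigma : p ∈ sigma M := h.base.mem_sigma hp.out h.dvd_card

theorem not_beta : p ∉ beta M :=
  h.base.cyclic_inter.2.1 p hp.out (h.order ▸ Subgroup.orderOf_dvd_natCard _ (h.base.le_inf_conj h.mem))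

theorem centralizer_le : centralizer ({x} : Set G) ≤ N := by
  rw [← Semiprime.centralizer_zpowers]
  exact (Subgroup.centralizer_le_normalizer _).trans h.normalizer_le

theorem mem_N : x ∈ N := h.centralizer_le (Subgroup.mem_centralizer_singleton_iff.2 rfl)

/-- The primes of `σ(M)` are not in `σ(N)`. -/
theorem not_sigma {q : ℕ} (hq : q ∈ sigma M) : q ∉ sigma N := fun hN => by
  have hn := notConj_of_normalizer_le h.base.minSimple h.base.coatom h.ne h.mem_sigma (X := zpowers x)
    (IsPGroup.of_card (n := 1) (by rw [Nat.card_zpowers, h.order, pow_one]))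
    (fun e => h.ne_one (Subgroup.zpowers_eq_bot.1 e))
    (Subgroup.zpowers_le.2 (sigmaCore_le M h.mem_core)) h.normalizer_le
  obtain ⟨c, hc⟩ := h.base.input.h13.partition M N h.base.coatom h.coatom' ⟨q, hq, hN⟩
  exact hn c hc

theorem commutative_of_le {q : ℕ} [Fact q.Prime] {W : Subgroup G} (hW : IsPGroup q W) (hWM : W ≤ M)
    (hWN : W ≤ N) : IsMulCommutative W := by
  by_contra hn
  obtain ⟨L, -, hu⟩ := S1422.result h.base.minSimple q W hW hn
  exact h.ne ((hu N ⟨h.coatom', hWN⟩).trans (hu M ⟨h.base.coatom, hWM⟩).symm)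

theorem rank_le {q : ℕ} [Fact q.Prime] (hq : q ∈ sigma M) {W : Subgroup G} (hWN : W ≤ N) : PRankLE q 2 W :=
  pRankLE_of_le hWN (pRankLE_two_of_not_sigma h.base.minSimple h.coatom' (h.not_sigma hq))

theorem mem_centralizer_pOf {q : ℕ} [Fact q.Prime] (hne : q ≠ p) : x ∈ centralizer (pOf q M : Set G) :=
  pOf_le_centralizer_pOf (p := p) (q := q) hne.symm M
    (mem_pOf (h.base.sigmaCore_le_fittingOf h.mem_core) (k := 1) (by rw [pow_one, ← h.order]; exact pow_orderOf_eq_one x))

theorem pOf_le_N {q : ℕ} [Fact q.Prime] (hne : q ≠ p) : pOf q M ≤ N :=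
  fun w hw => h.centralizer_le (Subgroup.mem_centralizer_singleton_iff.2
    (Subgroup.mem_centralizer_iff.1 (h.mem_centralizer_pOf hne) w hw))

theorem pOf_comm {q : ℕ} [Fact q.Prime] (hne : q ≠ p) : IsMulCommutative (pOf q M) :=
  h.commutative_of_le (isPGroup_pOf M) (pOf_le M) (h.pOf_le_N hne)

theorem not_alpha {q : ℕ} [Fact q.Prime] (hq : q ∈ sigma M) (hle : pOf q M ≤ N) : q ∉ alpha M := by
  rintro ⟨-, hr⟩
  refine hr fun A hA hAp => ?_
  have hAle : A.map M.subtype ≤ pOf q M := h.base.le_pOf_of_sigma hq (Subgroup.map_subtype_le _)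
    ((PGroup.isPGroup_of_elementaryAbelian ⟨hA, hAp⟩).map _)
  have hel : IsElementaryAbelian q (A.map M.subtype) := PGroup.isElementaryAbelian_map ⟨hA, hAp⟩ _
  have h2 := h.rank_le hq (hAle.trans hle) ⊤
    (PGroup.isMulCommutative_of_forall fun a _ b _ => Subtype.ext
      (PGroup.mul_comm_of_elementaryAbelian hel a.2 b.2))
    fun a _ => Subtype.ext (hel.2 a a.2)
  rwa [Subgroup.card_top, Subgroup.card_map_of_injective M.subtype_injective] at h2

theorem not_beta_of_dvd {q : ℕ} (hq : q.Prime) (hd : q ∣ Nat.card (sigmaCore M)) : q ∉ beta M := by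
  haveI := Fact.mk hq
  rcases eq_or_ne q p with rfl | hne
  · exact h.not_beta
  · exact fun hb => h.not_alpha (h.base.mem_sigma hq hd) (h.pOf_le_N hne) hb.1

end NonTIPair

namespace NonTI

variable {M : Subgroup G} {g : G} (h : NonTI M g)
include h

theorem not_beta_of_dvd {q : ℕ} (hq : q.Prime) (hd : q ∣ Nat.card (sigmaCore M)) : q ∉ beta M := by
  obtain ⟨p, hp, hpd⟩ := Nat.exists_prime_and_dvd (fun e => h.ne (Subgroup.card_eq_one.1 e))
  haveI := Fact.mk hp
  obtain ⟨x, N, hP⟩ := h.exists_pair hpd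
  exact hP.not_beta_of_dvd hq hd

theorem mem_fitting_of_derived {e : G} (he : e ∈ ⁅M, M⁆)
    (hσ : ∀ p : ℕ, p.Prime → p ∣ orderOf e → p ∉ sigma M) : e ∈ fittingOf M := by
  have heM : e ∈ M := M.commutator_le_self he
  refine centralizer_sigmaCore_le_fittingOf h.minSimple h.input h.coatom ⟨heM, ?_⟩
  have hle : fittingOf (sigmaCore M) ≤ centralizer ({e} : Set G) := by
    refine fittingOf_le_of_forall fun q hq => ?_
    haveI := Fact.mk hq
    intro w hw
    by_cases hd : q ∣ Nat.card (sigmaCore M)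
    · have hqs := h.mem_sigma hq hd
      obtain ⟨hnc, -, -⟩ := (S1414.result h.minSimple M h.coatom).2.2.2.2 q hq
        (hd.trans (Subgroup.card_dvd_of_le (sigmaCore_le M))) (h.not_beta_of_dvd hq hd)
      obtain ⟨N, hNn, hNp, hN⟩ := exists_normal_complement_mem hnc
      have heN : (⟨e, he⟩ : ↥⁅M, M⁆) ∈ N := hN _ (by rw [Subgroup.orderOf_mk]; exact fun hh => hσ q hq hh hqs)
      have hwM : w ∈ pOf q M := h.le_pOf_of_sigma hqs ((pOf_le _).trans (sigmaCore_le M)) (isPGroup_pOf _) hw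
      have hwD : w ∈ ⁅M, M⁆ := sigmaCore_le_commutator h.minSimple h.coatom (pOf_le _ hw)
      have h1 : ⁅e, w⁆ ∈ pOf q M := by
        rw [commutatorElement_def]
        exact (pOf q M).mul_mem ((Subgroup.mem_normalizer_iff.1 (le_normalizer_pOf M heM) w).1 hwM)
          ((pOf q M).inv_mem hwM)
      have h2 : ⁅(⟨e, he⟩ : ↥⁅M, M⁆), (⟨w, hwD⟩ : ↥⁅M, M⁆)⁆ ∈ N := by
        rw [commutatorElement_def, mul_assoc, mul_assoc]
        refine N.mul_mem heN ?_
        rw [← mul_assoc]
        exact hNn.conj_mem _ (N.inv_mem heN) _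
      obtain ⟨k, hk⟩ := isPGroup_pOf (r := q) M ⟨_, h1⟩
      have hcop : (orderOf (⁅(⟨e, he⟩ : ↥⁅M, M⁆), (⟨w, hwD⟩ : ↥⁅M, M⁆)⁆)).Coprime (q ^ k) :=
        (((hq.coprime_iff_not_dvd).2 fun hh => hNp (hh.trans (Subgroup.orderOf_dvd_natCard N h2))).symm.pow_right k)
      have h3 := Nat.eq_one_of_dvd_coprimes hcop dvd_rfl (orderOf_dvd_of_pow_eq_one (Subtype.ext
        (congrArg Subtype.val hk : ⁅e, w⁆ ^ q ^ k = 1)))
      have h4 : ⁅e, w⁆ = 1 := congrArg Subtype.val (orderOf_eq_one_iff.1 h3)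
      exact Subgroup.mem_centralizer_singleton_iff.2 (commutatorElement_eq_one_iff_mul_comm.1 h4).symm
    · have : w = 1 := by
        obtain ⟨k, hk⟩ := isPGroup_pOf (r := q) (sigmaCore M) ⟨w, hw⟩
        refine orderOf_eq_one_iff.1 (Nat.eq_one_of_dvd_coprimes
          ((hq.coprime_iff_not_dvd.2 hd).pow_left k) (orderOf_dvd_of_pow_eq_one (congrArg Subtype.val hk))
          (Subgroup.orderOf_dvd_natCard _ (pOf_le _ hw)))
      exact this ▸ one_mem _
  haveI := h.nilpotent
  exact Subgroup.mem_centralizer_iff.2 fun s hs => Subgroup.mem_centralizer_singleton_iff.1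
    (hle (le_fittingOf le_rfl Subgroup.le_normalizer h.nilpotent hs))

/-- BG 15.7 (b): `M' ≤ F(M)`. -/
theorem commutator_le_fittingOf : ⁅M, M⁆ ≤ fittingOf M := by
  obtain ⟨E, hE⟩ := exists_complIn h.minSimple h.coatom
  set f := QuotientGroup.mk' (fittingSubgroup M)
  have hker : f.ker = fittingSubgroup M := QuotientGroup.ker_mk' _
  have hle := map_commutator_le hE f (by
    rintro ⟨s, hsM⟩ hs
    rw [hker]
    obtain ⟨y, hy, hys⟩ := h.sigmaCore_le_fittingOf (show s ∈ sigmaCore M from hs)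
    exact (Subtype.ext hys : y = ⟨s, hsM⟩) ▸ hy)
  have hbot : (_root_.commutator E).map (f.comp (Subgroup.inclusion hE.1)) = ⊥ := by
    rw [← Subgroup.map_map, Subgroup.map_eq_bot_iff, hker]
    rintro _ ⟨⟨e, heE⟩, he, rfl⟩
    have hem : e ∈ fittingOf M := by
      refine h.mem_fitting_of_derived ?_ fun p hp hd => ?_
      · refine Subgroup.commutator_mono hE.1 hE.1 ?_
        rw [← Subgroup.map_subtype_commutator]
        exact ⟨⟨e, heE⟩, he, rfl⟩
      · haveI := Fact.mk hp
        exact not_mem_sigma_of_compl h.minSimple h.coatom hE hp (hd.trans (Subgroup.orderOf_dvd_natCard E heE))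
    obtain ⟨y, hy, hye⟩ := hem
    obtain rfl : y = Subgroup.inclusion hE.1 ⟨e, heE⟩ := Subtype.ext hye
    exact hy
  rw [hbot, le_bot_iff, Subgroup.map_eq_bot_iff, hker] at hle
  rw [← Subgroup.map_subtype_commutator]
  exact Subgroup.map_mono hle

/-- BG 15.7 (b): `M' = F(M)` when `κ(M)` is nonempty. -/
theorem commutator_eq_fittingOf (hκ : (kappa M).Nonempty) : ⁅M, M⁆ = fittingOf M :=
  le_antisymm h.commutator_le_fittingOf ((second_derived_le_fitting h.minSimple h.input h.coatom).2.2 hκ)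

end NonTI

end Cfsg.Agent.OddOrder
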