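import Cfsg.Agent.Lib.OddOrder.NonTIFitting
import Cfsg.Agent.Lib.Coprime.FixedCount
import Cfsg.Agent.S1421
import Cfsg.Agent.S1412
import Cfsg.Agent.Lib.PGroup.NormalElementary
import Cfsg.Agent.Lib.PGroup.Class2

/-!
# Bender–Glauberman 15.7 (c): the three cases for a non-TI Fitting subgroup

`NonTI.cases`, with `O_q(H)` written as `pOf q M` (`H = M_F = M_σ`).
-/

set_option autoImplicit false
set_option linter.style.haveILetI false
set_option linter.unusedSectionVars false

namespace Cfsg.Agent.OddOrder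

open Cfsg
open Subgroup (centralizer normalizer zpowers)
open scoped Pointwise commutatorElement

universe u
variable {G : Type u} [Group G] [Finite G]

/-- A subgroup of a cyclic normal subgroup is normal. -/
theorem le_normalizer_of_cyclic_normal {M C W : Subgroup G} (hC : IsCyclic C)
    (hn : M ≤ normalizer (C : Set G)) (hW : W ≤ C) : M ≤ normalizer (W : Set G) := fun m hm =>
  Subgroup.mem_normalizer_iff_map_conj_eq.2 (eq_of_card_eq_cyclic hC
    ((Subgroup.map_mono hW).trans (Subgroup.mem_normalizer_iff_map_conj_eq.1 (hn hm)).le) hW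
    (Subgroup.card_map_of_injective (MulAut.conj m).injective))

namespace NonTI

variable {M : Subgroup G} {g : G} (h : NonTI M g)
include h

theorem sylow_map_le {q : ℕ} [Fact q.Prime] (P : Sylow q ↥(sigmaCore M)) :
    (P : Subgroup ↥(sigmaCore M)).map (sigmaCore M).subtype ≤ pOf q M := by
  by_cases hd : q ∣ Nat.card (sigmaCore M)
  · exact h.le_pOf_of_sigma (h.mem_sigma Fact.out hd) ((Subgroup.map_subtype_le _).trans (sigmaCore_le M))
      (P.2.map _)
  · have : (P : Subgroup ↥(sigmaCore M)) = ⊥ := Subgroup.card_eq_one.1 (by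
      obtain ⟨k, hk⟩ := P.2.exists_card_eq
      rcases k with _ | k
      · rw [hk, pow_zero]
      · exact absurd ((dvd_pow_self q k.succ_ne_zero).trans (hk ▸ Subgroup.card_subgroup_dvd_card _)) hd)
    rw [this, Subgroup.map_bot]
    exact bot_le

theorem isMulCommutative_or : IsMulCommutative (sigmaCore M) ∨
    ∃ q : ℕ, q.Prime ∧ q ∣ Nat.card (sigmaCore M) ∧ ¬ IsMulCommutative (pOf q M) := by
  by_cases hall : ∀ q : ℕ, q.Prime → q ∣ Nat.card (sigmaCore M) → IsMulCommutative (pOf q M)
  · refine Or.inl ?_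
    haveI := h.nilpotent
    refine Solvable.isMulCommutative_of_nilpotent_of_sylow fun q hq P => ?_
    refine PGroup.isMulCommutative_of_forall fun a ha b hb => Subtype.ext ?_
    rcases eq_or_ne a 1 with rfl | ha1
    · simp
    have hd : q ∣ Nat.card (sigmaCore M) := by
      obtain ⟨k, hk⟩ := P.2 ⟨a, ha⟩
      obtain ⟨i, -, hi⟩ := (Nat.dvd_prime_pow hq.out).1
        (orderOf_dvd_of_pow_eq_one (congrArg Subtype.val hk : a ^ q ^ k = 1))
      rcases i with _ | i
      · exact absurd (orderOf_eq_one_iff.1 (by rw [hi, pow_zero])) ha1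
      · exact (dvd_pow_self q i.succ_ne_zero).trans (hi ▸ orderOf_dvd_natCard a)
    exact PGroup.mul_comm_of_isMulCommutative (hall q hq.out hd) (h.sylow_map_le P ⟨a, ha, rfl⟩)
      (h.sylow_map_le P ⟨b, hb, rfl⟩)
  · push Not at hall
    exact Or.inr hall

theorem not_cyclic : ¬ IsCyclic (sigmaCore M) := by
  intro hc
  set X := fittingOf M ⊓ (fittingOf M).map (MulAut.conj g).toMonoidHom with hX
  have hXn : M ≤ normalizer (X : Set G) :=
    le_normalizer_of_cyclic_normal hc (le_normalizer_sigmaCore M) h.le_sigmaCore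
  have hsub : MulAut.conj g⁻¹ • X ≤ fittingOf M := by
    rintro _ ⟨y, ⟨-, z, hz, rfl⟩, rfl⟩
    simpa [mul_assoc] using hz
  have hσ : MulAut.conj g⁻¹ • X ≤ sigmaCore M :=
    le_sigmaCore_of_isPiGrp h.minSimple h.coatom (hsub.trans (fittingOf_le M)) fun r hr hd =>
      h.prime_mem_sigma hr (Coprime.card_conj_smul g⁻¹ X ▸ hd)
  have e : MulAut.conj g⁻¹ • X = X := eq_of_card_eq_cyclic hc hσ h.le_sigmaCore (Coprime.card_conj_smul _ _)
  refine h.not_mem ?_
  rw [← normalizer_eq_of_normal h.minSimple h.coatom (h.le_sigmaCore.trans (sigmaCore_le M)) hXn h.ne]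
  exact (inv_mem_iff (H := normalizer (X : Set G))).1 (Coprime.mem_normalizer_of_conj_smul_eq e)

end NonTI

namespace NonTIPair

variable {M N : Subgroup G} {g x : G} {p : ℕ} [hp : Fact p.Prime] (h : NonTIPair M g p x N)
include h

theorem mem_P : x ∈ pOf p M :=
  h.base.le_pOf_of_sigma h.mem_sigma (Subgroup.zpowers_le.2 (sigmaCore_le M h.mem_core))
    (IsPGroup.of_card (n := 1) (by rw [Nat.card_zpowers, h.order, pow_one])) (Subgroup.mem_zpowers x)

theorem pOf_le_of_comm (hc : IsMulCommutative (sigmaCore M)) : pOf p M ≤ N := fun w hw =>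
  h.centralizer_le (Subgroup.mem_centralizer_singleton_iff.2 (PGroup.mul_comm_of_isMulCommutative hc
    (h.base.pOf_le_sigmaCore h.mem_sigma hw) h.mem_core))

/-- BG 15.7 (c), case (1). -/
theorem case_abelian {K U : Subgroup G} (hKU : IsSigmaDecomposition M K U)
    (hc : IsMulCommutative (sigmaCore M)) :
    K = ⊥ ∧ RankLE 2 (sigmaCore M) ∧ ¬ RankLE 1 (sigmaCore M) := by
  have hle : ∀ q : ℕ, [Fact q.Prime] → pOf q M ≤ N := by
    intro q _
    rcases eq_or_ne q p with rfl | hne
    · exact h.pOf_le_of_comm hc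
    · exact h.pOf_le_N hne
  have hsyl : ∀ q : ℕ, [Fact q.Prime] → ∀ S : Sylow q ↥(sigmaCore M),
      (S : Subgroup ↥(sigmaCore M)).map (sigmaCore M).subtype ≤ N := fun q _ S =>
    (h.base.sylow_map_le S).trans (hle q)
  refine ⟨?_, fun q hq A hA hAp => ?_, fun h1 => h.base.not_cyclic ?_⟩
  · by_contra hK
    obtain ⟨E, d⟩ := exists_pData h.base.minSimple h.base.input.h13 h.base.coatom hKU.hall hK
    obtain ⟨r, hr, hrd⟩ := Nat.exists_prime_and_dvd (n := Nat.card ↥(sigmaCore M ⊓ centralizer (K : Set G)))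
      (fun e => (kappa_centralizer h.base.minSimple h.base.input.h13 h.base.coatom hKU.hall).1
        (Subgroup.card_eq_one.1 e))
    haveI := Fact.mk hr
    obtain ⟨S⟩ : Nonempty (Sylow r ↥(sigmaCore M)) := inferInstance
    obtain ⟨L, -, hu⟩ := d.sylow_unique hrd S
    exact h.ne ((hu N ⟨h.coatom', hsyl r S⟩).trans
      (hu M ⟨h.base.coatom, (Subgroup.map_subtype_le _).trans (sigmaCore_le M)⟩).symm)
  · haveI := Fact.mk hq
    obtain ⟨S, hS⟩ := (PGroup.isPGroup_of_elementaryAbelian (⟨hA, hAp⟩ : IsElementaryAbelian q A)).exists_le_sylow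
    have hel : IsElementaryAbelian q (A.map (sigmaCore M).subtype) := PGroup.isElementaryAbelian_map ⟨hA, hAp⟩ _
    by_cases hd : q ∣ Nat.card (sigmaCore M)
    · have h2 := h.rank_le (h.base.mem_sigma hq hd) ((Subgroup.map_mono hS).trans (hsyl q S)) ⊤
        (PGroup.isMulCommutative_of_forall fun a _ b _ => Subtype.ext
          (PGroup.mul_comm_of_elementaryAbelian hel a.2 b.2))
        fun a _ => Subtype.ext (hel.2 a a.2)
      rwa [Subgroup.card_top, Subgroup.card_map_of_injective (sigmaCore M).subtype_injective] at h2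
    · obtain ⟨k, hk⟩ := (PGroup.isPGroup_of_elementaryAbelian (⟨hA, hAp⟩ : IsElementaryAbelian q A)).exists_card_eq
      rcases k with _ | k
      · rw [hk, pow_zero]; exact Nat.one_le_pow _ _ hq.pos
      · exact absurd ((dvd_pow_self q k.succ_ne_zero).trans (hk ▸ Subgroup.card_subgroup_dvd_card A)) hd
  · haveI := h.base.nilpotent
    haveI : IsZGroup ↥(sigmaCore M) := ⟨fun q hq S => by
      haveI := Fact.mk hq
      by_cases hd : q ∣ Nat.card (sigmaCore M)
      · exact IsolatedP.isCyclic_of_pRankLE_one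
          (ne_two_of_odd_of_dvd h.base.minSimple.1 (hd.trans (Subgroup.card_subgroup_dvd_card _))) S.2
          (pRankLE_of_injective (f := (S : Subgroup ↥(sigmaCore M)).subtype) Subtype.val_injective (h1 q hq))
      · obtain ⟨k, hk⟩ := S.2.exists_card_eq
        rcases k with _ | k
        · haveI : Subsingleton (S : Subgroup ↥(sigmaCore M)) :=
            (Nat.card_eq_one_iff_unique.1 (hk.trans (pow_zero q))).1
          exact isCyclic_of_subsingleton
        · exact absurd ((dvd_pow_self q k.succ_ne_zero).trans (hk ▸ Subgroup.card_subgroup_dvd_card _)) hd⟩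
    infer_instance

/-! ### A nonabelian Sylow subgroup `P = O_p(M)` -/

variable (hna : ¬ IsMulCommutative (pOf p M))
include hna

theorem not_central : x ∉ centralizer (pOf p M : Set G) := fun hx =>
  hna (h.commutative_of_le (isPGroup_pOf M) (pOf_le M) fun w hw => h.centralizer_le
    (Subgroup.mem_centralizer_singleton_iff.2 (Subgroup.mem_centralizer_iff.1 hx w hw)))

theorem isPGroup_inter :
    IsPGroup p ↥(fittingOf M ⊓ (fittingOf M).map (MulAut.conj g).toMonoidHom) := by
  refine IsPGroup.of_card (n := (Nat.card ↥(fittingOf M ⊓ (fittingOf M).map (MulAut.conj g).toMonoidHom)).factorization p) ?_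
  refine Nat.eq_pow_of_factorization_eq_single ?_ ?_
  · exact Nat.card_pos.ne'
  · ext r
    rcases eq_or_ne r p with rfl | hne
    · simp
    · rw [Finsupp.single_eq_of_ne hne]
      refine Nat.factorization_eq_zero_iff _ r |>.2 ?_
      by_contra hcon
      push Not at hcon
      haveI := Fact.mk hcon.1
      obtain ⟨x', N', h'⟩ := h.base.exists_pair hcon.2.1
      exact hna (h'.pOf_comm hne.symm)

theorem exists_sylow_eq : ∃ S : Sylow p G, (S : Subgroup G) = pOf p M := by
  have hd : ¬ p ∣ (pOf p M).index := by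
    intro hd
    obtain ⟨S⟩ : Nonempty (Sylow p M) := inferInstance
    obtain ⟨T, hT⟩ := sigma_sylow_eq h.mem_sigma S
    exact T.not_dvd_index (hd.trans (Subgroup.index_dvd_of_le
      (hT.le.trans (h.base.le_pOf_of_sigma h.mem_sigma (Subgroup.map_subtype_le _) (S.2.map _)))))
  exact ⟨(isPGroup_pOf M).toSylow hd, IsPGroup.toSylow_coe _ _⟩

theorem not_comm_sylow (S : Sylow p G) : ¬ IsMulCommutative (S : Subgroup G) := by
  intro hS
  obtain ⟨S₀, hS₀⟩ := h.exists_sylow_eq hna
  obtain ⟨c, rfl⟩ := MulAction.exists_smul_eq G S₀ S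
  refine hna (PGroup.isMulCommutative_of_forall fun a ha b hb => (MulAut.conj c).injective ?_)
  rw [map_mul, map_mul]
  refine PGroup.mul_comm_of_isMulCommutative hS ?_ ?_ <;>
    · rw [Sylow.coe_subgroup_smul]
      exact Subgroup.smul_mem_pointwise_smul _ (MulAut.conj c) _ (hS₀ ▸ by assumption)

theorem exists_center : ∃ z : G, z ∈ pOf p M ∧ z ∈ centralizer (pOf p M : Set G) ∧ orderOf z = p ∧
    x ∉ zpowers z := by
  haveI : Nontrivial (pOf p M) := (Subgroup.nontrivial_iff_ne_bot _).2 fun e => hna (e ▸ inferInstance)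
  obtain ⟨z, -, hz, ho⟩ := PGroup.exists_orderOf_eq_mem_center (isPGroup_pOf (r := p) M) ⊤ top_ne_bot
  have hzc : (z : G) ∈ centralizer (pOf p M : Set G) := Subgroup.mem_centralizer_iff.2 fun w hw =>
    congrArg Subtype.val (Subgroup.mem_center_iff.1 hz ⟨w, hw⟩)
  exact ⟨z, z.2, hzc, by rw [Subgroup.orderOf_coe, ho],
    fun hx => h.not_central hna ((Subgroup.zpowers_le.2 hzc) hx)⟩

variable {z : G} (hzP : z ∈ pOf p M) (hzc : z ∈ centralizer (pOf p M : Set G)) (hzo : orderOf z = p)
  (hxz : x ∉ zpowers z)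
include hzP hzc hzo hxz

theorem elementary : IsElementaryAbelian p (zpowers z ⊔ zpowers x : Subgroup G) ∧
    Nat.card ↥(zpowers z ⊔ zpowers x) = p ^ 2 :=
  square_of_line (hzo ▸ pow_orderOf_eq_one z) (fun e => hp.out.ne_one (by rw [← hzo, e, orderOf_one]))
    (h.order ▸ pow_orderOf_eq_one x) hxz (Subgroup.mem_centralizer_iff.1 hzc x h.mem_P)

theorem omega_centralizer {w : G} (hw : w ∈ pOf p M) (hwx : Commute w x) (hwp : w ^ p = 1) :
    w ∈ zpowers z ⊔ zpowers x := by
  obtain ⟨hel, hc⟩ := h.elementary hna hzP hzc hzo hxz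
  have hwA : zpowers w ≤ centralizer ((zpowers z ⊔ zpowers x : Subgroup G) : Set G) := by
    refine Subgroup.le_centralizer_iff.1 (sup_le (Subgroup.zpowers_le.2 ?_) (Subgroup.zpowers_le.2 ?_)) <;>
      rw [Semiprime.centralizer_zpowers, Subgroup.mem_centralizer_singleton_iff]
    · exact (Subgroup.mem_centralizer_iff.1 hzc w hw).symm
    · exact hwx.eq.symm
  have hB : IsElementaryAbelian p ((zpowers z ⊔ zpowers x) ⊔ zpowers w : Subgroup G) :=
    isElementaryAbelian_sup hel (PGroup.isElementaryAbelian_zpowers hwp) hwA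
  have hxB : x ∈ (zpowers z ⊔ zpowers x) ⊔ zpowers w :=
    Subgroup.mem_sup_left (Subgroup.mem_sup_right (Subgroup.mem_zpowers x))
  have hBN : (zpowers z ⊔ zpowers x) ⊔ zpowers w ≤ N := fun b hb => h.centralizer_le
    (Subgroup.mem_centralizer_singleton_iff.2 (PGroup.mul_comm_of_elementaryAbelian hB hb hxB))
  have h2 := h.rank_le h.mem_sigma hBN ⊤ (PGroup.isMulCommutative_of_forall fun a _ b _ => Subtype.ext
    (PGroup.mul_comm_of_elementaryAbelian hB a.2 b.2)) fun a _ => Subtype.ext (hB.2 a a.2)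
  rw [Subgroup.card_top] at h2
  rw [Subgroup.eq_of_le_of_card_ge (le_sup_left : zpowers z ⊔ zpowers x ≤ _) (h2.trans hc.ge)]
  exact Subgroup.mem_sup_right (Subgroup.mem_zpowers w)

theorem mem_zpowers_of_pow {w : G} (hw : w ∈ zpowers z ⊔ zpowers x) (S : Subgroup G) (hzS : z ∈ S) (hwS : w ∈ S)
    (hxS : x ∉ S) : w ∈ zpowers z := by
  obtain ⟨_, ⟨i, rfl⟩, _, ⟨j, rfl⟩, rfl⟩ := (Coprime.mem_sup_iff_of_le_normalizer
    ((Subgroup.zpowers_le.2 (Subgroup.mem_centralizer_singleton_iff.2
      (Subgroup.mem_centralizer_iff.1 hzc x h.mem_P).symm : z ∈ centralizer ({x} : Set G))).trans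
      (centralizer_singleton_le_normalizer_zpowers x))).1 hw
  have hj : x ^ j ∈ S := (S.mul_mem_cancel_left (S.zpow_mem hzS i)).1 hwS
  rcases eq_or_ne (x ^ j) 1 with e | e
  · show z ^ i * x ^ j ∈ zpowers z
    rw [e, mul_one]
    exact zpow_mem (Subgroup.mem_zpowers z) i
  · refine absurd (Subgroup.zpowers_le.2 hj ?_) hxS
    have e' : zpowers (x ^ j) = zpowers x := Subgroup.eq_of_le_of_card_ge
      (Subgroup.zpowers_le.2 (zpow_mem (Subgroup.mem_zpowers x) j)) (by
        rw [Nat.card_zpowers, Nat.card_zpowers, h.order,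
          orderOf_eq_prime (p := p) ?_ e]
        rw [← zpow_natCast, ← zpow_mul, mul_comm, zpow_mul, zpow_natCast, ← h.order, pow_orderOf_eq_one, one_zpow])
    exact e' ▸ Subgroup.mem_zpowers x

theorem omega_center {w : G} (hw : w ∈ pOf p M) (hwc : w ∈ centralizer (pOf p M : Set G)) (hwp : w ^ p = 1) :
    w ∈ zpowers z :=
  h.mem_zpowers_of_pow hna hzP hzc hzo hxz
    (h.omega_centralizer hna hzP hzc hzo hxz hw ((Subgroup.mem_centralizer_iff.1 hwc x h.mem_P).symm) hwp)
    _ hzc hwc (h.not_central hna)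

theorem normal_center : M ≤ normalizer (zpowers z : Set G) := fun m hm =>
  Subgroup.mem_normalizer_iff_map_conj_eq.2 (Subgroup.eq_of_le_of_card_ge
    (by
      rw [MonoidHom.map_zpowers, Subgroup.zpowers_le]
      refine h.omega_center hna hzP hzc hzo hxz
        ((Subgroup.mem_normalizer_iff.1 (le_normalizer_pOf M hm) z).1 hzP)
        (Subgroup.mem_centralizer_iff.2 fun w hw => ?_) ?_
      · have h1 := Subgroup.mem_centralizer_iff.1 hzc (m⁻¹ * w * m)
          (by simpa using (Subgroup.mem_normalizer_iff.1 (le_normalizer_pOf M (M.inv_mem hm)) w).1 hw)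
        calc w * (m * z * m⁻¹) = m * (m⁻¹ * w * m * z) * m⁻¹ := by group
          _ = m * (z * (m⁻¹ * w * m)) * m⁻¹ := by rw [h1]
          _ = m * z * m⁻¹ * w := by group
      · show (MulAut.conj m z) ^ p = 1
        rw [← map_pow, ← hzo, pow_orderOf_eq_one, map_one])
    (Subgroup.card_map_of_injective (MulAut.conj m).injective).ge)

theorem tau2_eq : tau2 N = {p} := by
  obtain ⟨hel, hc⟩ := h.elementary hna hzP hzc hzo hxz
  have hzN : z ∈ N := h.centralizer_le (Subgroup.mem_centralizer_singleton_iff.2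
    (Subgroup.mem_centralizer_iff.1 hzc x h.mem_P).symm)
  have hAN : zpowers z ⊔ zpowers x ≤ N := sup_le (Subgroup.zpowers_le.2 hzN) (Subgroup.zpowers_le.2 h.mem_N)
  have hs := h.not_sigma h.mem_sigma
  have hp2 : p ∈ tau2 N := ⟨hp.out, hs, pRankLE_two_of_not_sigma h.base.minSimple h.coatom' hs, fun hr => by
    have h1 := hr ((zpowers z ⊔ zpowers x).subgroupOf N) (PGroup.isMulCommutative_of_forall fun a ha b hb =>
        Subtype.ext (PGroup.mul_comm_of_elementaryAbelian hel ha hb)) fun a ha => Subtype.ext (hel.2 a ha)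
    rw [Coprime.card_subgroupOf hAN, hc] at h1
    exact absurd h1 (not_le.2 (Nat.pow_lt_pow_right hp.out.one_lt one_lt_two))⟩
  obtain ⟨E, hE, hAE⟩ := exists_compl h.base.minSimple h.coatom' hAN (by
    rw [hc]
    exact (hp.out.coprime_iff_not_dvd.2 (not_dvd_sigmaCore hs)).pow_left 2)
  exact (S1419.result h.base.minSimple N h.coatom' E hE p hp2 (h.not_comm_sylow hna) _ ⟨hAE, hel, hc⟩).1

theorem cyclic_of_ne {q : ℕ} [Fact q.Prime] (hne : q ≠ p) : IsCyclic (pOf q M) := by
  by_cases hd : q ∣ Nat.card (pOf q M)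
  · by_cases hqs : q ∈ sigma M
    swap
    · have hx'' : pOf q M ≤ sigmaComplCore M :=
        le_piCoreOf (pOf_le_fittingOf M Fact.out) ((fittingOf_le M).trans (le_normalizer_pOf M))
          fun r hr hd' => by
            obtain ⟨k, hk⟩ := (isPGroup_pOf (r := q) M).exists_card_eq
            exact ⟨hr, (Nat.prime_dvd_prime_iff_eq hr Fact.out).1 (hr.dvd_of_dvd_pow (hk ▸ hd')) ▸ hqs⟩
      exact @isCyclic_of_injective _ _ _ _ (isCyclic_sigmaComplCore h.base.minSimple h.base.coatom)
        (Subgroup.inclusion hx'') (Subgroup.inclusion_injective hx'')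
    refine IsolatedP.isCyclic_of_pRankLE_one
      (ne_two_of_odd_of_dvd h.base.minSimple.1 (hd.trans (pOf q M).card_subgroup_dvd_card))
      (isPGroup_pOf M) ?_
    by_contra hr
    obtain ⟨S⟩ : Nonempty (Sylow q (pOf q M)) := inferInstance
    obtain ⟨A, hA, hel, hc⟩ := exists_square_le hr S
    have hAN : A ≤ N := (hA.trans (Subgroup.map_subtype_le _)).trans (h.pOf_le_N hne)
    have hs := h.not_sigma hqs
    have hq2 : q ∈ tau2 N := ⟨Fact.out, hs, pRankLE_two_of_not_sigma h.base.minSimple h.coatom' hs, fun hr' => by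
      have h1 := hr' (A.subgroupOf N) (PGroup.isMulCommutative_of_forall fun a ha b hb =>
          Subtype.ext (PGroup.mul_comm_of_elementaryAbelian hel ha hb)) fun a ha => Subtype.ext (hel.2 a ha)
      rw [Coprime.card_subgroupOf hAN, hc] at h1
      exact absurd h1 (not_le.2 (Nat.pow_lt_pow_right (Fact.out : q.Prime).one_lt one_lt_two))⟩
    rw [h.tau2_eq hna hzP hzc hzo hxz] at hq2
    exact hne hq2
  · obtain ⟨k, hk⟩ := (isPGroup_pOf (r := q) M).exists_card_eq
    rcases k with _ | k
    · haveI : Subsingleton (pOf q M) := (Nat.card_eq_one_iff_unique.1 (hk.trans (pow_zero q))).1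
      exact isCyclic_of_subsingleton
    · exact absurd (hk ▸ dvd_pow_self q k.succ_ne_zero) hd

/-- A normal subgroup of order `q` of `M` inside `O_q(M)`. -/
theorem exists_normal_order {q : ℕ} [Fact q.Prime] (hd : q ∣ Nat.card (sigmaCore M)) :
    ∃ W : Subgroup G, W ≤ sigmaCore M ∧ M ≤ normalizer (W : Set G) ∧ Nat.card W = q ∧
      (q = p → W = zpowers z) := by
  have hqs := h.base.mem_sigma Fact.out hd
  rcases eq_or_ne q p with rfl | hne
  · exact ⟨zpowers z, Subgroup.zpowers_le.2 (h.base.pOf_le_sigmaCore hqs hzP),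
      h.normal_center hna hzP hzc hzo hxz, by rw [Nat.card_zpowers, hzo], fun _ => rfl⟩
  · obtain ⟨w, hw⟩ := exists_prime_orderOf_dvd_card' q hd
    rw [← Subgroup.orderOf_coe] at hw
    have hwq : (w : G) ∈ pOf q M := mem_pOf (h.base.sigmaCore_le_fittingOf w.2) (k := 1)
      (by rw [pow_one]; exact hw ▸ pow_orderOf_eq_one _)
    exact ⟨zpowers (w : G), Subgroup.zpowers_le.2 w.2,
      le_normalizer_of_cyclic_normal (h.cyclic_of_ne hna hzP hzc hzo hxz hne) (le_normalizer_pOf M)
        (Subgroup.zpowers_le.2 hwq), by rw [Nat.card_zpowers, hw], fun e => absurd e hne⟩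

end NonTIPair

end Cfsg.Agent.OddOrder
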