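import Cfsg.Agent.Lib.OddOrder.NonTIFittingCases
import Cfsg.Agent.Lib.OddOrder.FifteenInput

/-!
# Bender–Glauberman 15.7: conclusion

`NonTI.cases`: the three cases, from `BG15Input`.
-/

set_option autoImplicit false
set_option linter.style.haveILetI false
set_option linter.unusedSectionVars false

namespace Cfsg.Agent.OddOrder

open Cfsg
open Subgroup (centralizer normalizer zpowers)
open scoped Pointwise commutatorElement

universe u
variable {G : Type u} [Group G] [Finite G]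

namespace NonTI

variable {M : Subgroup G} {g : G} (h : NonTI M g)
include h

/-- BG 15.7: `U = 1` when `K ≠ 1`. -/
theorem U_eq_bot {K U : Subgroup G} (hKU : IsSigmaDecomposition M K U) (hK1 : K ≠ ⊥) : U = ⊥ := by
  by_contra hU1
  have hG := h.minSimple
  have hM := h.coatom
  haveI : Group.IsSolvable K := Coprime.isSolvable_of_le hKU.hall.1 (isSolvable_of_coatom hG hM)
  have hfix : U ⊓ centralizer (K : Set G) = ⊥ := by
    obtain ⟨k, hk, hk1⟩ := (Subgroup.bot_or_exists_ne_one _).resolve_left hK1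
    exact le_bot_iff.1 (decomposition_fpf hG h.input.h13 hM hKU k hk hk1 ▸
      inf_le_inf_left U (Subgroup.centralizer_le (Set.singleton_subset_iff.2 hk)))
  have hcomm := Coprime.commutator_sup_centralizer hKU.normal (Nat.coprime_of_dvd fun l hl ha hb =>
    Decomp.not_mem_kappa hKU hl hb (hKU.hall.2.1 l hl ha)) (Or.inl inferInstance)
  rw [hfix, sup_bot_eq] at hcomm
  have hUd : U ≤ ⁅M, M⁆ := hcomm ▸ Subgroup.commutator_mono hKU.compl.1 hKU.hall.1
  obtain ⟨r, hr, hrd⟩ := Nat.exists_prime_and_dvd (fun e => hU1 (Subgroup.card_eq_one.1 e))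
  haveI := Fact.mk hr
  obtain ⟨R⟩ : Nonempty (Sylow r U) := inferInstance
  set R' := (R : Subgroup U).map U.subtype with hR'
  have hR'1 : R' ≠ ⊥ := fun e => R.ne_bot_of_dvd_card hrd ((Subgroup.map_eq_bot_iff_of_injective _ U.subtype_injective).1 e)
  have hR'M : R' ≤ M := (Subgroup.map_subtype_le _).trans hKU.compl.1
  have hrs : r ∉ sigma M := Decomp.not_mem_sigma hG hM hKU hr hrd
  have hRY : R' ≤ sigmaComplCore M := by
    have h1 : R' ≤ fittingOf M := fun a ha => h.mem_fitting_of_derived (hUd (Subgroup.map_subtype_le _ ha))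
      fun l hl hd => Decomp.not_mem_sigma hG hM hKU hl
        (hd.trans (Subgroup.orderOf_dvd_natCard U (Subgroup.map_subtype_le _ ha)))
    have h2 : pOf r M ≤ piCoreOf {q : ℕ | q.Prime ∧ q ∉ sigma M} (fittingOf M) :=
      le_piCoreOf (pOf_le_fittingOf M hr) ((fittingOf_le M).trans (le_normalizer_pOf M)) fun q hq hd' => by
        obtain ⟨k, hk⟩ := (isPGroup_pOf (r := r) M).exists_card_eq
        exact ⟨hq, (Nat.prime_dvd_prime_iff_eq hq hr).1 (hq.dvd_of_dvd_pow (hk ▸ hd')) ▸ hrs⟩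
    intro a ha
    obtain ⟨k, hk⟩ := (R.2.map U.subtype) ⟨a, ha⟩
    exact h2 (mem_pOf (h1 ha) (k := k) (congrArg Subtype.val hk))
  have hu := TheoremB.unique_of_tau2 hG hM hR'M hR'1
    (fun q hq hd => by
      haveI := Fact.mk hq
      exact mem_tau2_of_dvd_sigmaComplCore hG hM (hd.trans (Subgroup.card_dvd_of_le hRY)))
    (fun e => sigmaCore_ne_bot hG hM (le_bot_iff.1 (e ▸ le_inf le_rfl
      (Subgroup.le_centralizer_iff.1 (hRY.trans (sigmaComplCore_le_centralizer M))))))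
  -- hence `N(R) ≤ M` and `r ∈ σ(M)`
  have hN : normalizer (R' : Set G) ≤ M := by
    intro n hn
    rw [← normalizer_eq_of_normal hG hM le_rfl Subgroup.le_normalizer
      (fun e => sigmaCore_ne_bot hG hM (le_bot_iff.1 (e ▸ sigmaCore_le M)))]
    refine Coprime.mem_normalizer_of_conj_smul_eq (hu.2 _ (isCoatom_conj hM n) fun c hc => ?_)
    rw [Coprime.mem_conj_smul_iff]
    refine hu.1 (Subgroup.mem_centralizer_iff.2 fun a ha => ?_)
    have h1 := Subgroup.mem_centralizer_iff.1 hc (n * a * n⁻¹) ((Subgroup.mem_normalizer_iff.1 hn a).1 ha)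
    calc a * (n⁻¹ * c * n) = n⁻¹ * (n * a * n⁻¹ * c) * n := by group
      _ = n⁻¹ * (c * (n * a * n⁻¹)) * n := by rw [h1]
      _ = n⁻¹ * c * n * a := by group
  have hidx : ¬ r ∣ (R'.subgroupOf M).index := by
    intro hd
    have e := Subgroup.relIndex_mul_relIndex R' U M (Subgroup.map_subtype_le _) hKU.compl.1
    have e2 : (R' : Subgroup G).relIndex U = (R : Subgroup U).index := by
      rw [Subgroup.relIndex, hR', Subgroup.subgroupOf, Subgroup.comap_map_eq_self_of_injective U.subtype_injective]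
    rw [e2] at e
    rcases hr.dvd_mul.1 (e.symm ▸ (show r ∣ R'.relIndex M from hd)) with h1 | h1
    · exact R.not_dvd_index h1
    · exact (Decomp.isPiHallOf_right hG hM hKU).2.2 r hr
        ((Decomp.isPiHallOf_right hG hM hKU).2.1 r hr hrd) h1
  set S := (show IsPGroup r (R'.subgroupOf M) from (R.2.map U.subtype).comap_subtype).toSylow hidx with hS
  refine hrs ⟨hr, hrd.trans (Subgroup.card_dvd_of_le hKU.compl.1), S, ?_⟩
  rwa [hS, IsPGroup.toSylow_coe, Subgroup.map_subgroupOf_eq_of_le hR'M]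

/-- The exponent of `M / M_F` divides that of a complement. -/
theorem exponent_quotient_dvd {E : Subgroup G} (hE : IsComplIn E (sigmaCore M) M) :
    Monoid.exponent (↥M ⧸ fittingHall ↥M) ∣ Monoid.exponent E := by
  have hsurj : Function.Surjective ((QuotientGroup.mk' (fittingHall ↥M)).comp (Subgroup.inclusion hE.1)) := by
    intro c
    obtain ⟨⟨m, hm⟩, rfl⟩ := QuotientGroup.mk'_surjective (fittingHall ↥M) c
    obtain ⟨e, he, s, hs, rfl⟩ := hE.2.2.2 m hm
    refine ⟨⟨e, he⟩, QuotientGroup.eq.2 ?_⟩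
    rw [← h.fittingHall_eq] at hs
    obtain ⟨y, hy, hys⟩ := hs
    have e' : (Subgroup.inclusion hE.1 ⟨e, he⟩)⁻¹ * (⟨e * s, hm⟩ : ↥M) = y :=
      Subtype.ext (show e⁻¹ * (e * s) = (y : G) by rw [inv_mul_cancel_left]; exact hys.symm)
    rw [e']
    exact hy
  exact MonoidHom.exponent_dvd hsurj

end NonTI

namespace NonTIPair

variable {M N : Subgroup G} {g x : G} {p : ℕ} [hp : Fact p.Prime] (h : NonTIPair M g p x N)
  (hna : ¬ IsMulCommutative (pOf p M)) {z : G} (hzP : z ∈ pOf p M)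
  (hzc : z ∈ centralizer (pOf p M : Set G)) (hzo : orderOf z = p) (hxz : x ∉ zpowers z)
include h hna hzP hzc hzo hxz

theorem odd_p : p ≠ 2 :=
  ne_two_of_odd_of_dvd h.base.minSimple.1 (h.dvd_card.trans (Subgroup.card_subgroup_dvd_card _))

theorem commutator_smul_eq {a c : G} (ha : a ∈ pOf p M) (hc : c ∈ zpowers z) : Commute a c := by
  obtain ⟨i, rfl⟩ := hc
  exact (show Commute a z from Subgroup.mem_centralizer_iff.1 hzc a ha).zpow_right i

theorem inv_pow_eq {t : G} (ht : t ^ p = 1) : (t⁻¹) ^ p = 1 := by rw [inv_pow, ht, inv_one]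

/-- The elements of exponent `p` of `P`, central modulo `⟨z⟩`. -/
theorem exists_layer : ∃ T : Subgroup G, ∀ t : G,
    t ∈ T ↔ t ∈ pOf p M ∧ t ^ p = 1 ∧ ∀ a ∈ pOf p M, ⁅a, t⁆ ∈ zpowers z := by
  have hp2 := h.odd_p hna hzP hzc hzo hxz
  refine ⟨{ carrier := {t | t ∈ pOf p M ∧ t ^ p = 1 ∧ ∀ a ∈ pOf p M, ⁅a, t⁆ ∈ zpowers z}
            one_mem' := ⟨one_mem _, one_pow p, fun a _ => by simp⟩
            mul_mem' := ?_
            inv_mem' := ?_ }, fun t => Iff.rfl⟩
  · rintro s t ⟨hs, hsp, hsc⟩ ⟨ht, htp, htc⟩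
    refine ⟨(pOf p M).mul_mem hs ht, ?_, fun a ha => ?_⟩
    · have hcentr : ⁅(⟨t, ht⟩ : ↥(pOf p M)), (⟨s, hs⟩ : ↥(pOf p M))⁆ ∈ Subgroup.center ↥(pOf p M) :=
        Subgroup.mem_center_iff.2 fun b => Subtype.ext (h.commutator_smul_eq hna hzP hzc hzo hxz b.2 (hsc t ht)).eq
      have e := congrArg Subtype.val (PGroup.mul_pow_of_central hcentr p)
      have hz1 : ⁅t, s⁆ ^ p = 1 := by
        obtain ⟨i, hi⟩ := hsc t ht
        rw [show ⁅t, s⁆ = z ^ i from hi.symm, ← zpow_natCast, ← zpow_mul, mul_comm, zpow_mul, zpow_natCast,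
          ← hzo, pow_orderOf_eq_one, one_zpow]
      obtain ⟨j, hj⟩ := hp.out.dvd_choose_self (k := 2) two_ne_zero (lt_of_le_of_ne hp.out.two_le hp2.symm)
      have e' : (s * t) ^ p = s ^ p * t ^ p * ⁅t, s⁆ ^ p.choose 2 := e
      rw [e', hsp, htp, one_mul, one_mul, hj, pow_mul, hz1, one_pow]
    · have e : ⁅a, s * t⁆ = ⁅a, s⁆ * (s * ⁅a, t⁆ * s⁻¹) := by simp only [commutatorElement_def]; group
      rw [e, (h.commutator_smul_eq hna hzP hzc hzo hxz hs (htc a ha)).eq, mul_inv_cancel_right]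
      exact (zpowers z).mul_mem (hsc a ha) (htc a ha)
  · rintro t ⟨ht, htp, htc⟩
    refine ⟨(pOf p M).inv_mem ht, h.inv_pow_eq hna hzP hzc hzo hxz htp, fun a ha => ?_⟩
    have e : ⁅a, t⁻¹⁆ = t⁻¹ * ⁅a, t⁆⁻¹ * t := by simp only [commutatorElement_def]; group
    rw [e, (h.commutator_smul_eq hna hzP hzc hzo hxz ((pOf p M).inv_mem ht)
      ((zpowers z).inv_mem (htc a ha))).eq, inv_mul_cancel_right]
    exact (zpowers z).inv_mem (htc a ha)

/-- A subgroup of `P` mapped by `b ↦ ⁅x, b⁆` into `⟨z⟩` has order at most `p|C(x)|`. -/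
theorem card_le_of_commutator {B : Subgroup G} (hB : B ≤ pOf p M) (hc : ∀ b ∈ B, ⁅x, b⁆ ∈ zpowers z)
    (hsmall : Nat.card ↥(B ⊓ centralizer ({x} : Set G)) ≤ p) : Nat.card B ≤ p ^ 2 := by
  let φ : B →* zpowers z := MonoidHom.mk' (fun b => ⟨⁅x, (b : G)⁆, hc b b.2⟩) fun s t => Subtype.ext (by
    show ⁅x, (s : G) * (t : G)⁆ = ⁅x, (s : G)⁆ * ⁅x, (t : G)⁆
    have e : ⁅x, (s : G) * (t : G)⁆ = ⁅x, (s : G)⁆ * ((s : G) * ⁅x, (t : G)⁆ * (s : G)⁻¹) := by
      simp only [commutatorElement_def]; group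
    rw [e, (h.commutator_smul_eq hna hzP hzc hzo hxz (hB s.2) (hc t t.2)).eq, mul_inv_cancel_right])
  have hker : Nat.card φ.ker ≤ p := by
    refine le_trans ?_ hsmall
    refine Nat.card_le_card_of_injective (fun b => ⟨b.1.1, b.1.2, Subgroup.mem_centralizer_singleton_iff.2 ?_⟩)
      fun a b hab => Subtype.ext (Subtype.ext (congrArg (fun w => w.1) hab))
    exact (commutatorElement_eq_one_iff_mul_comm.1 (congrArg Subtype.val b.2)).symm
  have hr : Nat.card φ.range ≤ p :=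
    (Nat.le_of_dvd Nat.card_pos φ.range.card_subgroup_dvd_card).trans (by rw [Nat.card_zpowers, hzo])
  rw [← φ.ker.card_mul_index, Subgroup.index_ker, sq]
  exact Nat.mul_le_mul hker hr

theorem not_mem_layer (hr : ¬ PRankLE p 2 (pOf p M)) : ¬ ∀ a ∈ pOf p M, ⁅a, x⁆ ∈ zpowers z := by
  intro hx
  obtain ⟨hel, hcA⟩ := h.elementary hna hzP hzc hzo hxz
  simp only [PRankLE, not_forall, not_le] at hr
  obtain ⟨B, hBc, hBp, hlt⟩ := hr
  set B' := B.map (pOf p M).subtype with hB'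
  have hB'el : IsElementaryAbelian p B' := PGroup.isElementaryAbelian_map ⟨hBc, hBp⟩ _
  have hB'P : B' ≤ pOf p M := Subgroup.map_subtype_le _
  have hle : B' ⊓ centralizer ({x} : Set G) ≤ zpowers z ⊔ zpowers x := fun w hw =>
    h.omega_centralizer hna hzP hzc hzo hxz (hB'P hw.1) (Subgroup.mem_centralizer_singleton_iff.1 hw.2)
      (hB'el.2 w hw.1)
  have hsmall : Nat.card ↥(B' ⊓ centralizer ({x} : Set G)) ≤ p := by
    obtain ⟨j, hj2, hj⟩ := (Nat.dvd_prime_pow hp.out).1 (hcA ▸ Subgroup.card_dvd_of_le hle)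
    rw [hj]
    refine (Nat.pow_le_pow_right hp.out.pos (Nat.lt_succ_iff.1 (lt_of_le_of_ne hj2 ?_))).trans_eq (pow_one p)
    intro e
    have e2 := Subgroup.eq_of_le_of_card_ge hle (by rw [hj, e, hcA])
    have hxB : x ∈ B' := (e2.ge (Subgroup.mem_sup_right (Subgroup.mem_zpowers x))).1
    have hBle : B' ≤ zpowers z ⊔ zpowers x := fun w hw => e2.le ⟨hw, Subgroup.mem_centralizer_singleton_iff.2
      (PGroup.mul_comm_of_elementaryAbelian hB'el hw hxB)⟩
    have := Nat.le_of_dvd Nat.card_pos (Subgroup.card_dvd_of_le hBle)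
    rw [hcA, hB', Subgroup.card_map_of_injective (pOf p M).subtype_injective] at this
    omega
  have h2 := h.card_le_of_commutator hna hzP hzc hzo hxz hB'P (fun b hb => by
    rw [← commutatorElement_inv]; exact (zpowers z).inv_mem (hx b (hB'P hb))) hsmall
  rw [hB', Subgroup.card_map_of_injective (pOf p M).subtype_injective] at h2
  omega

theorem exists_layer_ne (hr : ¬ PRankLE p 2 (pOf p M)) :
    ∃ t ∈ pOf p M, t ^ p = 1 ∧ (∀ a ∈ pOf p M, ⁅a, t⁆ ∈ zpowers z) ∧ t ∉ zpowers z := by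
  have hP : IsPGroup p ↥(pOf p M) := isPGroup_pOf M
  obtain ⟨V, -, hVn, hV, hVc⟩ := PGroup.exists_normal_elementary_cube_ge (h.odd_p hna hzP hzc hzo hxz) hP hr
    (E := ⊥) ⟨inferInstance, fun a ha => by rw [Subgroup.mem_bot.1 ha, one_pow]⟩
  set Zs := (zpowers z).subgroupOf (pOf p M) with hZs
  haveI : Zs.Normal := (Subgroup.normal_subgroupOf_iff_le_normalizer (Subgroup.zpowers_le.2 hzP)).2
    ((pOf_le M).trans (h.normal_center hna hzP hzc hzo hxz))
  set π := QuotientGroup.mk' Zs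
  have hne : V.map π ≠ ⊥ := fun e => by
    have hle : V ≤ Zs := (V.map_eq_bot_iff.1 e).trans (QuotientGroup.ker_mk' Zs).le
    have h1 := Nat.le_of_dvd Nat.card_pos (Subgroup.card_dvd_of_le hle)
    rw [hZs, Coprime.card_subgroupOf (Subgroup.zpowers_le.2 hzP), Nat.card_zpowers, hzo] at h1
    have h3 : p ^ 1 < p ^ 3 := Nat.pow_lt_pow_right hp.out.one_lt (by norm_num)
    rw [pow_one] at h3
    omega
  haveI := hVn
  haveI : (V.map π).Normal := Subgroup.Normal.map hVn π (QuotientGroup.mk'_surjective Zs)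
  obtain ⟨c, ⟨⟨v, hv, rfl⟩, hcc⟩, hc1⟩ := (Subgroup.bot_or_exists_ne_one _).resolve_left
    (PGroup.inf_center_ne_bot (hP.to_quotient Zs) (V.map π) hne)
  refine ⟨v, v.2, congrArg Subtype.val (hV.2 v hv), fun a ha => ?_, fun hm => hc1 ((QuotientGroup.eq_one_iff v).2 hm)⟩
  have e : π ⁅(⟨a, ha⟩ : ↥(pOf p M)), v⁆ = 1 := by
    rw [map_commutatorElement, commutatorElement_eq_one_iff_mul_comm]
    exact Subgroup.mem_center_iff.1 hcc _
  have h' : ⁅(⟨a, ha⟩ : ↥(pOf p M)), v⁆ ∈ Zs := (QuotientGroup.eq_one_iff _).1 e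
  exact h'

/-- The layer has order `p²` if `P` has rank at least three. -/
theorem exists_layer_square (hr : ¬ PRankLE p 2 (pOf p M)) : ∃ T : Subgroup G, T ≤ pOf p M ∧
    zpowers z ≤ T ∧ M ≤ normalizer (T : Set G) ∧ Nat.card T = p ^ 2 ∧
    (∀ t ∈ T, t ^ p = 1 ∧ ∀ a ∈ pOf p M, ⁅a, t⁆ ∈ zpowers z) ∧
    T ⊓ centralizer ({x} : Set G) ≤ zpowers z := by
  obtain ⟨T, hT⟩ := h.exists_layer hna hzP hzc hzo hxz
  have hzT : zpowers z ≤ T := Subgroup.zpowers_le.2 ((hT z).2 ⟨hzP, hzo ▸ pow_orderOf_eq_one z, fun a ha => by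
    rw [commutatorElement_eq_one_iff_mul_comm.2 (Subgroup.mem_centralizer_iff.1 hzc a ha)]
    exact one_mem _⟩)
  have hxT : x ∉ T := fun hx => h.not_mem_layer hna hzP hzc hzo hxz hr ((hT x).1 hx).2.2
  have hTC : T ⊓ centralizer ({x} : Set G) ≤ zpowers z := fun w hw => by
    obtain ⟨hwP, hwp, -⟩ := (hT w).1 hw.1
    exact h.mem_zpowers_of_pow hna hzP hzc hzo hxz
      (h.omega_centralizer hna hzP hzc hzo hxz hwP (Subgroup.mem_centralizer_singleton_iff.1 hw.2) hwp)
      T (hzT (Subgroup.mem_zpowers z)) hw.1 hxT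
  have hTP : T ≤ pOf p M := fun t ht => ((hT t).1 ht).1
  obtain ⟨t, htP, htp, htc, htz⟩ := h.exists_layer_ne hna hzP hzc hzo hxz hr
  refine ⟨T, hTP, hzT, fun m hm => ?_, le_antisymm ?_ ?_, fun s hs => ((hT s).1 hs).2, hTC⟩
  · refine Subgroup.mem_normalizer_iff_map_conj_eq.2 (Subgroup.eq_of_le_of_card_ge ?_
      (Subgroup.card_map_of_injective (MulAut.conj m).injective).ge)
    rintro _ ⟨s, hs, rfl⟩
    obtain ⟨hsP, hsp, hsc⟩ := (hT s).1 hs
    refine (hT _).2 ⟨(Subgroup.mem_normalizer_iff.1 (le_normalizer_pOf M hm) s).1 hsP, ?_, fun a ha => ?_⟩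
    · show (MulAut.conj m s) ^ p = 1
      rw [← map_pow, hsp, map_one]
    · have ha' : m⁻¹ * a * m ∈ pOf p M := by
        simpa using (Subgroup.mem_normalizer_iff.1 (le_normalizer_pOf M (M.inv_mem hm)) a).1 ha
      have e : ⁅a, MulAut.conj m s⁆ = m * ⁅m⁻¹ * a * m, s⁆ * m⁻¹ := by
        simp only [commutatorElement_def, MulAut.conj_apply]; group
      show ⁅a, MulAut.conj m s⁆ ∈ zpowers z
      rw [e]
      exact (Subgroup.mem_normalizer_iff.1 (h.normal_center hna hzP hzc hzo hxz hm) _).1 (hsc _ ha')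
  · refine h.card_le_of_commutator hna hzP hzc hzo hxz hTP (fun b hb => ((hT b).1 hb).2.2 x h.mem_P)
      ((Nat.le_of_dvd Nat.card_pos (Subgroup.card_dvd_of_le hTC)).trans_eq (by rw [Nat.card_zpowers, hzo]))
  · obtain ⟨j, hj⟩ := ((isPGroup_pOf (r := p) M).to_le hTP).exists_card_eq
    rw [hj]
    refine Nat.pow_le_pow_right hp.out.pos (Nat.succ_le_of_lt ((Nat.pow_lt_pow_iff_right hp.out.one_lt).1 ?_))
    rw [← hj, pow_one]
    refine lt_of_le_of_ne ?_ fun e => htz ?_
    · exact (by rw [Nat.card_zpowers, hzo] : p = Nat.card (zpowers z)).le.trans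
        (Nat.le_of_dvd Nat.card_pos (Subgroup.card_dvd_of_le hzT))
    · rw [Subgroup.eq_of_le_of_card_ge hzT (by rw [Nat.card_zpowers, hzo, e])]
      exact (hT t).2 ⟨htP, htp, htc⟩

/-- `P` is not too small: `x` is not a `p`-th power. -/
theorem not_pow {u : G} (hu : u ∈ pOf p M) : u ^ p ≠ x := by
  intro hux
  by_cases hr : PRankLE p 2 (pOf p M)
  · obtain ⟨S, hS⟩ := h.exists_sylow_eq hna
    have hc := S1412.result h.base.minSimple p S (hS.symm ▸ hr)
    obtain ⟨P₁, P₂, hsup, hcomm, -, -, hexp, hP₂c, -⟩ := hc.resolve_left (h.not_comm_sylow hna S)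
    rw [hS] at hsup
    have hn : P₁ ≤ normalizer (P₂ : Set G) := fun a ha => Subgroup.centralizer_le_normalizer _
      (Subgroup.mem_centralizer_iff.2 fun b hb => (hcomm a ha b hb).symm)
    obtain ⟨a, ha, b, hb, rfl⟩ := (Coprime.mem_sup_iff_of_le_normalizer hn).1 (hsup.ge hu)
    refine h.not_central hna (Subgroup.mem_centralizer_iff.2 fun w hw => ?_)
    have hap : a ^ p = 1 := congrArg Subtype.val (hexp ▸ Monoid.pow_exponent_eq_one (⟨a, ha⟩ : P₁))
    rw [← hux, (show Commute a b from hcomm a ha b hb).mul_pow, hap, one_mul]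
    obtain ⟨a', ha', b', hb', rfl⟩ := (Coprime.mem_sup_iff_of_le_normalizer hn).1 (hsup.ge hw)
    exact ((show Commute a' (b ^ p) from (show Commute a' b from hcomm a' ha' b hb).pow_right p).mul_left
      (show Commute b' (b ^ p) from
        (show Commute b' b from PGroup.mul_comm_of_isMulCommutative (@IsCyclic.isMulCommutative _ _ hP₂c) hb' hb).pow_right p)).eq
  · obtain ⟨T, hTP, hzT, -, hTc, hT, hTC⟩ := h.exists_layer_square hna hzP hzc hzo hxz hr
    have hle : T ≤ zpowers z := by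
      refine le_trans (le_inf le_rfl fun t ht => Subgroup.mem_centralizer_singleton_iff.2 ?_) hTC
      have hc : ⁅u, t⁆ ∈ zpowers z := (hT t ht).2 u hu
      have hcentr : ⁅(⟨u, hu⟩ : ↥(pOf p M)), (⟨t, hTP ht⟩ : ↥(pOf p M))⁆ ∈ Subgroup.center ↥(pOf p M) :=
        Subgroup.mem_center_iff.2 fun b => Subtype.ext (h.commutator_smul_eq hna hzP hzc hzo hxz b.2 hc).eq
      have e : ⁅u ^ p, t⁆ = ⁅u, t⁆ ^ p := congrArg Subtype.val (PGroup.commutator_pow_left hcentr p)
      obtain ⟨i, hi⟩ := hc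
      rw [hux, ← show z ^ i = ⁅u, t⁆ from hi, ← zpow_natCast, ← zpow_mul, mul_comm, zpow_mul, zpow_natCast,
        ← hzo, pow_orderOf_eq_one, one_zpow] at e
      exact (commutatorElement_eq_one_iff_mul_comm.1 e).symm
    have h1 := Nat.le_of_dvd Nat.card_pos (Subgroup.card_dvd_of_le hle)
    rw [hTc, Nat.card_zpowers, hzo] at h1
    exact absurd h1 (not_le.2 (by nlinarith [hp.out.one_lt]))

theorem card_inter :
    Nat.card ↥(fittingOf M ⊓ (fittingOf M).map (MulAut.conj g).toMonoidHom) = p := by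
  set X := fittingOf M ⊓ (fittingOf M).map (MulAut.conj g).toMonoidHom with hX
  haveI : IsCyclic X := h.base.cyclic
  obtain ⟨n, hn⟩ := (h.isPGroup_inter hna).exists_card_eq
  have hxo : p ∣ Nat.card X := h.order ▸ Subgroup.orderOf_dvd_natCard X h.mem
  rcases n with _ | _ | n
  · rw [hn, pow_zero] at hxo
    exact absurd hxo hp.out.not_dvd_one
  · rw [hn, pow_one]
  exfalso
  obtain ⟨u, hu⟩ := IsCyclic.exists_generator (α := X)
  obtain ⟨i, hi⟩ := (mem_powers_iff_mem_zpowers (x := u) (y := (⟨x, h.mem⟩ : X))).2 (hu _)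
  have hu' : orderOf u = p ^ (n + 2) := (orderOf_eq_card_of_forall_mem_zpowers hu).trans hn
  have hd : p ^ (n + 2) ∣ i * p := hu' ▸ orderOf_dvd_of_pow_eq_one (by
    rw [pow_mul, show u ^ i = (⟨x, h.mem⟩ : X) from hi]
    exact Subtype.ext (show x ^ p = 1 by rw [← h.order, pow_orderOf_eq_one]))
  obtain ⟨j, rfl⟩ : p ∣ i := by
    rw [pow_succ, Nat.mul_dvd_mul_iff_right hp.out.pos] at hd
    exact (dvd_pow_self p n.succ_ne_zero).trans hd
  refine h.not_pow hna hzP hzc hzo hxz (u := ((u ^ j : X) : G)) ?_ ?_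
  · refine h.base.le_pOf_of_sigma h.mem_sigma (inf_le_left.trans (fittingOf_le M)) (h.isPGroup_inter hna) (u ^ j).2
  · rw [← Subgroup.coe_pow, ← pow_mul, mul_comm j p]
    exact congrArg Subtype.val hi

/-- The two possibilities for `|K|`. -/
theorem card_kappa {K U : Subgroup G} (hKU : IsSigmaDecomposition M K U) (hK1 : K ≠ ⊥) :
    (∀ q : ℕ, q.Prime → q ∣ Nat.card (sigmaCore M) → Nat.card K ∣ q - 1) ∨
      (Nat.card (pOf p M) = p ^ 3 ∧ Nat.card K ∣ p + 1) := by
  have hG := h.base.minSimple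
  have hM := h.base.coatom
  have hI := h.base.input
  have hU := h.base.U_eq_bot hKU hK1
  obtain ⟨E, d⟩ := exists_pData hG hI.h13 hM hKU.hall hK1
  set Ks := sigmaCore M ⊓ centralizer (K : Set G) with hKs
  have hKsp : (Nat.card Ks).Prime := hI.fixed_prime M hM K U hKU hK1 hU
  have hKs_card : Nat.card Ks = p := by
    by_contra hne
    haveI := Fact.mk hKsp
    obtain ⟨S⟩ : Nonempty (Sylow (Nat.card Ks) ↥(sigmaCore M)) := inferInstance
    obtain ⟨L, -, hu⟩ := d.sylow_unique dvd_rfl S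
    exact h.ne ((hu N ⟨h.coatom', (h.base.sylow_map_le S).trans (h.pOf_le_N hne)⟩).trans
      (hu M ⟨hM, (Subgroup.map_subtype_le _).trans (sigmaCore_le M)⟩).symm)
  have hfixK : ∀ k ∈ K, k ≠ 1 → sigmaCore M ⊓ centralizer ({k} : Set G) ≤ Ks := fun k hk hk1 =>
    (d.primeAction hk hk1).le
  have hKM : K ≤ M := hKU.hall.1
  have hcop : (Nat.card K).Coprime p := Nat.coprime_of_dvd fun l hl h1 h2 =>
    (hKU.hall.2.1 l hl h1).2.2.1 ((Nat.prime_dvd_prime_iff_eq hl hp.out).1 h2 ▸ h.mem_sigma)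
  have hnorm : ∀ q : ℕ, q.Prime → q ∣ Nat.card (sigmaCore M) → q ≠ p → Nat.card K ∣ q - 1 := by
    intro q hq hd hne
    haveI := Fact.mk hq
    obtain ⟨W, hWle, hWn, hWc, -⟩ := h.exists_normal_order hna hzP hzc hzo hxz hd
    have := Coprime.card_dvd_of_fpf_diff (A := K) (T := W) (B := ⊥) (hKM.trans hWn)
      (fun k _ => Subgroup.mem_normalizer_iff.2 fun a => by simp) bot_le fun k hk hk1 => by
        refine le_of_eq (Subgroup.inf_eq_bot_of_coprime ?_ |> fun e => le_bot_iff.1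
          ((le_inf inf_le_left ((inf_le_inf_right _ hWle).trans (hfixK k hk hk1))).trans_eq e))
        rw [hWc, hKs_card]
        exact (Nat.coprime_primes hq hp.out).2 hne
    rwa [hWc, Subgroup.card_bot] at this
  have finish : Nat.card K ∣ p - 1 →
      (∀ q : ℕ, q.Prime → q ∣ Nat.card (sigmaCore M) → Nat.card K ∣ q - 1) ∨
        (Nat.card (pOf p M) = p ^ 3 ∧ Nat.card K ∣ p + 1) := fun hp1 => Or.inl fun q hq hd => by
    rcases eq_or_ne q p with rfl | hne
    · exact hp1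
    · exact hnorm q hq hd hne
  have hPσ := h.base.pOf_le_sigmaCore h.mem_sigma
  have hz0 : Nat.card (zpowers z) = p := by rw [Nat.card_zpowers, hzo]
  by_cases hzK : zpowers z = Ks
  swap
  · refine finish ?_
    have := Coprime.card_dvd_of_fpf_diff (A := K) (T := zpowers z) (B := ⊥)
      (hKM.trans (h.normal_center hna hzP hzc hzo hxz))
      (fun k _ => Subgroup.mem_normalizer_iff.2 fun a => by simp) bot_le fun k hk hk1 => by
        have hle : zpowers z ⊓ centralizer ({k} : Set G) ≤ zpowers z ⊓ Ks :=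
          le_inf inf_le_left ((inf_le_inf_right _ ((Subgroup.zpowers_le.2 hzP).trans hPσ)).trans (hfixK k hk hk1))
        refine hle.trans ?_
        rcases (Nat.dvd_prime hp.out).1 (hz0 ▸ Subgroup.card_dvd_of_le
          (inf_le_left : zpowers z ⊓ Ks ≤ zpowers z)) with e | e
        · exact (Subgroup.card_eq_one.1 e).le
        · exact absurd ((Subgroup.eq_of_le_of_card_ge inf_le_left (hz0.trans e.symm).le).symm.trans
            (Subgroup.eq_of_le_of_card_ge inf_le_right (hKs_card.trans e.symm).le)) hzK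
    rwa [hz0, Subgroup.card_bot] at this
  have hKz : K ≤ centralizer (zpowers z : Set G) := by
    rw [hzK]
    exact Subgroup.le_centralizer_iff.1 inf_le_right
  have hKn : K ≤ normalizer (zpowers z : Set G) := hKM.trans (h.normal_center hna hzP hzc hzo hxz)
  have hsquare : ∀ T : Subgroup G, T ≤ pOf p M → zpowers z ≤ T → K ≤ normalizer (T : Set G) →
      Nat.card T = p ^ 2 → Nat.card K ∣ p - 1 := fun T hTP hzT hKT hTc => by
    have := Coprime.card_dvd_of_fpf_diff hKT hKn hzT fun k hk hk1 =>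
      ((inf_le_inf_right _ (hTP.trans hPσ)).trans (hfixK k hk hk1)).trans hzK.ge
    rw [hTc, hz0, show p ^ 2 - p = (p - 1) * p by rw [Nat.sub_one_mul, sq]] at this
    exact hcop.dvd_of_dvd_mul_right this
  by_cases hr : PRankLE p 2 (pOf p M)
  swap
  · obtain ⟨T, hTP, hzT, hTn, hTc, -, -⟩ := h.exists_layer_square hna hzP hzc hzo hxz hr
    exact finish (hsquare T hTP hzT (hKM.trans hTn) hTc)
  set C := pOf p M ⊓ centralizer (pOf p M : Set G) with hC
  have hCn : M ≤ normalizer (C : Set G) := Coprime.le_normalizer_inf_of_le (le_normalizer_pOf M)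
    (Coprime.le_normalizer_centralizer (le_normalizer_pOf M))
  have hCc : IsCyclic C := IsolatedP.isCyclic_of_pRankLE_one (h.odd_p hna hzP hzc hzo hxz)
    ((isPGroup_pOf M).to_le inf_le_left) fun A hA hAp => by
      have hle : A.map C.subtype ≤ zpowers z := by
        rintro _ ⟨a, ha, rfl⟩
        exact h.omega_center hna hzP hzc hzo hxz a.2.1 a.2.2 (congrArg Subtype.val (hAp a ha))
      have h1 := Nat.le_of_dvd Nat.card_pos (Subgroup.card_dvd_of_le hle)
      rw [Subgroup.card_map_of_injective C.subtype_injective, hz0] at h1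
      rwa [pow_one]
  have hzC : zpowers z ≤ C := Subgroup.zpowers_le.2 ⟨hzP, hzc⟩
  by_cases hCp : Nat.card C = p
  swap
  · obtain ⟨k, hk⟩ := ((isPGroup_pOf (r := p) M).to_le (inf_le_left : C ≤ _)).exists_card_eq
    have hk2 : 2 ≤ k := by
      have h1 : p ^ 1 ∣ p ^ k := by
        have hd := Subgroup.card_dvd_of_le hzC
        rw [hz0, hk] at hd
        rwa [pow_one]
      have := (Nat.pow_dvd_pow_iff_le_right hp.out.one_lt).1 h1
      by_contra h2
      obtain rfl : k = 1 := by omega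
      exact hCp (hk.trans (pow_one p))
    obtain ⟨W, hW, hzW⟩ := Sylow.exists_subgroup_card_pow_prime_le (G := C) p (n := 1) (m := 2)
      (hk ▸ pow_dvd_pow p hk2) ((zpowers z).subgroupOf C) (by rw [Coprime.card_subgroupOf hzC, hz0, pow_one]) one_le_two
    refine finish (hsquare (W.map C.subtype) ((Subgroup.map_subtype_le W).trans inf_le_left) ?_
      (hKM.trans (le_normalizer_of_cyclic_normal hCc hCn (Subgroup.map_subtype_le W)))
      (by rw [Subgroup.card_map_of_injective C.subtype_injective, hW]))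
    rw [← Subgroup.map_subgroupOf_eq_of_le hzC]
    exact Subgroup.map_mono hzW
  have hCz : C = zpowers z := (Subgroup.eq_of_le_of_card_ge hzC (by rw [hCp, hz0])).symm
  obtain ⟨S, hS⟩ := h.exists_sylow_eq hna
  obtain ⟨P₁, P₂, hsup, hcomm, -, hP₁c, hexp, hP₂c, hom⟩ :=
    (S1412.result hG p S (hS.symm ▸ hr)).resolve_left (h.not_comm_sylow hna S)
  rw [hS] at hsup
  have hP₂P₁ : P₂ ≤ P₁ := by
    intro b hb
    have hbC : b ∈ C := by
      refine ⟨hsup.le (Subgroup.mem_sup_right hb), Subgroup.mem_centralizer_iff.2 fun w hw => ?_⟩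
      have hle : P₁ ⊔ P₂ ≤ centralizer ({b} : Set G) := sup_le
        (fun a ha => Subgroup.mem_centralizer_singleton_iff.2 (hcomm a ha b hb))
        (fun a ha => Subgroup.mem_centralizer_singleton_iff.2
          (PGroup.mul_comm_of_isMulCommutative (@IsCyclic.isMulCommutative _ _ hP₂c) ha hb))
      exact Subgroup.mem_centralizer_singleton_iff.1 (hle (hsup.ge hw))
    have hbp : b ^ p = 1 := by
      obtain ⟨i, hi⟩ := hCz.le hbC
      rw [← show z ^ i = b from hi, ← zpow_natCast, ← zpow_mul, mul_comm, zpow_mul, zpow_natCast, ← hzo,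
        pow_orderOf_eq_one, one_zpow]
    exact (hom.le (Subgroup.subset_closure ⟨hb, hbp⟩)).1
  have hP₁ : P₁ = pOf p M := by rw [← hsup, sup_eq_left.2 hP₂P₁]
  subst hP₁
  have hexp' : ∀ a ∈ pOf p M, a ^ p = 1 := fun a ha =>
    congrArg Subtype.val (hexp ▸ Monoid.pow_exponent_eq_one (⟨a, ha⟩ : ↥(pOf p M)))
  have hcom : ∀ a ∈ pOf p M, ∀ b ∈ pOf p M, ⁅a, b⁆ ∈ zpowers z := by
    intro a ha b hb
    have hcen : Nat.card (Subgroup.center ↥(pOf p M)) = p := by
      refine Eq.trans ?_ hCp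
      rw [← Subgroup.card_map_of_injective (pOf p M).subtype_injective]
      refine congrArg (fun H : Subgroup G => Nat.card H) (le_antisymm ?_ ?_)
      · rintro _ ⟨c, hc, rfl⟩
        exact ⟨c.2, Subgroup.mem_centralizer_iff.2 fun w hw =>
          congrArg Subtype.val (Subgroup.mem_center_iff.1 hc ⟨w, hw⟩)⟩
      · rintro c ⟨hc, hcc⟩
        exact ⟨⟨c, hc⟩, Subgroup.mem_center_iff.2 fun w =>
          Subtype.ext (Subgroup.mem_centralizer_iff.1 hcc w w.2), rfl⟩
    have hidx : Nat.card (↥(pOf p M) ⧸ Subgroup.center ↥(pOf p M)) = p ^ 2 := by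
      have e := Subgroup.card_eq_card_quotient_mul_card_subgroup (Subgroup.center ↥(pOf p M))
      rw [hP₁c, hcen, pow_succ] at e
      exact (Nat.eq_of_mul_eq_mul_right hp.out.pos e).symm
    have e : QuotientGroup.mk' (Subgroup.center ↥(pOf p M)) ⁅(⟨a, ha⟩ : ↥(pOf p M)), ⟨b, hb⟩⁆ = 1 := by
      rw [map_commutatorElement, commutatorElement_eq_one_iff_mul_comm]
      exact IsPGroup.commutative_of_card_eq_prime_sq hidx _ _
    have hm := (QuotientGroup.eq_one_iff _).1 e
    rw [← hCz]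
    exact ⟨(pOf p M).mul_mem ((pOf p M).mul_mem ((pOf p M).mul_mem ha hb) ((pOf p M).inv_mem ha))
      ((pOf p M).inv_mem hb), Subgroup.mem_centralizer_iff.2 fun w hw =>
        congrArg Subtype.val (Subgroup.mem_center_iff.1 hm ⟨w, hw⟩)⟩
  rcases Coprime.card_dvd_sub_one_or_add_one hP₁c hexp' hna hz0 (Subgroup.zpowers_le.2 hzP)
    (fun a ha => Subgroup.mem_centralizer_iff.2 fun c hc => (h.commutator_smul_eq hna hzP hzc hzo hxz ha hc).eq.symm)
    hcom hKz (hKM.trans (le_normalizer_pOf M)) (@IsCyclic.isMulCommutative _ _ hKU.cyclic)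
    (odd_subgroup hG.1 K) hcop
    (fun k hk hk1 => ((inf_le_inf_right _ hPσ).trans (hfixK k hk hk1)).trans hzK.ge) with h1 | h1
  · exact finish h1
  · exact Or.inr ⟨hP₁c, h1⟩

end NonTIPair

/-- BG 15.7 (c). -/
theorem NonTI.cases {M : Subgroup G} {g : G} (h : NonTI M g) {K U : Subgroup G}
    (hKU : IsSigmaDecomposition M K U) :
    (K = ⊥ ∧ IsMulCommutative (sigmaCore M) ∧ RankLE 2 (sigmaCore M) ∧ ¬ RankLE 1 (sigmaCore M)) ∨
      ∃ p : ℕ, p.Prime ∧
        Nat.card ↥(fittingOf M ⊓ (fittingOf M).map (MulAut.conj g).toMonoidHom) = p ∧ p ∈ sigma M ∧ p ∉ beta M ∧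
        ¬ IsMulCommutative (pOf p M) ∧ (∀ q : ℕ, q.Prime → q ≠ p → IsCyclic (pOf q M)) ∧
        ((∀ q : ℕ, q.Prime → q ∣ Nat.card (sigmaCore M) → Monoid.exponent (↥M ⧸ fittingHall ↥M) ∣ q - 1) ∨
          (Nat.card (pOf p M) = p ^ 3 ∧ K ≠ ⊥ ∧ U = ⊥ ∧ (sigmaCore M).relIndex M ∣ p + 1)) := by
  obtain ⟨p, hp, hpd⟩ := Nat.exists_prime_and_dvd (fun e => h.ne (Subgroup.card_eq_one.1 e))
  haveI := Fact.mk hp
  obtain ⟨x, N, hP⟩ := h.exists_pair hpd
  rcases h.isMulCommutative_or with hc | ⟨q, hq, hqd, hna⟩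
  · exact Or.inl ⟨(hP.case_abelian hKU hc).1, hc, (hP.case_abelian hKU hc).2⟩
  haveI := Fact.mk hq
  obtain rfl : q = p := by_contra fun hne => hna (hP.pOf_comm hne)
  obtain ⟨z, hzP, hzc, hzo, hxz⟩ := hP.exists_center hna
  refine Or.inr ⟨q, hq, hP.card_inter hna hzP hzc hzo hxz, hP.mem_sigma, hP.not_beta, hna,
    fun r hr hne => @NonTIPair.cyclic_of_ne _ _ _ _ _ _ _ _ _ hP hna _ hzP hzc hzo hxz r (Fact.mk hr) hne, ?_⟩
  by_cases hK : K = ⊥
  · refine Or.inl fun r hr hrd => ?_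
    haveI := Fact.mk hr
    have hE := TheoremB.complIn_of_bot hKU hK
    obtain ⟨-, E₀, hle, hexp, hfree⟩ := S1421.result h.minSimple M h.coatom U hE
      (fun e he he1 hπ => TheoremB.fpf_of_tau13 h.minSimple h.coatom hKU he he1 hπ)
    refine (h.exponent_quotient_dvd hE).trans (hexp ▸ Group.exponent_dvd_nat_card.trans ?_)
    obtain ⟨W, hWle, hWn, hWc, -⟩ := hP.exists_normal_order hna hzP hzc hzo hxz hrd
    have := Coprime.card_dvd_of_fpf_diff (A := E₀) (T := W) (B := ⊥) ((hle.trans hE.1).trans hWn)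
      (fun k _ => Subgroup.mem_normalizer_iff.2 fun a => by simp) bot_le
      fun k hk hk1 => (inf_le_inf_right _ hWle).trans (hfree k hk hk1).le
    rwa [hWc, Subgroup.card_bot] at this
  have hU := h.U_eq_bot hKU hK
  subst hU
  have hcard := card_of_decomposition_bot hKU
  rcases hP.card_kappa hna hzP hzc hzo hxz hKU hK with h1 | ⟨h1, h2⟩
  · refine Or.inl fun r hr hrd => ?_
    have hE : IsComplIn K (sigmaCore M) M := by
      refine ⟨hKU.hall.1, sigmaCore_le M, Decomp.inf_sigmaCore hKU, fun m hm => ?_⟩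
      obtain ⟨a, ha, b, hb, rfl⟩ := hKU.compl.2.2.2 m hm
      rw [Subgroup.mem_bot.1 ha, one_mul]
      obtain ⟨k, hk, s, hs, rfl⟩ := (Coprime.mem_sup_iff_of_le_normalizer
        (hKU.hall.1.trans (le_normalizer_sigmaCore M))).1 hb
      exact ⟨k, hk, s, hs, rfl⟩
    exact ((h.exponent_quotient_dvd hE).trans Group.exponent_dvd_nat_card).trans (h1 r hr hrd)
  · refine Or.inr ⟨h1, hK, rfl, ?_⟩
    have e := (sigmaCore M).subgroupOf M |>.card_mul_index
    rw [Coprime.card_subgroupOf (sigmaCore_le M), hcard, Nat.mul_left_cancel_iff Nat.card_pos] at e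
    rw [Subgroup.relIndex, e]
    exact h2

end Cfsg.Agent.OddOrder
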