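import Mathlib
import Cfsg.Prelude.Def_Transfer
import Cfsg.Agent.Lib.Perm.EndField

/-!
# The field of a Singer cycle (the coordinates in the final configuration of the odd order theorem)

An abelian group `U` of order `(p^q - 1)/(p - 1)` acting fixed-point-freely on an elementary abelian
`p`-group `P` of order `p^q`, `q` prime, makes `P` the additive group of a field with `p^q` elements
with `U` acting by multiplications, a given subgroup of order `p` becoming the prime field.
-/

set_option autoImplicit false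

namespace Cfsg.Agent.OddOrder.Singer

open Cfsg Subgroup

/-- A group of automorphisms fixing only `1` on `W` has order dividing `|W| - 1`. -/
theorem card_dvd_pred {W : Type*} [Group W] [Finite W] {H : Type*} [Group H] [Finite H]
    (θ : H →* MulAut W) (hfree : ∀ h : H, ∀ x : W, x ≠ 1 → θ h x = x → h = 1) :
    Nat.card H ∣ Nat.card W - 1 := by
  classical
  letI : MulAction H {x : W // x ≠ 1} :=
    { smul := fun h x => ⟨θ h x.1, fun hh => x.2 (by simpa using hh)⟩
      one_smul := fun x => Subtype.ext (show θ 1 x.1 = x.1 by rw [map_one]; rfl)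
      mul_smul := fun g h x => Subtype.ext (show θ (g * h) x.1 = θ g (θ h x.1) by rw [map_mul]; rfl) }
  have hstab : ∀ x : {x : W // x ≠ 1}, MulAction.stabilizer H x = ⊥ := fun x => by
    refine (Subgroup.eq_bot_iff_forall _).mpr fun h hh => ?_
    exact hfree h x.1 x.2 (congrArg Subtype.val hh)
  have h1 : Nat.card {x : W // x ≠ 1} = Nat.card W - 1 := by
    have := Fintype.ofFinite W
    rw [Nat.card_eq_fintype_card, Nat.card_eq_fintype_card, Fintype.card_subtype_compl,
      Fintype.card_subtype_eq]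
  rw [← h1, Nat.card_congr (MulAction.selfEquivOrbitsQuotientProd hstab), Nat.card_prod]
  exact dvd_mul_left _ _

/-- `p^i - 1 < (p^q - 1)/(p - 1)` for `i < q`. -/
theorem pow_sub_one_mul_lt {p i q : ℕ} (hp : 2 ≤ p) (hi : i < q) :
    (p ^ i - 1) * (p - 1) < p ^ q - 1 := by
  have h1 : p ^ (i + 1) ≤ p ^ q := Nat.pow_le_pow_right (by omega) hi
  have h2 : 1 ≤ p ^ i := Nat.one_le_pow _ _ (by omega)
  rw [pow_succ] at h1
  obtain ⟨m, hm⟩ : ∃ m, p = m + 2 := ⟨p - 2, by omega⟩
  obtain ⟨k, hk⟩ : ∃ k, p ^ i = k + 1 := ⟨p ^ i - 1, by omega⟩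
  rw [hk] at h1 ⊢
  rw [hm, show m + 2 - 1 = m + 1 by omega, show k + 1 - 1 = k by omega] at *
  have h3 : (k + 1) * (m + 2) = k * (m + 1) + k + m + 2 := by ring
  omega

theorem exists_singer_field {G : Type*} [Group G] [Finite G] (p q : ℕ) [Fact p.Prime]
    (P U W : Subgroup G) (hP : IsElementaryAbelian p P) (hPc : Nat.card P = p ^ q) (hWP : W ≤ P)
    (hW : Nat.card W = p) (hUP : U ≤ normalizer (P : Set G)) (hU : IsMulCommutative U)
    (hfpf : ∀ u ∈ U, u ≠ 1 → ∀ x ∈ P, u * x = x * u → x = 1)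
    (hUc : Nat.card U * (p - 1) = p ^ q - 1) :
    IsCyclic U ∧ ∃ (F : Type) (_ : Field F) (_ : Fintype F) (f : G → F) (ψ : G → F),
      Fintype.card F = p ^ q ∧ Set.BijOn f (P : Set G) Set.univ ∧
      (∀ x ∈ P, ∀ x' ∈ P, f (x * x') = f x + f x') ∧
      (∀ u ∈ U, ψ u ≠ 0 ∧ ∀ x ∈ P, f (u * x * u⁻¹) = ψ u * f x) ∧
      (∀ u ∈ U, ∀ u' ∈ U, ψ (u * u') = ψ u * ψ u') ∧ Set.InjOn ψ (U : Set G) ∧
      (∀ x ∈ P, x ∈ W ↔ f x ^ p = f x) := by
  classical
  have hp : p.Prime := Fact.out
  haveI := hP.1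
  letI : CommGroup P := { (inferInstance : Group P) with mul_comm := mul_comm' }
  let θ : U →* MulAut P := P.normalizerMonoidHom.comp (inclusion hUP)
  have hθ : ∀ (u : U) (x : P), ((θ u x : P) : G) = (u : G) * x * (u : G)⁻¹ := fun u x => rfl
  have hfree : ∀ (u : U) (x : P), x ≠ 1 → θ u x = x → u = 1 := by
    intro u x hx hux
    by_contra hu
    have h : (u : G) * x * (u : G)⁻¹ = x := (hθ u x).symm.trans (congrArg Subtype.val hux)
    refine hx (Subtype.ext (hfpf u u.2 (fun h' => hu (Subtype.ext h')) x x.2 ?_))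
    exact mul_inv_eq_iff_eq_mul.1 h
  -- irreducibility
  have hirr : ∀ L : Subgroup P, (∀ σ ∈ Set.range θ, ∀ x ∈ L, σ x ∈ L) → L = ⊥ ∨ L = ⊤ := by
    intro L hL
    by_contra hcon
    obtain ⟨hL0, hL1⟩ := not_or.1 hcon
    obtain ⟨i, hi, hLc⟩ := (Nat.dvd_prime_pow hp).1 (hPc ▸ L.card_subgroup_dvd_card)
    have hiq : i < q := by
      refine lt_of_le_of_ne hi fun e => hL1 (Subgroup.eq_top_of_card_eq L ?_)
      rw [hLc, hPc, e]
    let θL : U →* MulAut L :=
      { toFun := fun u =>
          { toFun := fun x => ⟨θ u x.1, hL _ ⟨u, rfl⟩ _ x.2⟩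
            invFun := fun x => ⟨θ u⁻¹ x.1, hL _ ⟨u⁻¹, rfl⟩ _ x.2⟩
            left_inv := fun x => Subtype.ext (by simp)
            right_inv := fun x => Subtype.ext (by simp)
            map_mul' := fun x y => Subtype.ext (map_mul (θ u) x.1 y.1) }
        map_one' := MulEquiv.ext fun x => Subtype.ext (by simp)
        map_mul' := fun u v => MulEquiv.ext fun x => Subtype.ext (by simp) }
    have hdvd := card_dvd_pred θL fun u x hx hux =>
      hfree u x.1 (fun h => hx (Subtype.ext h)) (congrArg Subtype.val hux)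
    have hpos : 0 < Nat.card L - 1 := by
      have := (L.one_lt_card_iff_ne_bot).2 hL0
      omega
    have h1 := Nat.mul_le_mul_right (p - 1) (Nat.le_of_dvd hpos hdvd)
    rw [hUc, hLc] at h1
    exact absurd (pow_sub_one_mul_lt hp.two_le hiq) (not_lt.2 h1)
  -- the base point
  have hWne : W ≠ ⊥ := by
    rintro rfl
    rw [Subgroup.card_bot] at hW
    exact hp.ne_one hW.symm
  obtain ⟨w, hw, hw1⟩ := W.bot_or_exists_ne_one.resolve_left hWne
  let e₀ : P := ⟨w, hWP hw⟩
  have he₀ : e₀ ≠ 1 := fun h => hw1 (congrArg Subtype.val h)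
  have hcomm : ∀ σ ∈ Set.range θ, ∀ τ ∈ Set.range θ, ∀ x, σ (τ x) = τ (σ x) := by
    rintro _ ⟨u, rfl⟩ _ ⟨v, rfl⟩ x
    have h := congrArg (fun φ : MulAut P => φ x) (congrArg θ (mul_comm' u v))
    simpa using h
  obtain ⟨F, iF, iFt, θF, h0, h1, hadd, hmul⟩ :=
    Cfsg.Agent.Perm.exists_field_of_irreducible (Set.range θ) hcomm hirr he₀
  choose a ha0 ha using fun u : U => hmul (θ u) ⟨u, rfl⟩
  have hamul : ∀ u v : U, a (u * v) = a u * a v := by
    intro u v
    have e := ha (u * v) 1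
    rw [map_mul, MulAut.mul_apply, ha v 1, ha u, mul_one, mul_one] at e
    exact (θF.injective e).symm
  have ha1 : a 1 = 1 := by
    have e := ha 1 1
    rw [map_one, MulAut.one_apply, mul_one] at e
    exact (θF.injective e).symm
  have hainj : Function.Injective a := by
    intro u v huv
    have e : θ u e₀ = θ v e₀ := by rw [← h1, ha u, ha v, huv]
    have : θ (v⁻¹ * u) e₀ = e₀ := by
      rw [map_mul, MulAut.mul_apply, e, map_inv]
      exact (θ v).symm_apply_apply e₀
    have h2 := hfree _ _ he₀ this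
    rwa [inv_mul_eq_one, eq_comm] at h2
  let f : G → F := fun g => if h : g ∈ P then θF.symm ⟨g, h⟩ else 0
  let ψ : G → F := fun g => if h : g ∈ U then a ⟨g, h⟩ else 0
  have hf : ∀ x (hx : x ∈ P), f x = θF.symm ⟨x, hx⟩ := fun x hx => dif_pos hx
  have hψ : ∀ x (hx : x ∈ U), ψ x = a ⟨x, hx⟩ := fun x hx => dif_pos hx
  have hcard : Fintype.card F = p ^ q := by
    rw [← hPc, ← Nat.card_eq_fintype_card, Nat.card_congr θF]
  have hfadd : ∀ x ∈ P, ∀ x' ∈ P, f (x * x') = f x + f x' := by
    intro x hx x' hx'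
    rw [hf _ (mul_mem hx hx'), hf _ hx, hf _ hx', Equiv.symm_apply_eq, hadd,
      Equiv.apply_symm_apply, Equiv.apply_symm_apply]
    rfl
  refine ⟨?_, F, iF, iFt, f, ψ, hcard, ⟨fun x _ => trivial, ?_, ?_⟩, hfadd, ?_, ?_, ?_, ?_⟩
  · let χ : U →* F := { toFun := a, map_one' := ha1, map_mul' := hamul }
    exact isCyclic_of_subgroup_isDomain χ hainj
  · intro x hx y hy e
    rw [hf x hx, hf y hy] at e
    exact congrArg Subtype.val (θF.symm.injective e)
  · intro z _
    refine ⟨(θF z : P), (θF z).2, ?_⟩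
    rw [hf _ (θF z).2]
    exact θF.symm_apply_apply z
  · intro u hu
    refine ⟨by rw [hψ u hu]; exact ha0 _, fun x hx => ?_⟩
    have hmem : u * x * u⁻¹ ∈ P := (mem_normalizer_iff.1 (hUP hu) x).1 hx
    rw [hf _ hmem, hψ u hu, hf x hx, Equiv.symm_apply_eq, ← ha, Equiv.apply_symm_apply]
    exact Subtype.ext (hθ ⟨u, hu⟩ ⟨x, hx⟩).symm
  · intro u hu v hv
    rw [hψ _ (mul_mem hu hv), hψ u hu, hψ v hv]
    exact hamul ⟨u, hu⟩ ⟨v, hv⟩
  · intro u hu v hv e
    rw [hψ u hu, hψ v hv] at e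
    exact congrArg Subtype.val (hainj e)
  · -- `W` is the prime field
    have hchar : CharP F p := charP_of_card_eq_prime_pow hcard
    have hfw : f w = 1 := by
      rw [hf w (hWP hw), Equiv.symm_apply_eq, h1]
    have hf1 : f 1 = 0 := by
      rw [hf 1 (one_mem P), Equiv.symm_apply_eq, h0]
      rfl
    have hpow : ∀ n : ℕ, f (w ^ n) = (n : F) := by
      intro n
      induction n with
      | zero => rw [pow_zero, hf1, Nat.cast_zero]
      | succ n ih => rw [pow_succ, hfadd _ (pow_mem (hWP hw) n) _ (hWP hw), ih, hfw, Nat.cast_succ]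
    intro x hx
    constructor
    · intro hxW
      haveI : IsCyclic W := isCyclic_of_prime_card hW
      have hgen : zpowers (⟨w, hw⟩ : W) = ⊤ :=
        zpowers_eq_top_of_prime_card hW fun h => hw1 (congrArg Subtype.val h)
      obtain ⟨n, hn⟩ : (⟨x, hxW⟩ : W) ∈ Submonoid.powers (⟨w, hw⟩ : W) := by
        rw [mem_powers_iff_mem_zpowers, hgen]
        exact Subgroup.mem_top _
      have e : x = w ^ n := by
        have := congrArg Subtype.val hn
        simpa using this.symm
      rw [e, hpow, ← frobenius_def, map_natCast]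
    · intro hfix
      have hbot : f x ∈ (⊥ : Subfield F) := (Subfield.mem_bot_iff_pow_eq_self F p).2 hfix
      rw [← ZMod.fieldRange_castHom_eq_bot p] at hbot
      obtain ⟨k, hk⟩ := RingHom.mem_fieldRange.1 hbot
      have e : f x = f (w ^ k.val) := by
        rw [hpow, ← hk, ZMod.castHom_apply, ZMod.natCast_val]
      rw [hf x hx, hf _ (pow_mem (hWP hw) _)] at e
      have e2 : x = w ^ k.val := congrArg Subtype.val (θF.symm.injective e)
      rw [e2]
      exact pow_mem hw _

end Cfsg.Agent.OddOrder.Singer
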