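import Cfsg.Prelude.Def_OddOrderLocal
import Mathlib

set_option autoImplicit false

/-! The Puig series: elementary properties. -/

namespace Cfsg.Agent.OddOrder

set_option maxHeartbeats 200000

variable {G : Type*} [Group G]

theorem puigStep_anti {X Y : Subgroup G} (h : X ≤ Y) : puigStep Y ≤ puigStep X :=
  sSup_le_sSup fun _ hA => ⟨hA.1, h.trans hA.2⟩

theorem le_puigStep {X A : Subgroup G} (hA : IsMulCommutative A)
    (hX : X ≤ Subgroup.normalizer (A : Set G)) : A ≤ puigStep X :=
  le_sSup ⟨hA, hX⟩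

theorem normal_le_puigSeq {A : Subgroup G} [A.Normal] (hA : IsMulCommutative A) {i : ℕ}
    (hi : 0 < i) : A ≤ puigSeq G i := by
  obtain ⟨j, rfl⟩ : ∃ j, i = j + 1 := ⟨i - 1, by omega⟩
  exact le_puigStep hA (by rw [Subgroup.normalizer_eq_top]; exact le_top)

theorem puigSeq_zero : puigSeq G 0 = ⊥ := rfl

theorem puigSeq_succ (n : ℕ) : puigSeq G (n + 1) = puigStep (puigSeq G n) := rfl

theorem puigSeq_one : puigSeq G 1 = ⊤ := by
  rw [eq_top_iff]
  intro g _
  exact le_puigStep (Subgroup.zpowers_isMulCommutative g) bot_le (Subgroup.mem_zpowers g)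

theorem puigSeq_even_le_odd (n : ℕ) : ∀ m, puigSeq G (2 * n) ≤ puigSeq G (2 * m + 1) := by
  induction n with
  | zero => intro m; exact bot_le
  | succ k ih =>
    intro m
    cases m with
    | zero => rw [show 2 * 0 + 1 = 1 from rfl, puigSeq_one]; exact le_top
    | succ l =>
      rw [show 2 * (k + 1) = 2 * k + 1 + 1 by omega,
        show 2 * (l + 1) + 1 = 2 * l + 1 + 1 + 1 by omega]
      exact puigStep_anti (puigStep_anti (ih l))

theorem puigSeq_even_mono : Monotone fun n => puigSeq G (2 * n) := by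
  refine monotone_nat_of_le_succ fun n => ?_
  induction n with
  | zero => exact bot_le
  | succ k ih => exact puigStep_anti (puigStep_anti ih)

theorem puigSeq_odd_anti : Antitone fun n => puigSeq G (2 * n + 1) := by
  refine antitone_nat_of_succ_le fun n => ?_
  induction n with
  | zero => show puigSeq G (2 * 1 + 1) ≤ puigSeq G 1; rw [puigSeq_one]; exact le_top
  | succ k ih => exact puigStep_anti (puigStep_anti ih)

theorem eventually_eq_iSup {α : Type*} [CompleteLattice α] [Finite α] {f : ℕ → α} (hf : Monotone f) :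
    ∃ k, ∀ n, k ≤ n → f n = ⨆ i, f i := by
  obtain ⟨_, ⟨k, rfl⟩, hk⟩ := (Set.toFinite (Set.range f)).exists_maximal (Set.range_nonempty f)
  refine ⟨k, fun n hn => le_antisymm (le_iSup f n) (iSup_le fun m => ?_)⟩
  rcases le_total m n with h | h
  · exact hf h
  · exact (hk ⟨m, rfl⟩ (hf (hn.trans h))).trans (hf hn)

theorem puigSeq_stable [Finite G] : ∃ k : ℕ, ∀ n : ℕ, k ≤ n →
    puigSeq G (2 * n) = puigLower G ∧ puigSeq G (2 * n + 1) = puigSubgroup G := by
  obtain ⟨a, ha⟩ := eventually_eq_iSup (f := fun n => puigSeq G (2 * n)) puigSeq_even_mono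
  obtain ⟨b, hb⟩ := eventually_eq_iSup (α := (Subgroup G)ᵒᵈ)
    (f := fun n => OrderDual.toDual (puigSeq G (2 * n + 1))) puigSeq_odd_anti.dual_right
  refine ⟨max a b, fun n hn => ⟨ha n (le_trans (le_max_left a b) hn), ?_⟩⟩
  exact congrArg OrderDual.ofDual (hb n (le_trans (le_max_right a b) hn))

theorem puigStep_lower [Finite G] : puigStep (puigLower G) = puigSubgroup G := by
  obtain ⟨k, hk⟩ := puigSeq_stable (G := G)
  rw [← (hk k le_rfl).1, ← (hk k le_rfl).2]; rfl

theorem puigStep_subgroup [Finite G] : puigStep (puigSubgroup G) = puigLower G := by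
  obtain ⟨k, hk⟩ := puigSeq_stable (G := G)
  rw [← (hk k le_rfl).2, ← (hk (k + 1) (by omega)).1]; rfl

theorem puigLower_le_puigSubgroup : puigLower G ≤ puigSubgroup G :=
  iSup_le fun n => le_iInf fun m => puigSeq_even_le_odd n m

end Cfsg.Agent.OddOrder
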