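import Cfsg.Agent.Lib.OddOrder.Puig
import Cfsg.Agent.Lib.OddOrder.Stability
import Cfsg.Agent.Lib.PGroup.SCN

set_option autoImplicit false

/-! The Puig subgroup in a solvable group of odd order (BG, Appendix B: Lemma B.2, Theorem B.4).

`seqOf H n`, `lowerOf H`, `puigOf H` are the Puig series, `L_*` and `L` of `H` inside `G`. -/

namespace Cfsg.Agent.OddOrder

open scoped commutatorElement
open Subgroup

universe u v

variable {G : Type u} [Group G] {p : ℕ} [hp : Fact p.Prime]

/-- The Puig series of `H` inside `G`. -/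
noncomputable def seqOf (H : Subgroup G) (n : ℕ) : Subgroup G := (puigSeq H n).map H.subtype

/-- `L(H)` inside `G`. -/
noncomputable def puigOf (H : Subgroup G) : Subgroup G := (puigSubgroup H).map H.subtype

/-- `L_*(H)` inside `G`. -/
noncomputable def lowerOf (H : Subgroup G) : Subgroup G := (puigLower H).map H.subtype

theorem puigSeq_map_equiv {K : Type v} [Group K] (e : G ≃* K) (n : ℕ) :
    (puigSeq G n).map e.toMonoidHom = puigSeq K n := by
  induction n with
  | zero => exact Subgroup.map_bot _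
  | succ n ih =>
    rw [puigSeq_succ, puigSeq_succ, ← ih]
    apply le_antisymm
    · rw [map_le_iff_le_comap]
      refine sSup_le fun A hA => ?_
      rw [← map_le_iff_le_comap]
      exact le_puigStep (PGroup.isMulCommutative_of_forall (by
          rintro _ ⟨a, ha, rfl⟩ _ ⟨b, hb, rfl⟩
          rw [← map_mul, ← map_mul, PGroup.mul_comm_of_isMulCommutative hA.1 ha hb]))
        ((map_mono hA.2).trans (le_normalizer_map _))
    · refine sSup_le fun A hA => ?_
      rw [← Subgroup.map_comap_eq_self_of_surjective (f := e.toMonoidHom) e.surjective A]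
      refine map_mono (le_puigStep (PGroup.isMulCommutative_of_forall fun a ha b hb => e.injective ?_) ?_)
      · rw [map_mul, map_mul]; exact PGroup.mul_comm_of_isMulCommutative hA.1 ha hb
      · intro x hx
        have hx' := hA.2 (mem_map_of_mem e.toMonoidHom hx)
        rw [Subgroup.mem_normalizer_iff] at hx' ⊢
        intro y
        simp only [mem_comap, map_mul, map_inv]
        exact hx' _

theorem puigSubgroup_map_equiv {K : Type v} [Group K] (e : G ≃* K) :
    (puigSubgroup G).map e.toMonoidHom = puigSubgroup K := by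
  rw [puigSubgroup, puigSubgroup, Subgroup.map_iInf _ e.injective]
  simp only [puigSeq_map_equiv]

instance puigSeq_characteristic (n : ℕ) : (puigSeq G n).Characteristic :=
  characteristic_iff_map_eq.2 fun e => puigSeq_map_equiv e n

theorem puigOf_map_injOn {K : Type v} [Group K] (f : G →* K) {H : Subgroup G}
    (hf : ∀ x ∈ H, f x = 1 → x = 1) : puigOf (H.map f) = (puigOf H).map f := by
  rw [puigOf, puigOf, ← puigSubgroup_map_equiv (Replacement.imageEquiv f hf), map_map, map_map,
    Replacement.subtype_comp_imageEquiv]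

theorem seqOf_le (H : Subgroup G) (n : ℕ) : seqOf H n ≤ H := map_subtype_le _
theorem puigOf_le (H : Subgroup G) : puigOf H ≤ H := map_subtype_le _
theorem lowerOf_le (H : Subgroup G) : lowerOf H ≤ H := map_subtype_le _

theorem seqOf_zero (H : Subgroup G) : seqOf H 0 = ⊥ := Subgroup.map_bot _

theorem le_seqOf_succ {H A : Subgroup G} {n : ℕ} (hA : A ≤ H) (hc : IsMulCommutative A)
    (hn : seqOf H n ≤ normalizer (A : Set G)) : A ≤ seqOf H (n + 1) := by
  rw [← map_subgroupOf_eq_of_le hA]
  refine map_mono (le_puigStep (PGroup.isMulCommutative_of_forall fun a ha b hb =>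
    Subtype.ext (PGroup.mul_comm_of_isMulCommutative hc ha hb)) ?_)
  intro x hx
  have hx' := hn (mem_map_of_mem H.subtype hx)
  rw [Subgroup.mem_normalizer_iff] at hx' ⊢
  exact fun y => hx' (y : G)

theorem seqOf_succ_le {H K : Subgroup G} {n : ℕ}
    (h : ∀ A ≤ H, IsMulCommutative A → seqOf H n ≤ normalizer (A : Set G) → A ≤ K) :
    seqOf H (n + 1) ≤ K := by
  rw [seqOf, map_le_iff_le_comap]
  refine sSup_le fun A hA => ?_
  rw [← map_le_iff_le_comap]
  refine h _ (map_subtype_le _) (PGroup.isMulCommutative_of_forall ?_)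
    ((map_mono hA.2).trans (le_normalizer_map _))
  rintro _ ⟨a, ha, rfl⟩ _ ⟨b, hb, rfl⟩
  rw [← map_mul, ← map_mul, PGroup.mul_comm_of_isMulCommutative hA.1 ha hb]

theorem seqOf_even_le_lowerOf (H : Subgroup G) (n : ℕ) : seqOf H (2 * n) ≤ lowerOf H :=
  map_mono (le_iSup (fun n => puigSeq H (2 * n)) n)

theorem puigOf_le_seqOf (H : Subgroup G) (n : ℕ) : puigOf H ≤ seqOf H (2 * n + 1) :=
  map_mono (iInf_le (fun n => puigSeq H (2 * n + 1)) n)

theorem lowerOf_le_puigOf (H : Subgroup G) : lowerOf H ≤ puigOf H :=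
  map_mono puigLower_le_puigSubgroup

theorem lowerOf_le_iff {H K : Subgroup G} : lowerOf H ≤ K ↔ ∀ n, seqOf H (2 * n) ≤ K := by
  simp only [lowerOf, seqOf, puigLower, map_le_iff_le_comap, iSup_le_iff]

theorem exists_stable (H : Subgroup G) [Finite H] :
    ∃ k, seqOf H (2 * k) = lowerOf H ∧ seqOf H (2 * k + 1) = puigOf H := by
  obtain ⟨k, hk⟩ := puigSeq_stable (G := H)
  exact ⟨k, by rw [seqOf, (hk k le_rfl).1]; rfl, by rw [seqOf, (hk k le_rfl).2]; rfl⟩

theorem normal_le_lowerOf {H A : Subgroup G} (hA : A ≤ H) (hc : IsMulCommutative A)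
    (hn : H ≤ normalizer (A : Set G)) : A ≤ lowerOf H :=
  (le_seqOf_succ (n := 1) hA hc ((seqOf_le H 1).trans hn)).trans (seqOf_even_le_lowerOf H 1)

/-- A subgroup of a finite `p`-group `H` centralising a term of the Puig series after the zeroth lies in it. -/
theorem inf_centralizer_seqOf_le [Finite G] {H : Subgroup G} (hH : IsPGroup p H) {n : ℕ}
    (hn : 0 < n) : H ⊓ centralizer (seqOf H n : Set G) ≤ seqOf H n := by
  obtain ⟨A, hAn, hAc, hmax⟩ := PGroup.exists_maximal_abelian_normal (G := H)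
  haveI := hAn
  have hcA := PGroup.centralizer_eq_of_maximal_abelian_normal hH hAc hmax
  have hle : A ≤ puigSeq H n := normal_le_puigSeq hAc hn
  intro x hx
  rw [Subgroup.mem_inf] at hx
  have hx' : (⟨x, hx.1⟩ : H) ∈ centralizer (A : Set H) := mem_centralizer_iff.2 fun a ha =>
    Subtype.ext (mem_centralizer_iff.1 hx.2 _ (mem_map_of_mem H.subtype (hle ha)))
  rw [hcA] at hx'
  exact mem_map_of_mem H.subtype (hle hx')

/-- BG Lemma B.2: `L(H) = L(S)` for `L(S) ≤ H ≤ S`. -/
theorem puigOf_eq_of_le [Finite G] {S H : Subgroup G} (hHS : H ≤ S) (hLH : puigOf S ≤ H) :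
    puigOf H = puigOf S := by
  have h1 : ∀ n, seqOf S (2 * n) ≤ seqOf H (2 * n) := by
    intro n
    induction n with
    | zero => rw [Nat.mul_zero, seqOf_zero]; exact bot_le
    | succ n ih =>
      have hodd : seqOf H (2 * n + 1) ≤ seqOf S (2 * n + 1) := seqOf_succ_le fun A hA hc hn =>
        le_seqOf_succ (hA.trans hHS) hc (ih.trans hn)
      refine seqOf_succ_le fun A hA hc hn => le_seqOf_succ ?_ hc (hodd.trans hn)
      refine le_trans ?_ hLH
      exact (le_seqOf_succ hA hc hn).trans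
        ((seqOf_even_le_lowerOf S (n + 1)).trans (lowerOf_le_puigOf S))
  obtain ⟨k, hk1, hk2⟩ := exists_stable S
  obtain ⟨j, hj1, hj2⟩ := exists_stable H
  -- `L_*(H) ≤ L_*(S)`, hence `L(S) ≤ L_odd(H)`
  have h2 : ∀ n, seqOf H (2 * n) ≤ lowerOf S ∧ puigOf S ≤ seqOf H (2 * n + 1) := by
    intro n
    induction n with
    | zero =>
      refine ⟨by rw [Nat.mul_zero, seqOf_zero]; exact bot_le, ?_⟩
      rw [show seqOf H (2 * 0 + 1) = H by
        rw [seqOf, puigSeq_one, ← MonoidHom.range_eq_map, range_subtype]]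
      exact hLH
    | succ n ih =>
      have hev : seqOf H (2 * (n + 1)) ≤ lowerOf S := seqOf_succ_le fun A hA hc hn =>
        (le_seqOf_succ (n := 2 * k + 1) (hA.trans hHS) hc (hk2 ▸ ih.2.trans hn)).trans
          (seqOf_even_le_lowerOf S (k + 1))
      refine ⟨hev, ?_⟩
      rw [← hk2]
      refine seqOf_succ_le fun A hA hc hn => le_seqOf_succ ?_ hc ((hev.trans hk1.ge).trans hn)
      exact ((le_seqOf_succ hA hc hn).trans hk2.le).trans hLH
  refine le_antisymm ?_ (hj2 ▸ (h2 j).2)
  rw [← hk2]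
  refine (puigOf_le_seqOf H k).trans (seqOf_succ_le fun A hA hc hn => ?_)
  exact le_seqOf_succ (hA.trans hHS) hc ((h1 k).trans hn)

theorem normal_seqOf (T : Subgroup G) [T.Normal] (n : ℕ) : (seqOf T n).Normal := by
  refine ⟨?_⟩
  rintro _ ⟨t, ht, rfl⟩ g
  refine ⟨MulAut.conjNormal g t, ?_, by simp⟩
  have h := puigSeq_map_equiv (MulAut.conjNormal g : MulAut T) n
  rw [← h]
  exact mem_map_of_mem _ ht

/-- `N(H) ≤ N(L(H))`. -/
theorem normalizer_le_normalizer_puigOf (H : Subgroup G) :
    normalizer (H : Set G) ≤ normalizer (puigOf H : Set G) := by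
  have key : ∀ g ∈ normalizer (H : Set G), ∀ x ∈ puigOf H, g * x * g⁻¹ ∈ puigOf H := by
    intro g hg x hx
    have hm : H.map (MulAut.conj g).toMonoidHom = H := by
      ext y
      rw [Subgroup.mem_map]
      constructor
      · rintro ⟨z, hz, rfl⟩; exact (Subgroup.mem_normalizer_iff.1 hg z).1 hz
      · intro hy
        exact ⟨g⁻¹ * y * g, (Subgroup.mem_normalizer_iff''.1 hg y).1 hy, by simp [mul_assoc]⟩
    have h := puigOf_map_injOn (MulAut.conj g).toMonoidHom (H := H)
      fun y _ hy => (MulAut.conj g).injective (hy.trans (map_one _).symm)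
    rw [hm] at h
    rw [h]
    exact mem_map_of_mem _ hx
  intro g hg
  refine Subgroup.mem_normalizer_iff.2 fun x => ⟨key g hg x, fun hx => ?_⟩
  simpa [mul_assoc] using key g⁻¹ (inv_mem hg) _ hx

section Solvable

variable [Finite G] [Group.IsSolvable G]

/-- BG Theorem B.4(a), all terms. -/
theorem seqOf_sylow_le (hodd : Odd (Nat.card G)) (hp2 : p ≠ 2) (hO : pPrimeCore p G = ⊥)
    (S : Sylow p G) : ∀ n, seqOf (S : Subgroup G) (2 * n) ≤ seqOf (pCore p G) (2 * n) ∧
      seqOf (pCore p G) (2 * n + 1) ≤ seqOf (S : Subgroup G) (2 * n + 1) := by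
  have hT : pCore p G ≤ (S : Subgroup G) := PCore.pCore_le_sylow S
  intro n
  induction n with
  | zero =>
    refine ⟨by rw [Nat.mul_zero, seqOf_zero]; exact bot_le,
      seqOf_succ_le fun A hA hc hn => le_seqOf_succ (hA.trans hT) hc ?_⟩
    rw [Nat.mul_zero, seqOf_zero]; exact bot_le
  | succ n ih =>
    have hev : seqOf (S : Subgroup G) (2 * (n + 1)) ≤ seqOf (pCore p G) (2 * (n + 1)) := by
      refine seqOf_succ_le fun A hA hc hn => le_seqOf_succ ?_ hc (ih.2.trans hn)
      haveI := normal_seqOf (pCore p G) (2 * n + 1)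
      exact le_pCore_of_abelian hodd hp2 hO _ (PCore.isPGroup_pCore.to_le (seqOf_le _ _))
        (inf_centralizer_seqOf_le PCore.isPGroup_pCore (Nat.succ_pos _)) A hc (ih.2.trans hn)
    exact ⟨hev, seqOf_succ_le fun A hA hc hn => le_seqOf_succ (hA.trans hT) hc (hev.trans hn)⟩

theorem puigOf_pCore_le (hodd : Odd (Nat.card G)) (hp2 : p ≠ 2) (hO : pPrimeCore p G = ⊥)
    (S : Sylow p G) : lowerOf (S : Subgroup G) ≤ lowerOf (pCore p G) ∧
      puigOf (pCore p G) ≤ puigOf (S : Subgroup G) := by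
  refine ⟨lowerOf_le_iff.2 fun n =>
    (seqOf_sylow_le hodd hp2 hO S n).1.trans (seqOf_even_le_lowerOf _ n), ?_⟩
  obtain ⟨k, -, hk⟩ := exists_stable (S : Subgroup G)
  exact hk ▸ (puigOf_le_seqOf _ k).trans (seqOf_sylow_le hodd hp2 hO S k).2

/-- BG Theorem B.4(b): `Z(L(S))` is normal when `O_{p'}(G) = 1`. -/
theorem centre_puigOf_normal (hodd : Odd (Nat.card G)) (hp2 : p ≠ 2) (hO : pPrimeCore p G = ⊥)
    (S : Sylow p G) :
    (puigOf (S : Subgroup G) ⊓ centralizer (puigOf (S : Subgroup G) : Set G)).Normal := by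
  set L := puigOf (S : Subgroup G) with hL
  set Z := L ⊓ centralizer (L : Set G) with hZ
  set T := pCore p G with hT
  set U := puigOf T with hU
  obtain ⟨k, -, hk⟩ := exists_stable T
  haveI : U.Normal := by rw [hU, ← hk]; exact normal_seqOf T _
  set Y := centralizer (U : Set G) with hY
  haveI : Y.Normal := Subgroup.normal_centralizer
  have hTU : T ⊓ Y ≤ U := by
    rw [hY, hU, ← hk]; exact inf_centralizer_seqOf_le PCore.isPGroup_pCore (Nat.succ_pos _)
  have hYT : Y ≤ T := by
    have hO' : pPrimeCore p Y = ⊥ := by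
      rw [eq_bot_iff]
      intro x hx
      have h1 : (x : G) ∈ (pPrimeCore p Y).map Y.subtype := mem_map_of_mem _ hx
      rw [PCore.map_pPrimeCore_subtype_of_normal Y, hO, bot_inf_eq, Subgroup.mem_bot] at h1
      exact Subgroup.mem_bot.2 (Subtype.ext h1)
    have hZY : ∀ z ∈ pCore p Y, ∀ y : Y, y * z = z * y := by
      intro z hz y
      have h1 : (z : G) ∈ (pCore p Y).map Y.subtype := mem_map_of_mem _ hz
      rw [PCore.map_pCore_subtype_of_normal Y] at h1
      exact Subtype.ext (mem_centralizer_iff.1 y.2 _ (hTU h1)).symm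
    intro y hy
    have hy' : (⟨y, hy⟩ : Y) ∈ pCore p Y := centralizer_pCore_le hO'
      (mem_centralizer_iff.2 fun z hz => (hZY z hz ⟨y, hy⟩).symm)
    have h1 : y ∈ (pCore p Y).map Y.subtype := mem_map_of_mem _ hy'
    rw [PCore.map_pCore_subtype_of_normal Y] at h1
    exact (Subgroup.mem_inf.1 h1).1
  have hYc : IsMulCommutative Y := PGroup.isMulCommutative_of_forall fun a ha b hb =>
    mem_centralizer_iff.1 hb a (hTU ⟨hYT ha, ha⟩)
  have hZY : Z ≤ Y := inf_le_right.trans
    (centralizer_le (puigOf_pCore_le hodd hp2 hO S).2)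
  have hYS : Y ≤ (S : Subgroup G) := hYT.trans (PCore.pCore_le_sylow S)
  have hYp : IsPGroup p Y := S.2.to_le hYS
  have hYL : Y ≤ lowerOf (S : Subgroup G) :=
    normal_le_lowerOf hYS hYc (by rw [normalizer_eq_top]; exact le_top)
  set C := centralizer (Y : Set G) with hC
  set K := (pCore p (G ⧸ C)).comap (QuotientGroup.mk' C) with hK
  have hLK : L ≤ K := by
    obtain ⟨j, hj1, hj2⟩ := exists_stable (S : Subgroup G)
    rw [hL, ← hj2]
    exact seqOf_succ_le fun A hA hc hn =>
      le_preimage_of_abelian hodd hp2 Y hYp A hc ((hYL.trans hj1.ge).trans hn)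
  have hCK : C ≤ K := (QuotientGroup.ker_mk' C).ge.trans (MonoidHom.ker_le_comap _ _)
  have hKp : IsPGroup p (K.map (QuotientGroup.mk' C)) :=
    PCore.isPGroup_pCore.to_le (map_comap_le _ _)
  have hsup := Replacement.sylow_inf_sup_eq S hCK hKp
  obtain ⟨R, hR⟩ := SylowCount.exists_sylow_inf S K
  have hfr := Sylow.normalizer_sup_eq_top R
  rw [hR, subgroupOf_map_subtype] at hfr
  have hNR : normalizer (((S : Subgroup G) ⊓ K : Subgroup G) : Set G) ≤ normalizer (Z : Set G) := by
    refine (normalizer_le_normalizer_puigOf _).trans ?_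
    rw [puigOf_eq_of_le inf_le_left (le_inf (puigOf_le _) hLK)]
    intro g hg
    have key : ∀ h ∈ normalizer (L : Set G), ∀ x ∈ Z, h * x * h⁻¹ ∈ Z := by
      intro h hh x hx
      rw [hZ, Subgroup.mem_inf] at hx ⊢
      refine ⟨(Subgroup.mem_normalizer_iff.1 hh x).1 hx.1, mem_centralizer_iff.2 fun l hl => ?_⟩
      have hl' := mem_centralizer_iff.1 hx.2 _ ((Subgroup.mem_normalizer_iff''.1 hh l).1 hl)
      calc l * (h * x * h⁻¹) = h * (h⁻¹ * l * h * x) * h⁻¹ := by group
        _ = h * x * h⁻¹ * l := by rw [hl']; group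
    refine Subgroup.mem_normalizer_iff.2 fun x => ⟨key g hg x, fun hx => ?_⟩
    simpa [mul_assoc] using key g⁻¹ (inv_mem hg) _ hx
  have hCN : C ≤ normalizer (Z : Set G) :=
    (centralizer_le hZY).trans (centralizer_le_normalizer _)
  refine normalizer_eq_top_iff.1 (eq_top_iff.2 ?_)
  rw [← hfr]
  refine sup_le hNR ?_
  rw [← hsup]
  exact sup_le (le_normalizer.trans hNR) hCN

end Solvable

end Cfsg.Agent.OddOrder
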