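import Cfsg.Agent.Lib.OddOrder.PuigSolvable
import Cfsg.Agent.Lib.Quadratic.Stability
import Cfsg.Agent.Lib.PGroup.Critical

set_option autoImplicit false

/-! The Puig subgroup in a pair of `p`-stable groups of characteristic `p`
(Kurzweil–Stellmacher 10.1: primitive pairs of characteristic `p`, `p` odd).

`opIn p M` is `O_p(M)` inside `G`; `Stab p M` is `p`-stability on all normal `p`-subgroups of `M`. -/

namespace Cfsg.Agent.PuigPair

open scoped commutatorElement
open Subgroup OddOrder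

universe u

variable {G : Type u} [Group G] {p : ℕ}

/-- `O_p(M)` as a subgroup of `G`. -/
def opIn (p : ℕ) (M : Subgroup G) : Subgroup G := (pCore p M).map M.subtype

/-- `M` acts `p`-stably on each of its normal `p`-subgroups. -/
def Stab (p : ℕ) (M : Subgroup G) : Prop :=
  ∀ (W : Subgroup M) [W.Normal], IsPGroup p W → IsPStableOn p W

theorem opIn_le (M : Subgroup G) : opIn p M ≤ M := map_subtype_le _

theorem le_normalizer_map_normal (X : Subgroup G) (C : Subgroup X) [C.Normal] :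
    X ≤ normalizer ((C.map X.subtype : Subgroup G) : Set G) := by
  refine le_trans ?_ (C.le_normalizer_map X.subtype)
  rw [normalizer_eq_top, ← MonoidHom.range_eq_map, range_subtype]

theorem le_normalizer_opIn (M : Subgroup G) : M ≤ normalizer (opIn p M : Set G) :=
  haveI : (pCore p M).Normal := PCore.pCore_normal
  le_normalizer_map_normal M _

theorem isPGroup_opIn [Finite G] (M : Subgroup G) : IsPGroup p (opIn p M) :=
  PCore.isPGroup_pCore.map _

theorem le_opIn {M X : Subgroup G} (hX : X ≤ M) (hn : M ≤ normalizer (X : Set G))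
    (hp : IsPGroup p X) : X ≤ opIn p M := by
  haveI : (X.subgroupOf M).Normal := normal_subgroupOf_of_le_normalizer hn
  exact (map_subgroupOf_eq_of_le hX).ge.trans
    (map_mono (PCore.le_pCore (hp.of_equiv (subgroupOfEquivOfLe hX).symm)))

/-- `N(M) ≤ N(O_p(M))`. -/
theorem normalizer_le_normalizer_opIn [Finite G] (M : Subgroup G) :
    normalizer (M : Set G) ≤ normalizer (opIn p M : Set G) := by
  have key : ∀ g ∈ normalizer (M : Set G), ∀ x ∈ opIn p M, g * x * g⁻¹ ∈ opIn p M := by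
    intro g hg x hx
    set f := (MulAut.conj g).toMonoidHom
    have hfM : M.map f = M := by
      ext y
      rw [Subgroup.mem_map]
      constructor
      · rintro ⟨z, hz, rfl⟩; exact (Subgroup.mem_normalizer_iff.1 hg z).1 hz
      · intro hy
        exact ⟨g⁻¹ * y * g, (Subgroup.mem_normalizer_iff''.1 hg y).1 hy, by simp [f, mul_assoc]⟩
    refine le_opIn ((map_mono (opIn_le M)).trans hfM.le) ?_ ((isPGroup_opIn M).map f)
      (mem_map_of_mem f hx)
    exact hfM.ge.trans ((map_mono (le_normalizer_opIn M)).trans (le_normalizer_map f))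
  intro g hg
  refine Subgroup.mem_normalizer_iff.2 fun x => ⟨key g hg x, fun hx => ?_⟩
  simpa [mul_assoc] using key g⁻¹ (inv_mem hg) _ hx

theorem inf_centralizer_opIn_le {M : Subgroup G}
    (hc : centralizer (pCore p M : Set M) ≤ pCore p M) :
    M ⊓ centralizer (opIn p M : Set G) ≤ opIn p M := fun x hx =>
  ⟨⟨x, hx.1⟩, hc (mem_centralizer_iff.2 fun q hq =>
    Subtype.ext (mem_centralizer_iff.1 hx.2 _ (mem_map_of_mem M.subtype hq))), rfl⟩

theorem seqOf_map_injOn {K : Type u} [Group K] (f : G →* K) {H : Subgroup G}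
    (hf : ∀ x ∈ H, f x = 1 → x = 1) (n : ℕ) : seqOf (H.map f) n = (seqOf H n).map f := by
  rw [seqOf, seqOf, ← puigSeq_map_equiv (Replacement.imageEquiv f hf), map_map, map_map,
    Replacement.subtype_comp_imageEquiv]

/-- `N(H) ≤ N(L_n(H))`. -/
theorem normalizer_le_normalizer_seqOf (H : Subgroup G) (n : ℕ) :
    normalizer (H : Set G) ≤ normalizer (seqOf H n : Set G) := by
  have key : ∀ g ∈ normalizer (H : Set G), ∀ x ∈ seqOf H n, g * x * g⁻¹ ∈ seqOf H n := by
    intro g hg x hx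
    have hm : H.map (MulAut.conj g).toMonoidHom = H := by
      ext y
      rw [Subgroup.mem_map]
      constructor
      · rintro ⟨z, hz, rfl⟩; exact (Subgroup.mem_normalizer_iff.1 hg z).1 hz
      · intro hy
        exact ⟨g⁻¹ * y * g, (Subgroup.mem_normalizer_iff''.1 hg y).1 hy, by simp [mul_assoc]⟩
    have h := seqOf_map_injOn (MulAut.conj g).toMonoidHom (H := H)
      (fun y _ hy => (MulAut.conj g).injective (hy.trans (map_one _).symm)) n
    rw [hm] at h
    rw [h]
    exact mem_map_of_mem _ hx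
  intro g hg
  refine Subgroup.mem_normalizer_iff.2 fun x => ⟨key g hg x, fun hx => ?_⟩
  simpa [mul_assoc] using key g⁻¹ (inv_mem hg) _ hx

theorem le_normalizer_inf {H A B : Subgroup G} (hA : H ≤ normalizer (A : Set G))
    (hB : H ≤ normalizer (B : Set G)) : H ≤ normalizer ((A ⊓ B : Subgroup G) : Set G) :=
  fun _ hh => Subgroup.mem_normalizer_iff.2 fun x =>
    and_congr (Subgroup.mem_normalizer_iff.1 (hA hh) x) (Subgroup.mem_normalizer_iff.1 (hB hh) x)

theorem le_normalizer_centralizer {H A : Subgroup G} (hA : H ≤ normalizer (A : Set G)) :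
    H ≤ normalizer (centralizer (A : Set G) : Set G) := by
  have key : ∀ g ∈ normalizer (A : Set G), ∀ x ∈ centralizer (A : Set G),
      g * x * g⁻¹ ∈ centralizer (A : Set G) := by
    intro g hg x hx
    refine mem_centralizer_iff.2 fun a ha => ?_
    have ha' := mem_centralizer_iff.1 hx _ ((Subgroup.mem_normalizer_iff''.1 hg a).1 ha)
    calc a * (g * x * g⁻¹) = g * (g⁻¹ * a * g * x) * g⁻¹ := by group
      _ = g * x * g⁻¹ * a := by rw [ha']; group
  intro g hg
  refine Subgroup.mem_normalizer_iff.2 fun x => ⟨key g (hA hg) x, fun hx => ?_⟩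
  simpa [mul_assoc] using key g⁻¹ (inv_mem (hA hg)) _ hx

/-- A subgroup acting as a `p`-group on a nontrivial `p`-group centralises a nontrivial element. -/
theorem exists_ne_one_centralized [Finite G] [Fact p.Prime] {K N : Subgroup G}
    (hN : IsPGroup p N) (hne : N ≠ ⊥) (hK : K ≤ normalizer (N : Set G))
    (hpow : ∀ x ∈ K, ∃ k : ℕ, x ^ p ^ k ∈ centralizer (N : Set G)) :
    N ⊓ centralizer (K : Set G) ≠ ⊥ := by
  let B : Subgroup (MulAut N) := (N.normalizerMonoidHom.comp (inclusion hK)).range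
  have hB : IsPGroup p B := by
    rintro ⟨_, ⟨⟨x, hx⟩, rfl⟩⟩
    obtain ⟨k, hk⟩ := hpow x hx
    refine ⟨k, Subtype.ext ?_⟩
    have : (inclusion hK ⟨x, hx⟩) ^ p ^ k ∈ N.normalizerMonoidHom.ker := by
      rw [Subgroup.normalizerMonoidHom_ker]; exact hk
    rw [MonoidHom.mem_ker, map_pow] at this
    exact this
  have hdvd : p ∣ Nat.card N := by
    obtain ⟨n, hn⟩ := IsPGroup.iff_card.1 hN
    rcases n with _ | n
    · exact absurd (Subgroup.card_eq_one.1 (by simpa using hn)) hne
    · exact ⟨p ^ n, by rw [hn]; ring⟩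
  obtain ⟨b, hb, hne1⟩ := hB.exists_fixed_point_of_prime_dvd_card_of_fixed_point N hdvd
    (a := (1 : N)) (fun g => smul_one g)
  intro hbot
  have : (b : G) ∈ N ⊓ centralizer (K : Set G) := by
    refine ⟨b.2, mem_centralizer_iff.2 fun x hx => ?_⟩
    have h1 := congrArg Subtype.val
      (hb ⟨N.normalizerMonoidHom (inclusion hK ⟨x, hx⟩), ⟨x, hx⟩, rfl⟩)
    have h2 : x * b * x⁻¹ = (b : G) := h1
    exact mul_inv_eq_iff_eq_mul.1 h2
  rw [hbot, Subgroup.mem_bot] at this
  exact hne1 (Subtype.ext this.symm)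

/-- For a `p`-stable `M` and a normal `p`-subgroup `V`: a normal subgroup of `M`, a `p`-group modulo
`C_M(V)`, containing all abelian subgroups of `M` normalised by `V`. -/
theorem exists_kernel [Finite G] [Fact p.Prime] {M V : Subgroup G} (hs : Stab p M) (hV : V ≤ M)
    (hn : M ≤ normalizer (V : Set G)) (hp : IsPGroup p V) :
    ∃ K : Subgroup G, K ≤ M ∧ M ≤ normalizer (K : Set G) ∧ M ⊓ centralizer (V : Set G) ≤ K ∧
      (∀ x ∈ K, ∃ k : ℕ, x ^ p ^ k ∈ centralizer (V : Set G)) ∧
      ∀ A ≤ M, IsMulCommutative A → V ≤ normalizer (A : Set G) → A ≤ K := by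
  set W := V.subgroupOf M
  haveI : W.Normal := normal_subgroupOf_of_le_normalizer hn
  set C := centralizer (W : Set M)
  haveI : C.Normal := Subgroup.normal_centralizer
  have hCV : ∀ x : M, x ∈ C ↔ (x : G) ∈ centralizer (V : Set G) := fun x => by
    constructor
    · intro hx
      exact mem_centralizer_iff.2 fun v hv =>
        congrArg Subtype.val (mem_centralizer_iff.1 hx ⟨v, hV hv⟩ hv)
    · intro hx
      exact mem_centralizer_iff.2 fun w hw => Subtype.ext (mem_centralizer_iff.1 hx _ hw)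
  set K := (pCore p (M ⧸ C)).comap (QuotientGroup.mk' C) with hK
  haveI : K.Normal := Normal.comap PCore.pCore_normal _
  refine ⟨K.map M.subtype, map_subtype_le _, le_normalizer_map_normal M K, ?_, ?_, ?_⟩
  · rintro x ⟨hxM, hxC⟩
    refine ⟨⟨x, hxM⟩, ?_, rfl⟩
    show QuotientGroup.mk' C ⟨x, hxM⟩ ∈ pCore p (M ⧸ C)
    rw [show QuotientGroup.mk' C ⟨x, hxM⟩ = 1 from (QuotientGroup.eq_one_iff _).2 ((hCV _).2 hxC)]
    exact one_mem _
  · rintro _ ⟨x, hx, rfl⟩
    obtain ⟨k, hk⟩ := PCore.isPGroup_pCore (p := p) ⟨_, hx⟩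
    have h1 : x ^ p ^ k ∈ C := (QuotientGroup.eq_one_iff _).1 (by
      simpa using congrArg Subtype.val hk)
    exact ⟨k, by simpa using (hCV _).1 h1⟩
  · intro A hA hc hVA a ha
    refine ⟨⟨a, hA ha⟩, hs W (hp.of_equiv (subgroupOfEquivOfLe hV).symm) ⟨a, hA ha⟩ ?_, rfl⟩
    refine Replacement.commutator_commutator_zpowers_eq_bot (A := A.subgroupOf M)
      (PGroup.isMulCommutative_of_forall fun x hx y hy =>
        Subtype.ext (PGroup.mul_comm_of_isMulCommutative hc hx hy)) ?_ ha
    intro v hv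
    exact Subgroup.mem_normalizer_iff.2 fun x => Subgroup.mem_normalizer_iff.1 (hVA hv) (x : G)

/-- An abelian subgroup normalised by a large normal `p`-subgroup of `M` lies in `O_p(M)`. -/
theorem le_opIn_of_abelian [Finite G] [Fact p.Prime] {M U : Subgroup G} (hs : Stab p M)
    (hc : M ⊓ centralizer (opIn p M : Set G) ≤ opIn p M) (hU : U ≤ opIn p M)
    (hn : M ≤ normalizer (U : Set G)) (hUc : opIn p M ⊓ centralizer (U : Set G) ≤ U)
    {A : Subgroup G} (hA : A ≤ M) (hAc : IsMulCommutative A) (hUA : U ≤ normalizer (A : Set G)) :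
    A ≤ opIn p M := by
  set Q := opIn p M with hQ
  have hQp : IsPGroup p Q := isPGroup_opIn M
  obtain ⟨K, hKM, hKn, -, hKp, hKA⟩ := exists_kernel hs (hU.trans (opIn_le M)) hn (hQp.to_le hU)
  refine (hKA A hA hAc hUA).trans (le_opIn hKM hKn ?_)
  -- `p'`-elements of `C_M(U)` are trivial
  have hp' : ∀ y ∈ M, y ∈ centralizer (U : Set G) → (orderOf y).Coprime p → y = 1 := by
    intro y hyM hyU hy
    haveI : (U.subgroupOf Q).Normal :=
      normal_subgroupOf_of_le_normalizer ((opIn_le M).trans hn)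
    have hcc : centralizer (U.subgroupOf Q : Set Q) ≤ U.subgroupOf Q := by
      intro q hq
      refine hUc ⟨q.2, mem_centralizer_iff.2 fun u hu => ?_⟩
      exact congrArg Subtype.val (mem_centralizer_iff.1 hq ⟨u, hU hu⟩ hu)
    set yN : normalizer (Q : Set G) := ⟨y, le_normalizer_opIn M hyM⟩
    have hφ := PGroup.aut_eq_one_of_centralizer_le hQp (U.subgroupOf Q) hcc
      (Q.normalizerMonoidHom yN)
      (hy.coprime_dvd_left ((orderOf_map_dvd _ _).trans (dvd_of_eq (Subgroup.orderOf_mk _ _))))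
      (fun h hh => Subtype.ext (by
        show y * (h : G) * y⁻¹ = h
        have h2 : (h : G) * y = y * h := mem_centralizer_iff.1 hyU (h : G) hh
        rw [← h2, mul_inv_cancel_right]))
    have hyQ : y ∈ Q := by
      refine hc ⟨hyM, mem_centralizer_iff.2 fun q hq => ?_⟩
      have h0 := congrArg Subtype.val (DFunLike.congr_fun hφ (⟨q, hq⟩ : Q))
      have h1 : y * q * y⁻¹ = q := h0
      exact (mul_inv_eq_iff_eq_mul.1 h1).symm
    obtain ⟨k, hk⟩ := hQp ⟨y, hyQ⟩
    exact orderOf_eq_one_iff.1 (Nat.eq_one_of_dvd_coprimes (hy.pow_right k) dvd_rfl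
      (orderOf_dvd_of_pow_eq_one (congrArg Subtype.val hk)))
  intro x
  obtain ⟨k, hk⟩ := hKp x x.2
  obtain ⟨i, m, hm, he⟩ := Nat.exists_eq_pow_mul_and_not_dvd
    (orderOf_pos ((x : G) ^ p ^ k)).ne' p (Fact.out : p.Prime).ne_one
  refine ⟨k + i, Subtype.ext ?_⟩
  rw [SubgroupClass.coe_pow, OneMemClass.coe_one, pow_add, pow_mul]
  refine hp' _ (pow_mem (pow_mem (hKM x.2) _) _) (pow_mem hk _) ?_
  refine ((Fact.out : p.Prime).coprime_iff_not_dvd.2 hm).symm.coprime_dvd_left
    (orderOf_dvd_of_pow_eq_one ?_)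
  rw [← pow_mul ((x : G) ^ p ^ k), ← he, pow_orderOf_eq_one]

/-- `L_*(P) ≤ L_*(O_p(M))` and `L(O_p(M)) ≤ L(P)` for a `p`-group `O_p(M) ≤ P ≤ M`. -/
theorem sandwich [Finite G] [Fact p.Prime] {M P : Subgroup G} (hs : Stab p M)
    (hc : M ⊓ centralizer (opIn p M : Set G) ≤ opIn p M) (hQP : opIn p M ≤ P) (hPM : P ≤ M) :
    lowerOf P ≤ lowerOf (opIn p M) ∧ puigOf (opIn p M) ≤ puigOf P := by
  set Q := opIn p M
  have key : ∀ n, seqOf P (2 * n) ≤ seqOf Q (2 * n) ∧ seqOf Q (2 * n + 1) ≤ seqOf P (2 * n + 1) := by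
    intro n
    induction n with
    | zero =>
      refine ⟨by rw [Nat.mul_zero, seqOf_zero]; exact bot_le,
        seqOf_succ_le fun A hA hc hn => le_seqOf_succ (hA.trans hQP) hc ?_⟩
      rw [Nat.mul_zero, seqOf_zero]; exact bot_le
    | succ n ih =>
      have hev : seqOf P (2 * (n + 1)) ≤ seqOf Q (2 * (n + 1)) := by
        refine seqOf_succ_le fun A hA hAc hn => le_seqOf_succ ?_ hAc (ih.2.trans hn)
        exact le_opIn_of_abelian hs hc (seqOf_le _ _)
          ((le_normalizer_opIn M).trans (normalizer_le_normalizer_seqOf _ _))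
          (inf_centralizer_seqOf_le (isPGroup_opIn M) (Nat.succ_pos _)) (hA.trans hPM) hAc
          (ih.2.trans hn)
      exact ⟨hev, seqOf_succ_le fun A hA hc hn => le_seqOf_succ (hA.trans hQP) hc (hev.trans hn)⟩
  obtain ⟨k, -, hk⟩ := exists_stable P
  exact ⟨lowerOf_le_iff.2 fun n => (key n).1.trans (seqOf_even_le_lowerOf _ n),
    hk ▸ (puigOf_le_seqOf _ k).trans (key k).2⟩

/-- In a group with a core-free maximal subgroup `J` and `O_p ≠ 1`, a `p`-subgroup normal in `J` is
trivial. -/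
theorem eq_bot_of_corefree {H : Type u} [Group H] [Finite H] [Fact p.Prime] {J R X : Subgroup H}
    (hmax : ∀ L, J ≤ L → L ≠ ⊤ → L = J) (hcore : ∀ N : Subgroup H, N.Normal → N ≤ J → N = ⊥)
    [R.Normal] (hR : IsPGroup p R) (hRne : R ≠ ⊥) (hXJ : X ≤ J)
    (hJX : J ≤ normalizer (X : Set H)) (hX : IsPGroup p X) : X = ⊥ := by
  set Z := R ⊓ centralizer (R : Set H)
  haveI hZn : Z.Normal := Subgroup.normal_inf_normal _ _
  have hZne : Z ≠ ⊥ := exists_ne_one_centralized hR hRne
    (by rw [normalizer_eq_top]; exact le_top) (fun x hx => by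
      obtain ⟨k, hk⟩ := hR ⟨x, hx⟩
      exact ⟨k, by rw [show x ^ p ^ k = 1 from congrArg Subtype.val hk]; exact one_mem _⟩)
  have hZN : ∀ Y : Subgroup H, Y ≤ normalizer (Z : Set H) := fun Y => by
    rw [normalizer_eq_top]; exact le_top
  set F := Z ⊓ centralizer (X : Set H)
  have hFne : F ≠ ⊥ := exists_ne_one_centralized (hR.to_le inf_le_left) hZne (hZN X)
    (fun x hx => by
      obtain ⟨k, hk⟩ := hX ⟨x, hx⟩
      exact ⟨k, by rw [show x ^ p ^ k = 1 from congrArg Subtype.val hk]; exact one_mem _⟩)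
  have hFn : J ≤ normalizer (F : Set H) := le_normalizer_inf (hZN J) (le_normalizer_centralizer hJX)
  have hZJ : Z ⊔ J = ⊤ := by
    by_contra hne
    have := hmax _ le_sup_right hne
    exact hZne (hcore Z hZn (le_sup_left.trans this.le))
  haveI hFnormal : F.Normal := by
    refine normalizer_eq_top_iff.1 (eq_top_iff.2 ?_)
    rw [← hZJ]
    refine sup_le (fun z hz => ?_) hFn
    refine centralizer_le_normalizer _ (mem_centralizer_iff.2 fun f hf => ?_)
    exact mem_centralizer_iff.1 hz.2 f hf.1.1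
  have hFJ : F ⊔ J = ⊤ := by
    by_contra hne
    have := hmax _ le_sup_right hne
    exact hFne (hcore F hFnormal (le_sup_left.trans this.le))
  refine hcore X (normalizer_eq_top_iff.1 (eq_top_iff.2 ?_)) hXJ
  rw [← hFJ]
  refine sup_le ((le_centralizer_iff.1 ?_).trans (centralizer_le_normalizer _)) hJX
  exact fun x hx => mem_centralizer_iff.2 fun f hf => (mem_centralizer_iff.1 hf.2 x hx).symm

theorem le_opIn_pair [Finite G] [Fact p.Prime] {M Qb L D K C : Subgroup G}
    (hKn : M ≤ normalizer (K : Set G)) (hLK : L ≤ K) (hCn : M ≤ normalizer (C : Set G))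
    (hKp : ∀ x ∈ K, ∃ k : ℕ, x ^ p ^ k ∈ C) (hCD : C ≤ D) (hLD : L ≤ D)
    (hDL : D ≤ normalizer (L : Set G)) (hL : IsPGroup p L) (hQD : Qb ≤ D)
    (hQn : M ≤ normalizer (Qb : Set G)) :
    ∀ H : Subgroup G, Qb ≤ H → H ≤ M → L ≤ H →
      (∀ X ≤ H, H ≤ normalizer (X : Set G) → IsPGroup p X → X ≤ Qb) → L ≤ Qb := by
  intro H
  induction H using WellFoundedLT.induction with
  | _ H ih =>
  intro hQH hHM hLH hX
  by_cases hHD : H ≤ D
  · exact hX L hLH (hHD.trans hDL) hL
  obtain ⟨J, ⟨hJ1, hJ2⟩, hJmax⟩ :=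
    (Set.toFinite {J : Subgroup G | D ⊓ H ≤ J ∧ J < H}).exists_maximal
      ⟨D ⊓ H, le_rfl, inf_le_right.lt_of_ne fun e => hHD (inf_eq_right.1 e)⟩
  set J' := J.subgroupOf H
  set N := J'.normalCore
  set π := QuotientGroup.mk' N
  have hsurj : Function.Surjective π := QuotientGroup.mk'_surjective N
  have hNJ : N ≤ J' := J'.normalCore_le
  set J0 := N.map H.subtype
  have hJ0J : J0 ≤ J := (map_mono hNJ).trans
    (map_subgroupOf_eq_of_le hJ2.le).le
  have hJ0H : H ≤ normalizer (J0 : Set G) := le_normalizer_map_normal H N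
  -- normal subgroups of `H` inside `D` lie in the core
  have hcoreD : ∀ Y : Subgroup G, Y ≤ D → H ≤ normalizer (Y : Set G) → Y.subgroupOf H ≤ N := by
    intro Y hYD hYn
    haveI : (Y.subgroupOf H).Normal := normal_subgroupOf_of_le_normalizer hYn
    exact (Subgroup.normal_le_normalCore).2 fun y hy => hJ1 ⟨hYD hy, y.2⟩
  have hQJ0 : Qb ≤ J0 := (map_subgroupOf_eq_of_le hQH).ge.trans
    (map_mono (hcoreD Qb hQD (hHM.trans hQn)))
  -- normal `p`-subgroups of the core lie in `Qb`
  have hX0 : ∀ X ≤ J0, J0 ≤ normalizer (X : Set G) → IsPGroup p X → X ≤ Qb := by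
    intro X hX1 hX2 hX3
    refine (le_opIn hX1 hX2 hX3).trans (hX _ ((opIn_le J0).trans (hJ0J.trans hJ2.le)) ?_
      (isPGroup_opIn J0))
    exact hJ0H.trans (normalizer_le_normalizer_opIn J0)
  set R := (K.subgroupOf H).map π
  haveI : (K.subgroupOf H).Normal := normal_subgroupOf_of_le_normalizer (hHM.trans hKn)
  haveI : R.Normal := Normal.map inferInstance π hsurj
  have hR : IsPGroup p R := by
    rintro ⟨_, ⟨x, hx, rfl⟩⟩
    obtain ⟨k, hk⟩ := hKp _ hx
    refine ⟨k, Subtype.ext ?_⟩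
    rw [SubgroupClass.coe_pow, ← map_pow]
    refine (QuotientGroup.eq_one_iff _).2 (hcoreD C hCD (hHM.trans hCn) ?_)
    simpa [mem_subgroupOf] using hk
  by_cases hRbot : R = ⊥
  · -- the kernel lies in the core
    have hL0 : L ≤ J0 := by
      intro x hx
      refine ⟨⟨x, hLH hx⟩, ?_, rfl⟩
      have : π ⟨x, hLH hx⟩ ∈ R := mem_map_of_mem π (show (⟨x, hLH hx⟩ : H) ∈ K.subgroupOf H from hLK hx)
      rw [hRbot, Subgroup.mem_bot] at this
      exact (QuotientGroup.eq_one_iff _).1 this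
    exact ih J0 (hJ0J.trans_lt hJ2) hQJ0 ((hJ0J.trans hJ2.le).trans hHM) hL0 hX0
  · refine ih J hJ2 (hQJ0.trans hJ0J) (hJ2.le.trans hHM) (fun x hx => hJ1 ⟨hLD hx, hLH hx⟩) ?_
    intro X hXJ hJX hXp
    -- the image of `X` modulo the core is trivial
    have hbot := eq_bot_of_corefree (J := J'.map π) (X := (X.subgroupOf H).map π)
      (fun L' hL' hne => by
        have h1 : J' ≤ L'.comap π := map_le_iff_le_comap.1 hL'
        have h2 : J' = L'.comap π := by
          by_contra h3
          have h4 : (L'.comap π).map H.subtype < H := by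
            refine (map_subtype_le _).lt_of_ne fun e => hne ?_
            have : L'.comap π = ⊤ := map_injective H.subtype_injective
              (e.trans (by rw [← MonoidHom.range_eq_map, range_subtype]))
            rw [← map_comap_eq_self_of_surjective hsurj L', this,
              map_top_of_surjective _ hsurj]
          have h5 : J ≤ (L'.comap π).map H.subtype :=
            (map_subgroupOf_eq_of_le hJ2.le).ge.trans (map_mono h1)
          have h6 : (L'.comap π).map H.subtype ≤ J := hJmax ⟨hJ1.trans h5, h4⟩ h5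
          refine h3 (le_antisymm h1 fun y hy => h6 (mem_map_of_mem H.subtype hy))
        exact ((congrArg (Subgroup.map π) h2).trans (map_comap_eq_self_of_surjective hsurj L')).symm)
      (fun N' hN' hle => by
        have h1 : N'.comap π ≤ N := by
          haveI := hN'
          haveI : (N'.comap π).Normal := Normal.comap inferInstance π
          refine (Subgroup.normal_le_normalCore).2 ((comap_mono hle).trans ?_)
          rw [comap_map_eq, QuotientGroup.ker_mk', sup_of_le_left hNJ]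
        rw [← map_comap_eq_self_of_surjective hsurj N', eq_bot_iff]
        refine (map_mono h1).trans ?_
        rw [QuotientGroup.map_mk'_self])
      hR hRbot (map_mono fun x hx => hXJ hx)
      (by
        refine le_trans (map_mono ?_) (le_normalizer_map π)
        intro j hj
        exact Subgroup.mem_normalizer_iff.2 fun x => Subgroup.mem_normalizer_iff.1 (hJX hj) (x : G))
      ((hXp.of_equiv (subgroupOfEquivOfLe (hXJ.trans hJ2.le)).symm).map π)
    rw [Subgroup.map_eq_bot_iff, QuotientGroup.ker_mk'] at hbot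
    refine hX0 X ((map_subgroupOf_eq_of_le (hXJ.trans hJ2.le)).ge.trans (map_mono hbot))
      (hJ0J.trans hJX) hXp

/-- In a pair `Mα, Mβ` as in a primitive pair, `L(O_p(Mβ)) = L(P)`. -/
theorem puigOf_opIn_eq [Finite G] [Fact p.Prime] {Ma Mb P : Subgroup G} (hsa : Stab p Ma)
    (hsb : Stab p Mb) (hca : Ma ⊓ centralizer (opIn p Ma : Set G) ≤ opIn p Ma)
    (hcb : Mb ⊓ centralizer (opIn p Mb : Set G) ≤ opIn p Mb) (hne : Ma ≠ ⊥)
    (hprim : ∀ A : Subgroup G, A ≠ ⊥ → A ≤ Ma ⊓ Mb → Ma ≤ normalizer (A : Set G) →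
      Mb ⊓ normalizer (A : Set G) = Ma ⊓ Mb)
    (hP : IsPGroup p P) (hPD : P ≤ Ma ⊓ Mb) (hDP : Ma ⊓ Mb ≤ normalizer (P : Set G))
    (ha : opIn p Ma ≤ P) (hb : opIn p Mb ≤ P) :
    puigOf (opIn p Mb) = puigOf P ∧ puigOf P ≠ ⊥ := by
  set Qa := opIn p Ma
  set Qb := opIn p Mb
  set Z := Qa ⊓ centralizer (Qa : Set G)
  have hQne : Qa ≠ ⊥ := fun e => hne (le_bot_iff.1 (by
    calc Ma ≤ Ma ⊓ centralizer (Qa : Set G) := le_inf le_rfl fun x _ =>
          mem_centralizer_iff.2 fun q hq => by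
            rw [e] at hq; rw [Subgroup.mem_bot.1 hq, one_mul, mul_one]
      _ ≤ Qa := hca
      _ = ⊥ := e))
  have hQp : IsPGroup p Qa := isPGroup_opIn Ma
  have hZne : Z ≠ ⊥ := exists_ne_one_centralized hQp hQne le_normalizer (fun x hx => by
    obtain ⟨k, hk⟩ := hQp ⟨x, hx⟩
    exact ⟨k, by rw [show x ^ p ^ k = 1 from congrArg Subtype.val hk]; exact one_mem _⟩)
  have hZn : Ma ≤ normalizer (Z : Set G) :=
    le_normalizer_inf (le_normalizer_opIn Ma) (le_normalizer_centralizer (le_normalizer_opIn Ma))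
  obtain ⟨N, ⟨hN1, hN2, hN3⟩, hNmin⟩ :=
    (Set.toFinite {N : Subgroup G | N ≠ ⊥ ∧ Ma ≤ normalizer (N : Set G) ∧ N ≤ Z}).exists_minimal
      ⟨Z, hZne, hZn, le_rfl⟩
  have hNP : N ≤ P := (hN3.trans inf_le_left).trans ha
  have hNc : IsMulCommutative N := PGroup.isMulCommutative_of_forall fun x hx y hy =>
    mem_centralizer_iff.1 (hN3 hy).2 x (hN3 hx).1
  have hPMa : P ≤ Ma := hPD.trans inf_le_left
  have hPMb : P ≤ Mb := hPD.trans inf_le_right
  have hNL : N ≤ lowerOf P := normal_le_lowerOf hNP hNc (hPMa.trans hN2)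
  obtain ⟨Ka, hKaM, hKan, -, hKap, hKaA⟩ := exists_kernel hsa (hNP.trans hPMa) hN2 (hP.to_le hNP)
  have hNKa : N ≤ centralizer (Ka : Set G) := by
    have h := exists_ne_one_centralized (hP.to_le hNP) hN1 (hKaM.trans hN2) hKap
    have hn : Ma ≤ normalizer ((N ⊓ centralizer (Ka : Set G) : Subgroup G) : Set G) :=
      le_normalizer_inf hN2 (le_normalizer_centralizer hKan)
    exact (hNmin ⟨h, hn, inf_le_left.trans hN3⟩ inf_le_left).trans inf_le_right
  obtain ⟨k, hk1, hk2⟩ := exists_stable P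
  have hLN : puigOf P ≤ centralizer (N : Set G) := by
    rw [← hk2]
    exact seqOf_succ_le fun A hA hc hn =>
      (hKaA A (hA.trans hPMa) hc ((hNL.trans hk1.ge).trans hn)).trans (le_centralizer_iff.1 hNKa)
  obtain ⟨hs1, hs2⟩ := sandwich hsb hcb hb hPMb
  set U := puigOf Qb
  have hUn : Mb ≤ normalizer (U : Set G) :=
    (le_normalizer_opIn Mb).trans (normalizer_le_normalizer_puigOf _)
  set V := U ⊓ centralizer (U : Set G)
  have hVn : Mb ≤ normalizer (V : Set G) := le_normalizer_inf hUn (le_normalizer_centralizer hUn)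
  have hVP : V ≤ P := (inf_le_left.trans (puigOf_le _)).trans hb
  have hNV : N ≤ V := le_inf (hNL.trans (hs1.trans (lowerOf_le_puigOf _)))
    (le_centralizer_iff.1 (hs2.trans hLN))
  have hVc : IsMulCommutative V := PGroup.isMulCommutative_of_forall fun x hx y hy =>
    mem_centralizer_iff.1 hy.2 x hx.1
  have hVL : V ≤ lowerOf P := normal_le_lowerOf hVP hVc (hPMb.trans hVn)
  obtain ⟨Kb, -, hKbn, -, hKbp, hKbA⟩ := exists_kernel hsb (hVP.trans hPMb) hVn (hP.to_le hVP)
  have hLK : puigOf P ≤ Kb := by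
    rw [← hk2]
    exact seqOf_succ_le fun A hA hc hn => hKbA A (hA.trans hPMb) hc ((hVL.trans hk1.ge).trans hn)
  have hNV' : N ≤ Ma ⊓ Mb := hNP.trans hPD
  have hCD : Mb ⊓ centralizer (V : Set G) ≤ Ma ⊓ Mb := by
    refine le_trans ?_ (hprim N hN1 hNV' hN2).le
    exact inf_le_inf_left _ ((centralizer_le hNV).trans (centralizer_le_normalizer _))
  have hLP : puigOf P ≤ P := puigOf_le P
  have hQbp : IsPGroup p Qb := isPGroup_opIn Mb
  have hLQ : puigOf P ≤ Qb := by
    refine le_opIn_pair (M := Mb) (K := Kb ⊓ Mb) (C := Mb ⊓ centralizer (V : Set G))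
      (le_normalizer_inf hKbn le_normalizer) (le_inf hLK (hLP.trans hPMb))
      (le_normalizer_inf le_normalizer (le_normalizer_centralizer hVn)) ?_ hCD (hLP.trans hPD)
      (hDP.trans (normalizer_le_normalizer_puigOf P)) (hP.to_le hLP) (hb.trans hPD)
      (le_normalizer_opIn Mb) Mb (opIn_le Mb) le_rfl (hLP.trans hPMb) fun X hX hn hp => le_opIn hX hn hp
    rintro x ⟨hx, hxM⟩
    obtain ⟨j, hj⟩ := hKbp x hx
    exact ⟨j, pow_mem hxM _, hj⟩
  refine ⟨puigOf_eq_of_le hb hLQ, fun e => hN1 (le_bot_iff.1 ?_)⟩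
  exact (hNL.trans (lowerOf_le_puigOf P)).trans e.le

end Cfsg.Agent.PuigPair
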