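import Cfsg.Agent.Lib.OddOrder.KappaConsequences
import Cfsg.Agent.Lib.OddOrder.SigmaDecomp
import Cfsg.Agent.Lib.OddOrder.FittingSigma
import Cfsg.Agent.Lib.OddOrder.TheoremB

/-!
# The inputs of Bender–Glauberman §15, and the centralizer of a Hall subgroup of `M_σ`

* `BG15Input`: the results of §§12–14 used in §15, as one hypothesis;
* `exists_decomposition`: standard factorisations exist;
* `centralizer_structure`: BG 15.1 (e), first half: `C_M(H) = C_{M_σ}(H) X` with `X` a cyclic `τ₂`-group;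
* `centralizer_sigmaCore_le_fittingOf`.
-/

set_option autoImplicit false
set_option linter.style.haveILetI false
set_option linter.unusedSectionVars false

namespace Cfsg.Agent.OddOrder

open Cfsg
open Subgroup (centralizer normalizer zpowers)
open scoped Pointwise

universe u

/-- What §15 takes from §§12–14. -/
structure BG15Input (G : Type u) [Group G] [Finite G] : Prop where
  h13 : BG13 G
  /-- the first half of S1421 -/
  free : ∀ M : Subgroup G, IsCoatom M → ∀ E : Subgroup G, IsComplIn E (sigmaCore M) M →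
    (∀ e ∈ E, e ≠ 1 → (∀ p : ℕ, p.Prime → p ∣ orderOf e → p ∈ tau1 M ∪ tau3 M) →
      sigmaCore M ⊓ centralizer ({e} : Set G) = ⊥) →
    ∃ A₀ : Subgroup G, A₀ ≤ E ∧ E ≤ normalizer (A₀ : Set G) ∧ IsMulCommutative A₀ ∧
      ∀ x ∈ sigmaCore M, x ≠ 1 → E ⊓ centralizer ({x} : Set G) ≤ A₀
  /-- S1373 -/
  fixed_prime : ∀ M : Subgroup G, IsCoatom M → ∀ K U : Subgroup G, IsSigmaDecomposition M K U → K ≠ ⊥ →
    U = ⊥ → (Nat.card ↥(sigmaCore M ⊓ centralizer (K : Set G))).Prime

variable {G : Type u} [Group G] [Finite G] {M : Subgroup G}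

theorem exists_cyclic_kappa_hall (hG : IsMinSimpleOddOrder G) (h13 : BG13 G) (hM : IsCoatom M) :
    ∃ K : Subgroup G, IsCyclic K ∧ IsPiHallOf (kappa M) K M := by
  obtain ⟨K, -, hK⟩ := exists_piHallOf_ge (kappa M) (isSolvable_of_coatom hG hM) (bot_le : (⊥ : Subgroup G) ≤ M)
    (fun p hp hd => by
      rw [Subgroup.card_bot] at hd
      exact absurd hd hp.not_dvd_one)
  refine ⟨K, ?_, hK⟩
  rcases eq_or_ne K ⊥ with rfl | hK1
  · exact isCyclic_of_subsingleton
  · obtain ⟨E, d⟩ := exists_pData hG h13 hM hK hK1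
    exact d.cyclic

theorem exists_decomposition_of_hall (hG : IsMinSimpleOddOrder G) (h13 : BG13 G) (hM : IsCoatom M)
    {K : Subgroup G} (hKc : IsCyclic K) (hK : IsPiHallOf (kappa M) K M) :
    ∃ U : Subgroup G, IsSigmaDecomposition M K U := by
  rcases eq_or_ne K ⊥ with rfl | hK1
  · obtain ⟨E, hE, -⟩ := exists_compl hG hM (bot_le : (⊥ : Subgroup G) ≤ M) (by
      rw [Subgroup.card_bot]; exact Nat.coprime_one_left _)
    exact ⟨E, hKc, hK, by rwa [bot_sup_eq], bot_le⟩
  · obtain ⟨E, d⟩ := exists_pData hG h13 hM hK hK1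
    obtain ⟨U, -, hU, hKU, hUE, -⟩ := d.exists_U
    refine ⟨U, hKc, hK, ⟨hU.1, sup_le hK.1 (sigmaCore_le M), ?_, fun m hm => ?_⟩, hKU⟩
    · refine Coprime.disjoint_of_coprime_card ?_
      rw [Coprime.card_sup_of_le_normalizer (hK.1.trans (le_normalizer_sigmaCore M))
        (Coprime.disjoint_of_coprime_card (Nat.coprime_of_dvd fun p hp h1 h2 =>
          (hK.2.1 p hp h1).2.2.1 (isPiGrp_piCoreOf (sigma M) M p hp h2)))]
      refine Nat.coprime_of_dvd fun p hp h1 h2 => ?_
      rcases hp.dvd_mul.1 h2 with h | h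
      · exact (hU.2.1 p hp h1).2.1 (hK.2.1 p hp h)
      · exact (hU.2.1 p hp h1).2.2 (isPiGrp_piCoreOf (sigma M) M p hp h)
    · obtain ⟨e, he, s, hs, rfl⟩ := d.compl.2.2.2 m hm
      obtain ⟨u, hu, k, hk, rfl⟩ := hUE.2.2.2 e he
      exact ⟨u, hu, k * s, Subgroup.mul_mem _ (Subgroup.mem_sup_left hk) (Subgroup.mem_sup_right hs),
        mul_assoc _ _ _⟩

theorem exists_decomposition (hG : IsMinSimpleOddOrder G) (h13 : BG13 G) (hM : IsCoatom M) :
    ∃ K U : Subgroup G, IsSigmaDecomposition M K U := by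
  obtain ⟨K, hc, hK⟩ := exists_cyclic_kappa_hall hG h13 hM
  obtain ⟨U, hU⟩ := exists_decomposition_of_hall hG h13 hM hc hK
  exact ⟨K, U, hU⟩

/-- A subgroup of `M` whose primes are those of a Hall subgroup `K` has an `M`-conjugate inside `K`. -/
theorem exists_conj_le_hall (hG : IsMinSimpleOddOrder G) (hM : IsCoatom M) {π : Set ℕ} {K X : Subgroup G}
    (hK : IsPiHallOf π K M) (hXM : X ≤ M) (hX : ∀ p : ℕ, p.Prime → p ∣ Nat.card X → p ∈ π) :
    ∃ m ∈ M, ∀ x ∈ X, m * x * m⁻¹ ∈ K := by
  haveI := isSolvable_of_coatom hG hM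
  obtain ⟨g, hg⟩ := Solvable.exists_le_conj_hall (G := M) (m := Nat.card K) (n := K.relIndex M)
    (by rw [Subgroup.relIndex, ← Coprime.card_subgroupOf hK.1, Subgroup.card_mul_index])
    (Nat.coprime_of_dvd fun p hp h1 h2 => hK.2.2 p hp (hK.2.1 p hp h1) h2)
    (H := K.subgroupOf M) (K := X.subgroupOf M) (Coprime.card_subgroupOf hK.1)
    (by
      rw [Coprime.card_subgroupOf hXM]
      exact Nat.coprime_of_dvd fun p hp h1 h2 => hK.2.2 p hp (hX p hp h1) h2)
  refine ⟨(g : G)⁻¹, M.inv_mem g.2, fun x hx => ?_⟩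
  have h := hg (show (⟨x, hXM hx⟩ : M) ∈ X.subgroupOf M from hx)
  rw [Coprime.mem_conj_smul_iff] at h
  rw [inv_inv]
  exact h

variable (hG : IsMinSimpleOddOrder G) (hI : BG15Input G) (hM : IsCoatom M)
include hG hI hM

/-- The elements of `U` with a fixed point on `M_σ` generate an abelian group. -/
theorem isMulCommutative_fixed {K U : Subgroup G} (hKU : IsSigmaDecomposition M K U) :
    IsMulCommutative (Subgroup.closure ((U : Set G) ∩ sigmaHat M)) := by
  refine TheoremB.closure_isMulCommutative hG hM hKU (fun hK => ?_) (fun hK => ?_)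
  · obtain ⟨A₀, -, -, hA, hle⟩ := hI.free M hM U (TheoremB.complIn_of_bot hKU hK)
      (fun e he he1 hπ => TheoremB.fpf_of_tau13 hG hM hKU he he1 hπ)
    exact ⟨A₀, hA, hle⟩
  · obtain ⟨U', h1, h2, -⟩ := (pMaximal_structure hG hI.h13 hM hKU.hall hK).2.1
    exact ⟨U', h1, h2⟩

/-- No element of prime order `p ∈ κ(M)` centralizes a Hall subgroup of `M_σ`. -/
theorem not_kappa_centralize {H : Subgroup G} (hH : H ≤ sigmaCore M) (hH1 : H ≠ ⊥)
    (hHall : (Nat.card H).Coprime (H.relIndex (sigmaCore M))) {p : ℕ} (hp : p.Prime) (hpk : p ∈ kappa M)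
    {x : G} (hx : x ∈ M) (ho : orderOf x = p) : ¬ x ∈ centralizer (H : Set G) := by
  intro hxH
  obtain ⟨K, U, hKU⟩ := exists_decomposition hG hI.h13 hM
  obtain ⟨m, hm, hmK⟩ := exists_conj_le_hall hG hM hKU.hall (Subgroup.zpowers_le.2 hx)
    (fun r hr hd => by
      rw [Nat.card_zpowers, ho] at hd
      exact (Nat.prime_dvd_prime_iff_eq hr hp).1 hd ▸ hpk)
  set k := m * x * m⁻¹ with hk_def
  have hk : k ∈ K := hmK x (Subgroup.mem_zpowers x)
  have hk1 : k ≠ 1 := fun e => hp.ne_one (by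
    rw [hk_def, conj_eq_one_iff] at e
    rw [← ho, e, orderOf_one])
  have hK1 : K ≠ ⊥ := fun e => hk1 (Subgroup.mem_bot.1 (e ▸ hk))
  obtain ⟨E, d⟩ := exists_pData hG hI.h13 hM hKU.hall hK1
  set H' := MulAut.conj m • H with hH'
  have hH'σ : H' ≤ sigmaCore M := by
    rw [← Coprime.conj_smul_eq_self_of_mem (le_normalizer_sigmaCore M hm)]
    exact Subgroup.pointwise_smul_le_pointwise_smul_iff.2 hH
  have hH'K : H' ≤ sigmaCore M ⊓ centralizer (K : Set G) := by
    rw [← d.primeAction hk hk1]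
    refine le_inf hH'σ fun y hy => Subgroup.mem_centralizer_singleton_iff.2 ?_
    rw [hH', Coprime.mem_conj_smul_iff] at hy
    have h1 := Subgroup.mem_centralizer_iff.1 hxH _ hy
    calc y * k = m * ((m⁻¹ * y * m) * x) * m⁻¹ := by rw [hk_def]; group
      _ = m * (x * (m⁻¹ * y * m)) * m⁻¹ := by rw [h1]
      _ = k * y := by rw [hk_def]; group
  obtain ⟨s, hs, hsd⟩ := Nat.exists_prime_and_dvd (n := Nat.card H) fun e => hH1 (Subgroup.card_eq_one.1 e)
  haveI := Fact.mk hs
  obtain ⟨S⟩ : Nonempty (Sylow s H') := inferInstance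
  have hidx : ¬ s ∣ ((S : Subgroup H').map (Subgroup.inclusion hH'σ)).index := by
    intro hd
    rw [Subgroup.index_map_of_injective _ (Subgroup.inclusion_injective hH'σ)] at hd
    rcases hs.dvd_mul.1 hd with h | h
    · exact S.not_dvd_index h
    · rw [Subgroup.inclusion_range, ← Subgroup.relIndex] at h
      have e : H'.relIndex (sigmaCore M) = H.relIndex (sigmaCore M) := by
        rw [hH', ← Coprime.conj_smul_eq_self_of_mem (le_normalizer_sigmaCore M hm),
          Subgroup.relIndex_pointwise_smul, Coprime.conj_smul_eq_self_of_mem (le_normalizer_sigmaCore M hm)]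
      exact hs.ne_one (Nat.eq_one_of_dvd_coprimes hHall hsd (e ▸ h))
  set S' := (S.2.map (Subgroup.inclusion hH'σ)).toSylow hidx
  refine ((d.kstar_ti).2.2.1 s hs ?_ S').2.2 ?_
  · exact (hsd.trans (Coprime.card_conj_smul m H).symm.dvd).trans (Subgroup.card_dvd_of_le hH'K)
  · rw [IsPGroup.toSylow_coe, Subgroup.map_map, Subgroup.subtype_comp_inclusion]
    exact (Subgroup.map_subtype_le _).trans hH'K

/-- BG 15.1 (e), first half. -/
theorem centralizer_structure {H : Subgroup G} (hH : H ≤ sigmaCore M) (hH1 : H ≠ ⊥)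
    (hHall : (Nat.card H).Coprime (H.relIndex (sigmaCore M))) :
    ∃ X : Subgroup G, IsCyclic X ∧ (∀ p : ℕ, p.Prime → p ∣ Nat.card X → p ∈ tau2 M) ∧
      X ≤ M ⊓ centralizer (H : Set G) ∧
      M ⊓ centralizer (H : Set G) = (sigmaCore M ⊓ centralizer (H : Set G)) ⊔ X := by
  haveI hsM := isSolvable_of_coatom hG hM
  set C := M ⊓ centralizer (H : Set G) with hC
  set N := (sigmaCore M).subgroupOf C
  have hCM : C ≤ M := inf_le_left
  haveI : N.Normal := Coprime.normal_subgroupOf_of_le_normalizer (hCM.trans (le_normalizer_sigmaCore M))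
  have hidx : N.index ∣ (sigmaCore M).relIndex M := by
    haveI : ((sigmaCore M).subgroupOf M).Normal := sigmaCore_normal_subgroupOf
    have h := Subgroup.relIndex_dvd_index_of_normal ((sigmaCore M).subgroupOf M) (C.subgroupOf M)
    rwa [Subgroup.relIndex_subgroupOf hCM] at h
  have hNσ : ∀ p : ℕ, p.Prime → p ∣ Nat.card N → p ∈ sigma M := fun p hp hd => by
    refine isPiGrp_piCoreOf (sigma M) M p hp (hd.trans ?_)
    show Nat.card ((sigmaCore M).subgroupOf C) ∣ _
    rw [← Subgroup.inf_subgroupOf_right, Coprime.card_subgroupOf inf_le_right]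
    exact Subgroup.card_dvd_of_le inf_le_left
  obtain ⟨D, hD⟩ := Subgroup.exists_right_complement'_of_coprime (N := N) (Nat.coprime_of_dvd
    fun p hp h1 h2 => (sigmaCore_hall hG hM).2.2 p hp (hNσ p hp h1) (h2.trans hidx))
  set X := D.map C.subtype with hX
  have hXC : X ≤ C := Subgroup.map_subtype_le _
  have hXπ : ∀ p : ℕ, p.Prime → p ∣ Nat.card X → p ∈ tau2 M := by
    intro p hp hd
    haveI := Fact.mk hp
    obtain ⟨x, hx⟩ := exists_prime_orderOf_dvd_card' p hd
    rw [← Subgroup.orderOf_coe] at hx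
    have hps : p ∉ sigma M := fun h => by
      refine (sigmaCore_hall hG hM).2.2 p hp h (dvd_trans ?_ hidx)
      rw [hD.symm.index_eq_card, ← Subgroup.card_map_of_injective C.subtype_injective]
      exact hd
    obtain ⟨y, hy, hy1⟩ := (Subgroup.bot_or_exists_ne_one H).resolve_left hH1
    have hxC : (x : G) ∈ C := hXC x.2
    have hhat : (x : G) ∈ sigmaHat M :=
      ⟨hxC.1, y, hH hy, hy1, (Subgroup.mem_centralizer_iff.1 hxC.2 y hy).symm⟩
    exact (mem_kappa_or_tau2 hG hM hps hhat hx).resolve_left fun hk =>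
      not_kappa_centralize hG hI hM hH hH1 hHall hp hk hxC.1 hx hxC.2
  refine ⟨X, ?_, hXπ, hXC, ?_⟩
  · obtain ⟨K, U, hKU⟩ := exists_decomposition hG hI.h13 hM
    have hab := isMulCommutative_fixed hG hI hM hKU
    obtain ⟨m, hm, hmU⟩ := exists_conj_le_hall hG hM (Decomp.isPiHallOf_right hG hM hKU) (hXC.trans hCM)
      (fun p hp hd => ⟨hp, fun hk => by
        haveI := Fact.mk hp
        exact not_mem_tau2_of_kappa hk (hXπ p hp hd), (hXπ p hp hd).2.1⟩)
    obtain ⟨y, hy, hy1⟩ := (Subgroup.bot_or_exists_ne_one H).resolve_left hH1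
    have hmem : ∀ x ∈ X, m * x * m⁻¹ ∈ Subgroup.closure ((U : Set G) ∩ sigmaHat M) := fun x hx =>
      Subgroup.subset_closure ⟨hmU x hx, conj_mem_sigmaHat
        ⟨(hXC hx).1, y, hH hy, hy1, (Subgroup.mem_centralizer_iff.1 (hXC hx).2 y hy).symm⟩ hm⟩
    haveI : IsMulCommutative X := PGroup.isMulCommutative_of_forall fun a ha b hb => by
      have h := PGroup.mul_comm_of_isMulCommutative hab (hmem a ha) (hmem b hb)
      calc a * b = m⁻¹ * ((m * a * m⁻¹) * (m * b * m⁻¹)) * m := by group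
        _ = b * a := by rw [h]; group
    haveI : Group.IsNilpotent X :=
      open scoped IsMulCommutative in CommGroup.isNilpotent
    haveI : IsZGroup X := by
      rw [isZGroup_iff]
      intro p hp S
      haveI := Fact.mk hp
      by_contra hnc
      have hd : p ∣ Nat.card X := by
        by_contra hd
        refine hnc ?_
        have : (S : Subgroup X) = ⊥ := PCore.eq_bot_of_isPGroup_of_coprime S.2
          ((hp.coprime_iff_not_dvd.2 fun h => hd (h.trans (S : Subgroup X).card_subgroup_dvd_card)).symm)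
        show IsCyclic (S : Subgroup X)
        rw [this]
        infer_instance
      have h2 : p ≠ 2 := ne_two_of_odd_of_dvd hG.1 (hd.trans X.card_subgroup_dvd_card)
      have hr : ¬ PRankLE p 1 X := fun h => hnc (IsolatedP.isCyclic_of_pRankLE_one h2 S.2
        (pRankLE_of_injective (f := (S : Subgroup X).subtype) (S : Subgroup X).subtype_injective h))
      obtain ⟨A, hAS, hAe, hAc⟩ := exists_square_le hr S
      have hAX : A ≤ X := hAS.trans (Subgroup.map_subtype_le _)
      obtain ⟨-, -, -, hA, -⟩ := S1417.result hG M hM p (hXπ p hp hd) A ⟨hAX.trans (hXC.trans hCM), hAe, hAc⟩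
      refine hH1 (le_bot_iff.1 (hA ▸ le_inf hH ?_))
      exact Subgroup.le_centralizer_iff.1 ((hAX.trans hXC).trans inf_le_right)
    infer_instance
  · refine le_antisymm (fun c hc => ?_) (sup_le (le_inf (inf_le_left.trans (sigmaCore_le M)) inf_le_right) hXC)
    obtain ⟨⟨a, b⟩, hab⟩ := (hD.existsUnique (⟨c, hc⟩ : C)).exists
    rw [← show ((a : C) : G) * ((b : C) : G) = c from congrArg Subtype.val hab]
    exact Subgroup.mul_mem _ (Subgroup.mem_sup_left ⟨a.2, (a : C).2.2⟩)
      (Subgroup.mem_sup_right ⟨b, b.2, rfl⟩)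

/-- `C_M(M_σ) ≤ F(M)`. -/
theorem centralizer_sigmaCore_le_fittingOf :
    M ⊓ centralizer (sigmaCore M : Set G) ≤ fittingOf M := by
  obtain ⟨X, hXc, -, hXC, hsup⟩ := centralizer_structure hG hI hM le_rfl (sigmaCore_ne_bot hG hM)
    (by rw [Subgroup.relIndex_self]; exact Nat.coprime_one_right _)
  refine le_fittingOf inf_le_left ?_ ?_
  · exact Coprime.le_normalizer_inf_of_le Subgroup.le_normalizer
      (Coprime.le_normalizer_centralizer (le_normalizer_sigmaCore M))
  · have hle : M ⊓ centralizer (sigmaCore M : Set G) ≤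
        centralizer ((M ⊓ centralizer (sigmaCore M : Set G) : Subgroup G) : Set G) := by
      rw [hsup]
      have h1 : sigmaCore M ⊓ centralizer (sigmaCore M : Set G) ≤
          centralizer ((sigmaCore M ⊓ centralizer (sigmaCore M : Set G) : Subgroup G) : Set G) :=
        inf_le_right.trans (Subgroup.centralizer_le inf_le_left)
      have h2 : X ≤ centralizer ((sigmaCore M ⊓ centralizer (sigmaCore M : Set G) : Subgroup G) : Set G) :=
        (hXC.trans inf_le_right).trans (Subgroup.centralizer_le inf_le_left)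
      have h3 : X ≤ centralizer (X : Set G) := fun x hx => mem_centralizer_of_isCyclic hXc hx
      refine sup_le (Subgroup.le_centralizer_iff.2 ?_) (Subgroup.le_centralizer_iff.2 ?_)
      · exact sup_le h1 h2
      · exact sup_le (Subgroup.le_centralizer_iff.1 h2) h3
    haveI : IsMulCommutative ↥(M ⊓ centralizer (sigmaCore M : Set G)) :=
      PGroup.isMulCommutative_of_forall fun x hx y hy => (Subgroup.mem_centralizer_iff.1 (hle hx) y hy).symm
    open scoped IsMulCommutative in exact CommGroup.isNilpotent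

end Cfsg.Agent.OddOrder
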