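import Cfsg.Agent.Lib.OddOrder.CoherenceFeit
import Cfsg.Agent.S1523
import Cfsg.Agent.S1531
import Cfsg.Agent.S1532

set_option autoImplicit false
set_option linter.unusedSectionVars false

/-!
Sibley's coherence theorem for a non-abelian TI Sylow subgroup of odd order containing the
centralisers of its non-identity elements.
-/

namespace Cfsg.Agent.OddOrder

open Finset
open scoped commutatorElement

universe u

section Merge

variable {G : Type u} [Group G] [Fintype G] {N : Subgroup G} [Fintype N]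

theorem exists_two_of_isCoherent {S : Set (N → ℂ)} {α : (N → ℂ) → (G → ℂ)}
    (hirr : ∀ φ ∈ S, IsIrrCharacter N φ) (h : IsCoherent S {1}ᶜ α) : ∃ a ∈ S, ∃ b ∈ S, a ≠ b := by
  by_contra hcon
  push Not at hcon
  obtain ⟨⟨θ, hθ, hne⟩, -⟩ := h
  rcases S.eq_empty_or_nonempty with rfl | ⟨x, hx⟩
  · have := hθ.1
    simp [Cfsg.zspan] at this
    exact hne this
  · obtain ⟨k, hk⟩ := Submodule.mem_span_singleton.1
      (Submodule.span_mono (R := ℤ) (fun y hy => (hcon y hy x hx : y ∈ ({x} : Set (N → ℂ)))) hθ.1)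
    have h1 := congrFun hk 1
    rw [(Char.mem_zspanOn_compl_one.1 hθ).2, Pi.smul_apply, zsmul_eq_mul, mul_eq_zero] at h1
    rcases h1 with h1 | h1
    · have : k = 0 := by exact_mod_cast h1
      rw [this, zero_smul] at hk
      exact hne hk.symm
    · exact Char.IsIrrCharacter.apply_one_ne_zero (hirr x hx) h1

/-- Two disjoint coherent sets, one of a single degree dividing the least degree of the other, with
the divisibility condition of Sibley. -/
theorem isCoherent_merge (X Y : Finset (N → ℂ)) (hdis : Disjoint X Y)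
    (hirrX : ∀ φ ∈ X, IsIrrCharacter N φ) (hirrY : ∀ φ ∈ Y, IsIrrCharacter N φ)
    (α : (N → ℂ) → (G → ℂ))
    (hα : IsLinearIsometryOn (zspanOn (↑(X ∪ Y) : Set (N → ℂ)) {1}ᶜ) α)
    (hα1 : ∀ θ ∈ zspanOn (↑(X ∪ Y) : Set (N → ℂ)) {1}ᶜ, α θ 1 = 0)
    (hX : IsCoherent (↑X : Set (N → ℂ)) {1}ᶜ α) (hY : IsCoherent (↑Y : Set (N → ℂ)) {1}ᶜ α)
    (χ η : N → ℂ) (hχ : χ ∈ X) (hη : η ∈ Y) (r : (N → ℂ) → ℕ) (d : ℕ)
    (hd : χ 1 = (d : ℂ) * η 1) (hYdeg : ∀ φ ∈ Y, φ 1 = η 1) (hr : ∀ φ ∈ X, φ 1 = (r φ : ℂ) * χ 1)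
    (hdiv : ∀ τ : (N → ℂ) → (G → ℂ), IsLinearIsometryOn (zspan (↑Y : Set (N → ℂ))) τ →
      (∀ θ ∈ zspanOn (↑Y : Set (N → ℂ)) {1}ᶜ, τ θ = α θ) →
      (∀ θ ∈ zspanOn (↑X : Set (N → ℂ)) {1}ᶜ, classInner (τ η) (α θ) = 0) →
      ∃ m : ℤ, classInner (α (χ - (d : ℤ) • η)) (τ η) = (d : ℂ) * m) :
    IsCoherent (↑(X ∪ Y) : Set (N → ℂ)) {1}ᶜ α := by
  classical
  have hX2 := exists_two_of_isCoherent hirrX hX
  have hY2 := exists_two_of_isCoherent hirrY hY
  obtain ⟨⟨w, hw, hw0⟩, σ, hσ, hσα⟩ := hX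
  obtain ⟨-, τ, hτ, hτα⟩ := hY
  have hXS : (↑X : Set (N → ℂ)) ⊆ ↑(X ∪ Y) := Finset.coe_subset.2 Finset.subset_union_left
  have hYS : (↑Y : Set (N → ℂ)) ⊆ ↑(X ∪ Y) := Finset.coe_subset.2 Finset.subset_union_right
  have hirr : ∀ φ ∈ (↑(X ∪ Y) : Set (N → ℂ)), IsIrrCharacter N φ := fun φ hφ =>
    (Finset.mem_union.1 hφ).elim (hirrX φ) (hirrY φ)
  have horth := (S1531.result N _ (↑X) (↑Y) hirr hXS hYS (Finset.disjoint_coe.2 hdis) hX2 hY2 α hα hα1
    σ τ hσ hσα hτ hτα).1
  have horth' : ∀ a ∈ X, ∀ b ∈ Y, classInner (τ b) (σ a) = 0 := fun a ha b hb => by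
    rw [← Char.conj_classInner, horth a ha b hb, map_zero]
  have hmX : ∀ φ ∈ X, φ ∈ zspan (↑X : Set (N → ℂ)) := fun φ hφ => Submodule.subset_span hφ
  have hmY : ∀ φ ∈ Y, φ ∈ zspan (↑Y : Set (N → ℂ)) := fun φ hφ => Submodule.subset_span hφ
  have hmS : ∀ φ ∈ X ∪ Y, φ ∈ Submodule.span ℤ (↑(X ∪ Y) : Set (N → ℂ)) := fun φ hφ =>
    Submodule.subset_span hφ
  have hmono : ∀ U : Finset (N → ℂ), U ⊆ X ∪ Y → ∀ θ ∈ zspanOn (↑U : Set (N → ℂ)) {1}ᶜ,
      θ ∈ zspanOn (↑(X ∪ Y) : Set (N → ℂ)) {1}ᶜ := fun U hU θ h =>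
    ⟨Submodule.span_mono (Finset.coe_subset.2 hU) h.1, h.2⟩
  have hin : ∀ a ∈ X ∪ Y, ∀ b ∈ X ∪ Y, classInner a b = if a = b then (1 : ℂ) else 0 := by
    intro a ha b hb
    split_ifs with h
    · subst h; exact Char.classInner_irr_self (hirr a ha)
    · exact Char.classInner_irr_of_ne (hirr a ha) (hirr b hb) h
  have hχ' := Finset.mem_union_left Y hχ
  have hη' := Finset.mem_union_right X hη
  have hne : ∀ a ∈ X, ∀ b ∈ Y, a ≠ b := fun a ha b hb h => Finset.disjoint_left.1 hdis ha (h ▸ hb)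
  have hχ1 : χ 1 ≠ 0 := Char.IsIrrCharacter.apply_one_ne_zero (hirrX χ hχ)
  have hrχ : r χ = 1 := by
    have h := hr χ hχ
    rw [eq_comm, mul_left_eq_self₀] at h
    exact_mod_cast h.resolve_right hχ1
  have hrpos : ∀ φ ∈ X, 1 ≤ r φ := fun φ hφ => Nat.one_le_iff_ne_zero.2 fun h =>
    Char.IsIrrCharacter.apply_one_ne_zero (hirrX φ hφ) (by rw [hr φ hφ, h, Nat.cast_zero, zero_mul])
  set θ₀ : N → ℂ := χ - (d : ℤ) • η with hθ₀def
  have hθ₀ : θ₀ ∈ zspanOn (↑(X ∪ Y) : Set (N → ℂ)) {1}ᶜ := Char.mem_zspanOn_compl_one.2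
    ⟨Submodule.sub_mem _ (hmS χ hχ') (Submodule.smul_mem _ _ (hmS η hη')), by simp [θ₀, hd]⟩
  have hXr : ∀ φ ∈ X, φ - (r φ : ℤ) • χ ∈ zspanOn (↑X : Set (N → ℂ)) {1}ᶜ := fun φ hφ =>
    Char.mem_zspanOn_compl_one.2 ⟨Submodule.sub_mem _ (hmX φ hφ)
      (Submodule.smul_mem _ _ (hmX χ hχ)), by simp [hr φ hφ]⟩
  have hYr : ∀ φ ∈ Y, φ - η ∈ zspanOn (↑Y : Set (N → ℂ)) {1}ᶜ := fun φ hφ =>
    Char.mem_zspanOn_compl_one.2 ⟨Submodule.sub_mem _ (hmY φ hφ) (hmY η hη),
      by simp [hYdeg φ hφ]⟩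
  have hσr : ∀ φ ∈ X, α (φ - (r φ : ℤ) • χ) = σ φ - (r φ : ℤ) • σ χ := fun φ hφ => by
    rw [← hσα _ (hXr φ hφ), Char.iso_map_sub (E := Submodule.span ℤ (↑X : Set (N → ℂ))) hσ (hmX φ hφ)
      (Submodule.smul_mem _ _ (hmX χ hχ)), hσ.2.1 χ (hmX χ hχ)]
  have hτr : ∀ φ ∈ Y, α (φ - η) = τ φ - τ η := fun φ hφ => by
    rw [← hτα _ (hYr φ hφ), Char.iso_map_sub (E := Submodule.span ℤ (↑Y : Set (N → ℂ))) hτ (hmY φ hφ)
      (hmY η hη)]
  obtain ⟨m₀, hm₀⟩ := hdiv τ hτ hτα fun θ hθ => by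
    rw [← hσα θ hθ]
    exact Char.classInner_image_eq_zero (X := (↑Y : Set (N → ℂ))) (Y := (↑X : Set (N → ℂ))) hτ hσ
      (fun b hb a ha => horth' a ha b hb) (Submodule.subset_span hη) hθ.1
  set β := α θ₀ with hβ
  have hβg : IsGeneralizedCharacter G β := hα.2.2.2 θ₀ hθ₀
  obtain ⟨b₀, hb₀⟩ := Char.IsGeneralizedCharacter.exists_int_classInner hβg (hσ.2.2.2 χ (hmX χ hχ))
  set b : ℤ := b₀ - 1 with hb
  set m : ℤ := m₀ + 1 with hm
  have hβY : ∀ φ ∈ Y, classInner β (τ φ) = ((d * m : ℤ) : ℂ) - if φ = η then (d : ℂ) else 0 := by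
    intro φ hφ
    have h := hα.2.2.1 θ₀ hθ₀ _ (hmono Y Finset.subset_union_right _ (hYr φ hφ))
    rw [hτr φ hφ, Char.classInner_sub_right, hm₀] at h
    simp only [θ₀, Char.classInner_sub_right, Char.classInner_sub_left, Char.classInner_zsmul_left,
      hin χ hχ' φ (Finset.mem_union_right _ hφ), hin η hη' φ (Finset.mem_union_right _ hφ),
      hin χ hχ' η hη', hin η hη' η hη', if_neg (hne χ hχ φ hφ), if_neg (hne χ hχ η hη), if_true] at h
    rw [hm]
    by_cases e : φ = η
    · subst e; simp only [if_true] at h ⊢; push_cast at h ⊢; linear_combination h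
    · rw [if_neg (fun e' => e e'.symm)] at h
      rw [if_neg e]; push_cast at h ⊢; linear_combination h
  have hβX : ∀ φ ∈ X, classInner β (σ φ) = ((r φ * b : ℤ) : ℂ) + if φ = χ then 1 else 0 := by
    intro φ hφ
    have h := hα.2.2.1 θ₀ hθ₀ _ (hmono X Finset.subset_union_left _ (hXr φ hφ))
    rw [hσr φ hφ, Char.classInner_sub_right, Char.classInner_zsmul_right, hb₀] at h
    simp only [θ₀, Char.classInner_sub_right, Char.classInner_sub_left, Char.classInner_zsmul_left,
      Char.classInner_zsmul_right, hin χ hχ' φ (Finset.mem_union_left _ hφ),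
      hin η hη' φ (Finset.mem_union_left _ hφ), hin χ hχ' χ hχ', hin η hη' χ hχ',
      if_neg (hne φ hφ η hη).symm, if_neg (hne χ hχ η hη).symm, if_true] at h
    rw [hb]
    by_cases e : φ = χ
    · subst e; simp only [if_true] at h ⊢; push_cast at h ⊢; linear_combination h
    · rw [if_neg (fun e' => e e'.symm)] at h
      rw [if_neg e]; push_cast at h ⊢; linear_combination h
  set PX : G → ℂ := ∑ φ ∈ X, (r φ : ℤ) • σ φ with hPX
  set PY : G → ℂ := ∑ φ ∈ Y, τ φ with hPY
  set R : ℤ := ∑ φ ∈ X, (r φ : ℤ) ^ 2 with hR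
  have eσ : ∀ a ∈ X, ∀ c ∈ X, classInner (σ a) (σ c) = if a = c then (1 : ℂ) else 0 := fun a ha c hc => by
    rw [hσ.2.2.1 a (hmX a ha) c (hmX c hc), hin a (Finset.mem_union_left _ ha) c (Finset.mem_union_left _ hc)]
  have eτ : ∀ a ∈ Y, ∀ c ∈ Y, classInner (τ a) (τ c) = if a = c then (1 : ℂ) else 0 := fun a ha c hc => by
    rw [hτ.2.2.1 a (hmY a ha) c (hmY c hc), hin a (Finset.mem_union_right _ ha) c (Finset.mem_union_right _ hc)]
  have σPX : ∀ a ∈ X, classInner (σ a) PX = (r a : ℂ) := fun a ha => by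
    rw [hPX, Char.classInner_sum_right, Finset.sum_eq_single a, Char.classInner_zsmul_right, eσ a ha a ha,
      if_pos rfl, mul_one, Int.cast_natCast]
    · intro c hc hca
      rw [Char.classInner_zsmul_right, eσ a ha c hc, if_neg (Ne.symm hca), mul_zero]
    · exact fun h => absurd ha h
  have τPY : ∀ a ∈ Y, classInner (τ a) PY = 1 := fun a ha => by
    rw [hPY, Char.classInner_sum_right, Finset.sum_eq_single a, eτ a ha a ha, if_pos rfl]
    · intro c hc hca
      rw [eτ a ha c hc, if_neg (Ne.symm hca)]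
    · exact fun h => absurd ha h
  have σPY : ∀ a ∈ X, classInner (σ a) PY = 0 := fun a ha => by
    rw [hPY, Char.classInner_sum_right]
    exact Finset.sum_eq_zero fun c hc => horth a ha c hc
  have τPX : ∀ a ∈ Y, classInner (τ a) PX = 0 := fun a ha => by
    rw [hPX, Char.classInner_sum_right]
    exact Finset.sum_eq_zero fun c hc => by
      rw [Char.classInner_zsmul_right, horth' c hc a ha, mul_zero]
  have PXσ : ∀ a ∈ X, classInner PX (σ a) = (r a : ℂ) := fun a ha => by
    rw [← Char.conj_classInner, σPX a ha, map_natCast]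
  have PYτ : ∀ a ∈ Y, classInner PY (τ a) = 1 := fun a ha => by
    rw [← Char.conj_classInner, τPY a ha, map_one]
  have PYσ : ∀ a ∈ X, classInner PY (σ a) = 0 := fun a ha => by
    rw [← Char.conj_classInner, σPY a ha, map_zero]
  have PXτ : ∀ a ∈ Y, classInner PX (τ a) = 0 := fun a ha => by
    rw [← Char.conj_classInner, τPX a ha, map_zero]
  have PXX : classInner PX PX = (R : ℂ) := by
    conv_lhs => arg 2; rw [hPX]
    rw [Char.classInner_sum_right, hR, Int.cast_sum]
    exact Finset.sum_congr rfl fun a ha => by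
      rw [Char.classInner_zsmul_right, PXσ a ha]; push_cast; ring
  have PYY : classInner PY PY = (Y.card : ℂ) := by
    conv_lhs => arg 2; rw [hPY]
    rw [Char.classInner_sum_right, Finset.sum_congr rfl PYτ, Finset.sum_const, nsmul_eq_mul, mul_one]
  have PXY : classInner PX PY = 0 := by
    conv_lhs => arg 2; rw [hPY]
    rw [Char.classInner_sum_right]
    exact Finset.sum_eq_zero PXτ
  have PYX : classInner PY PX = 0 := by rw [← Char.conj_classInner, PXY, map_zero]
  have βPX : classInner β PX = ((R * b + 1 : ℤ) : ℂ) := by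
    rw [hPX, Char.classInner_sum_right, Finset.sum_congr rfl fun a ha => by
      rw [Char.classInner_zsmul_right, hβX a ha]]
    simp only [mul_add, Finset.sum_add_distrib, mul_ite, mul_one, mul_zero, Finset.sum_ite_eq', if_pos hχ,
      hrχ]
    rw [hR, Finset.sum_mul]
    push_cast
    congr 1
    exact Finset.sum_congr rfl fun a _ => by ring
  have βPY : classInner β PY = ((d * m * Y.card - d : ℤ) : ℂ) := by
    rw [hPY, Char.classInner_sum_right, Finset.sum_congr rfl hβY, Finset.sum_sub_distrib,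
      Finset.sum_ite_eq', if_pos hη, Finset.sum_const, nsmul_eq_mul]
    push_cast
    ring
  have hββ : classInner β β = 1 + (d : ℂ) ^ 2 := by
    rw [hα.2.2.1 θ₀ hθ₀ θ₀ hθ₀]
    simp only [θ₀, Char.classInner_sub_right, Char.classInner_sub_left, Char.classInner_zsmul_left,
      Char.classInner_zsmul_right, hin χ hχ' χ hχ', hin χ hχ' η hη', hin η hη' χ hχ', hin η hη' η hη',
      if_neg (hne χ hχ η hη), if_neg (hne χ hχ η hη).symm, if_true]
    push_cast
    ring
  set V : ℤ := R * b ^ 2 + 2 * b + (d : ℤ) ^ 2 * (Y.card * m ^ 2 - 2 * m) with hV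
  set P : G → ℂ := σ χ + b • PX - ((d : ℤ) • τ η - ((d : ℤ) * m) • PY) with hP
  have hrest : classInner (β - P) (β - P) = ((-V : ℤ) : ℂ) := by
    have e1 : classInner β (σ χ) = (b : ℂ) + 1 := by rw [hβX χ hχ, hrχ]; simp
    have e2 : classInner β (τ η) = ((d * m - d : ℤ) : ℂ) := by rw [hβY η hη, if_pos rfl]; push_cast; ring
    have e1' : classInner (σ χ) β = (b : ℂ) + 1 := by
      rw [← Char.conj_classInner, e1, map_add, map_intCast, map_one]
    have e2' : classInner (τ η) β = ((d * m - d : ℤ) : ℂ) := by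
      rw [← Char.conj_classInner, e2, map_intCast]
    have e3' : classInner PX β = ((R * b + 1 : ℤ) : ℂ) := by rw [← Char.conj_classInner, βPX, map_intCast]
    have e4' : classInner PY β = ((d * m * Y.card - d : ℤ) : ℂ) := by
      rw [← Char.conj_classInner, βPY, map_intCast]
    simp only [hP, Char.classInner_sub_left, Char.classInner_sub_right, Char.classInner_add_left,
      Char.classInner_add_right, Char.classInner_zsmul_left, Char.classInner_zsmul_right, hββ, e1, e2,
      βPX, βPY, e1', e2', e3', e4', eσ χ hχ χ hχ, eτ η hη η hη, σPX χ hχ, PXσ χ hχ, τPY η hη, PYτ η hη,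
      σPY χ hχ, PYσ χ hχ, τPX η hη, PXτ η hη, horth χ hχ η hη, horth' χ hχ η hη, PXX, PYY, PXY, PYX,
      hrχ, if_true, hV]
    push_cast
    ring
  have hV0 := Char.zero_le_of_classInner_self hrest
  have hR2 : 2 ≤ R := by
    obtain ⟨a, ha, c, hc, hac⟩ := hX2
    calc (2 : ℤ) = 1 + 1 := rfl
      _ ≤ (r a : ℤ) ^ 2 + (r c : ℤ) ^ 2 := by
          have h1 : (1 : ℤ) ≤ r a := by exact_mod_cast hrpos a ha
          have h2 : (1 : ℤ) ≤ r c := by exact_mod_cast hrpos c hc
          nlinarith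
      _ = ∑ φ ∈ ({a, c} : Finset (N → ℂ)), (r φ : ℤ) ^ 2 := (Finset.sum_pair (f := fun φ => (r φ : ℤ) ^ 2) hac).symm
      _ ≤ R := Finset.sum_le_sum_of_subset_of_nonneg
          (Finset.insert_subset ha (Finset.singleton_subset_iff.2 hc)) fun _ _ _ => sq_nonneg _
  have hY2' : (2 : ℤ) ≤ Y.card := by
    obtain ⟨a, ha, c, hc, hac⟩ := hY2
    exact_mod_cast Finset.one_lt_card.2 ⟨a, ha, c, hc, hac⟩
  have hint : ∀ x : ℤ, 0 ≤ x * (x + 1) := fun x => by
    rcases le_or_gt 0 x with h | h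
    · positivity
    · exact mul_nonneg_of_nonpos_of_nonpos h.le (by omega)
  have hA : 0 ≤ R * b ^ 2 + 2 * b := by nlinarith [hint b, sq_nonneg b]
  have hB : 0 ≤ (Y.card : ℤ) * m ^ 2 - 2 * m := by nlinarith [hint (-m), sq_nonneg m]
  have hdpos : 0 < (d : ℤ) ^ 2 := by
    have : d ≠ 0 := fun h => hχ1 (by rw [hd, h, Nat.cast_zero, zero_mul])
    positivity
  have hBm := mul_nonneg hdpos.le hB
  have hA0 : R * b ^ 2 + 2 * b = 0 := by omega
  have hB0 : (Y.card : ℤ) * m ^ 2 - 2 * m = 0 := by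
    rcases mul_eq_zero.1 (show (d : ℤ) ^ 2 * ((Y.card : ℤ) * m ^ 2 - 2 * m) = 0 by omega) with h | h
    · omega
    · exact h
  have hβP : β = P := sub_eq_zero.1 (Char.classInner_self_eq_zero (by
    rw [hrest, show V = 0 by rw [hV, hA0, hB0]; ring]; simp))
  have hA0' : (R : ℂ) * (b : ℂ) ^ 2 + 2 * (b : ℂ) = 0 := by exact_mod_cast hA0
  have hB0' : (Y.card : ℂ) * (m : ℂ) ^ 2 - 2 * (m : ℂ) = 0 := by exact_mod_cast hB0
  -- the extension
  let Φ : (N → ℂ) → (G → ℂ) := fun φ =>
    if φ ∈ X then σ φ + ((r φ : ℤ) * b) • PX else τ φ - m • PY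
  have hΦX : ∀ φ ∈ X, Φ φ = σ φ + ((r φ : ℤ) * b) • PX := fun φ hφ => if_pos hφ
  have hΦY : ∀ φ ∈ Y, Φ φ = τ φ - m • PY := fun φ hφ => if_neg fun h => hne φ h φ hφ rfl
  have hgen : ∀ (k : ℤ) {v : G → ℂ}, IsGeneralizedCharacter G v → IsGeneralizedCharacter G (k • v) :=
    fun k v hv => by rw [← Int.cast_smul_eq_zsmul ℂ]; exact Char.IsGeneralizedCharacter.intCast_smul hv k
  obtain ⟨μ, hμ, hμv⟩ := exists_isometry_of_images (X ∪ Y) (fun _ => 1) (fun _ _ => Nat.one_pos)
    (fun φ hφ ψ hψ => by rw [hin φ hφ ψ hψ, Nat.cast_one]) Φ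
    (fun φ hφ => by
      rcases Finset.mem_union.1 hφ with h | h
      · rw [hΦX φ h]
        exact Char.IsGeneralizedCharacter.add (hσ.2.2.2 φ (hmX φ h)) (hgen _
          (Char.IsGeneralizedCharacter.sum _ fun c hc => hgen _ (hσ.2.2.2 c (hmX c hc))))
      · rw [hΦY φ h]
        exact Char.IsGeneralizedCharacter.sub (hτ.2.2.2 φ (hmY φ h)) (hgen _
          (Char.IsGeneralizedCharacter.sum _ fun c hc => hτ.2.2.2 c (hmY c hc))))
    (fun φ hφ ψ hψ => by
      rw [hin φ hφ ψ hψ]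
      rcases Finset.mem_union.1 hφ with h | h <;> rcases Finset.mem_union.1 hψ with h' | h'
      · rw [hΦX φ h, hΦX ψ h']
        simp only [Char.classInner_add_left, Char.classInner_add_right, Char.classInner_zsmul_left,
          Char.classInner_zsmul_right, eσ φ h ψ h', σPX φ h, PXσ ψ h', PXX]
        push_cast
        linear_combination (r φ : ℂ) * (r ψ : ℂ) * hA0'
      · rw [hΦX φ h, hΦY ψ h', if_neg (hne φ h ψ h')]
        simp only [Char.classInner_add_left, Char.classInner_sub_right, Char.classInner_zsmul_left,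
          Char.classInner_zsmul_right, horth φ h ψ h', σPY φ h, PXτ ψ h', PXY]
        ring
      · rw [hΦY φ h, hΦX ψ h', if_neg (hne ψ h' φ h).symm]
        simp only [Char.classInner_sub_left, Char.classInner_add_right, Char.classInner_zsmul_left,
          Char.classInner_zsmul_right, horth' ψ h' φ h, τPX φ h, PYσ ψ h', PYX]
        ring
      · rw [hΦY φ h, hΦY ψ h']
        simp only [Char.classInner_sub_left, Char.classInner_sub_right, Char.classInner_zsmul_left,
          Char.classInner_zsmul_right, eτ φ h ψ h', τPY φ h, PYτ ψ h', PYY]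
        linear_combination hB0')
  refine ⟨⟨w, hmono X Finset.subset_union_left w hw, hw0⟩, μ, hμ, agree_on_zspanOn hμ hα
    (Finset.mem_coe.2 hη') (Char.IsIrrCharacter.apply_one_ne_zero (hirrY η hη)) fun φ hφ => ?_⟩
  rcases Finset.mem_union.1 hφ with h | h
  · refine ⟨(r φ : ℤ) * d, by simp [hr φ h, hd]; ring, ?_⟩
    have hsplit : φ - ((r φ : ℤ) * d) • η = (φ - (r φ : ℤ) • χ) + (r φ : ℤ) • θ₀ := by
      rw [hθ₀def, smul_sub, smul_smul]; abel
    rw [hsplit, hα.1 _ (hmono X Finset.subset_union_left _ (hXr φ h)) _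
      ((Char.zspanOnSub _ ({1}ᶜ : Set N)).smul_mem _ hθ₀), hα.2.1 θ₀ hθ₀, hσr φ h, ← hβ, hβP, hP,
      hμv φ (Finset.mem_union_left _ h), hμv η hη', hΦX φ h, hΦY η hη]
    module
  · refine ⟨1, by simp [hYdeg φ h], ?_⟩
    rw [one_smul, one_smul, hτr φ h, hμv φ (Finset.mem_union_right _ h), hμv η hη', hΦY φ h, hΦY η hη]
    abel

end Merge

section Sylow

/-- A linear character is trivial on the commutator subgroup. -/
theorem apply_eq_of_mem_commutator {X : Type u} [Group X] [Finite X] (θ : IrrCharacter X)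
    (hθ : Char.degree θ = 1) {x : X} (hx : x ∈ commutator X) : θ.1 x = θ.1 1 := by
  obtain ⟨lam, hl⟩ := Char.IsCharacter.exists_monoidHom (Char.irr_isCharacter θ)
    (by rw [Char.apply_one_eq_degree, hθ, Nat.cast_one])
  have h : lam.toHomUnits x = 1 := MonoidHom.mem_ker.1 (Abelianization.commutator_subset_ker _ hx)
  have h' : lam x = 1 := by simpa using congrArg Units.val h
  rw [← hl]
  simp [h']

variable {G : Type u} [Group G] [Fintype G]

/-- Sibley: a non-abelian TI Sylow subgroup of odd order with centralisers inside gives a coherent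
set. -/
theorem isCoherent_sylow_ti (p : ℕ) [Fact p.Prime] (hp : p ≠ 2) (P : Sylow p G)
    (hna : ¬ IsMulCommutative (P : Subgroup G)) (hTI : IsTISubset ((P : Subgroup G) : Set G))
    (hlt : (P : Subgroup G) < Subgroup.normalizer ((P : Subgroup G) : Set G))
    (hC : ∀ k ∈ (P : Subgroup G), k ≠ 1 → Subgroup.centralizer ({k} : Set G) ≤ (P : Subgroup G))
    [Fintype ↥(Subgroup.normalizer ((P : Subgroup G) : Set G))] :
    IsCoherent {χ : ↥(Subgroup.normalizer ((P : Subgroup G) : Set G)) → ℂ |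
      IsIrrCharacter ↥(Subgroup.normalizer ((P : Subgroup G) : Set G)) χ ∧
        ∃ x : ↥(Subgroup.normalizer ((P : Subgroup G) : Set G)), (x : G) ∈ (P : Subgroup G) ∧ χ x ≠ χ 1}
      {1}ᶜ (fun α => indFun (Subgroup.normalizer ((P : Subgroup G) : Set G)) α) := by
  classical
  let K : Subgroup (Subgroup.normalizer ((P : Subgroup G) : Set G)) :=
    (P : Subgroup G).subgroupOf (Subgroup.normalizer ((P : Subgroup G) : Set G))
  haveI : K.Normal := Subgroup.normal_in_normalizer
  haveI : Fintype K := Fintype.ofFinite _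
  have hPN : (P : Subgroup G) ≤ Subgroup.normalizer ((P : Subgroup G) : Set G) := Subgroup.le_normalizer
  have eK : K ≃* (P : Subgroup G) := Subgroup.subgroupOfEquivOfLe hPN
  have hcardK : Nat.card K = Nat.card (P : Subgroup G) := Nat.card_congr eK.toEquiv
  have hKp : IsPGroup p K := (P.isPGroup').of_equiv eK.symm
  obtain ⟨c, hc⟩ := IsPGroup.iff_card.1 hKp
  have hoddK : Odd (Nat.card K) := by
    rw [hc]; exact ((Fact.out : p.Prime).odd_of_ne_two hp).pow
  have hCI : CentIn K := by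
    intro k hk hk1 x hx
    rw [Subgroup.mem_centralizer_singleton_iff] at hx
    exact hC k hk (fun e => hk1 (Subtype.ext e))
      (Subgroup.mem_centralizer_singleton_iff.2 (congrArg Subtype.val hx))
  have hnaK : ¬ ∀ a b : K, a * b = b * a := fun h => hna ⟨⟨fun a b => by
    have := congrArg eK (h (eK.symm a) (eK.symm b))
    simpa using this⟩⟩
  have hodde : Odd K.index :=
    Nat.not_even_iff_odd.1 fun h => hnaK (comm_of_even_index hCI hoddK h)
  have hoddN : Odd (Nat.card (Subgroup.normalizer ((P : Subgroup G) : Set G))) := by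
    rw [← K.card_mul_index]; exact hoddK.mul hodde
  have hepos : 0 < K.index := Nat.pos_of_ne_zero Subgroup.index_ne_zero_of_finite
  -- the central subgroup inside the derived subgroup
  let Z : Subgroup (Subgroup.normalizer ((P : Subgroup G) : Set G)) :=
    ⁅K, K⁆ ⊓ Subgroup.centralizer (K : Set _)
  have hZK : Z ≤ K := inf_le_left.trans (Subgroup.commutator_le_self K)
  have hcentral : ∀ z ∈ Z, ∀ k ∈ K, z * k = k * z := fun z hz k hk =>
    (Subgroup.mem_centralizer_iff.1 hz.2 k hk).symm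
  have hmapc : (commutator K).map K.subtype = ⁅K, K⁆ := Subgroup.map_subtype_commutator K
  haveI : Group.IsNilpotent K := hKp.isNilpotent
  have hZne : Z ≠ ⊥ := by
    intro h
    have hc' : commutator K ≠ ⊥ := fun e => hnaK ((commutator_eq_bot_iff K).1 e).is_comm.comm
    obtain ⟨⟨z, hz⟩, hz1⟩ := Subgroup.ne_bot_iff_exists_ne_one.1
      (PGroup.inf_center_ne_bot hKp (commutator K) hc')
    refine hz1 (Subtype.ext (Subtype.ext ?_))
    have hzZ : (z : Subgroup.normalizer ((P : Subgroup G) : Set G)) ∈ Z :=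
      ⟨hmapc ▸ ⟨z, hz.1, rfl⟩, Subgroup.mem_centralizer_iff.2 fun k hk =>
        congrArg Subtype.val (Subgroup.mem_center_iff.1 hz.2 ⟨k, hk⟩)⟩
    rw [h, Subgroup.mem_bot] at hzZ
    exact hzZ
  let Zg : Subgroup G := Z.map (Subgroup.normalizer ((P : Subgroup G) : Set G)).subtype
  have hmemZg : ∀ z : Subgroup.normalizer ((P : Subgroup G) : Set G), (z : G) ∈ Zg ↔ z ∈ Z := fun z =>
    Subgroup.mem_map_iff_mem (Subgroup.normalizer ((P : Subgroup G) : Set G)).subtype_injective
  have hZg1 : Zg ≠ ⊥ := fun h => hZne ((Subgroup.map_eq_bot_iff_of_injective _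
    (Subgroup.normalizer ((P : Subgroup G) : Set G)).subtype_injective).1 h)
  have hZgP : ∀ z ∈ Zg, z ∈ (P : Subgroup G) ∧ ∀ y ∈ (P : Subgroup G), z * y = y * z := by
    rintro _ ⟨z, hz, rfl⟩
    exact ⟨hZK hz, fun y hy => congrArg Subtype.val (hcentral z hz ⟨y, hPN hy⟩ hy)⟩
  have hZgn : ∀ x ∈ Subgroup.normalizer ((P : Subgroup G) : Set G), ∀ z ∈ Zg, x * z * x⁻¹ ∈ Zg := by
    rintro x hx _ ⟨z, hz, rfl⟩
    exact (hmemZg (⟨x, hx⟩ * z * ⟨x, hx⟩⁻¹)).2 ((inferInstance : Z.Normal).conj_mem z hz _)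
  -- the sets of characters
  let X : Finset (Subgroup.normalizer ((P : Subgroup G) : Set G) → ℂ) :=
    ((Finset.univ : Finset (IrrCharacter (Subgroup.normalizer ((P : Subgroup G) : Set G)))).filter
      fun φ => ¬ Char.TrivOn Z φ.1).image Subtype.val
  have hmemX : ∀ φ, φ ∈ X ↔
      IsIrrCharacter (Subgroup.normalizer ((P : Subgroup G) : Set G)) φ ∧ ∃ z ∈ Z, φ z ≠ φ 1 := by
    intro φ
    simp only [X, Finset.mem_image, Finset.mem_filter, Finset.mem_univ, true_and, Char.TrivOn,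
      not_forall, exists_prop]
    exact ⟨fun ⟨a, h, e⟩ => e ▸ ⟨a.2, h⟩, fun ⟨h1, h2⟩ => ⟨⟨φ, h1⟩, h2, rfl⟩⟩
  have hmemS := fun φ => mem_kerChars hCI (φ := φ)
  have hXS : X ⊆ kerChars K := fun φ hφ => (hmemS φ).2
    ⟨((hmemX φ).1 hφ).1, ((hmemX φ).1 hφ).2.imp fun z h => ⟨hZK h.1, h.2⟩⟩
  let Y : Finset (Subgroup.normalizer ((P : Subgroup G) : Set G) → ℂ) :=
    (kerChars K).filter fun φ => charDegree φ = K.index
  have hYS : Y ⊆ kerChars K := Finset.filter_subset _ _
  have hYe : ∀ φ ∈ Y, φ 1 = (K.index : ℂ) := fun φ hφ => by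
    rw [(apply_one_kerChars (hYS hφ)).1, (Finset.mem_filter.1 hφ).2]
  have hirrS : ∀ φ ∈ kerChars K, IsIrrCharacter _ φ := fun φ hφ => ((hmemS φ).1 hφ).1
  have hdis : Disjoint X Y := Finset.disjoint_left.2 fun φ hX hY => by
    obtain ⟨θ, -, rfl⟩ := mem_kerChars_iff.1 (hYS hY)
    have hdeg : Char.degree θ = 1 := by
      have h := (Finset.mem_filter.1 hY).2
      rw [charDegree_indFun] at h
      exact Nat.eq_of_mul_eq_mul_left hepos (h.trans (mul_one _).symm)
    obtain ⟨-, z, hz, hne⟩ := (hmemX _).1 hX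
    apply hne
    simp only [indFun]
    congr 1
    refine Finset.sum_congr rfl fun y _ => ?_
    have hy : y⁻¹ * z * y ∈ ⁅K, K⁆ := by
      simpa using (inferInstance : (⁅K, K⁆).Normal).conj_mem z hz.1 y⁻¹
    rw [Char.extendByZero_of_mem _ _ (Subgroup.commutator_le_self K hy),
      Char.extendByZero_of_mem _ _ (show y⁻¹ * 1 * y ∈ K by simp),
      apply_eq_of_mem_commutator θ hdeg (x := ⟨y⁻¹ * z * y, Subgroup.commutator_le_self K hy⟩) (by
        rw [← hmapc] at hy
        obtain ⟨w, hw, hwe⟩ := hy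
        rwa [show (⟨y⁻¹ * z * y, _⟩ : K) = w from Subtype.ext hwe.symm])]
    exact congrArg θ.1 (Subtype.ext (by simp))
  -- the isometry
  obtain ⟨hiso, hone⟩ := indFun_isometry_ti (Subgroup.normalizer ((P : Subgroup G) : Set G))
    (P : Subgroup G) hTI le_rfl (↑(kerChars K))
    (fun φ hφ => Char.IsIrrCharacter.isCharacter (hirrS φ hφ)) (fun φ hφ x hx => by
      obtain ⟨θ, -, rfl⟩ := mem_kerChars_iff.1 hφ
      exact Char.indFun_of_notMem_normal K θ.1 hx)
  have hmono : ∀ T : Finset (Subgroup.normalizer ((P : Subgroup G) : Set G) → ℂ), T ⊆ kerChars K →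
      ∀ a ∈ zspanOn (↑T : Set (Subgroup.normalizer ((P : Subgroup G) : Set G) → ℂ)) {1}ᶜ,
        a ∈ zspanOn (↑(kerChars K) : Set (Subgroup.normalizer ((P : Subgroup G) : Set G) → ℂ)) {1}ᶜ :=
    fun T hT a ha => ⟨Submodule.span_mono (Finset.coe_subset.2 hT) ha.1, ha.2⟩
  have hres : ∀ T : Finset (Subgroup.normalizer ((P : Subgroup G) : Set G) → ℂ), T ⊆ kerChars K →
      IsLinearIsometryOn (zspanOn (↑T : Set (Subgroup.normalizer ((P : Subgroup G) : Set G) → ℂ)) {1}ᶜ)
        (fun a => indFun (Subgroup.normalizer ((P : Subgroup G) : Set G)) a) :=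
    fun T hT => ⟨fun a ha b hb => hiso.1 a (hmono T hT a ha) b (hmono T hT b hb),
      fun a ha => hiso.2.1 a (hmono T hT a ha),
      fun a ha b hb => hiso.2.2.1 a (hmono T hT a ha) b (hmono T hT b hb),
      fun a ha => hiso.2.2.2 a (hmono T hT a ha)⟩
  -- `X` is coherent
  have hXcoh : IsCoherent (↑X : Set (Subgroup.normalizer ((P : Subgroup G) : Set G) → ℂ)) {1}ᶜ
      (fun a => indFun (Subgroup.normalizer ((P : Subgroup G) : Set G)) a) := by
    convert S1532.result p hp P hna hTI hlt hC Zg hZg1 hZgP hZgn using 1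
    ext φ
    simp only [Finset.mem_coe, hmemX, Set.mem_setOf_eq, hmemZg]
  -- `Y` is coherent
  obtain ⟨E, hE, ρ, hρ⟩ := exists_free_action hCI
  haveI : Fintype E := Fintype.ofFinite _
  have hEc : Fintype.card E = K.index := by rw [← Nat.card_eq_fintype_card, hE]
  haveI : Nontrivial K := by
    by_contra hh
    rw [not_nontrivial_iff_subsingleton] at hh
    exact hnaK fun a b => Subsingleton.elim _ _
  have hlin := ZassenhausFeit.two_mul_succ_le_card_linear hρ ZassenhausFeit.commutator_ne_top hoddK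
    (hEc ▸ hodde)
  rw [hEc, ← card_kerChars_index_mul hCI] at hlin
  have hY2 : 1 < Y.card := by
    by_contra h
    have h' : ((kerChars K).filter fun φ => charDegree φ = K.index).card ≤ 1 := not_lt.1 h
    have := Nat.mul_le_mul_right K.index h'
    omega
  have hYcoh := isCoherent_equal_degree Y (fun φ hφ => hirrS φ (hYS hφ))
    (fun φ hφ ψ hψ => (hYe φ hφ).trans (hYe ψ hψ).symm) hY2
    (hres Y hYS) (fun a ha => hone a (hmono Y hYS a ha))
  -- degrees
  have hdegp : ∀ φ ∈ kerChars K, ∃ θ : IrrCharacter K, φ = indFun K θ.1 ∧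
      charDegree φ = K.index * Char.degree θ ∧ ∃ j, Char.degree θ = p ^ j := by
    intro φ hφ
    obtain ⟨θ, -, rfl⟩ := mem_kerChars_iff.1 hφ
    obtain ⟨j, -, hj⟩ := (Nat.dvd_prime_pow Fact.out).1 (hc ▸ Char.degree_dvd_natCard θ)
    exact ⟨θ, rfl, charDegree_indFun θ, j, hj⟩
  have hXne : X.Nonempty := by
    obtain ⟨a, ha, -⟩ := exists_two_of_isCoherent (fun φ hφ => hirrS φ (hXS hφ)) hXcoh
    exact ⟨a, ha⟩
  obtain ⟨χ, hχ, hmin⟩ := X.exists_min_image charDegree hXne
  obtain ⟨θχ, -, hdχ, jχ, hjχ⟩ := hdegp χ (hXS hχ)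
  obtain ⟨η, hη⟩ := Finset.card_pos.1 (show 0 < Y.card by omega)
  have hχ1 : χ 1 = (Char.degree θχ : ℂ) * η 1 := by
    rw [(apply_one_kerChars (hXS hχ)).1, hdχ, hYe η hη, Nat.cast_mul, mul_comm]
  have hrX : ∀ φ ∈ X, charDegree φ = charDegree φ / charDegree χ * charDegree χ := by
    intro φ hφ
    obtain ⟨θ, -, hdφ, j, hj⟩ := hdegp φ (hXS hφ)
    refine (Nat.div_mul_cancel ?_).symm
    have hle := hmin φ hφ
    rw [hdφ, hdχ] at hle ⊢
    have hle' := Nat.le_of_mul_le_mul_left hle hepos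
    rw [hj, hjχ] at hle' ⊢
    exact Nat.mul_dvd_mul_left _
      (pow_dvd_pow p ((Nat.pow_le_pow_iff_right (Fact.out : p.Prime).one_lt).1 hle'))
  let r : (Subgroup.normalizer ((P : Subgroup G) : Set G) → ℂ) → ℕ :=
    fun φ => charDegree φ / charDegree χ
  have hr : ∀ φ ∈ X, φ 1 = (r φ : ℂ) * χ 1 := fun φ hφ => by
    rw [(apply_one_kerChars (hXS hφ)).1, (apply_one_kerChars (hXS hχ)).1, ← Nat.cast_mul]
    exact congrArg _ (hrX φ hφ)
  have hXYS : X ∪ Y ⊆ kerChars K := Finset.union_subset hXS hYS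
  have hmerge := isCoherent_merge X Y hdis (fun φ hφ => hirrS φ (hXS hφ)) (fun φ hφ => hirrS φ (hYS hφ))
    (fun a => indFun (Subgroup.normalizer ((P : Subgroup G) : Set G)) a) (hres _ hXYS)
    (fun a ha => hone a (hmono _ hXYS a ha)) hXcoh hYcoh χ η hχ hη r (Char.degree θχ) hχ1
    (fun φ hφ => (hYe φ hφ).trans (hYe η hη).symm) hr (by
    intro τ hτ hτα horth
    have h0 : ∀ θ ∈ zspan (↑Y : Set (Subgroup.normalizer ((P : Subgroup G) : Set G) → ℂ)),
        θ 1 = 0 → τ θ 1 = 0 := fun θ h h1 => by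
      have hθ := Char.mem_zspanOn_compl_one.2 ⟨h, h1⟩
      rw [hτα θ hθ]; exact hone θ (hmono Y hYS θ hθ)
    obtain ⟨ε, hε, hψi⟩ := Char.exists_common_sign (fun φ hφ => hirrS φ (hYS hφ)) hτ h0
    have hψ := hψi η hη
    set ψ : G → ℂ := ε • τ η with hψdef
    have hψc : IsClassFunction G ψ :=
      Char.IsCharacter.isClassFunction (Char.IsIrrCharacter.isCharacter hψ)
    have hψg : IsGeneralizedCharacter (Subgroup.normalizer ((P : Subgroup G) : Set G))
        (fun x : Subgroup.normalizer ((P : Subgroup G) : Set G) => ψ x) :=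
      Char.IsGeneralizedCharacter.restrict (Char.irr_isGeneralized ⟨ψ, hψ⟩) _
    choose u hu using fun φ : IrrCharacter (Subgroup.normalizer ((P : Subgroup G) : Set G)) =>
      Char.IsGeneralizedCharacter.exists_int_classInner hψg (Char.irr_isGeneralized φ)
    have hdec := Char.eq_sum_classInner_smul (Char.IsGeneralizedCharacter.isClassFunction hψg)
    simp only [hu] at hdec
    let cχ : IrrCharacter (Subgroup.normalizer ((P : Subgroup G) : Set G)) := ⟨χ, hirrS χ (hXS hχ)⟩
    have hprop : ∀ φ : IrrCharacter (Subgroup.normalizer ((P : Subgroup G) : Set G)), φ.1 ∈ X →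
        u φ = (r φ.1 : ℤ) * u cχ := by
      intro φ hφ
      have hθ : φ.1 - (r φ.1 : ℤ) • χ ∈
          zspanOn (↑X : Set (Subgroup.normalizer ((P : Subgroup G) : Set G) → ℂ)) {1}ᶜ :=
        Char.mem_zspanOn_compl_one.2 ⟨Submodule.sub_mem _ (Submodule.subset_span hφ)
          (Submodule.smul_mem _ _ (Submodule.subset_span hχ)), by simp [hr φ.1 hφ]⟩
      have h := horth _ hθ
      rw [← Char.conj_classInner] at h
      have h' := congrArg (starRingEnd ℂ) h
      rw [Complex.conj_conj, map_zero] at h'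
      have h'' : classInner (indFun _ (φ.1 - (r φ.1 : ℤ) • χ)) ψ = 0 := by
        rw [hψdef, Char.classInner_smul_right, h', mul_zero]
      rw [Char.classInner_indFun _ _ hψc, ← Char.conj_classInner, map_eq_zero,
        Char.classInner_sub_right, Char.classInner_zsmul_right, hu φ,
        show classInner (fun x : Subgroup.normalizer ((P : Subgroup G) : Set G) => ψ x) χ = (u cχ : ℂ)
          from hu cχ, sub_eq_zero] at h''
      exact_mod_cast h''
    have key : ∀ z ∈ Z, z ≠ 1 →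
        (ψ 1 - ψ z) * (Char.degree θχ : ℂ) = (u cχ : ℂ) * (Nat.card (P : Subgroup G) : ℂ) := by
      intro z hz hz1
      have hval : ∀ x : Subgroup.normalizer ((P : Subgroup G) : Set G),
          ψ x = ∑ φ : IrrCharacter (Subgroup.normalizer ((P : Subgroup G) : Set G)), (u φ : ℂ) * φ.1 x := by
        intro x
        have := congrFun hdec x
        simpa [Finset.sum_apply] using this
      have h1 := Char.sum_irr_degree_mul (G := Subgroup.normalizer ((P : Subgroup G) : Set G)) 1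
      have h2 := Char.sum_irr_degree_mul (G := Subgroup.normalizer ((P : Subgroup G) : Set G)) z
      rw [if_pos rfl] at h1
      rw [if_neg hz1] at h2
      have e1 : (ψ 1 - ψ z) * χ 1 =
          (u cχ : ℂ) * (Nat.card (Subgroup.normalizer ((P : Subgroup G) : Set G)) : ℂ) := by
        have hg1 := hval 1
        rw [OneMemClass.coe_one] at hg1
        calc (ψ 1 - ψ z) * χ 1
            = ∑ φ : IrrCharacter (Subgroup.normalizer ((P : Subgroup G) : Set G)),
                (u φ : ℂ) * χ 1 * (φ.1 1 - φ.1 z) := by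
              rw [hg1, hval z, ← Finset.sum_sub_distrib, Finset.sum_mul]
              exact Finset.sum_congr rfl fun φ _ => by ring
          _ = ∑ φ : IrrCharacter (Subgroup.normalizer ((P : Subgroup G) : Set G)),
                (u cχ : ℂ) * (φ.1 1 * φ.1 1 - φ.1 1 * φ.1 z) := by
              refine Finset.sum_congr rfl fun φ _ => ?_
              by_cases hφ : φ.1 ∈ X
              · rw [hprop φ hφ, hr φ.1 hφ]; push_cast; ring
              · have : φ.1 z = φ.1 1 := by
                  by_contra hne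
                  exact hφ ((hmemX _).2 ⟨φ.2, z, hz, hne⟩)
                rw [this]; ring
          _ = _ := by
              rw [← Finset.mul_sum, Finset.sum_sub_distrib, h1, h2, sub_zero]
      have hN : (Nat.card (Subgroup.normalizer ((P : Subgroup G) : Set G)) : ℂ) =
          (Nat.card (P : Subgroup G) : ℂ) * (K.index : ℂ) := by
        rw [← hcardK, ← Nat.cast_mul, K.card_mul_index]
      rw [(apply_one_kerChars (hXS hχ)).1, hdχ, hN, Nat.cast_mul] at e1
      refine mul_right_cancel₀ (b := (K.index : ℂ)) (Nat.cast_ne_zero.2 hepos.ne') ?_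
      linear_combination e1
    have hdne : (Char.degree θχ : ℂ) ≠ 0 := Nat.cast_ne_zero.2 (Char.degree_pos θχ).ne'
    obtain ⟨z₀, hz₀, hz₀1⟩ : ∃ z ∈ Z, z ≠ 1 := by
      obtain ⟨⟨z, hz⟩, hz1⟩ := Subgroup.ne_bot_iff_exists_ne_one.1 hZne
      exact ⟨z, hz, fun e => hz1 (Subtype.ext e)⟩
    have hconst : ∀ z ∈ Zg, ∀ z' ∈ Zg, z ≠ 1 → z' ≠ 1 → ψ z = ψ z' := by
      rintro _ ⟨z, hz, rfl⟩ _ ⟨z', hz', rfl⟩ h h'
      have := (key z hz fun e => h (by rw [e]; rfl)).trans (key z' hz' fun e => h' (by rw [e]; rfl)).symm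
      exact sub_right_injective (mul_right_cancel₀ hdne this)
    have hcent : ∀ z ∈ Zg, z ≠ 1 → Nat.card ↥(Subgroup.normalizer ((P : Subgroup G) : Set G) ⊓
        Subgroup.centralizer ({z} : Set G)) = Nat.card (P : Subgroup G) := by
      intro z hz h1
      have : Subgroup.normalizer ((P : Subgroup G) : Set G) ⊓ Subgroup.centralizer ({z} : Set G) =
          (P : Subgroup G) :=
        le_antisymm (inf_le_right.trans (hC z (hZgP z hz).1 h1)) fun y hy =>
          ⟨hPN hy, Subgroup.mem_centralizer_singleton_iff.2 ((hZgP z hz).2 y hy).symm⟩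
      rw [this]
    obtain ⟨n, dd, hn, hdd, q, hq⟩ := S1523.result p P hTI hoddN Zg hZg1 (fun z hz => (hZgP z hz).1) hZgn
      (fun z hz y hy => (hZgP z hz).2 y hy)
      (fun z hz z' hz' h h' => (hcent z hz h).trans (hcent z' hz' h').symm)
      ψ hψ hconst z₀ ((hmemZg z₀).2 hz₀) (fun e => hz₀1 (Subtype.ext e))
    have hu' : (u cχ : ℂ) = (Char.degree θχ : ℂ) * (q : ℂ) := by
      have h := key z₀ hz₀ hz₀1
      rw [hn, hdd] at h
      have hq' : (dd : ℂ) - n = (Nat.card (P : Subgroup G) : ℂ) * q := by exact_mod_cast hq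
      refine mul_left_cancel₀ (a := (Nat.card (P : Subgroup G) : ℂ))
        (Nat.cast_ne_zero.2 Nat.card_pos.ne') ?_
      linear_combination -h + (Char.degree θχ : ℂ) * hq'
    obtain ⟨εz, hεz⟩ : ∃ k : ℤ, ε = k := by
      rcases hε with h | h
      · exact ⟨1, by rw [h]; norm_num⟩
      · exact ⟨-1, by rw [h]; norm_num⟩
    have hεε : ε * ε = 1 := by rcases hε with h | h <;> rw [h] <;> norm_num
    let cη : IrrCharacter (Subgroup.normalizer ((P : Subgroup G) : Set G)) := ⟨η, hirrS η (hYS hη)⟩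
    refine ⟨εz * (q - u cη), ?_⟩
    have hτη : τ η = ε • ψ := by rw [hψdef, smul_smul, hεε, one_smul]
    have hflip : ∀ φ : IrrCharacter (Subgroup.normalizer ((P : Subgroup G) : Set G)),
        classInner φ.1 (fun x : Subgroup.normalizer ((P : Subgroup G) : Set G) => ψ x) = (u φ : ℂ) :=
      fun φ => by rw [← Char.conj_classInner, hu φ, map_intCast]
    rw [hτη, Char.classInner_smul_right, Char.classInner_indFun _ _ hψc, Char.classInner_sub_left,
      Char.classInner_zsmul_left, hflip cχ, hflip cη, hεz, map_intCast, hu']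
    push_cast
    ring)
  -- the remaining characters
  have hSX : ∑ φ ∈ X, charDegree φ ^ 2 + Z.index =
      Nat.card (Subgroup.normalizer ((P : Subgroup G) : Set G)) := by
    have h1 := Char.sum_trivOn_degree_sq Z
    rw [← h1, ← Char.sum_degree_sq (G := Subgroup.normalizer ((P : Subgroup G) : Set G))]
    simp only [← Char.charDegree_eq_degree]
    rw [← Finset.sum_filter_add_sum_filter_not Finset.univ
      (fun φ : IrrCharacter (Subgroup.normalizer ((P : Subgroup G) : Set G)) => ¬ Char.TrivOn Z φ.1)]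
    congr 1
    · exact Finset.sum_image fun a _ b _ h => Subtype.ext h
    · exact Finset.sum_congr (Finset.filter_congr fun φ _ => by simp) fun _ _ => rfl
  set a := Z.relIndex K with ha
  set z := Nat.card Z with hz
  have hidx : a * K.index = Z.index := Subgroup.relIndex_mul_index hZK
  have hza : z * a = Nat.card K := by
    have h1 := Z.card_mul_index
    rw [← hidx, ← K.card_mul_index, ← mul_assoc] at h1
    exact Nat.eq_of_mul_eq_mul_right hepos h1
  have hz1 : 1 < z := (Subgroup.one_lt_card_iff_ne_bot Z).2 hZne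
  have hSX' : ∑ φ ∈ X, charDegree φ ^ 2 = K.index * (a * (z - 1)) := by
    have h := hSX
    rw [← hidx, ← K.card_mul_index, ← hza] at h
    obtain ⟨w, hw⟩ : ∃ w, z = w + 1 := ⟨z - 1, by omega⟩
    rw [hw] at h ⊢
    rw [Nat.add_sub_cancel]
    linarith [h, (by ring : (w + 1) * a * K.index = K.index * (a * w) + a * K.index)]
  have hez : K.index ∣ z - 1 := by
    have h2 : K.index * K.index ∣ ∑ φ ∈ X, charDegree φ ^ 2 := Finset.dvd_sum fun φ hφ => by
      obtain ⟨θ, -, hdφ, -⟩ := hdegp φ (hXS hφ)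
      rw [hdφ, sq]
      exact Nat.mul_dvd_mul (dvd_mul_right _ _) (dvd_mul_right _ _)
    rw [hSX'] at h2
    exact ((coprime_card_index_of_cent hCI).coprime_dvd_left ⟨z, by rw [← hza, mul_comm]⟩).symm
      |>.dvd_of_dvd_mul_left (Nat.dvd_of_mul_dvd_mul_left hepos h2)
  have hz2e : 2 * K.index ≤ z - 1 := by
    have hzodd : Odd z := hoddK.of_dvd_nat ⟨a, hza.symm⟩
    obtain ⟨k, hk⟩ := hez
    obtain ⟨l, hl⟩ := hzodd
    obtain ⟨i, hi⟩ := hodde
    rcases k with _ | _ | k
    · simp at hk; omega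
    · simp at hk; omega
    · rw [hk, mul_comm 2]
      exact Nat.mul_le_mul_left _ (by omega)
  have main : ∀ T ⊆ kerChars K, IsCoherent
      (↑(X ∪ Y ∪ T) : Set (Subgroup.normalizer ((P : Subgroup G) : Set G) → ℂ)) {1}ᶜ
      (fun a => indFun (Subgroup.normalizer ((P : Subgroup G) : Set G)) a) := by
    intro T
    induction T using Finset.induction with
    | empty => intro _; rwa [Finset.union_empty]
    | insert φ T hφT ih =>
      intro hsub
      obtain ⟨hφS, hTS⟩ := Finset.insert_subset_iff.1 hsub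
      rw [Finset.union_insert]
      by_cases hmem : φ ∈ X ∪ Y ∪ T
      · rw [Finset.insert_eq_of_mem hmem]; exact ih hTS
      have hins : insert φ (X ∪ Y ∪ T) ⊆ kerChars K :=
        Finset.insert_subset hφS (Finset.union_subset hXYS hTS)
      refine isCoherent_insert (X ∪ Y ∪ T) φ
        (fun ξ hξ => hirrS ξ (hins (Finset.mem_insert_of_mem hξ))) (hirrS φ hφS) hmem charDegree
        (fun ξ hξ => (apply_one_kerChars (hins hξ)).1) (hres _ hins)
        (fun b hb => hone b (hmono _ hins b hb)) (ih hTS) η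
        (Finset.mem_union_left _ (Finset.mem_union_right _ hη)) ?_ ?_
      · rw [(Finset.mem_filter.1 hη).2]
        obtain ⟨θ, -, hdφ, -⟩ := hdegp φ hφS
        exact hdφ ▸ dvd_mul_right _ _
      rw [(Finset.mem_filter.1 hη).2]
      obtain ⟨θ, -, hdφ, -⟩ := hdegp φ hφS
      have hθ1 : Char.degree θ ≠ 1 := fun h => hmem (Finset.mem_union_left _ (Finset.mem_union_right _
        (Finset.mem_filter.2 ⟨hφS, by rw [hdφ, h, mul_one]⟩)))
      have hle := degree_sq_le_index θ (Z.subgroupOf K) fun x hx y => by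
        rw [show x * y * x⁻¹ * y⁻¹ = 1 by
          rw [show x * y = y * x from Subtype.ext (hcentral x hx y y.2)]; group]
      rw [Char.charDegree_eq_degree, ← Subgroup.relIndex, ← ha] at hle
      refine lt_of_lt_of_le ?_ (Finset.sum_le_sum_of_subset
        (f := fun ξ => charDegree ξ ^ 2) (Finset.subset_union_left.trans Finset.subset_union_left))
      rw [hSX', hdφ]
      have hδ : Char.degree θ < Char.degree θ ^ 2 := by
        have := Char.degree_pos θ
        nlinarith [show 2 ≤ Char.degree θ by omega]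
      calc 2 * K.index * (K.index * Char.degree θ) = K.index * (Char.degree θ * (2 * K.index)) := by ring
        _ < K.index * (a * (z - 1)) := Nat.mul_lt_mul_of_pos_left
            (Nat.mul_lt_mul_of_lt_of_le (hδ.trans_le hle) hz2e (by omega)) hepos
  have hfin := main (kerChars K) subset_rfl
  rw [Finset.union_eq_right.2 hXYS, coe_kerChars hCI] at hfin
  exact hfin


end Sylow

end Cfsg.Agent.OddOrder
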