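import Cfsg.Agent.Lib.OddOrder.TauOneUnique
import Cfsg.Agent.Lib.OddOrder.PiHallExists

/-!
# Tools for the partition by `σ` and the regularity of `τ₃` (Bender–Glauberman 13.7–13.9)

* `normalizer_le_of_beta`: `N(Z) ≤ M` for `Z ≤ M` of order `s ∈ β(M)`;
* `rank_one_of_beta`: a prime of `β(M)` has rank one in the nonconjugate maximal subgroups;
* `exists_alphaCore_mul(_of_derived)`: `M = M_α N_M(T)` for a Sylow subgroup `T ≤ M'`;
* `le_centralizer_of_fixed_line`: an element of prime order `Y` of `C_E(R)`, `R` of order in `τ₁(M)`,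
  traps the fixed points of `R` on `M_α`;
* `false_of_fixed_pair`: two fixed points of `R` at primes of `β(M)` and `β(L)` meet in some conjugate.
-/

set_option autoImplicit false
set_option linter.style.haveILetI false
set_option linter.unusedSectionVars false

namespace Cfsg.Agent.OddOrder

open Cfsg
open Subgroup (centralizer normalizer zpowers)
open scoped Pointwise commutatorElement

universe u
variable {G : Type u} [Group G] [Finite G]

/-- A Sylow subgroup of a Hall subgroup is one of the whole group. -/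
theorem IsSyl.of_hall {p : ℕ} [Fact p.Prime] {T K C : Subgroup G} {π : Set ℕ} (hK : IsPiHallOf π K C)
    (hp : p ∈ π) (hT : IsSyl p T K) : IsSyl p T C := by
  obtain ⟨T', hT', hTT'⟩ := exists_isSyl_ge hT.isPGroup (hT.le.trans hK.1)
  refine (Subgroup.eq_of_le_of_card_ge hTT' ?_).symm ▸ hT'
  obtain ⟨k, hk⟩ := hT'.isPGroup.exists_card_eq
  have hd : p ^ k ∣ K.relIndex C * Nat.card K := by
    have h := Subgroup.relIndex_mul_relIndex ⊥ K C bot_le hK.1
    rw [Subgroup.relIndex_bot_left, Subgroup.relIndex_bot_left] at h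
    rw [mul_comm, h, ← hk]
    exact Subgroup.card_dvd_of_le hT'.le
  have h2 : p ^ k ∣ Nat.card K := (((Fact.out : p.Prime).coprime_iff_not_dvd.2
    (hK.2.2 p Fact.out hp)).pow_left k).dvd_of_dvd_mul_left hd
  obtain ⟨T₀, hT₀⟩ := hT
  rw [hk, ← hT₀, Subgroup.card_map_of_injective K.subtype_injective, T₀.card_eq_multiplicity]
  exact Nat.pow_le_pow_right (Fact.out : p.Prime).pos
    ((Fact.out : p.Prime).pow_dvd_iff_le_factorization Nat.card_pos.ne' |>.1 h2)

/-- With a normal `p`-subgroup and cyclic Sylow `p`-subgroups, a subgroup of order `p` is normal. -/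
theorem le_normalizer_of_normal_pgroup {p : ℕ} [Fact p.Prime] {K N Z : Subgroup G} (hp : p ≠ 2)
    (hr : PRankLE p 1 K) (hNK : N ≤ K) (hN : IsPGroup p N) (hKN : K ≤ normalizer (N : Set G))
    (hN1 : N ≠ ⊥) (hZK : Z ≤ K) (hZ : Nat.card Z = p) : K ≤ normalizer (Z : Set G) := by
  obtain ⟨T, hT, hZT⟩ := exists_isSyl_ge (isPGroup_of_card_prime hZ) hZK
  obtain ⟨a, ha, haN⟩ := hT.exists_conj_le hN hNK
  rw [Coprime.conj_smul_eq_self_of_mem (hKN ha)] at haN
  have hTc : IsCyclic T := hT.isCyclic_of_pRankLE_one hp hr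
  obtain ⟨Y, hYN, hY⟩ := exists_le_card_prime hN hN1
  have e : Z = Y := eq_of_card_eq_cyclic hTc hZT (hYN.trans haN) (hZ.trans hY.symm)
  haveI := hTc
  have hNc : IsCyclic N := isCyclic_of_injective (Subgroup.inclusion haN) (Subgroup.inclusion_injective _)
  exact e ▸ hKN.trans (normalizer_le_of_cyclic hNc hYN)

variable (hG : IsMinSimpleOddOrder G)
include hG

/-- `N(Z) ≤ M` for `Z ≤ M` of order `s ∈ β(M)`. -/
theorem normalizer_le_of_beta {M Z : Subgroup G} (hM : IsCoatom M) {s : ℕ} [Fact s.Prime]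
    (hs : s ∈ beta M) (hZM : Z ≤ M) (hZ : Nat.card Z = s) : normalizer (Z : Set G) ≤ M := by
  obtain ⟨P⟩ : Nonempty (Sylow s (sigmaCore M)) := inferInstance
  obtain ⟨-, h2⟩ :=
    (S1423.result hG M hM s (alpha_subset_sigma hG hM hs.1) Z hZM hZ P (Or.inl hs)).1
  exact le_of_forall_coatom (normalizer_ne_top_of_pgroup hG (isPGroup_of_card_prime hZ)
    (ne_bot_of_card_prime hZ)) fun L hL hle => h2 L hL ((Subgroup.centralizer_le_normalizer _).trans hle)

/-- A prime of `β(M)` has rank one in a nonconjugate maximal subgroup. -/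
theorem rank_one_of_beta {M H : Subgroup G} (hM : IsCoatom M) (hH : IsCoatom H) (hn : NotConj M H)
    {s : ℕ} (hs : s ∈ beta M) : s ∉ sigma H ∧ PRankLE s 1 H := by
  haveI := Fact.mk hs.1.1
  have hsH : s ∉ sigma H := disjoint_alpha_sigma hG hH hM hn.symm hs.1
  exact ⟨hsH, by_contra fun h =>
    (S1408.result hG H hH s hsH (pRankLE_two_of_not_sigma hG hH hsH) h).1 hs.2⟩

/-- `M = M_α N_M(T)`. -/
theorem exists_alphaCore_mul_of_derived {H T : Subgroup G} (hH : IsCoatom H) {q : ℕ} [Fact q.Prime]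
    (hT : IsSyl q T H) (hTd : T ≤ ⁅H, H⁆) {h : G} (hh : h ∈ H) :
    ∃ k ∈ alphaCore H, ∃ d ∈ H ⊓ normalizer (T : Set G), h = k * d := by
  obtain ⟨S, hS⟩ := id hT
  set N := piCore (alpha H) ↥H
  set π := QuotientGroup.mk' N
  have hSle : (S : Subgroup H).map π ≤ pCore q (↥H ⧸ N) := by
    rintro _ ⟨x, hx, rfl⟩
    obtain ⟨k, hk⟩ := S.2 ⟨x, hx⟩
    refine Subnormal.mem_pCore_of_mem_fittingSubgroup (k := k) (commutator_quotient_le_fitting hG hH ?_)
      (by rw [← map_pow, show x ^ q ^ k = 1 from congrArg Subtype.val hk, map_one])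
    have h1 := hTd (hS.le ⟨x, hx, rfl⟩)
    obtain ⟨x', hx', e⟩ :=
      (Subgroup.map_subtype_commutator H ▸ h1 : (H.subtype x) ∈ (_root_.commutator H).map H.subtype)
    have h2 := Subgroup.mem_map_of_mem π ((Subtype.ext e : x' = x) ▸ hx')
    rw [commutator_def, Subgroup.map_commutator] at h2
    exact Subgroup.commutator_mono le_top le_top h2
  haveI hnor : ((S : Subgroup H).map π).Normal := by
    have e1 := (S.mapSurjective (QuotientGroup.mk'_surjective N)).3 (PCore.isPGroup_pCore (p := q))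
      (by rw [Sylow.coe_mapSurjective]; exact hSle)
    rw [Sylow.coe_mapSurjective] at e1
    rw [← e1]; infer_instance
  haveI : (((S : Subgroup H).map π).comap π).Normal := inferInstance
  have hfr := Sylow.normalizer_sup_eq_top' S (Subgroup.le_comap_map π (S : Subgroup H))
  rw [Subgroup.comap_map_eq, QuotientGroup.ker_mk'] at hfr
  have hmem : (⟨h, hh⟩ : H) ∈ N ⊔ normalizer ((S : Subgroup H) : Set H) := by
    have hle : normalizer ((S : Subgroup H) : Set H) ⊔ ((S : Subgroup H) ⊔ N) ≤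
        N ⊔ normalizer ((S : Subgroup H) : Set H) :=
      sup_le le_sup_right (sup_le (Subgroup.le_normalizer.trans le_sup_right) le_sup_left)
    exact hle (hfr.ge (Subgroup.mem_top _))
  rw [Subgroup.mem_sup_of_normal_left] at hmem
  obtain ⟨k, hk, d, hd, hkd⟩ := hmem
  exact ⟨k, ⟨k, hk, rfl⟩, d, ⟨d.2, hS ▸ Subgroup.le_normalizer_map _ ⟨d, hd, rfl⟩⟩,
    (congrArg Subtype.val hkd).symm⟩

/-- `M = M_α N_M(T)` for `T` a Sylow subgroup at a prime of `σ(M)`. -/
theorem exists_alphaCore_mul {H T : Subgroup G} (hH : IsCoatom H) {q : ℕ} [Fact q.Prime]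
    (hq : q ∈ sigma H) (hT : IsSyl q T H) {h : G} (hh : h ∈ H) :
    ∃ k ∈ alphaCore H, ∃ d ∈ H ⊓ normalizer (T : Set G), h = k * d :=
  exists_alphaCore_mul_of_derived hG hH hT (le_derived_of_sigma hG hH hq hT.isPGroup hT.le) hh

/-- Subgroups of order `p`, outside `σ(M)` and of rank one, have fixed points of rank one on `M_α`. -/
theorem rankLE_one_alphaCore {M Y : Subgroup G} (hM : IsCoatom M) {t : ℕ} [Fact t.Prime]
    (ht : t ∉ sigma M) (hr : PRankLE t 1 M) (hYM : Y ≤ M) (hY : Nat.card Y = t) :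
    RankLE 1 ↥(alphaCore M ⊓ centralizer (Y : Set G)) := by
  by_contra h
  have hu := S1406.result hG M hM Y hYM (fun l hl hd => by
    rw [hY] at hd
    rw [(Nat.prime_dvd_prime_iff_eq hl Fact.out).1 hd]
    exact fun ha => ht (alpha_subset_sigma hG hM ha)) h
  obtain ⟨H, hH, hNH⟩ := exists_coatom_ge (normalizer_ne_top_of_pgroup hG
    (isPGroup_of_card_prime hY) (ne_bot_of_card_prime hY))
  exact (centralizer_norm_tau13 hG hM hH ht hr hY hNH).1.ne (hu.unique
    ⟨hH, inf_le_right.trans ((Subgroup.centralizer_le_normalizer _).trans hNH)⟩ ⟨hM, inf_le_left⟩)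

/-- `Q = [Q, R]` centralising `Y ≤ C_E(R)` centralises the invariant subgroups of `M_α`. -/
theorem le_centralizer_of_fixed_line {M E R Y Q U : Subgroup G} (hM : IsCoatom M)
    (hE : IsComplIn E (sigmaCore M) M) {r t s : ℕ} [Fact t.Prime] [Fact s.Prime] (hr : r ∈ tau1 M)
    (hRE : R ≤ E) (hR : Nat.card R = r) (hYE : Y ≤ E ⊓ centralizer (R : Set G)) (hY : Nat.card Y = t)
    (hrt : PRankLE t 1 M) (hU : IsPGroup s U) (hUα : U ≤ alphaCore M)
    (hQY : Q ≤ centralizer (Y : Set G)) (hRQ : R ≤ normalizer (Q : Set G))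
    (hQU : Q ≤ normalizer (U : Set G)) (hRU : R ≤ normalizer (U : Set G))
    (hcop : (Nat.card Q).Coprime (Nat.card U)) (hcopRQ : (Nat.card R).Coprime (Nat.card Q))
    (hfpf : ∀ l ∈ R, l ≠ 1 → ∀ u ∈ Q, l * u = u * l → u = 1) (hQR : ⁅Q, R⁆ = Q) :
    Q ≤ centralizer (U : Set G) := by
  rcases eq_or_ne U ⊥ with rfl | hU1
  · exact fun a _ => Subgroup.mem_centralizer_iff.2 fun u hu => by
      rw [Subgroup.mem_bot.1 hu]; simp
  have hUσ : U ≤ sigmaCore M := hUα.trans (alphaCore_le_sigmaCore hG hM)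
  have hsσ : s ∈ sigma M := isPiGrp_piCoreOf (sigma M) M s Fact.out (dvd_card_of_ne_bot hU hU1 hUσ)
  have hYM : Y ≤ M := (hYE.trans inf_le_left).trans hE.1
  have htσ : t ∉ sigma M := not_mem_sigma_of_compl hG hM hE Fact.out
    (hY ▸ Subgroup.card_dvd_of_le (hYE.trans inf_le_left))
  set C := U ⊓ centralizer (Y : Set G)
  have hC : IsCyclic C := IsolatedP.isCyclic_of_pRankLE_one (ne_two_of_minSimple hG hU hU1)
    (hU.to_le inf_le_left) (pRankLE_of_le (inf_le_inf_right _ hUα)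
      (rankLE_one_alphaCore hG hM htσ hrt hYM hY s Fact.out))
  have hfix : U ⊓ centralizer (R : Set G) ≤ C := le_inf inf_le_left
    (((inf_le_inf_right _ hUσ).trans
      (S1428.result hG M hM E hE r hr R hRE hR Y hYE (hY ▸ Fact.out))).trans inf_le_right)
  obtain ⟨k, hk⟩ := hU.exists_card_eq
  refine le_centralizer_of_fpf_cyclic hU inf_le_left hC hQU hRU
    (Coprime.le_normalizer_inf_of_le hQU (hQY.trans Subgroup.le_normalizer))
    (Coprime.le_normalizer_inf_of_le hRU
      ((Subgroup.le_centralizer_iff.1 (hYE.trans inf_le_right)).trans Subgroup.le_normalizer))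
    hRQ hcop (hG.2.2.2 R fun e => hM.1 (top_unique (e ▸ hRE.trans hE.1))) hcopRQ ?_ hfpf hfix hQR
  rw [hk, hR]
  exact ((Nat.coprime_primes hr.1 Fact.out).2 fun e : r = s => hr.2.1 (e ▸ hsσ)).pow_right k

/-- Fixed points of `R` at primes of `β(M)` and `β(L)` are incompatible with the two claims. -/
theorem false_of_fixed_pair {M L R Z W : Subgroup G} (hM : IsCoatom M) (hL : IsCoatom L)
    {r s t : ℕ} [Fact r.Prime] [Fact s.Prime] [Fact t.Prime]
    (hR : Nat.card R = r) (hrM : r ∉ sigma M) (hrM1 : PRankLE r 1 M) (hrL : r ∉ sigma L)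
    (hrL1 : PRankLE r 1 L) (hs : s ∈ beta M) (ht : t ∈ beta L)
    (hZ : Nat.card Z = s) (hZM : Z ≤ M) (hZR : Z ≤ centralizer (R : Set G))
    (hW : Nat.card W = t) (hWL : W ≤ L) (hWR : W ≤ centralizer (R : Set G))
    (claimM : ∀ Y : Subgroup G, Nat.card Y = t → Y ≤ M ⊓ centralizer (R : Set G) → False)
    (claimL : ∀ Y : Subgroup G, Nat.card Y = s → Y ≤ L ⊓ centralizer (R : Set G) → False) :
    False := by
  set C := centralizer (R : Set G)
  obtain ⟨H, hH, hNH⟩ := exists_coatom_ge (normalizer_ne_top_of_pgroup hG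
    (isPGroup_of_card_prime hR) (ne_bot_of_card_prime hR))
  obtain ⟨hnM, -, -⟩ := centralizer_norm_tau13 hG hM hH hrM hrM1 hR hNH
  obtain ⟨hnL, -, -⟩ := centralizer_norm_tau13 hG hL hH hrL hrL1 hR hNH
  have hCH : C ≤ H := (Subgroup.centralizer_le_normalizer _).trans hNH
  have hCs : Group.IsSolvable C := Coprime.isSolvable_of_le hCH (isSolvable_of_coatom hG hH)
  obtain ⟨K, hZK, hK⟩ := exists_piHallOf_ge ({s, t} : Set ℕ) hCs hZR fun l hl hd => by
    rw [hZ] at hd
    exact Or.inl ((Nat.prime_dvd_prime_iff_eq hl Fact.out).1 hd)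
  obtain ⟨T, hT⟩ : ∃ T, IsSyl t T K := by
    obtain ⟨T, hT, -⟩ := exists_isSyl_ge (p := t) (U := (⊥ : Subgroup G)) IsPGroup.of_bot (bot_le (a := K))
    exact ⟨T, hT⟩
  obtain ⟨a, ha, haT⟩ :=
    (IsSyl.of_hall hK (Or.inr rfl) hT).exists_conj_le (isPGroup_of_card_prime hW) hWR
  have haW : MulAut.conj a • W ≤ K := haT.trans hT.le
  have hcardW : Nat.card ↥(MulAut.conj a • W) = t := by rw [Coprime.card_conj_smul, hW]
  haveI : Group.IsSolvable K := Coprime.isSolvable_of_le hK.1 hCs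
  haveI : Nontrivial K :=
    (Subgroup.nontrivial_iff_ne_bot _).2 (ne_bot_of_le_ne_bot (ne_bot_of_card_prime hZ) hZK)
  obtain ⟨p, N, hp, hNn, hN1, hNp⟩ := Coprime.exists_normal_isPGroup (G := K)
  haveI := Fact.mk hp
  set N' := N.map K.subtype
  haveI := hNn
  have hN'1 : N' ≠ ⊥ := fun e => hN1 ((Subgroup.map_eq_bot_iff_of_injective _ K.subtype_injective).1 e)
  have hKN : K ≤ normalizer (N' : Set G) := le_normalizer_map_of_normal N
  have hNK : N' ≤ K := Subgroup.map_subtype_le _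
  have hKH : K ≤ H := hK.1.trans hCH
  have hp2 : p ≠ 2 := ne_two_of_minSimple hG (hNp.map _) hN'1
  have hpK : p ∈ ({s, t} : Set ℕ) := hK.2.1 p hp (dvd_card_of_ne_bot (hNp.map _) hN'1 hNK)
  rcases hpK with e | e
  · subst e
    have hN := le_normalizer_of_normal_pgroup hp2 (pRankLE_of_le hKH (rank_one_of_beta hG hM hH hnM hs).2)
      hNK (hNp.map _) hKN hN'1 hZK hZ
    exact claimM _ hcardW (le_inf ((haW.trans hN).trans (normalizer_le_of_beta hG hM hs hZM hZ))
      (haW.trans hK.1))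
  · rw [Set.mem_singleton_iff] at e
    subst e
    have hN := le_normalizer_of_normal_pgroup hp2 (pRankLE_of_le hKH (rank_one_of_beta hG hL hH hnL ht).2)
      hNK (hNp.map _) hKN hN'1 haW hcardW
    rw [normalizer_conj_smul] at hN
    have hZn := conj_smul_le (hZK.trans hN)
    refine claimL (MulAut.conj a⁻¹ • Z) (by rw [Coprime.card_conj_smul, hZ])
      (le_inf (hZn.trans (normalizer_le_of_beta hG hL ht hWL hW)) ?_)
    exact (Subgroup.pointwise_smul_le_pointwise_smul_iff.2 hZR).trans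
      (Coprime.conj_smul_eq_self_of_mem (Subgroup.le_normalizer (inv_mem ha))).le

end Cfsg.Agent.OddOrder
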