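import Cfsg.Agent.Lib.OddOrder.TypesIff
import Cfsg.Agent.Lib.OddOrder.HallFusion
import Cfsg.Agent.S1362

/-!
# Bender–Glauberman, Theorem II: fusion in `A(M)` and `A₀(M)`

Two elements of `A(M)` (or of `A₀(M)`) that are conjugate in `G` are conjugate in `M`. Stated for
`typeA'`, `typeA0'` (Type I in the book's form, Lib/OddOrder/TypeDefs).
-/

set_option autoImplicit false
set_option linter.unusedSectionVars false
set_option linter.style.haveILetI false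

namespace Cfsg.Agent.OddOrder.TameFusion

open Cfsg
open Subgroup (centralizer normalizer zpowers)
open scoped Pointwise

universe u
variable {G : Type u} [Group G] [Finite G] {M K U : Subgroup G}

/-- The normalizer of a non-empty `M`-invariant subset of `M` other than `{1}` is inside `M`. -/
theorem normalizer_le (hG : IsMinSimpleOddOrder G) (hM : IsCoatom M) {S : Set G}
    (hSM : S ⊆ (M : Set G)) (hS : ∀ m ∈ M, ∀ x ∈ S, m * x * m⁻¹ ∈ S) {x : G} (hx : x ∈ S) (hx1 : x ≠ 1) :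
    normalizer S ≤ M := by
  have hle : M ≤ normalizer S := fun m hm => mem_normalizer_set hS hm
  rcases hle.eq_or_lt with e | hlt
  · exact e.ge
  have htop := hM.2 _ hlt
  have hn : (Subgroup.closure S).Normal := by
    refine ⟨fun a ha g => ?_⟩
    have h1 : (Subgroup.closure S).map (MulAut.conj g).toMonoidHom ≤ Subgroup.closure S := by
      rw [MonoidHom.map_closure, Subgroup.closure_le]
      rintro _ ⟨y, hy, rfl⟩
      have hg : g ∈ normalizer S := htop ▸ Subgroup.mem_top g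
      exact Subgroup.subset_closure ((hg y).1 hy)
    exact h1 ⟨a, ha, rfl⟩
  rcases hG.2.1.eq_bot_or_eq_top_of_normal _ hn with e | e
  · exact absurd (Subgroup.mem_bot.1 (e ▸ Subgroup.subset_closure hx)) hx1
  · exact absurd (top_le_iff.1 (e ▸ (Subgroup.closure_le M).2 hSM)) hM.1

variable (hG : IsMinSimpleOddOrder G) (h13 : BG13 G) (hM : IsCoatom M)
  (hd : IsSigmaDecomposition M K U)
include hG h13 hM hd

/-- `M_s = M_σ`. -/
theorem typeCore_eq : typeCore M = sigmaCore M := by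
  unfold typeCore
  split_ifs with h
  · obtain ⟨hK, hU, -⟩ := (TypesIff.typeIII_IV_iff hG h13 hM hd).1 h
    rw [DecompP.commutator_eq hG h13 hM hd hK, hU, bot_sup_eq]
  · by_contra hne
    obtain ⟨hU, -, hK⟩ := fittingHall_ne_sigmaCore hG (bg15Input_of_bg13 hG h13) hM hd hne
    exact h ((TypesIff.typeIII_IV_iff hG h13 hM hd).2
      ⟨fun e => hK.ne_one (by rw [e, Subgroup.card_bot]), hU, hne⟩)

/-- `A(M)` lies in `A(M, U)`. -/
theorem mem_sigmaA_of_typeA' {a : G} (ha : a ∈ typeA' M) : a ∈ sigmaA M U ∧ a ≠ 1 := by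
  unfold typeA' at ha
  split_ifs at ha with hI
  · obtain ⟨haM, ha1, x, hx, hx1, hax⟩ := ha
    obtain ⟨hK, hU1⟩ := (TypesIff.typeI'_iff hG h13 hM hd).1 hI
    rw [TypesIff.fittingHall_eq_of_ne hG h13 hM hd hU1] at hx
    refine ⟨⟨⟨haM, x, hx, hx1, hax⟩, ?_⟩, ha1⟩
    obtain ⟨u, hu, b, hb, rfl⟩ := hd.compl.2.2.2 a haM
    rw [hK, bot_sup_eq] at hb
    exact Subgroup.mul_mem_sup hu hb
  · obtain ⟨haM, ha1, x, hx, hx1, hax⟩ := ha
    have hK : K ≠ ⊥ := fun e => hI ((TypesIff.typeI'_iff hG h13 hM hd).2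
      ⟨e, fun h => TypesIff.not_both_bot hG h13 hM hd ⟨e, h⟩⟩)
    rw [typeCore_eq hG h13 hM hd] at hx
    rw [DecompP.commutator_eq hG h13 hM hd hK] at haM
    exact ⟨⟨⟨Decomp.sup_le_coatom hd haM, x, hx, hx1, hax⟩, haM⟩, ha1⟩

/-- No prime of `κ(M)` divides the order of an element of `A(M, U)`. -/
theorem not_mem_kappa_of_sigmaA {a : G} (ha : a ∈ sigmaA M U) {p : ℕ} (hp : p.Prime)
    (hpa : p ∣ orderOf a) : p ∉ kappa M := by
  intro hk
  have h := hpa.trans (Subgroup.orderOf_dvd_natCard (U ⊔ sigmaCore M) ha.2)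
  rw [Decomp.card_right_sup hd] at h
  rcases hp.dvd_mul.1 h with h | h
  · exact Decomp.not_mem_kappa hd hp h hk
  · exact hk.2.2.1 (isPiGrp_piCoreOf (sigma M) M p hp h)

/-- An element of order divisible by no prime outside `σ(M)` and lying in `M` is in `M_σ`. -/
theorem mem_sigmaCore_of_orderOf {y : G} (hy : y ∈ M)
    (h : ∀ p : ℕ, p.Prime → p ∣ orderOf y → p ∈ sigma M) : y ∈ sigmaCore M :=
  le_sigmaCore_of_isPiGrp hG hM (Subgroup.zpowers_le.2 hy)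
    (fun p hp hpd => h p hp (by rwa [Nat.card_zpowers] at hpd)) (Subgroup.mem_zpowers y)

/-- Fusion in `A(M, U)` is done by `M`. -/
theorem sigmaA_fusion {x g : G} (hx : x ∈ sigmaA M U) (hx1 : x ≠ 1)
    (hgx : g * x * g⁻¹ ∈ sigmaA M U) : ∃ m ∈ M, m * x * m⁻¹ = g * x * g⁻¹ := by
  have ho : orderOf (g * x * g⁻¹) = orderOf x := MulEquiv.orderOf_eq (MulAut.conj g) x
  have hσ : ∀ y ∈ sigmaCore M, ∀ p : ℕ, p.Prime → p ∣ orderOf y → p ∈ sigma M := fun y hy p hp hpd =>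
    isPiGrp_piCoreOf (sigma M) M p hp (hpd.trans (Subgroup.orderOf_dvd_natCard _ hy))
  by_cases hxs : x ∈ sigmaCore M
  · have hgs : g * x * g⁻¹ ∈ sigmaCore M := mem_sigmaCore_of_orderOf hG h13 hM hd hgx.1.1
      fun p hp hpd => hσ x hxs p hp (ho ▸ hpd)
    obtain ⟨n, hn, e⟩ := HallFusion.fusion hG (bg15Input_of_bg13 hG h13) hM le_rfl
      (by rw [Subgroup.relIndex_self]; exact Nat.coprime_one_right _) x hxs g hgs
    exact ⟨n, hn.1, e⟩
  · have hgs : g * x * g⁻¹ ∉ sigmaCore M := fun h =>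
      hxs (mem_sigmaCore_of_orderOf hG h13 hM hd hx.1.1 fun p hp hpd => hσ _ h p hp (ho.symm ▸ hpd))
    have hg : g ∈ normalizer (sigmaA M U \ (sigmaCore M : Set G)) := by
      by_contra hg
      exact hx1 (Cfsg.Agent.S1362.result hG M hM K U hd g hg x ⟨hx, hxs⟩ ⟨hgx, hgs⟩)
    refine ⟨g, normalizer_le hG hM (S := sigmaA M U \ (sigmaCore M : Set G)) (fun a ha => ha.1.1.1)
      (fun m hm a ha => ⟨⟨?_, ?_⟩, ?_⟩) ⟨hx, hxs⟩ hx1 hg, rfl⟩
    · exact conj_mem_sigmaHat ha.1.1 hm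
    · exact (Subgroup.mem_normalizer_iff.1 (Decomp.le_normalizer_sup hd hm) a).1 ha.1.2
    · exact fun h => ha.2 ((Subgroup.mem_normalizer_iff.1 (le_normalizer_sigmaCore M hm) a).2 h)

variable (hK1 : K ≠ ⊥)
include hK1

/-- The extra part of `A₀(M)`, whatever the data of type P, is the set of `M`-conjugates of
`K K* ∖ (K ∪ K*)`. -/
theorem mem_hat {W₁ V W₂ : Subgroup G} (hP : IsTypePWith M W₁ V W₂) {m w : G} (hm : m ∈ M)
    (hw : w ∈ W₁ ⊔ W₂) (hw1 : w ∉ W₁) (hw2 : w ∉ W₂) :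
    m * w * m⁻¹ ∈ {a : G | ∃ n ∈ M, ∃ z ∈ ((↑(K ⊔ (sigmaCore M ⊓ centralizer (K : Set G))) : Set G) \
      ((K : Set G) ∪ ↑(sigmaCore M ⊓ centralizer (K : Set G)))), a = n * z * n⁻¹} := by
  set D := sigmaCore M ⊓ centralizer (K : Set G) with hD
  have hc := TypesIff.isComplIn_commutator hG h13 hM hd hK1
  have hW₁M : W₁ ≤ M := hP.W₁_compl.2.1
  have hcard : Nat.card W₁ = Nat.card K := Nat.eq_of_mul_eq_mul_left Nat.card_pos
    ((card_eq_of_isComplIn hP.W₁_compl).trans (card_eq_of_isComplIn hc).symm)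
  obtain ⟨s, hs, hsK⟩ := exists_conj_le_hall hG hM hd.hall hW₁M
    fun p hp hpd => hd.hall.2.1 p hp (hcard ▸ hpd)
  have hDK : D ≤ normalizer (K : Set G) :=
    (inf_le_right : D ≤ _).trans (Subgroup.centralizer_le_normalizer _)
  have hDd : D ≤ ⁅M, M⁆ := inf_le_left.trans (sigmaCore_le_commutator hG hM)
  have hW₂ : ∀ b ∈ W₂, s * b * s⁻¹ ∈ D := by
    intro b hb
    obtain ⟨k, hk, hk1⟩ := (Subgroup.bot_or_exists_ne_one W₁).resolve_left hP.W₁_ne
    have hk' : s * k * s⁻¹ ≠ 1 := fun e => hk1 (by rwa [conj_eq_one_iff] at e)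
    obtain ⟨hbd, hbc⟩ : b ∈ ⁅M, M⁆ ∧ b ∈ centralizer ({k} : Set G) :=
      (hP.W₂_centralizer k hk hk1).ge hb
    have hbk := Subgroup.mem_centralizer_singleton_iff.1 hbc
    have hd1 : s * b * s⁻¹ ∈ ⁅M, M⁆ := by
      have h : (⁅M, M⁆).map (MulAut.conj s).toMonoidHom = ⁅M, M⁆ := by
        rw [Subgroup.map_commutator, show M.map (MulAut.conj s).toMonoidHom = M from Subgroup.mem_normalizer_iff_map_conj_eq.1 (Subgroup.le_normalizer hs)]
      exact h.le ⟨b, hbd, rfl⟩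
    have hZ : s * b * s⁻¹ ∈ K ⊔ D := by
      rw [hD, ← (kappa_centralizer hG h13 hM hd.hall).2 hK1 _ (hsK k hk) hk']
      refine ⟨M.commutator_le_self hd1, Subgroup.mem_centralizer_singleton_iff.2 ?_⟩
      calc s * b * s⁻¹ * (s * k * s⁻¹) = s * (b * k) * s⁻¹ := by group
        _ = s * (k * b) * s⁻¹ := by rw [hbk]
        _ = s * k * s⁻¹ * (s * b * s⁻¹) := by group
    rw [sup_comm] at hZ
    obtain ⟨e, he, k', hk'', heq⟩ := (Coprime.mem_sup_iff_of_le_normalizer hDK).1 hZ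
    have h2 : k' ∈ ⁅M, M⁆ ⊓ K := ⟨((⁅M, M⁆).mul_mem_cancel_left (hDd he)).1 (heq ▸ hd1), hk''⟩
    rw [hc.2.2.1, Subgroup.mem_bot] at h2
    rw [← heq, h2, mul_one]
    exact he
  have hcomm : W₁ ≤ normalizer (W₂ : Set G) := fun a ha => Subgroup.centralizer_le_normalizer _
    (Subgroup.mem_centralizer_iff.2 fun b hb => (hP.selfNormalizing.2.2.2.1 a ha b hb).symm)
  obtain ⟨a, ha, b, hb, rfl⟩ := (Coprime.mem_sup_iff_of_le_normalizer hcomm).1 hw
  have e : s * (a * b) * s⁻¹ = (s * a * s⁻¹) * (s * b * s⁻¹) := by group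
  have hdis : K ⊓ D = ⊥ :=
    le_bot_iff.1 ((inf_le_inf_left K inf_le_left).trans (Decomp.inf_sigmaCore hd).le)
  refine ⟨m * s⁻¹, M.mul_mem hm (M.inv_mem hs), s * (a * b) * s⁻¹, ⟨?_, ?_⟩, by group⟩
  · rw [e]
    exact Subgroup.mul_mem_sup (hsK a ha) (hW₂ b hb)
  · rw [e]
    rintro (h | h)
    · refine hw1 ?_
      have h2 : s * b * s⁻¹ ∈ K ⊓ D := ⟨(K.mul_mem_cancel_left (hsK a ha)).1 h, hW₂ b hb⟩
      rw [hdis, Subgroup.mem_bot, conj_eq_one_iff] at h2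
      rwa [h2, mul_one]
    · refine hw2 ?_
      have h2 : s * a * s⁻¹ ∈ K ⊓ D := ⟨hsK a ha, (D.mul_mem_cancel_right (hW₂ b hb)).1 h⟩
      rw [hdis, Subgroup.mem_bot, conj_eq_one_iff] at h2
      rwa [h2, one_mul]

/-- A prime of `κ(M)` divides the order of every `M`-conjugate of an element of `K K* ∖ (K ∪ K*)`. -/
theorem exists_kappa_of_hat {a : G} (ha : a ∈ sigmaA0 M K \ sigmaA M U) :
    ∃ p : ℕ, p.Prime ∧ p ∣ orderOf a ∧ p ∈ kappa M := by
  by_contra h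
  push Not at h
  exact ha.2 ⟨ha.1.1, mem_sup_of_decomposition hd ha.1.1.1 h⟩

omit hK1

/-- Bender–Glauberman, Theorem II (fusion): two elements of `A(M)`, or of `A₀(M)`, conjugate in `G` are
conjugate in `M`. -/
theorem tame_fusion_of {x g : G} (hx : x ∈ typeA0' M) (hgx : g * x * g⁻¹ ∈ typeA0' M) :
    ∃ m ∈ M, m * x * m⁻¹ = g * x * g⁻¹ := by
  have key : ∀ a ∈ typeA0' M, (a ∈ sigmaA M U ∧ a ≠ 1) ∨
      (K ≠ ⊥ ∧ a ∈ sigmaA0 M K \ sigmaA M U) := by
    rintro a (ha | ⟨hI, W₁, V, W₂, hP, m, hm, w, hw, hw1, hw2, rfl⟩)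
    · exact Or.inl (mem_sigmaA_of_typeA' hG h13 hM hd ha)
    · have hK : K ≠ ⊥ := fun e => hI ((TypesIff.typeI'_iff hG h13 hM hd).2
        ⟨e, fun h => TypesIff.not_both_bot hG h13 hM hd ⟨e, h⟩⟩)
      exact Or.inr ⟨hK, (TheoremC.a0_diff_a hG h13 hM hd hK).1.le (mem_hat hG h13 hM hd hK hP hm hw hw1 hw2)⟩
  have ho : orderOf (g * x * g⁻¹) = orderOf x := MulEquiv.orderOf_eq (MulAut.conj g) x
  rcases key x hx with ⟨hxA, hx1⟩ | ⟨hK, hxS⟩ <;> rcases key _ hgx with ⟨hgA, -⟩ | ⟨hK', hgS⟩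
  · exact sigmaA_fusion hG h13 hM hd hxA hx1 hgA
  · obtain ⟨p, hp, hpd, hpk⟩ := exists_kappa_of_hat hG h13 hM hd hK' hgS
    exact absurd hpk (not_mem_kappa_of_sigmaA hG h13 hM hd hxA hp (ho ▸ hpd))
  · obtain ⟨p, hp, hpd, hpk⟩ := exists_kappa_of_hat hG h13 hM hd hK hxS
    exact absurd hpk (not_mem_kappa_of_sigmaA hG h13 hM hd hgA hp (ho.symm ▸ hpd))
  · obtain ⟨hS, hTI⟩ := TheoremC.a0_diff_a hG h13 hM hd hK
    have hx1 : x ≠ 1 := by
      rintro rfl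
      exact hxS.2 ⟨hxS.1.1, one_mem _⟩
    have hg : g ∈ normalizer (sigmaA0 M K \ sigmaA M U) := by
      by_contra hg
      exact hx1 (hTI g hg x hxS hgS)
    refine ⟨g, normalizer_le hG hM (fun a ha => ha.1.1.1) (fun m hm a ha => ?_) hxS hx1 hg, rfl⟩
    rw [← hS] at ha ⊢
    obtain ⟨n, hn, z, hz, rfl⟩ := ha
    exact ⟨m * n, M.mul_mem hm hn, z, hz, by group⟩

end Cfsg.Agent.OddOrder.TameFusion

namespace Cfsg.Agent.OddOrder

open Cfsg

/-- Bender–Glauberman, Theorem II: `A(M)` and `A₀(M)` have their fusion in `M`. -/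
theorem tame_fusion {G : Type*} [Group G] [Finite G] (hG : IsMinSimpleOddOrder G) (h13 : BG13 G)
    {M : Subgroup G} (hM : IsCoatom M) {X : Set G} (hX : X = typeA' M ∨ X = typeA0' M) :
    ∀ x ∈ X, ∀ g : G, g * x * g⁻¹ ∈ X → ∃ m ∈ M, m * x * m⁻¹ = g * x * g⁻¹ := by
  obtain ⟨K, U, hd⟩ := exists_decomposition hG h13 hM
  intro x hx g hg
  refine TameFusion.tame_fusion_of hG h13 hM hd ?_ ?_
  · rcases hX with rfl | rfl <;> [exact Or.inl hx; exact hx]
  · rcases hX with rfl | rfl <;> [exact Or.inl hg; exact hg]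

end Cfsg.Agent.OddOrder
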