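import Cfsg.Agent.Lib.OddOrder.TauThreeTools
import Cfsg.Agent.S1415
import Cfsg.Agent.S1420

/-!
# A fixed point of a `τ₃(M)` subgroup: the complement side (Bender–Glauberman 13.10)

`TauThreeFixed M E X p`: `X ≤ E` of order `p ∈ τ₃(M)` has nontrivial fixed points `Y` on `M_σ`. Then
`τ₂(M)` is empty, `E` centralises `Y` (`fixed_le_centralizer`), the primes of `Y` lie in `β(M)`, every
subgroup of prime order of `E` is normal in `E` and has the same fixed points `Y` (`line_fixed_eq`), and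
some Sylow subgroup of `E` at a prime of `τ₁(M)` moves `X` while its line centralises it.
-/

set_option autoImplicit false
set_option linter.style.haveILetI false
set_option linter.unusedSectionVars false

namespace Cfsg.Agent.OddOrder

open Cfsg
open Subgroup (centralizer normalizer zpowers)
open scoped Pointwise commutatorElement

universe u
variable {G : Type u} [Group G] [Finite G]

section
variable (hG : IsMinSimpleOddOrder G) {M E : Subgroup G} (hM : IsCoatom M)
  (hE : IsComplIn E (sigmaCore M) M)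
include hG hM hE

/-- A `τ₃(M)`-subgroup of prime power order lies in a cyclic normal Hall subgroup inside `E'`. -/
theorem exists_hall3 {P : Subgroup G} (hPE : P ≤ E) {t : ℕ} (hP : IsPGroup t P) (ht : t ∈ tau3 M) :
    ∃ E₃, P ≤ E₃ ∧ IsPiHallOf (tau3 M) E₃ E ∧ IsCyclic E₃ ∧ E₃ ≤ ⁅E, E⁆ ∧
      E ≤ normalizer (E₃ : Set G) := by
  haveI := Fact.mk ht.1
  obtain ⟨E₃, h, h3⟩ := exists_piHallOf_ge (tau3 M)
    (Coprime.isSolvable_of_le hE.1 (isSolvable_of_coatom hG hM)) hPE fun l hl hd => by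
      obtain ⟨j, hj⟩ := hP.exists_card_eq
      exact (Nat.prime_dvd_prime_iff_eq hl ht.1).1 (hl.dvd_of_dvd_pow (hj ▸ hd)) ▸ ht
  exact ⟨E₃, h, h3, (S1415.result hG M hM E hE).2.2 E₃ h3⟩

/-- A `τ₁(M)`-subgroup of prime power order lies in a cyclic Hall subgroup. -/
theorem exists_hall1 {P : Subgroup G} (hPE : P ≤ E) {t : ℕ} (hP : IsPGroup t P) (ht : t ∈ tau1 M) :
    ∃ E₁, P ≤ E₁ ∧ IsPiHallOf (tau1 M) E₁ E ∧ IsCyclic E₁ := by
  haveI := Fact.mk ht.1
  obtain ⟨E₁, h, h1⟩ := exists_piHallOf_ge (tau1 M)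
    (Coprime.isSolvable_of_le hE.1 (isSolvable_of_coatom hG hM)) hPE fun l hl hd => by
      obtain ⟨j, hj⟩ := hP.exists_card_eq
      exact (Nat.prime_dvd_prime_iff_eq hl ht.1).1 (hl.dvd_of_dvd_pow (hj ▸ hd)) ▸ ht
  exact ⟨E₁, h, h1, (S1415.result hG M hM E hE).2.1 E₁ h1⟩

/-- In a cyclic Sylow subgroup `T` of `E` a line has the fixed points of `T`. -/
theorem le_centralizer_of_semiprime {r : ℕ} [Fact r.Prime] {T R Q : Subgroup G} (hT : IsSyl r T E)
    (hTc : IsCyclic T) (hR : Nat.card R = r) (hRT : R ≤ T) (hQ : Q ≤ sigmaCore M)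
    (hRQ : R ≤ centralizer (Q : Set G)) : T ≤ centralizer (Q : Set G) := by
  obtain ⟨T₀, hT₀⟩ := hT
  have hT1 : (T₀ : Subgroup E) ≠ ⊥ := fun e => by
    rw [e, Subgroup.map_bot] at hT₀
    exact ne_bot_of_card_prime hR (le_bot_iff.1 (hT₀ ▸ hRT))
  have hT₀c : IsCyclic (T₀ : Subgroup E) :=
    haveI : IsCyclic ↥((T₀ : Subgroup E).map E.subtype) := by rw [hT₀]; exact hTc
    isCyclic_of_injective ((T₀ : Subgroup E).equivMapOfInjective _ E.subtype_injective).toMonoidHom
      (MulEquiv.injective _)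
  obtain ⟨x, -, hx1, rfl⟩ := exists_eq_zpowers hR
  have e := S1427.result hG M hM E hE r T₀ hT1 hT₀c x (hT₀ ▸ hRT (Subgroup.mem_zpowers x)) hx1
  have h1 : Q ≤ sigmaCore M ⊓ centralizer ({x} : Set G) := le_inf hQ
    ((Subgroup.le_centralizer_iff.1 hRQ).trans
      (Subgroup.centralizer_le (Set.singleton_subset_iff.2 (Subgroup.mem_zpowers x))))
  rw [e, hT₀] at h1
  exact Subgroup.le_centralizer_iff.1 (h1.trans inf_le_right)

/-- A Hall `τ₁`-subgroup moves every line of the cyclic normal Hall `τ₃`-subgroup inside `E'`. -/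
theorem not_le_centralizer_hall {E₃ E₁ X : Subgroup G} (h2 : ∀ t, t ∉ tau2 M)
    (h3 : IsPiHallOf (tau3 M) E₃ E) (hc : IsCyclic E₃) (hd : E₃ ≤ ⁅E, E⁆)
    (hn : E ≤ normalizer (E₃ : Set G)) (h1 : IsPiHallOf (tau1 M) E₁ E) (hX : X ≤ E₃) (hX1 : X ≠ ⊥) :
    ¬ E₁ ≤ centralizer (X : Set G) := by
  intro hle
  haveI : Group.IsSolvable E := Coprime.isSolvable_of_le hE.1 (isSolvable_of_coatom hG hM)
  set H := E₃.subgroupOf E
  set K := E₁.subgroupOf E
  haveI hHn : H.Normal := (Subgroup.normal_subgroupOf_iff_le_normalizer h3.1).2 hn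
  have hHc : (Nat.card H).Coprime H.index := Nat.coprime_of_dvd fun l hl h4 h5 => by
    rw [Coprime.card_subgroupOf h3.1] at h4
    exact h3.2.2 l hl (h3.2.1 l hl h4) h5
  have hdisj : E₃ ⊓ E₁ = ⊥ := Coprime.disjoint_of_coprime_card (Nat.coprime_of_dvd fun l hl h4 h5 =>
    (h1.2.1 l hl h5).2.2.2.1 (h3.2.1 l hl h4).2.2.1)
  have hsup := hall_sup_eq hG hM hE h2 h3 h1
  have hcompl : Subgroup.IsComplement' H K := by
    refine Subgroup.isComplement'_of_disjoint_and_mul_eq_univ (disjoint_iff.2 ?_)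
      (Set.eq_univ_of_forall fun m => ?_)
    · exact (Subgroup.eq_bot_iff_forall _).2 fun x hx => Subtype.ext (Subgroup.mem_bot.1 (hdisj.le ⟨hx.1, hx.2⟩))
    · have hm : (m : G) ∈ E₁ ⊔ E₃ := by rw [sup_comm, hsup]; exact m.2
      obtain ⟨a, ha, b, hb, hab⟩ :=
        (Coprime.mem_sup_iff_of_le_normalizer (h1.1.trans hn)).1 hm
      refine Set.mem_mul.2 ⟨⟨a, h1.1 ha⟩ * ⟨b, h3.1 hb⟩ * ⟨a, h1.1 ha⟩⁻¹, ?_, ⟨a, h1.1 ha⟩, ha, ?_⟩
      · exact hHn.conj_mem _ hb _
      · rw [inv_mul_cancel_right]; exact Subtype.ext hab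
  have hHd : H ≤ _root_.commutator E := by
    rw [← Subgroup.map_le_map_iff_of_injective E.subtype_injective, Subgroup.map_subtype_commutator,
      Subgroup.map_subgroupOf_eq_of_le h3.1]
    exact hd
  refine hX1 ((Subgroup.eq_bot_iff_forall _).2 fun x hx => ?_)
  have h4 := Subgroup.mem_map_of_mem E.subtype ((S1459.result.1 H K hHn hHc hcompl hHd).2
    (show (⟨x, h3.1 (hX hx)⟩ : E) ∈ H ⊓ centralizer (K : Set E) from ⟨hX hx,
      Subgroup.mem_centralizer_iff.2 fun k hk =>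
        Subtype.ext (Subgroup.mem_centralizer_iff.1 (hle hk) x hx).symm⟩))
  rw [Subgroup.map_commutator, Subgroup.map_subgroupOf_eq_of_le h3.1,
    show ⁅E₃, E₃⁆ = ⊥ from Subgroup.commutator_eq_bot_iff_le_centralizer.2 fun a ha =>
      Subgroup.mem_centralizer_iff.2 fun b hb => congrArg Subtype.val
        ((@IsCyclic.commGroup E₃ _ hc).mul_comm ⟨b, hb⟩ ⟨a, ha⟩)] at h4
  exact h4

end

/-- `X ≤ E` of order `p ∈ τ₃(M)` has fixed points on `M_σ`. -/
structure TauThreeFixed (M E X : Subgroup G) (p : ℕ) : Prop where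
  minSimple : IsMinSimpleOddOrder G
  coatom : IsCoatom M
  compl : IsComplIn E (sigmaCore M) M
  tau3 : p ∈ tau3 M
  le : X ≤ E
  card : Nat.card X = p
  ne_bot : sigmaCore M ⊓ centralizer (X : Set G) ≠ ⊥

namespace TauThreeFixed

variable {M E X : Subgroup G} {p : ℕ} (h : TauThreeFixed M E X p)
include h

theorem X_le_M : X ≤ M := h.le.trans h.compl.1

theorem E_le_normalizer : E ≤ normalizer (X : Set G) := by
  haveI := Fact.mk h.tau3.1
  obtain ⟨E₃, hX, -, hc, -, hn⟩ :=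
    exists_hall3 h.minSimple h.coatom h.compl h.le (isPGroup_of_card_prime h.card) h.tau3
  exact hn.trans (normalizer_le_of_cyclic hc hX)

theorem X_le_derived : X ≤ ⁅E, E⁆ := by
  haveI := Fact.mk h.tau3.1
  obtain ⟨E₃, hX, -, -, hd, -⟩ :=
    exists_hall3 h.minSimple h.coatom h.compl h.le (isPGroup_of_card_prime h.card) h.tau3
  exact hX.trans hd

theorem exists_over : ∃ L : Subgroup G, IsCoatom L ∧ normalizer (X : Set G) ≤ L :=
  haveI := Fact.mk h.tau3.1
  exists_coatom_ge (normalizer_ne_top_of_pgroup h.minSimple (isPGroup_of_card_prime h.card)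
    (ne_bot_of_card_prime h.card))

theorem notConj {L : Subgroup G} (hL : IsCoatom L) (hNX : normalizer (X : Set G) ≤ L) : NotConj M L :=
  haveI := Fact.mk h.tau3.1
  (centralizer_norm_tau13 h.minSimple h.coatom hL h.tau3.2.1 h.tau3.2.2.2 h.card hNX).1

theorem inter_eq {L : Subgroup G} (hL : IsCoatom L) (hNX : normalizer (X : Set G) ≤ L) :
    sigmaCore M ⊓ L = sigmaCore M ⊓ centralizer (X : Set G) := by
  haveI := Fact.mk h.tau3.1
  have hX := (centralizer_norm_tau13 h.minSimple h.coatom hL h.tau3.2.1 h.tau3.2.2.2 h.card hNX).2.2 X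
    (isPGroup_of_card_prime h.card) h.X_le_M (Subgroup.le_normalizer.trans hNX)
  exact le_antisymm (le_inf inf_le_left (Subgroup.le_centralizer_iff.1 hX))
    (inf_le_inf_left _ ((Subgroup.centralizer_le_normalizer _).trans hNX))

theorem not_tau2 (t : ℕ) : t ∉ tau2 M := by
  intro ht
  have hG := h.minSimple
  haveI := Fact.mk ht.1
  obtain ⟨L, hL, hNX⟩ := h.exists_over
  obtain ⟨A, hAE, hA, hAc⟩ := exists_square_le_compl h.compl ht.2.1 ht.2.2.2
  have hAM : A ≤ M := hAE.trans h.compl.1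
  have hAL : A ≤ L := (hAE.trans h.E_le_normalizer).trans hNX
  have h1 := le_centralizer_inter hG h.coatom hL (h.notConj hL hNX) ht.2.1
    (PGroup.isPGroup_of_elementaryAbelian hA) hAM hAL
    fun h1 => not_pRankLE_of_elementary hA hAL hAc.ge h1.2.2.2.2
  rw [h.inter_eq hL hNX] at h1
  obtain ⟨-, -, -, hfix, -⟩ := S1417.result hG M h.coatom t ht A ⟨hAM, hA, hAc⟩
  exact h.ne_bot (le_bot_iff.1 ((le_inf inf_le_left (Subgroup.le_centralizer_iff.1 h1)).trans hfix.le))

theorem rank_one {t : ℕ} [Fact t.Prime] (hd : t ∣ Nat.card E) : PRankLE t 1 M :=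
  by_contra fun hr => h.not_tau2 t
    (mem_tau2 h.minSimple h.coatom Fact.out
      (not_mem_sigma_of_compl h.minSimple h.coatom h.compl Fact.out hd) hr)

theorem mem_tau1_or_tau3 {t : ℕ} [Fact t.Prime] (hd : t ∣ Nat.card E) : t ∈ tau1 M ∨ t ∈ Cfsg.tau3 M := by
  have hs := not_mem_sigma_of_compl h.minSimple h.coatom h.compl Fact.out hd
  by_cases hd' : t ∣ Nat.card ↥⁅M, M⁆
  · exact Or.inr ⟨Fact.out, hs, hd', h.rank_one hd⟩
  · exact Or.inl ⟨Fact.out, hs, hd.trans (Subgroup.card_dvd_of_le h.compl.1), hd', h.rank_one hd⟩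

theorem coprime : (Nat.card E).Coprime (Nat.card (sigmaCore M)) := Nat.coprime_of_dvd fun l hl h1 h2 =>
  not_mem_sigma_of_compl h.minSimple h.coatom h.compl hl h1 (isPiGrp_piCoreOf (sigma M) M l hl h2)

theorem derived_le_centralizer_fixed :
    ⁅E, E⁆ ≤ centralizer ((sigmaCore M ⊓ centralizer (X : Set G) : Subgroup G) : Set G) := by
  obtain ⟨L, hL, hNX⟩ := h.exists_over
  rw [← h.inter_eq hL hNX]
  refine le_of_forall_sylow fun t ht hd S => ?_
  haveI := Fact.mk ht
  have hEL : E ≤ L := h.E_le_normalizer.trans hNX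
  have hle : (S : Subgroup ↥⁅E, E⁆).map (⁅E, E⁆).subtype ≤ E :=
    (Subgroup.map_subtype_le _).trans (Subgroup.commutator_le_self E)
  exact le_centralizer_inter h.minSimple h.coatom hL (h.notConj hL hNX)
    (not_mem_sigma_of_compl h.minSimple h.coatom h.compl ht
      (hd.trans (Subgroup.card_dvd_of_le (Subgroup.commutator_le_self E))))
    (S.2.map _) (hle.trans h.compl.1) (hle.trans hEL)
    fun h1 => h1.2.2.2.1 (hd.trans (Subgroup.card_dvd_of_le (Subgroup.commutator_mono hEL hEL)))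

/-- Off `β(M)`, an `E`-invariant Sylow subgroup at a prime of `σ(M)` lies in the fixed points of `X`. -/
theorem exists_sylow_fixed {q : ℕ} [Fact q.Prime] (hq : q ∈ sigma M) (hqb : q ∉ beta M) {U : Subgroup G}
    (hU : IsPGroup q U) (hUσ : U ≤ sigmaCore M) (hEU : E ≤ normalizer (U : Set G)) :
    ∃ Q : Sylow q G, U ≤ (Q : Subgroup G) ∧
      (Q : Subgroup G) ≤ sigmaCore M ⊓ centralizer (X : Set G) ∧
      E ≤ normalizer ((Q : Subgroup G) : Set G) ∧ IsSyl q (Q : Subgroup G) M ∧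
      IsMulCommutative (Q : Subgroup G) := by
  have hG := h.minSimple
  obtain ⟨Q, hUQ, hQσ, hEQ⟩ := exists_sylow_sigmaCore_ge hG h.coatom hq
    (compl_le_normalizer h.minSimple h.compl) h.coprime hUσ hU hEU
  have hQM : (Q : Subgroup G) ≤ M := hQσ.trans (piCoreOf_le _ M)
  have hc := derived_le_centralizer hG h.coatom hq.2.1 hqb h.compl.1
    (fun hd => not_mem_sigma_of_compl hG h.coatom h.compl Fact.out hd hq) Q.2
    (hQσ.trans (sigmaCore_le_commutator hG h.coatom)) hEQ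
  have hQY : (Q : Subgroup G) ≤ sigmaCore M ⊓ centralizer (X : Set G) :=
    le_inf hQσ ((Subgroup.le_centralizer_iff.1 hc).trans (Subgroup.centralizer_le h.X_le_derived))
  refine ⟨Q, hUQ, hQY, hEQ, ⟨Q.subtype hQM, ?_⟩, ?_⟩
  · rw [Sylow.coe_subtype, Subgroup.map_subgroupOf_eq_of_le hQM]
  · by_contra hna
    obtain ⟨L, hL, hNX⟩ := h.exists_over
    exact (h.notConj hL hNX).ne ((S1422.result hG q Q Q.2 hna).unique
      ⟨hL, (hQY.trans inf_le_right).trans ((Subgroup.centralizer_le_normalizer _).trans hNX)⟩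
      ⟨h.coatom, hQM⟩)

/-- `E` centralises the fixed points of `X`. -/
theorem fixed_le_centralizer :
    E ≤ centralizer ((sigmaCore M ⊓ centralizer (X : Set G) : Subgroup G) : Set G) := by
  have hG := h.minSimple
  have hM := h.coatom
  have hE := h.compl
  haveI := Fact.mk h.tau3.1
  obtain ⟨L, hL, hNX⟩ := h.exists_over
  have hn := h.notConj hL hNX
  have hEL : E ≤ L := h.E_le_normalizer.trans hNX
  set Y := sigmaCore M ⊓ centralizer (X : Set G)
  have hYeq : sigmaCore M ⊓ L = Y := h.inter_eq hL hNX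
  have hEY : E ≤ normalizer (Y : Set G) :=
    hYeq ▸ Coprime.le_normalizer_inf_of_le (compl_le_normalizer hG hE) (hEL.trans Subgroup.le_normalizer)
  by_contra hmove
  obtain ⟨q, U, hqp, hU, hUY, hEU, hUm⟩ : ∃ (q : ℕ) (U : Subgroup G), q.Prime ∧ IsPGroup q U ∧ U ≤ Y ∧
      E ≤ normalizer (U : Set G) ∧ ¬ E ≤ centralizer (U : Set G) := by
    by_contra hall
    push Not at hall
    refine hmove (Subgroup.le_centralizer_iff.1 (inf_eq_left.1
      (Coprime.eq_of_forall_invariant_pgroup_le hEY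
        (h.coprime.coprime_dvd_right (Subgroup.card_dvd_of_le inf_le_left))
        (Or.inl (Coprime.isSolvable_of_le hE.1 (isSolvable_of_coatom hG hM))) inf_le_left
        fun q U hq hU hUY hEU => le_inf hUY (Subgroup.le_centralizer_iff.1 (hall q U hq hU hUY hEU)))))
  haveI := Fact.mk hqp
  have hU1 : U ≠ ⊥ := fun e => hUm (e ▸ fun a _ => Subgroup.mem_centralizer_iff.2 fun u hu => by
    rw [Subgroup.mem_bot.1 hu]; simp)
  have hq : q ∈ sigma M :=
    isPiGrp_piCoreOf (sigma M) M q hqp (dvd_card_of_ne_bot hU hU1 (hUY.trans inf_le_left))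
  -- the subgroup `Q`
  obtain ⟨Q, hQY, hQ, hUQ, hQc, hEQ, hNQ, hqL, hqr⟩ : ∃ Q : Subgroup G, Q ≤ Y ∧ IsPGroup q Q ∧ U ≤ Q ∧
      IsCyclic Q ∧ E ≤ normalizer (Q : Set G) ∧ normalizer (Q : Set G) ≤ M ∧ q ∉ sigma L ∧
      PRankLE q 1 L := by
    by_cases hqb : q ∈ beta M
    · obtain ⟨S, hUS, hES⟩ := Coprime.exists_invariant_sylow_ge hEY
        (h.coprime.coprime_dvd_right (Subgroup.card_dvd_of_le inf_le_left))
        (Or.inl (Coprime.isSolvable_of_le hE.1 (isSolvable_of_coatom hG hM))) hUY hU hEU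
      set Q := (S : Subgroup Y).map Y.subtype
      have hQY : Q ≤ Y := Subgroup.map_subtype_le _
      have hQ : IsPGroup q Q := S.2.map _
      have hQM : Q ≤ M := (hQY.trans inf_le_left).trans (piCoreOf_le _ M)
      obtain ⟨S', hS'⟩ := exists_sylow_map_ge hQ hQM
      have hQα : Q ≤ alphaCore M := hS'.trans (sylow_le_alphaCore hG hM hqb.1 S')
      have hQc : IsCyclic Q := IsolatedP.isCyclic_of_pRankLE_one
        (ne_two_of_minSimple hG hU hU1) hQ (pRankLE_of_le (le_inf hQα (hQY.trans inf_le_right))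
          (rankLE_one_alphaCore hG hM h.tau3.2.1 h.tau3.2.2.2 h.X_le_M h.card q hqp))
      obtain ⟨Z, hZ, hZc⟩ := exists_le_card_prime hQ (ne_bot_of_le_ne_bot hU1 hUS)
      exact ⟨Q, hQY, hQ, hUS, hQc, hES,
        (normalizer_le_of_cyclic hQc hZ).trans (normalizer_le_of_beta hG hM hqb (hZ.trans hQM) hZc),
        rank_one_of_beta hG hM hL hn hqb⟩
    · obtain ⟨P, hUP, hPY, hEP, hsyl, hab⟩ := h.exists_sylow_fixed hq hqb hU (hUY.trans inf_le_left) hEU
      set Q := (P : Subgroup G)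
      have hNQ : normalizer (Q : Set G) ≤ M := hsyl.sigma_normalizer_le hq
      have hQL : Q ≤ L := (hPY.trans hYeq.ge).trans inf_le_right
      have hqL : q ∉ sigma L := fun hs => by
        obtain ⟨g, hg⟩ := sigmaPartition hG M L hM hL ⟨q, hq, hs⟩
        exact hn g hg
      have hqr : PRankLE q 1 L := by
        by_contra hr
        have h2 := mem_tau2 hG hL hqp hqL hr
        obtain ⟨EL, hEL', hQEL⟩ := exists_compl_ge hG hL hQL fun l hl hd => by
          obtain ⟨j, hj⟩ := P.2.exists_card_eq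
          exact (Nat.prime_dvd_prime_iff_eq hl hqp).1 (hl.dvd_of_dvd_pow (hj ▸ hd)) ▸ hqL
        obtain ⟨S, A, hS, hSE, hQS, hAS, hA, hAc⟩ := exists_square_compl hG h2 hEL' P.2 hQEL
        have hSQ : S = Q := P.3 hS.isPGroup hQS
        have hAQ : A ≤ Q := hSQ ▸ hAS
        have hAM : A ≤ M := hAQ.trans (Subgroup.le_normalizer.trans hNQ)
        have hNA : normalizer (A : Set G) ≤ M := (S1420.result hG M hM E hE).2.2.1 q A hq
          (P.2.to_le hAQ) hAM (square_not_cyclic hA hAc)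
        have hXA : X ≤ centralizer (A : Set G) :=
          (Subgroup.le_centralizer_iff.1 (hPY.trans inf_le_right)).trans (Subgroup.centralizer_le hAQ)
        have hXL : X ≤ L := Subgroup.le_normalizer.trans hNX
        rcases mem_sigma_or_tau2 hG hL h.card hNX with hp | hp
        · have hXσ : X ≤ sigmaCore L := le_sigmaCore_of_isPiGrp hG hL hXL fun l hl hd => by
            rw [h.card] at hd
            exact (Nat.prime_dvd_prime_iff_eq hl Fact.out).1 hd ▸ hp
          obtain ⟨-, -, -, hfix, -⟩ := S1417.result hG L hL q h2 A ⟨hAQ.trans hQL, hA, hAc⟩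
          exact ne_bot_of_card_prime h.card (le_bot_iff.1 ((le_inf hXσ hXA).trans hfix.le))
        · obtain ⟨B, hBE, hB, hBc⟩ := exists_square_le_compl hEL' hp.2.1 hp.2.2.2
          have hAn := (S1418.result hG L hL EL hEL' q h2 A ⟨hAS.trans hSE, hA, hAc⟩).1.1
          have hBn := (S1418.result hG L hL EL hEL' p hp B ⟨hBE, hB, hBc⟩).1.1
          have hpq : p ≠ q := fun e => h.tau3.2.1 (e ▸ hq)
          have hBA : B ≤ centralizer (A : Set G) :=
            Subgroup.commutator_eq_bot_iff_le_centralizer.1 (le_bot_iff.1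
              ((le_inf (Coprime.commutator_le_left_of_le_normalizer ((hAS.trans hSE).trans hBn))
                ((Subgroup.commutator_comm B A).le.trans
                  (Coprime.commutator_le_left_of_le_normalizer (hBE.trans hAn)))).trans
              (Coprime.disjoint_of_coprime_card (by
                rw [hBc, hAc]; exact ((Nat.coprime_primes Fact.out hqp).2 hpq).pow 2 2)).le))
          exact not_pRankLE_of_elementary hB (hBA.trans ((Subgroup.centralizer_le_normalizer _).trans hNA))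
            hBc.ge h.tau3.2.2.2
      exact ⟨Q, hPY, P.2, hUP, isCyclic_of_rank_one hG hqr hQL P.2, hEP, hNQ, hqL, hqr⟩
  have hQm : ¬ E ≤ centralizer (Q : Set G) := fun hle => hUm (hle.trans (Subgroup.centralizer_le hUQ))
  have hQσ : Q ≤ sigmaCore M := hQY.trans inf_le_left
  have hQL : Q ≤ L := (hQY.trans hYeq.ge).trans inf_le_right
  -- a Sylow subgroup of `E` moving `Q`
  obtain ⟨r, hr, hrd, T₀, hT₀⟩ : ∃ (r : ℕ) (_ : r.Prime), r ∣ Nat.card E ∧ ∃ T : Sylow r E,
      ¬ (T : Subgroup E).map E.subtype ≤ centralizer (Q : Set G) := by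
    by_contra hc
    push Not at hc
    exact hQm (le_of_forall_sylow fun r hr hd T => hc r hr hd T)
  haveI := Fact.mk hr
  set T := (T₀ : Subgroup E).map E.subtype
  have hT : IsSyl r T E := ⟨T₀, rfl⟩
  have hdY := h.derived_le_centralizer_fixed
  have hnd : ∀ (l : ℕ) (S : Subgroup G), IsPGroup l S → S ≤ E → l ∈ Cfsg.tau3 M →
      S ≤ centralizer (Q : Set G) := fun l S hS hSE hl => by
    obtain ⟨E₃, hS3, -, -, hd3, -⟩ := exists_hall3 hG hM hE hSE hS hl
    exact (hS3.trans (hd3.trans hdY)).trans (Subgroup.centralizer_le hQY)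
  have hrM : r ∈ tau1 M := (h.mem_tau1_or_tau3 hrd).resolve_right fun h3 => hT₀ (hnd r T hT.isPGroup hT.le h3)
  have key : ∀ (l : ℕ) [Fact l.Prime] (S : Subgroup G), IsPGroup l S → S ≤ E → l ∈ tau1 M →
      ¬ S ≤ centralizer (Q : Set G) → l ∈ tau1 L := fun l _ S hS hSE hl hSm => by
    by_contra ht
    refine hSm ((le_centralizer_inter hG hM hL hn hl.2.1 hS (hSE.trans hE.1) (hSE.trans hEL) ht).trans
      (Subgroup.centralizer_le (hQY.trans hYeq.ge)))
  have hTc : IsCyclic T := isCyclic_of_rank_one hG hrM.2.2.2.2 (hT.le.trans hE.1) hT.isPGroup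
  obtain ⟨R, hRT, hR⟩ := exists_le_card_prime hT.isPGroup (fun e => hT₀ (e ▸ bot_le))
  have hRE : R ≤ E := hRT.trans hT.le
  have hRm : ¬ R ≤ centralizer (Q : Set G) := fun hle =>
    hT₀ (le_centralizer_of_semiprime hG hM hE hT hTc hR hRT hQσ hle)
  have hcopQ : ∀ (l : ℕ) (S : Subgroup G), l ∈ tau1 M → Nat.card S = l →
      (Nat.card S).Coprime (Nat.card Q) := fun l S hl hS => by
    obtain ⟨k, hk⟩ := hQ.exists_card_eq
    rw [hS, hk]
    exact ((Nat.coprime_primes hl.1 hqp).2 fun e => hl.2.1 (e ▸ hq)).pow_right k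
  have hsolv : ∀ S : Subgroup G, S ≤ E → Group.IsSolvable S := fun S hS =>
    Coprime.isSolvable_of_le (hS.trans hE.1) (isSolvable_of_coatom hG hM)
  have hQR : ⁅Q, R⁆ = Q :=
    commutator_eq_of_cyclic hQ hQc (hsolv R hRE) (hRE.trans hEQ) (hcopQ r R hrM hR) hRm
  have hQd : Q ≤ ⁅L, L⁆ := hQR.ge.trans (Subgroup.commutator_mono hQL (hRE.trans hEL))
  have hQ1 : Q ≠ ⊥ := ne_bot_of_le_ne_bot hU1 hUQ
  have hq3 : q ∈ Cfsg.tau3 L := ⟨hqp, hqL, dvd_card_of_ne_bot hQ hQ1 hQd, hqr⟩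
  have hXQ : X ≤ centralizer (Q : Set G) := Subgroup.le_centralizer_iff.1 (hQY.trans inf_le_right)
  have hXL : X ≤ L := Subgroup.le_normalizer.trans hNX
  -- `p ∈ σ(L)`
  have hpL : p ∈ sigma L := by
    refine (mem_sigma_or_tau2 hG hL h.card hNX).resolve_right fun hp2 => ?_
    obtain ⟨EL, hEL', hYE⟩ := exists_compl_ge hG hL (sup_le hXL hQL) fun l hl hd => by
      rcases prime_dvd_sup (hXQ.trans (Subgroup.centralizer_le_normalizer _)) hl hd with h1 | h1
      · rw [h.card] at h1; exact (Nat.prime_dvd_prime_iff_eq hl Fact.out).1 h1 ▸ hp2.2.1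
      · obtain ⟨j, hj⟩ := hQ.exists_card_eq
        exact (Nat.prime_dvd_prime_iff_eq hl hqp).1 (hl.dvd_of_dvd_pow (hj ▸ h1)) ▸ hqL
    obtain ⟨E₃, hQ3, -, hc3, -, hn3⟩ := exists_hall3 hG hL hEL' (le_sup_right.trans hYE) hQ hq3
    obtain ⟨B, hBE, hB, hBc⟩ := exists_square_le_compl hEL' hp2.2.1 hp2.2.2.2
    exact not_pRankLE_of_elementary hB
      (((hBE.trans hn3).trans (normalizer_le_of_cyclic hc3 hQ3)).trans hNQ) hBc.ge h.tau3.2.2.2
  -- a `τ₁` line moving both `X` and `Q`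
  obtain ⟨E₃, hX3, h3, hc3, hd3, hn3⟩ :=
    exists_hall3 hG hM hE h.le (isPGroup_of_card_prime h.card) h.tau3
  obtain ⟨E₁, hR1, h1, hc1⟩ := exists_hall1 hG hM hE hRE (isPGroup_of_card_prime hR) hrM
  obtain ⟨r', hr', hrd', S, hS⟩ : ∃ (r' : ℕ) (_ : r'.Prime), r' ∣ Nat.card E₁ ∧ ∃ S : Sylow r' E₁,
      ¬ (S : Subgroup E₁).map E₁.subtype ≤ centralizer (X : Set G) := by
    by_contra hc
    push Not at hc
    exact not_le_centralizer_hall hG hM hE h.not_tau2 h3 hc3 hd3 hn3 h1 hX3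
      (ne_bot_of_card_prime h.card) (le_of_forall_sylow fun r hr hd T => hc r hr hd T)
  haveI := Fact.mk hr'
  set T' := (S : Subgroup E₁).map E₁.subtype
  have hr1 : r' ∈ tau1 M := h1.2.1 r' hr' hrd'
  have hT' : IsSyl r' T' E := IsSyl.of_hall h1 hr1 ⟨S, rfl⟩
  have hT'c : IsCyclic T' := isCyclic_of_rank_one hG hr1.2.2.2.2 (hT'.le.trans hE.1) hT'.isPGroup
  obtain ⟨R', hR'T, hR'⟩ := exists_le_card_prime hT'.isPGroup (fun e => hS (e ▸ bot_le))
  have hR'E : R' ≤ E := hR'T.trans hT'.le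
  have hR'1 : R' ≤ E₁ := hR'T.trans (Subgroup.map_subtype_le _)
  have hcomm : R' ≤ centralizer (R : Set G) := fun a ha => Subgroup.mem_centralizer_iff.2 fun b hb =>
    congrArg Subtype.val ((@IsCyclic.commGroup E₁ _ hc1).mul_comm ⟨b, hR1 hb⟩ ⟨a, hR'1 ha⟩)
  have hR'm : ¬ R' ≤ centralizer (Q : Set G) := fun hle => by
    have h2 := (le_inf hQσ (Subgroup.le_centralizer_iff.1 hle)).trans
      (S1428.result hG M hM E hE r' hr1 R' hR'E hR' R (le_inf hRE (Subgroup.le_centralizer_iff.1 hcomm))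
        (hR ▸ hr))
    exact hRm (Subgroup.le_centralizer_iff.1 (h2.trans inf_le_right))
  have hr'L : r' ∈ tau1 L := key r' T' hT'.isPGroup hT'.le hr1 fun hle => hR'm (hR'T.trans hle)
  have hXσ : X ≤ sigmaCore L := le_sigmaCore_of_isPiGrp hG hL hXL fun l hl hd => by
    rw [h.card] at hd
    exact (Nat.prime_dvd_prime_iff_eq hl Fact.out).1 hd ▸ hpL
  have hR'X : ¬ R' ≤ centralizer (X : Set G) := fun hle => by
    obtain ⟨EL, hEL', hT'EL⟩ := exists_compl_ge hG hL (hT'.le.trans hEL) fun l hl hd => by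
      obtain ⟨j, hj⟩ := hT'.isPGroup.exists_card_eq
      exact (Nat.prime_dvd_prime_iff_eq hl hr').1 (hl.dvd_of_dvd_pow (hj ▸ hd)) ▸ hr'L.2.1
    obtain ⟨TL, hTL, hT'TL⟩ := exists_isSyl_ge hT'.isPGroup hT'EL
    exact hS (hT'TL.trans (le_centralizer_of_semiprime hG hL hEL' hTL
      (isCyclic_of_rank_one hG hr'L.2.2.2.2 (hTL.le.trans hEL'.1) hTL.isPGroup) hR'
      (hR'T.trans hT'TL) hXσ hle))
  have hXc : IsCyclic X := isCyclic_of_prime_card h.card
  refine FixedPair.not_exists (M := M) (L := L) (X := X) (Q := Q) (R := R') (p := p) (q := q) (r := r')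
    ⟨hG, hM, hL, hn, h.tau3, hq3, hq, hpL, isPGroup_of_card_prime h.card, hQ,
      ne_bot_of_card_prime h.card, hQ1, hXQ, h.X_le_M, hQL, hNX, hNQ, hR', hr1, hr'L,
      hR'E.trans h.E_le_normalizer, hR'E.trans hEQ, ?_,
      commutator_eq_of_cyclic hQ hQc (hsolv R' hR'E) (hR'E.trans hEQ) (hcopQ r' R' hr1 hR') hR'm⟩
  refine commutator_eq_of_cyclic (isPGroup_of_card_prime h.card) hXc (hsolv R' hR'E)
    (hR'E.trans h.E_le_normalizer) ?_ hR'X
  rw [hR', h.card]
  exact (Nat.coprime_primes hr' Fact.out).2 fun e => hr1.2.2.2.1 (e ▸ h.tau3.2.2.1)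

/-- The primes of the fixed points of `X` lie in `β(M)`. -/
theorem mem_beta {q : ℕ} [Fact q.Prime] (hd : q ∣ Nat.card ↥(sigmaCore M ⊓ centralizer (X : Set G))) :
    q ∈ beta M := by
  have hG := h.minSimple
  have hM := h.coatom
  have hq : q ∈ sigma M :=
    isPiGrp_piCoreOf (sigma M) M q Fact.out (hd.trans (Subgroup.card_dvd_of_le inf_le_left))
  by_contra hqb
  obtain ⟨P, -, hPY, -, -, hab⟩ := h.exists_sylow_fixed hq hqb (U := ⊥) IsPGroup.of_bot bot_le
    (le_top.trans (Subgroup.normalizer_eq_top (H := (⊥ : Subgroup G))).ge)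
  obtain ⟨Z, hZP, hZ⟩ := exists_le_card_prime P.2
    (P.ne_bot_of_dvd_card (hd.trans (Subgroup.card_subgroup_dvd_card _)))
  have hZY := hZP.trans hPY
  have hZd : Z ≤ ⁅sigmaCore M, sigmaCore M⁆ :=
    (le_inf (hZY.trans inf_le_left) ((Subgroup.le_centralizer_iff.1
      (h.fixed_le_centralizer.trans (Subgroup.centralizer_le hZY))))).trans
      (S1426.result hG M hM E h.compl).1
  obtain ⟨R', -, hZR'⟩ := exists_sylow_derived_ge hG hM hq hqb (isPGroup_of_card_prime hZ) hZd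
  obtain ⟨a, ha⟩ := MulAction.exists_smul_eq G P R'
  have hR'ab : IsMulCommutative (R' : Subgroup G) := by
    rw [← ha, Sylow.coe_subgroup_smul]
    haveI := hab
    exact Subgroup.map_isMulCommutative (P : Subgroup G) (MulAut.conj a).toMonoidHom
  have h0 : ⁅(R' : Subgroup G), (R' : Subgroup G)⁆ = ⊥ := by
    rw [Subgroup.commutator_eq_bot_iff_le_centralizer]
    haveI := hR'ab
    exact fun x hx => Subgroup.mem_centralizer_iff.2 fun y hy => setLike_mul_comm hy hx
  exact ne_bot_of_card_prime hZ (le_bot_iff.1 (hZR'.trans h0.le))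

/-- A point of prime order of `Y`. -/
theorem exists_point : ∃ (q : ℕ) (Z : Subgroup G), q ∈ beta M ∧ Nat.card Z = q ∧
    Z ≤ sigmaCore M ⊓ centralizer (X : Set G) := by
  obtain ⟨q, hq, hd⟩ := Nat.exists_prime_and_dvd fun e => h.ne_bot (Subgroup.card_eq_one.1 e)
  haveI := Fact.mk hq
  obtain ⟨z, hz⟩ := exists_prime_orderOf_dvd_card' q hd
  rw [← Subgroup.orderOf_coe] at hz
  exact ⟨q, zpowers (z : G), h.mem_beta hd, by rw [Nat.card_zpowers, hz], Subgroup.zpowers_le.2 z.2⟩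

/-- A `τ₁(M)` line of `E` centralises `X`. -/
theorem tau1_centralizer {R : Subgroup G} (hRE : R ≤ E) {r : ℕ} (hr : r ∈ tau1 M) (hR : Nat.card R = r) :
    R ≤ centralizer (X : Set G) := by
  have hG := h.minSimple
  have hM := h.coatom
  haveI := Fact.mk h.tau3.1
  haveI := Fact.mk hr.1
  by_contra hm
  obtain ⟨q, Z, hqb, hZ, hZY⟩ := h.exists_point
  haveI := Fact.mk hqb.1.1
  have hq := alpha_subset_sigma hG hM hqb.1
  have hEZ : E ≤ centralizer (Z : Set G) := h.fixed_le_centralizer.trans (Subgroup.centralizer_le hZY)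
  obtain ⟨P, hZP, hPσ, hEP⟩ := exists_sylow_sigmaCore_ge hG hM hq (compl_le_normalizer h.minSimple h.compl) h.coprime
    (hZY.trans inf_le_left) (isPGroup_of_card_prime hZ) (hEZ.trans (Subgroup.centralizer_le_normalizer _))
  set U := (P : Subgroup G)
  have hUM : U ≤ M := hPσ.trans (piCoreOf_le _ M)
  obtain ⟨S, hS⟩ := exists_sylow_map_ge P.2 hUM
  have hUS : (S : Subgroup M).map M.subtype = U := P.3 (S.2.map _) hS
  have hUα : U ≤ alphaCore M := hUS ▸ sylow_le_alphaCore hG hM hqb.1 S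
  have hq2 : q ≠ 2 := ne_two_of_minSimple hG P.2 (ne_bot_of_le_ne_bot (ne_bot_of_card_prime hZ) hZP)
  have hXR : ⁅X, R⁆ = X := by
    refine commutator_eq_of_cyclic (isPGroup_of_card_prime h.card) (isCyclic_of_prime_card h.card)
      (Coprime.isSolvable_of_le (hRE.trans h.compl.1) (isSolvable_of_coatom hG hM))
      (hRE.trans h.E_le_normalizer) ?_ hm
    rw [hR, h.card]
    exact (Nat.coprime_primes hr.1 h.tau3.1).2 fun e => hr.2.2.2.1 (e ▸ h.tau3.2.2.1)
  have hcop : (Nat.card R).Coprime (Nat.card X) := by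
    rw [hR, h.card]
    exact (Nat.coprime_primes hr.1 h.tau3.1).2 fun e => hr.2.2.2.1 (e ▸ h.tau3.2.2.1)
  haveI : IsMulCommutative X := by haveI := isCyclic_of_prime_card h.card; infer_instance
  set D := U ⊓ centralizer (R : Set G)
  have hDc : IsCyclic D := IsolatedP.isCyclic_of_pRankLE_one hq2 (P.2.to_le inf_le_left)
    (pRankLE_of_le (inf_le_inf_right _ hUα)
      (rankLE_one_alphaCore hG hM hr.2.1 hr.2.2.2.2 (hRE.trans h.compl.1) hR q Fact.out))
  have hZD : Z ≤ D := le_inf hZP (Subgroup.le_centralizer_iff.1 (hRE.trans hEZ))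
  have hc := le_centralizer_of_line hq2 P.2 hZP hZ ((h.le).trans hEP) (hRE.trans hEP)
    (h.le.trans hEZ) (hRE.trans hEZ) (hRE.trans h.E_le_normalizer)
    (by rw [h.card]; exact (Nat.coprime_primes h.tau3.1 hqb.1.1).2 fun e => h.tau3.2.1 (e ▸ hq))
    (by rw [hR]; exact (Nat.coprime_primes hr.1 hqb.1.1).2 fun e => hr.2.1 (e ▸ hq))
    (Coprime.isSolvable_of_le (hRE.trans h.compl.1) (isSolvable_of_coatom hG hM)) hcop
    (fpf_of_commutator_eq (hRE.trans h.E_le_normalizer) hcop (hR ▸ hr.1) hXR) hXR ?_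
  · have h1 : PRankLE q 1 U := pRankLE_of_le (le_inf hUα (Subgroup.le_centralizer_iff.1 hc))
      (rankLE_one_alphaCore hG hM h.tau3.2.1 h.tau3.2.2.2 h.X_le_M h.card q Fact.out)
    refine not_pRankLE_sylow hqb.1.2 S (hUS.symm ▸ fun A hA hexp => ?_)
    exact (h1 A hA hexp).trans (Nat.pow_le_pow_right (Fact.out : q.Prime).pos (by norm_num))
  · intro x hx hxq
    rcases eq_or_ne x 1 with rfl | hx1
    · exact one_mem _
    · rw [eq_of_card_eq_cyclic hDc hZD (Subgroup.zpowers_le.2 hx)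
        (by rw [hZ, Nat.card_zpowers, orderOf_eq_prime hxq hx1])]
      exact Subgroup.mem_zpowers x

/-- A line of `E` centralises `X`. -/
theorem line_centralizer {P : Subgroup G} (hPE : P ≤ E) {t : ℕ} [Fact t.Prime] (hP : Nat.card P = t) :
    P ≤ centralizer (X : Set G) := by
  have hd : t ∣ Nat.card E := hP ▸ Subgroup.card_dvd_of_le hPE
  rcases h.mem_tau1_or_tau3 hd with h1 | h3
  · exact h.tau1_centralizer hPE h1 hP
  haveI := Fact.mk h.tau3.1
  obtain ⟨E₃, hP3, h3', hc, -, hn⟩ :=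
    exists_hall3 h.minSimple h.coatom h.compl hPE (isPGroup_of_card_prime hP) h3
  obtain ⟨T, hT, hXT⟩ := exists_isSyl_ge (isPGroup_of_card_prime h.card) h.le
  -- `X` is in every Hall `τ₃`-subgroup, all being normal
  have hX3 : X ≤ E₃ := by
    intro x hx
    haveI hN : (E₃.subgroupOf E).Normal := (Subgroup.normal_subgroupOf_iff_le_normalizer h3'.1).2 hn
    refine Subgroup.mem_subgroupOf.1 (mem_of_coprime_index (N := E₃.subgroupOf E) (x := (⟨x, h.le hx⟩ : E)) ?_)
    rw [← Subgroup.orderOf_coe]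
    refine Nat.Coprime.coprime_dvd_left (h.card ▸ Subgroup.orderOf_dvd_natCard X hx) ?_
    exact h.tau3.1.coprime_iff_not_dvd.2 fun hd' => h3'.2.2 p h.tau3.1 h.tau3 hd'
  exact fun a ha => Subgroup.mem_centralizer_iff.2 fun b hb =>
    congrArg Subtype.val ((@IsCyclic.commGroup E₃ _ hc).mul_comm ⟨b, hX3 hb⟩ ⟨a, hP3 ha⟩)

/-- Every line of `E` has the fixed points of `X`. -/
theorem line_fixed_eq {P : Subgroup G} (hPE : P ≤ E) {t : ℕ} [Fact t.Prime] (hP : Nat.card P = t) :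
    sigmaCore M ⊓ centralizer (P : Set G) = sigmaCore M ⊓ centralizer (X : Set G) := by
  have hG := h.minSimple
  haveI := Fact.mk h.tau3.1
  have hle : sigmaCore M ⊓ centralizer (X : Set G) ≤ sigmaCore M ⊓ centralizer (P : Set G) :=
    le_inf inf_le_left ((Subgroup.le_centralizer_iff.1 (hPE.trans h.fixed_le_centralizer)))
  refine le_antisymm ?_ hle
  rcases h.mem_tau1_or_tau3 (hP ▸ Subgroup.card_dvd_of_le hPE : t ∣ Nat.card E) with h1 | h3
  · exact S1428.result hG M h.coatom E h.compl t h1 P hPE hP X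
      (le_inf h.le (Subgroup.le_centralizer_iff.1 (h.line_centralizer hPE hP))) (h.card ▸ h.tau3.1)
  · have hi : TauThreeFixed M E P t :=
      ⟨hG, h.coatom, h.compl, h3, hPE, hP, ne_bot_of_le_ne_bot h.ne_bot hle⟩
    exact le_inf inf_le_left (Subgroup.le_centralizer_iff.1 (h.le.trans hi.fixed_le_centralizer))

/-- The lines of `E` are normal. -/
theorem line_normal {P : Subgroup G} (hPE : P ≤ E) {t : ℕ} [Fact t.Prime] (hP : Nat.card P = t) :
    E ≤ normalizer (P : Set G) := by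
  have hG := h.minSimple
  have hM := h.coatom
  haveI := Fact.mk h.tau3.1
  rcases h.mem_tau1_or_tau3 (hP ▸ Subgroup.card_dvd_of_le hPE : t ∣ Nat.card E) with h1 | h3
  swap
  · obtain ⟨E₃, hP3, -, hc, -, hn⟩ := exists_hall3 hG hM h.compl hPE (isPGroup_of_card_prime hP) h3
    exact hn.trans (normalizer_le_of_cyclic hc hP3)
  obtain ⟨E₃, -, h3', hc3, -, hn3⟩ :=
    exists_hall3 hG hM h.compl h.le (isPGroup_of_card_prime h.card) h.tau3
  obtain ⟨E₁, hP1, h1', hc1⟩ := exists_hall1 hG hM h.compl hPE (isPGroup_of_card_prime hP) h1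
  have hPc : P ≤ centralizer (E₃ : Set G) := by
    by_contra hm
    have hcop : (Nat.card P).Coprime (Nat.card E₃) := Nat.coprime_of_dvd fun l hl h4 h5 => by
      rw [hP] at h4
      exact h1.2.2.2.1 ((Nat.prime_dvd_prime_iff_eq hl Fact.out).1 h4 ▸ (h3'.2.1 l hl h5).2.2.1)
    obtain ⟨l, Q, hl, hQ, hQ3, hPQ, hQ1, hQP⟩ := exists_commutator_eq hG (hPE.trans hn3) hcop
      (fun e => hM.1 (top_unique (e ▸ h3'.1.trans h.compl.1))) hm
    haveI := Fact.mk hl
    obtain ⟨W, hWQ, hW⟩ := exists_le_card_prime hQ hQ1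
    have hl3 : l ∈ Cfsg.tau3 M := h3'.2.1 l hl (dvd_card_of_ne_bot hQ hQ1 hQ3)
    have hWE : W ≤ E := (hWQ.trans hQ3).trans h3'.1
    have hi : TauThreeFixed M E W l := ⟨hG, hM, h.compl, hl3, hWE, hW,
      (h.line_fixed_eq hWE hW).symm ▸ h.ne_bot⟩
    haveI : IsMulCommutative Q := by
      haveI := isCyclic_of_rank_one hG hl3.2.2.2 ((hQ3.trans h3'.1).trans h.compl.1) hQ
      infer_instance
    obtain ⟨w, -, hw1, hwW⟩ := exists_eq_zpowers hW
    obtain ⟨a, -, ha1, haP⟩ := exists_eq_zpowers hP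
    have hwm : w ∈ W := hwW ▸ Subgroup.mem_zpowers w
    have ham : a ∈ P := haP ▸ Subgroup.mem_zpowers a
    exact hw1 (fpf_of_commutator_eq hPQ (hcop.coprime_dvd_right (Subgroup.card_dvd_of_le hQ3))
      (hP ▸ Fact.out) hQP a ham ha1 w (hWQ hwm)
      (Subgroup.mem_centralizer_iff.1 (hi.tau1_centralizer hPE h1 hP ham) w hwm).symm)
  rw [← hall_sup_eq hG hM h.compl h.not_tau2 h3' h1']
  exact sup_le ((Subgroup.le_centralizer_iff.1 hPc).trans (Subgroup.centralizer_le_normalizer _))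
    (fun a ha => Subgroup.centralizer_le_normalizer _ (Subgroup.mem_centralizer_iff.2 fun b hb =>
      congrArg Subtype.val ((@IsCyclic.commGroup E₁ _ hc1).mul_comm ⟨b, hP1 hb⟩ ⟨a, ha⟩)))

/-- A Sylow subgroup of `E` at a prime of `τ₁(M)` moves `X`, its line centralising it. -/
theorem exists_mover : ∃ (r : ℕ) (T R : Subgroup G), r ∈ tau1 M ∧ IsSyl r T E ∧ R ≤ T ∧ Nat.card R = r ∧
    R ≤ centralizer (X : Set G) ∧ ¬ T ≤ centralizer (X : Set G) := by
  have hG := h.minSimple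
  have hM := h.coatom
  haveI := Fact.mk h.tau3.1
  obtain ⟨E₃, hX3, h3, hc3, hd3, hn3⟩ :=
    exists_hall3 hG hM h.compl h.le (isPGroup_of_card_prime h.card) h.tau3
  obtain ⟨E₁, -, h1⟩ := exists_piHallOf_ge (tau1 M) (X := (⊥ : Subgroup G))
    (Coprime.isSolvable_of_le h.compl.1 (isSolvable_of_coatom hG hM)) bot_le fun l hl hd => by
      rw [Subgroup.card_bot, Nat.dvd_one] at hd
      exact absurd hd hl.ne_one
  obtain ⟨r, hr, hrd, S, hS⟩ : ∃ (r : ℕ) (_ : r.Prime), r ∣ Nat.card E₁ ∧ ∃ S : Sylow r E₁,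
      ¬ (S : Subgroup E₁).map E₁.subtype ≤ centralizer (X : Set G) := by
    by_contra hc
    push Not at hc
    exact not_le_centralizer_hall hG hM h.compl h.not_tau2 h3 hc3 hd3 hn3 h1 hX3
      (ne_bot_of_card_prime h.card) (le_of_forall_sylow fun r hr hd T => hc r hr hd T)
  haveI := Fact.mk hr
  have hr1 : r ∈ tau1 M := h1.2.1 r hr hrd
  have hT := IsSyl.of_hall h1 hr1 ⟨S, rfl⟩
  obtain ⟨R, hRT, hR⟩ := exists_le_card_prime hT.isPGroup (fun e => hS (e ▸ bot_le))
  exact ⟨r, _, R, hr1, hT, hRT, hR, h.tau1_centralizer (hRT.trans hT.le) hr1 hR, hS⟩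

end TauThreeFixed

end Cfsg.Agent.OddOrder
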