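import Cfsg.Agent.Lib.OddOrder.Partition
import Cfsg.Agent.Lib.OddOrder.SigmaPrime
import Cfsg.Agent.S1459

/-!
# Tools for the semiregularity of `τ₃(M)` (Bender–Glauberman 13.10)

* `mem_sigma_or_tau2`: a maximal subgroup over `N(X)`, `|X| = p`, has `p` in `σ` or `τ₂`;
* `mem_sigma_of_fixed`: it is `σ` when `X` fixes a point at a prime of `β(M)`, `p ∉ σ(M)` of rank one;
* `hall_sup_eq`: without `τ₂`, a complement is `E₃ E₁`;
* `FixedPair`: two subgroups `X`, `Q` centralising each other, at primes `p ∈ τ₃(M) ∩ σ(L)`,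
  `q ∈ σ(M) ∩ τ₃(L)`, moved by a subgroup of order `r ∈ τ₁(M) ∩ τ₁(L)`; none exists.
-/

set_option autoImplicit false
set_option linter.style.haveILetI false
set_option linter.unusedSectionVars false

namespace Cfsg.Agent.OddOrder

open Cfsg
open Subgroup (centralizer normalizer zpowers)
open scoped Pointwise commutatorElement

universe u
variable {G : Type u} [Group G] [Finite G]

/-- The order of a product of commuting subgroups has only their primes. -/
theorem prime_dvd_sup {A B : Subgroup G} (h : A ≤ normalizer (B : Set G)) {l : ℕ} (hl : l.Prime)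
    (hd : l ∣ Nat.card ↥(A ⊔ B)) : l ∣ Nat.card A ∨ l ∣ Nat.card B := by
  refine hl.dvd_mul.1 (hd.trans ?_)
  have h1 := Subgroup.relIndex_mul_relIndex ⊥ B (A ⊔ B) bot_le le_sup_right
  rw [Subgroup.relIndex_bot_left, Subgroup.relIndex_bot_left,
    Coprime.relIndex_sup_right_of_le_normalizer h] at h1
  rw [← h1, mul_comm (Nat.card A)]
  exact mul_dvd_mul_left _ (Subgroup.relIndex_dvd_card B A)

/-- A line of a cyclic group inside every nontrivial subgroup of prime power order. -/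
theorem eq_bot_of_disjoint_cyclic {p : ℕ} [Fact p.Prime] {D A B : Subgroup G} (hDp : IsPGroup p D)
    (hD : IsCyclic D) (hA : A ≤ D) (hB : B ≤ D) (h : A ⊓ B = ⊥) : A = ⊥ ∨ B = ⊥ := by
  by_contra hne
  push Not at hne
  obtain ⟨X, hX, hXc⟩ := exists_le_card_prime (hDp.to_le hA) hne.1
  obtain ⟨Y, hY, hYc⟩ := exists_le_card_prime (hDp.to_le hB) hne.2
  have e : X = Y := eq_of_card_eq_cyclic hD (hX.trans hA) (hY.trans hB) (hXc.trans hYc.symm)
  exact ne_bot_of_card_prime hXc (le_bot_iff.1 ((le_inf hX (e ▸ hY)).trans h.le))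

/-- A nontrivial coprime action on a cyclic `p`-group is fixed point free. -/
theorem commutator_eq_of_cyclic {p : ℕ} [Fact p.Prime] {D R : Subgroup G} (hDp : IsPGroup p D)
    (hD : IsCyclic D) (hR : Group.IsSolvable R) (hRD : R ≤ normalizer (D : Set G))
    (hcop : (Nat.card R).Coprime (Nat.card D)) (h : ¬ R ≤ centralizer (D : Set G)) :
    ⁅D, R⁆ = D := by
  haveI : IsMulCommutative D := by haveI := hD; infer_instance
  refine commutator_eq_of_fpf hRD hcop hR ?_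
  refine (eq_bot_of_disjoint_cyclic hDp hD inf_le_left
    (Coprime.commutator_le_left_of_le_normalizer hRD)
    (Coprime.inf_centralizer_inf_commutator_eq_bot hRD hcop)).resolve_right fun e => h ?_
  exact Coprime.le_centralizer_iff_commutator_eq_bot.2 e

variable (hG : IsMinSimpleOddOrder G)
include hG

/-- A maximal subgroup over `N(X)`, `|X| = p`, has `p ∈ σ ∪ τ₂`. -/
theorem mem_sigma_or_tau2 {L X : Subgroup G} (hL : IsCoatom L) {p : ℕ} [Fact p.Prime]
    (hX : Nat.card X = p) (hNX : normalizer (X : Set G) ≤ L) : p ∈ sigma L ∨ p ∈ tau2 L := by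
  refine or_iff_not_imp_left.2 fun hps => mem_tau2 hG hL Fact.out hps fun hr => hps ?_
  have hXL : X ≤ L := Subgroup.le_normalizer.trans hNX
  obtain ⟨T, hT, hXT⟩ := exists_isSyl_ge (isPGroup_of_card_prime hX) hXL
  exact hT.mem_sigma (hX ▸ Subgroup.card_dvd_of_le hXL)
    ((normalizer_le_of_cyclic (isCyclic_of_rank_one hG hr hT.le hT.isPGroup) hXT).trans hNX)

/-- `t ∈ σ(H)` for `H ≥ N(P)` when `P` fixes a point at a prime of `β(M)`. -/
theorem mem_sigma_of_fixed {M H P Z : Subgroup G} (hM : IsCoatom M) (hH : IsCoatom H) {t q : ℕ}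
    [Fact t.Prime] [Fact q.Prime] (ht : t ∉ sigma M) (hr : PRankLE t 1 M)
    (hP : Nat.card P = t) (hq : q ∈ beta M) (hZ : Nat.card Z = q)
    (hZP : Z ≤ sigmaCore M ⊓ centralizer (P : Set G)) (hNH : normalizer (P : Set G) ≤ H) :
    t ∈ sigma H := by
  refine (mem_sigma_or_tau2 hG hH hP hNH).resolve_right fun ht2 => ?_
  obtain ⟨hn, -, -⟩ := centralizer_norm_tau13 hG hM hH ht hr hP hNH
  obtain ⟨hqH, hqr⟩ := rank_one_of_beta hG hM hH hn hq
  have hZM : Z ≤ M := (hZP.trans inf_le_left).trans (piCoreOf_le _ M)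
  have hPH : P ≤ H := Subgroup.le_normalizer.trans hNH
  have hZH : Z ≤ H := ((hZP.trans inf_le_right).trans (Subgroup.centralizer_le_normalizer _)).trans hNH
  have hne : q ≠ t := fun e => ht (e ▸ alpha_subset_sigma hG hM hq.1)
  obtain ⟨E, hE, hYE⟩ := exists_compl_ge hG hH (sup_le hZH hPH) fun l hl hd => by
    rcases prime_dvd_sup ((hZP.trans inf_le_right).trans (Subgroup.centralizer_le_normalizer _)) hl hd
      with h | h
    · rw [hZ] at h; exact (Nat.prime_dvd_prime_iff_eq hl Fact.out).1 h ▸ hqH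
    · rw [hP] at h; exact (Nat.prime_dvd_prime_iff_eq hl Fact.out).1 h ▸ ht2.2.1
  obtain ⟨A, hAE, hA, hAc⟩ := exists_square_le_compl hE ht2.2.1 ht2.2.2.2
  obtain ⟨⟨hEA, hmem⟩, ⟨-, -, hNA⟩, -⟩ := S1418.result hG H hH E hE t ht2 A ⟨hAE, hA, hAc⟩
  have hPA : P ≤ A := hmem P (le_sup_right.trans hYE) hP
  have hAp : IsPGroup t A := PGroup.isPGroup_of_elementaryAbelian hA
  have hZA : Z ≤ normalizer (A : Set G) := (le_sup_left.trans hYE).trans hEA
  have hnotc : ¬ Z ≤ centralizer (A : Set G) := fun hle => by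
    have hAM : A ≤ M := (Subgroup.le_centralizer_iff.1 hle).trans
      ((Subgroup.centralizer_le_normalizer _).trans (normalizer_le_of_beta hG hM hq hZM hZ))
    exact not_pRankLE_of_elementary hA hAM hAc.ge hr
  obtain ⟨H₂, hH₂, hNH₂⟩ := exists_coatom_ge (normalizer_ne_top_of_pgroup hG hAp (square_ne_bot hA hAc))
  have hne2 : H₂ ≠ H := fun e => hNA (e ▸ hNH₂)
  have hAH₂ : A ≤ H₂ := Subgroup.le_normalizer.trans hNH₂
  have hts : t ∈ sigma H₂ := by
    by_contra hs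
    have ht' : t ∈ tau2 H₂ := mem_tau2 hG hH₂ Fact.out hs (not_pRankLE_of_elementary hA hAH₂ hAc.ge)
    obtain ⟨E₂, hE₂, hAE₂⟩ := exists_compl_ge hG hH₂ hAH₂ fun l hl hd => by
      rw [hAc] at hd
      exact (Nat.prime_dvd_prime_iff_eq hl Fact.out).1 (hl.dvd_of_dvd_pow hd) ▸ hs
    exact (S1418.result hG H₂ hH₂ E₂ hE₂ t ht' A ⟨hAE₂, hA, hAc⟩).2.1.2.2 hNH₂
  have htb : t ∉ beta H₂ := fun hb =>
    (S1408.result hG H hH t ht2.2.1 ht2.2.2.1 ht2.2.2.2).1 hb.2
  obtain ⟨hqs, hqr2⟩ := rank_one_of_beta hG hM hH₂ (notConj_of_mem_sigma hts ht) hq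
  have hZH₂ : Z ≤ H₂ := hZA.trans hNH₂
  have hqd : ¬ q ∣ Nat.card ↥⁅H₂, H₂⁆ := fun hd => hnotc
    (le_centralizer_of_not_beta hG hH₂ hts.2.1 htb (le_derived_of_dvd hG hd hqr2 (isPGroup_of_card_prime hZ) hZH₂)
      (fun h => hne ((Nat.prime_dvd_prime_iff_eq Fact.out Fact.out).1 (hZ ▸ h)).symm) hAp
      (le_derived_of_sigma hG hH₂ hts hAp hAH₂) hZA)
  have hu := tau1_unique hG hH₂ ⟨Fact.out, hqs, hZ ▸ Subgroup.card_dvd_of_le hZH₂, hqd, hqr2⟩ hZH₂ hZ
    (Y := P) (le_inf (le_sigmaCore_of_isPiGrp hG hH₂ (hPA.trans hAH₂) fun l hl hd => by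
      rw [hP] at hd
      exact (Nat.prime_dvd_prime_iff_eq hl Fact.out).1 hd ▸ hts)
      (Subgroup.le_centralizer_iff.1 (hZP.trans inf_le_right))) (hP ▸ Fact.out)
  exact hne2 (hu.2 H hH ((Subgroup.centralizer_le_normalizer _).trans hNH)).symm

/-- Without `τ₂(M)`, a complement is the product of its Hall `τ₃`- and `τ₁`-subgroups. -/
theorem hall_sup_eq {M E E₃ E₁ : Subgroup G} (hM : IsCoatom M) (hE : IsComplIn E (sigmaCore M) M)
    (h2 : ∀ t, t ∉ tau2 M) (h3 : IsPiHallOf (tau3 M) E₃ E) (h1 : IsPiHallOf (tau1 M) E₁ E) :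
    E₃ ⊔ E₁ = E := by
  refine le_antisymm (sup_le h3.1 h1.1) (Subgroup.relIndex_eq_one.1 ?_)
  by_contra hne
  obtain ⟨p, hp, hd⟩ := Nat.exists_prime_and_dvd hne
  haveI := Fact.mk hp
  have hdE : p ∣ Nat.card E := hd.trans (Subgroup.relIndex_dvd_card _ E)
  have hps := not_mem_sigma_of_compl hG hM hE hp hdE
  have hr : PRankLE p 1 M := by_contra fun h => h2 p (mem_tau2 hG hM hp hps h)
  by_cases hM' : p ∣ Nat.card ↥⁅M, M⁆
  · exact h3.2.2 p hp ⟨hp, hps, hM', hr⟩ (hd.trans (Subgroup.relIndex_dvd_of_le_left E le_sup_left))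
  · exact h1.2.2 p hp ⟨hp, hps, hdE.trans (Subgroup.card_dvd_of_le hE.1), hM', hr⟩
      (hd.trans (Subgroup.relIndex_dvd_of_le_left E le_sup_right))

omit hG

/-- The data of two mutually centralising cyclic subgroups moved by `R`. -/
structure FixedPair (M L X Q R : Subgroup G) (p q r : ℕ) : Prop where
  minSimple : IsMinSimpleOddOrder G
  coatom_left : IsCoatom M
  coatom_right : IsCoatom L
  notConj : NotConj M L
  tau3_left : p ∈ tau3 M
  tau3_right : q ∈ tau3 L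
  mem_left : q ∈ sigma M
  mem_right : p ∈ sigma L
  isPGroup_X : IsPGroup p X
  isPGroup_Q : IsPGroup q Q
  ne_bot_X : X ≠ ⊥
  ne_bot_Q : Q ≠ ⊥
  comm : X ≤ centralizer (Q : Set G)
  X_le : X ≤ M
  Q_le : Q ≤ L
  normalizer_X : normalizer (X : Set G) ≤ L
  normalizer_Q : normalizer (Q : Set G) ≤ M
  card_R : Nat.card R = r
  tau1_left : r ∈ tau1 M
  tau1_right : r ∈ tau1 L
  R_norm_X : R ≤ normalizer (X : Set G)
  R_norm_Q : R ≤ normalizer (Q : Set G)
  eq_X : ⁅X, R⁆ = X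
  eq_Q : ⁅Q, R⁆ = Q

namespace FixedPair

variable {M L X Q R : Subgroup G} {p q r : ℕ} (h : FixedPair M L X Q R p q r)
include h

theorem symm : FixedPair L M Q X R q p r :=
  ⟨h.minSimple, h.coatom_right, h.coatom_left, h.notConj.symm, h.tau3_right, h.tau3_left, h.mem_right,
    h.mem_left, h.isPGroup_Q, h.isPGroup_X, h.ne_bot_Q, h.ne_bot_X, Subgroup.le_centralizer_iff.1 h.comm,
    h.Q_le, h.X_le, h.normalizer_Q, h.normalizer_X, h.card_R, h.tau1_right, h.tau1_left, h.R_norm_Q,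
    h.R_norm_X, h.eq_Q, h.eq_X⟩

theorem R_le : R ≤ M := h.R_norm_Q.trans h.normalizer_Q

theorem X_cyclic : IsCyclic X := by
  haveI := Fact.mk h.tau3_left.1
  exact isCyclic_of_rank_one h.minSimple h.tau3_left.2.2.2 h.X_le h.isPGroup_X

theorem X_le_derived : X ≤ ⁅M, M⁆ := by
  haveI := Fact.mk h.tau3_left.1
  exact le_derived_of_dvd h.minSimple h.tau3_left.2.2.1 h.tau3_left.2.2.2 h.isPGroup_X h.X_le

theorem coprime_RX : (Nat.card R).Coprime (Nat.card X) := by
  haveI := Fact.mk h.tau3_left.1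
  obtain ⟨k, hk⟩ := h.isPGroup_X.exists_card_eq
  rw [hk, h.card_R]
  exact ((Nat.coprime_primes h.tau1_left.1 h.tau3_left.1).2
    fun e => h.tau1_left.2.2.2.1 (e ▸ h.tau3_left.2.2.1)).pow_right k

theorem fixed_eq_one : ∀ l ∈ R, l ≠ 1 → ∀ u ∈ X, l * u = u * l → u = 1 := by
  haveI : IsMulCommutative X := by haveI := h.X_cyclic; infer_instance
  exact fpf_of_commutator_eq h.R_norm_X h.coprime_RX (h.card_R ▸ h.tau1_left.1) h.eq_X

/-- `R` fixes a point at a prime of `β(M)` on a subgroup moved by `X`. -/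
theorem exists_side : ∃ (s : ℕ) (U Z : Subgroup G), s ∈ beta M ∧ IsPGroup s U ∧ U ≤ alphaCore M ∧
    X ≤ normalizer (U : Set G) ∧ R ≤ normalizer (U : Set G) ∧ ¬ X ≤ centralizer (U : Set G) ∧
    Nat.card Z = s ∧ Z ≤ M ∧ Z ≤ centralizer (R : Set G) := by
  have hG := h.minSimple
  have hM := h.coatom_left
  haveI := Fact.mk h.tau3_left.1
  set Mα := alphaCore M
  set A := R ⊔ X
  have hAM : A ≤ M := sup_le h.R_le h.X_le
  have hAn : A ≤ normalizer (Mα : Set G) := hAM.trans (le_normalizer_piCoreOf _ M)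
  obtain ⟨j, hj⟩ := h.isPGroup_X.exists_card_eq
  have hcop : (Nat.card A).Coprime (Nat.card Mα) := Nat.coprime_of_dvd fun l hl h1 h2 => by
    have hla := alpha_subset_sigma hG hM (isPiGrp_piCoreOf (alpha M) M l hl h2)
    rcases prime_dvd_sup h.R_norm_X hl h1 with h3 | h3
    · rw [h.card_R] at h3
      exact h.tau1_left.2.1 ((Nat.prime_dvd_prime_iff_eq hl h.tau1_left.1).1 h3 ▸ hla)
    · rw [hj] at h3
      exact h.tau3_left.2.1 ((Nat.prime_dvd_prime_iff_eq hl h.tau3_left.1).1 (hl.dvd_of_dvd_pow h3) ▸ hla)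
  obtain ⟨s, U, hsp, hU, hUα, hAU, hXU⟩ : ∃ (s : ℕ) (U : Subgroup G), s.Prime ∧ IsPGroup s U ∧
      U ≤ Mα ∧ A ≤ normalizer (U : Set G) ∧ ¬ X ≤ centralizer (U : Set G) := by
    by_contra hall
    push Not at hall
    have hα : Mα ≤ centralizer (X : Set G) := by
      refine inf_eq_left.1 (Coprime.eq_of_forall_invariant_pgroup_le hAn hcop
        (Or.inr (Coprime.isSolvable_of_le (piCoreOf_le _ M) (isSolvable_of_coatom hG hM))) inf_le_left ?_)
      exact fun s U hs hU hUα hAU => le_inf hUα (Subgroup.le_centralizer_iff.1 (hall s U hs hU hUα hAU))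
    obtain ⟨T, hT, hXT⟩ := exists_isSyl_ge h.isPGroup_X h.X_le
    have hTd : T ≤ ⁅M, M⁆ :=
      le_derived_of_dvd hG h.tau3_left.2.2.1 h.tau3_left.2.2.2 hT.isPGroup hT.le
    have hTc : IsCyclic T := isCyclic_of_rank_one hG h.tau3_left.2.2.2 hT.le hT.isPGroup
    have hMN : M ≤ normalizer (X : Set G) := fun m hm => by
      obtain ⟨k, hk, d, hd, rfl⟩ := exists_alphaCore_mul_of_derived hG hM hT hTd hm
      exact mul_mem (Subgroup.centralizer_le_normalizer _ (hα hk)) (normalizer_le_of_cyclic hTc hXT hd.2)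
    exact h.notConj.ne (eq_of_coatom_le hM h.coatom_right (hMN.trans h.normalizer_X)).symm
  haveI := Fact.mk hsp
  have hU1 : U ≠ ⊥ := fun e => hXU (e ▸ fun a _ => Subgroup.mem_centralizer_iff.2 fun u hu => by
    rw [Subgroup.mem_bot.1 hu]; simp)
  have hsd := dvd_card_of_ne_bot hU hU1 hUα
  have hsα : s ∈ alpha M := isPiGrp_piCoreOf (alpha M) M s hsp hsd
  have hsb : s ∈ beta M := by
    by_contra hb
    refine hXU (le_centralizer_of_not_beta hG hM (hsd.trans (Subgroup.card_dvd_of_le (piCoreOf_le _ M))) hb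
      h.X_le_derived (fun hd => ?_) hU
      (hUα.trans (alphaCore_le_commutator hG hM)) (le_sup_right.trans hAU))
    exact h.tau3_left.2.1 ((Nat.prime_dvd_prime_iff_eq hsp h.tau3_left.1).1 (hsp.dvd_of_dvd_pow (hj ▸ hd)) ▸
      alpha_subset_sigma hG hM hsα)
  have hfix : U ⊓ centralizer (R : Set G) ≠ ⊥ := fun e => hXU (by
    refine le_centralizer_of_fpf_cyclic hU (C := ⊥) bot_le inferInstance (le_sup_right.trans hAU)
      (le_sup_left.trans hAU) (le_top.trans (Subgroup.normalizer_eq_top (H := (⊥ : Subgroup G))).ge)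
      (le_top.trans (Subgroup.normalizer_eq_top (H := (⊥ : Subgroup G))).ge) h.R_norm_X
      ((hcop.coprime_dvd_left (Subgroup.card_dvd_of_le le_sup_right)).coprime_dvd_right
        (Subgroup.card_dvd_of_le hUα))
      (hG.2.2.2 R fun e' => hM.1 (top_unique (e' ▸ h.R_le))) h.coprime_RX
      ((hcop.coprime_dvd_left (Subgroup.card_dvd_of_le le_sup_left)).coprime_dvd_right
        (Subgroup.card_dvd_of_le hUα)) h.fixed_eq_one e.le h.eq_X)
  obtain ⟨Z, hZ, hZc⟩ := exists_le_card_prime (hU.to_le inf_le_left) hfix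
  exact ⟨s, U, Z, hsb, hU, hUα, le_sup_right.trans hAU, le_sup_left.trans hAU, hXU, hZc,
    ((hZ.trans inf_le_left).trans hUα).trans (piCoreOf_le _ M), hZ.trans inf_le_right⟩

/-- No point of `M` fixed by `R` has order in `β(L)`. -/
theorem claim {t : ℕ} (ht : t ∈ beta L) {Y : Subgroup G} (hY : Nat.card Y = t)
    (hYR : Y ≤ M ⊓ centralizer (R : Set G)) : False := by
  have hG := h.minSimple
  have hM := h.coatom_left
  have hL := h.coatom_right
  haveI := Fact.mk h.tau3_left.1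
  haveI := Fact.mk h.mem_left.1
  haveI := Fact.mk ht.1.1
  haveI := Fact.mk h.tau1_left.1
  obtain ⟨htM, htr⟩ := rank_one_of_beta hG hL hM h.notConj.symm ht
  set K := sigmaCore M
  have hKM : K ≤ M := piCoreOf_le _ M
  have hXQ : X ≤ centralizer (Q : Set G) := h.comm
  have hQM : Q ≤ M := Subgroup.le_normalizer.trans h.normalizer_Q
  obtain ⟨E, hE, hXRE⟩ := exists_compl_ge hG hM (sup_le h.R_le h.X_le) fun l hl hd => by
    rcases prime_dvd_sup h.R_norm_X hl hd with h3 | h3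
    · rw [h.card_R] at h3
      exact (Nat.prime_dvd_prime_iff_eq hl h.tau1_left.1).1 h3 ▸ h.tau1_left.2.1
    · obtain ⟨j, hj⟩ := h.isPGroup_X.exists_card_eq
      rw [hj] at h3
      exact (Nat.prime_dvd_prime_iff_eq hl h.tau3_left.1).1 (hl.dvd_of_dvd_pow h3) ▸ h.tau3_left.2.1
  have hRE : R ≤ E := le_sup_left.trans hXRE
  have hXE : X ≤ E := le_sup_right.trans hXRE
  have hEX : E ≤ normalizer (X : Set G) := by
    obtain ⟨E₃, hXE₃, h3⟩ := exists_piHallOf_ge (tau3 M)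
      (Coprime.isSolvable_of_le hE.1 (isSolvable_of_coatom hG hM)) hXE fun l hl hd => by
        obtain ⟨j, hj⟩ := h.isPGroup_X.exists_card_eq
        exact (Nat.prime_dvd_prime_iff_eq hl h.tau3_left.1).1 (hl.dvd_of_dvd_pow (hj ▸ hd)) ▸ h.tau3_left
    obtain ⟨hc, -, hn⟩ := (S1415.result hG M hM E hE).2.2 E₃ h3
    exact hn.trans (normalizer_le_of_cyclic hc hXE₃)
  -- move `Y` into `C_E(R)`
  have hKn : M ≤ normalizer (K : Set G) := le_normalizer_sigmaCore M
  have hprod : ∀ m ∈ M, ∃ k ∈ K, ∃ d ∈ E, m = k * d := fun m hm => by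
    obtain ⟨a, ha, b, hb, rfl⟩ := hE.2.2.2 m hm
    exact ⟨a * b * a⁻¹, (Subgroup.mem_normalizer_iff.1 (hKn (hE.1 ha)) b).1 hb, a, ha, by group⟩
  have hnd : ∀ l : ℕ, l.Prime → l ∉ sigma M → ¬ l ∣ Nat.card K := fun l hl hls hd =>
    hls (isPiGrp_piCoreOf (sigma M) M l hl hd)
  obtain ⟨T, hT, -⟩ := exists_isSyl_ge (p := t) (U := (⊥ : Subgroup G)) IsPGroup.of_bot
    (bot_le (a := E ⊓ centralizer (R : Set G)))
  have hTA := isSyl_centralizer_supplement (isSolvable_of_coatom hG hM) hKM hKn hE.1 hprod hRE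
    (by rw [h.card_R]; exact h.tau1_left.1.coprime_iff_not_dvd.2 (hnd r h.tau1_left.1 h.tau1_left.2.1))
    (hnd t ht.1.1 htM) hT
  obtain ⟨a, -, haY⟩ := hTA.exists_conj_le (isPGroup_of_card_prime hY) hYR
  set Y' := MulAut.conj a • Y
  have hY' : Nat.card Y' = t := by rw [Coprime.card_conj_smul, hY]
  have hY'E : Y' ≤ E ⊓ centralizer (R : Set G) := haY.trans hT.le
  have hY'M : Y' ≤ M := (hY'E.trans inf_le_left).trans hE.1
  have hY'p := isPGroup_of_card_prime hY'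
  have hRY' : R ≤ centralizer (Y' : Set G) := Subgroup.le_centralizer_iff.1 (hY'E.trans inf_le_right)
  have htL : t ∈ sigma L := alpha_subset_sigma hG hL ht.1
  -- `Y'` centralises `Q`
  have hY'σ : Y' ≤ sigmaCore L :=
    le_sigmaCore_of_isPiGrp hG hL ((hY'E.trans inf_le_left).trans (hEX.trans h.normalizer_X))
      fun l hl hd => by
        rw [hY'] at hd
        exact (Nat.prime_dvd_prime_iff_eq hl Fact.out).1 hd ▸ htL
  have hQY' : Q ≤ centralizer (Y' : Set G) :=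
    (le_centralizer_inter hG hL hM h.notConj.symm h.tau3_right.2.1 h.isPGroup_Q h.Q_le hQM
      fun h1 => h1.2.1 h.mem_left).trans (Subgroup.centralizer_le (le_inf hY'σ hY'M))
  have hQσ : Q ≤ K := le_sigmaCore_of_isPiGrp hG hM hQM fun l hl hd => by
    obtain ⟨j, hj⟩ := h.isPGroup_Q.exists_card_eq
    exact (Nat.prime_dvd_prime_iff_eq hl h.mem_left.1).1 (hl.dvd_of_dvd_pow (hj ▸ hd)) ▸ h.mem_left
  have ht1 : t ∉ tau1 M := fun h1 => by
    have h2 := (le_inf hQσ hQY').trans (S1428.result hG M hM E hE t h1 Y' (hY'E.trans inf_le_left) hY' R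
      (le_inf hRE hRY') (h.card_R ▸ h.tau1_left.1))
    refine h.ne_bot_Q ((Subgroup.eq_bot_iff_forall _).2 fun u hu => ?_)
    obtain ⟨l, -, hl1, hlR⟩ := exists_eq_zpowers h.card_R
    have hl : l ∈ R := hlR ▸ Subgroup.mem_zpowers l
    exact h.symm.fixed_eq_one l hl hl1 u hu (Subgroup.mem_centralizer_iff.1 (h2 hu).2 l hl)
  have htd : t ∣ Nat.card ↥⁅M, M⁆ := by
    by_contra hd
    exact ht1 ⟨ht.1.1, htM, hY' ▸ Subgroup.card_dvd_of_le hY'M, hd, htr⟩
  have hY'd : Y' ≤ ⁅M, M⁆ := le_derived_of_dvd hG htd htr hY'p hY'M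
  have htp : p ≠ t := by
    intro e
    subst e
    obtain ⟨X₁, hX₁, hX₁c⟩ := exists_le_card_prime h.isPGroup_X h.ne_bot_X
    obtain ⟨T₁, hT₁, hXT₁⟩ := exists_isSyl_ge h.isPGroup_X hXE
    obtain ⟨b, hb, hbY⟩ := hT₁.exists_conj_le hY'p (hY'E.trans inf_le_left)
    have e' : X₁ = MulAut.conj b • Y' := eq_of_card_eq_cyclic
      (isCyclic_of_rank_one hG h.tau3_left.2.2.2 (hT₁.le.trans hE.1) hT₁.isPGroup) (hX₁.trans hXT₁) hbY
      (by rw [hX₁c, Coprime.card_conj_smul, hY'])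
    have hX₁n : E ≤ normalizer (X₁ : Set G) := hEX.trans (normalizer_le_of_cyclic h.X_cyclic hX₁)
    have e2 : Y' ≤ X₁ := by
      have h3 := (Coprime.conj_smul_eq_self_of_mem (hX₁n (inv_mem hb)))
      rw [e', Coprime.conj_smul_smul, inv_mul_cancel, map_one, one_smul] at h3
      exact h3.le.trans e'.ge
    obtain ⟨l, hl, hl1, hlR⟩ := exists_eq_zpowers h.card_R
    obtain ⟨y, -, hy1, hyY⟩ := exists_eq_zpowers hY'
    have hy : y ∈ Y' := hyY ▸ Subgroup.mem_zpowers y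
    exact hy1 (h.fixed_eq_one l (hlR ▸ Subgroup.mem_zpowers l) hl1 y (hX₁ (e2 hy))
      (Subgroup.mem_centralizer_iff.1 ((hY'E hy).2) l (hlR ▸ Subgroup.mem_zpowers l)))
  have hY'X : Y' ≤ centralizer (X : Set G) :=
    le_centralizer_of_le_derived (p := t) hG hM htp hY'p hY'd h.isPGroup_X h.X_le
      ((hY'E.trans inf_le_left).trans hEX) fun ha => h.tau3_left.2.1 (alpha_subset_sigma hG hM ha)
  obtain ⟨s, U, -, hs, hU, hUα, hXU, hRU, hne, -⟩ := h.exists_side
  haveI := Fact.mk hs.1.1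
  refine hne (le_centralizer_of_fixed_line hG hM hE h.tau1_left hRE h.card_R hY'E hY' htr hU hUα
    (Subgroup.le_centralizer_iff.1 hY'X) h.R_norm_X hXU hRU ?_ h.coprime_RX h.fixed_eq_one h.eq_X)
  obtain ⟨i, hi⟩ := h.isPGroup_X.exists_card_eq
  obtain ⟨k, hk⟩ := hU.exists_card_eq
  rw [hi, hk]
  exact ((Nat.coprime_primes h.tau3_left.1 hs.1.1).2 fun e : p = s =>
    h.tau3_left.2.1 (e ▸ alpha_subset_sigma hG hM hs.1)).pow i k

theorem not_exists : False := by
  obtain ⟨s, U, Z, hs, -, -, -, -, -, hZ, hZM, hZR⟩ := h.exists_side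
  obtain ⟨t, U', W, ht, -, -, -, -, -, hW, hWL, hWR⟩ := h.symm.exists_side
  haveI := Fact.mk hs.1.1
  haveI := Fact.mk ht.1.1
  haveI := Fact.mk h.tau1_left.1
  exact false_of_fixed_pair h.minSimple h.coatom_left h.coatom_right h.card_R h.tau1_left.2.1
    h.tau1_left.2.2.2.2 h.tau1_right.2.1 h.tau1_right.2.2.2.2 hs ht hZ hZM hZR hW hWL hWR
    (fun Y hY hle => h.claim ht hY hle) fun Y hY hle => h.symm.claim hs hY hle

end FixedPair

end Cfsg.Agent.OddOrder
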