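import Cfsg.Agent.Lib.OddOrder.AbelianSylowSplit
import Cfsg.Agent.Lib.OddOrder.TheoremC

/-!
# The third case of Type I: `O_{p'}(M)` is cyclic

If `κ(M)` plays no role, `M_σ = M_F`, `M' = F(M)`, a nontrivial intersection of `F(M)` with a conjugate has
order `p` and `O_{p'}(M_F)` is cyclic, then `O_{p'}(M)` is cyclic: an element of `M` centralizing `O_p(M)`
centralizes `M_σ` (otherwise a Frobenius group of order `qr` would act without fixed points on `N_σ`, `N`
supporting, or a `τ₂`-subgroup of order `r²` would centralize `O_p(M)`).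
-/

set_option autoImplicit false
set_option linter.unusedSectionVars false
set_option linter.style.haveILetI false

namespace Cfsg.Agent.OddOrder.TypeICore

open Cfsg
open Subgroup (centralizer normalizer zpowers)
open scoped Pointwise

universe u
variable {G : Type u} [Group G] [Finite G] {M N : Subgroup G}

theorem mem_centralizer_of_commute {P : Subgroup G} {x : G} (h : ∀ a ∈ P, a * x = x * a) :
    x ∈ centralizer (P : Set G) := Subgroup.mem_centralizer_iff.2 h

/-- The normalizer of `⟨y⟩` in a cyclic `Y` contains the normalizer of `Y`. -/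
theorem mem_normalizer_zpowers_of_cyclic {Y : Subgroup G} (hY : IsCyclic Y) {y x : G} (hy : y ∈ Y)
    (hx : x ∈ normalizer (Y : Set G)) : x ∈ normalizer (zpowers y : Set G) := by
  refine Coprime.mem_normalizer_of_conj_smul_eq (eq_of_card_eq_cyclic hY ?_ (Subgroup.zpowers_le.2 hy)
    (Coprime.card_conj_smul _ _))
  rintro z hz
  rw [Coprime.mem_conj_smul_iff] at hz
  have h1 := Subgroup.zpowers_le.2 hy hz
  have h2 := (Subgroup.mem_normalizer_iff.1 hx _).1 h1
  simpa [mul_assoc] using h2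

/-- Two elements of prime order in the complement of a supporting subgroup with centralizers in `M`
commute, if one normalizes the subgroup generated by the other. -/
theorem commute_of_prime (hG : IsMinSimpleOddOrder G) {x₀ : G} (hN : Supporting M x₀ N) {y x : G}
    (hy : y ∈ M ⊓ N) (hx : x ∈ M ⊓ N) (hyp : (orderOf y).Prime) (hxp : (orderOf x).Prime)
    (hne : orderOf y ≠ orderOf x) (hn : x ∈ normalizer (zpowers y : Set G))
    (hCy : centralizer ({y} : Set G) ≤ M) (hCx : centralizer ({x} : Set G) ≤ M) : Commute x y := by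
  by_contra hxy
  have hbot : ∀ a : G, centralizer ({a} : Set G) ≤ M →
      sigmaCore N ⊓ centralizer (zpowers a : Set G) = ⊥ := fun a ha => by
    refine le_bot_iff.1 (le_trans ?_ hN.inf_eq_bot.le)
    exact inf_le_inf_left _ ((Subgroup.centralizer_le
      (Set.singleton_subset_iff.2 (Subgroup.mem_zpowers a))).trans ha)
  have hcy : Nat.card (zpowers y) = orderOf y := Nat.card_zpowers y
  have hcx : Nat.card (zpowers x) = orderOf x := Nat.card_zpowers x
  have hQ1 : zpowers y ≠ ⊥ := fun e => hyp.ne_one (by rw [← hcy, e, Subgroup.card_bot])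
  have hR1 : zpowers x ≠ ⊥ := fun e => hxp.ne_one (by rw [← hcx, e, Subgroup.card_bot])
  have hdis : zpowers y ⊓ zpowers x = ⊥ :=
    Coprime.disjoint_of_coprime_card (by rw [hcy, hcx]; exact (Nat.coprime_primes hyp hxp).2 hne)
  have hRQ : zpowers x ≤ normalizer (zpowers y : Set G) := Subgroup.zpowers_le.2 hn
  haveI := Fact.mk hyp
  haveI := Fact.mk hxp
  have hfrob : ∀ a ∈ zpowers x, a ≠ 1 → zpowers y ⊓ centralizer ({a} : Set G) = ⊥ := by
    intro a ha ha1
    by_contra hne'
    obtain ⟨b, hb, hb1⟩ := (Subgroup.bot_or_exists_ne_one _).resolve_left hne'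
    refine hxy ?_
    have hc : Commute b a := Subgroup.mem_centralizer_singleton_iff.1 hb.2
    have hxa : x ∈ zpowers a := by
      have h := mem_zpowers_of_prime_card (G := zpowers x) hcx (g := ⟨a, ha⟩) (g' := ⟨x, Subgroup.mem_zpowers x⟩)
        (fun e => ha1 (congrArg Subtype.val e))
      obtain ⟨i, hi⟩ := h
      exact ⟨i, congrArg Subtype.val hi⟩
    have hyb : y ∈ zpowers b := by
      have h := mem_zpowers_of_prime_card (G := zpowers y) hcy (g := ⟨b, hb.1⟩) (g' := ⟨y, Subgroup.mem_zpowers y⟩)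
        (fun e => hb1 (congrArg Subtype.val e))
      obtain ⟨i, hi⟩ := h
      exact ⟨i, congrArg Subtype.val hi⟩
    obtain ⟨i, rfl⟩ := hxa
    obtain ⟨j, rfl⟩ := hyb
    exact ((hc.zpow_left j).zpow_right i).symm
  have hQ : zpowers y ≤ M ⊓ N := Subgroup.zpowers_le.2 hy
  have hR : zpowers x ≤ M ⊓ N := Subgroup.zpowers_le.2 hx
  have hle : zpowers y ⊔ zpowers x ≤ M ⊓ N := sup_le hQ hR
  have hNne : sigmaCore N ≠ ⊥ := sigmaCore_ne_bot hG hN.coatom
  have hcop : (Nat.card ↥(zpowers y ⊔ zpowers x)).Coprime (Nat.card (sigmaCore N)) := by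
    refine Nat.Coprime.coprime_dvd_left (Subgroup.card_dvd_of_le hle) ?_
    refine Nat.coprime_of_dvd fun l hl h1 h2 => ?_
    refine (sigmaCore_hall hG hN.coatom).2.2 l hl (isPiGrp_piCoreOf (sigma N) N l hl h2) ?_
    refine (Nat.mul_dvd_mul_iff_left (Nat.card_pos (α := sigmaCore N))).1 ?_
    calc Nat.card (sigmaCore N) * l ∣ Nat.card (sigmaCore N) * Nat.card ↥(M ⊓ N) := Nat.mul_dvd_mul_left _ h1
      _ = Nat.card N := by rw [mul_comm, card_eq_of_isComplIn hN.compl]
      _ = Nat.card (sigmaCore N) * (sigmaCore N).relIndex N := by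
          rw [Subgroup.relIndex, ← Coprime.card_subgroupOf (sigmaCore_le N), Subgroup.card_mul_index]
  obtain ⟨-, hcard, -⟩ := S1446.result (zpowers y) (zpowers x) (sigmaCore N) hQ1 hR1 hdis hRQ hfrob
    (Coprime.isSolvable_of_le (hle.trans inf_le_right) (isSolvable_of_coatom hG hN.coatom))
    (odd_subgroup hG.1 _) hNne hN.nilpotent
    ((hQ.trans inf_le_right).trans (le_normalizer_sigmaCore N))
    ((hR.trans inf_le_right).trans (le_normalizer_sigmaCore N)) hcop (hbot y hCy)
    (fun a ha ha1 => by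
      have h1 := hbot x hCx
      rw [h1]
      have hxa : x ∈ zpowers a := by
        obtain ⟨i, hi⟩ := mem_zpowers_of_prime_card (G := zpowers x) hcx (g := ⟨a, ha⟩)
          (g' := ⟨x, Subgroup.mem_zpowers x⟩) (fun e => ha1 (congrArg Subtype.val e))
        exact ⟨i, congrArg Subtype.val hi⟩
      refine le_bot_iff.1 (le_trans ?_ h1.le)
      rw [← Semiprime.centralizer_zpowers]
      exact inf_le_inf_left _ (Subgroup.centralizer_le (Subgroup.zpowers_le.2 hxa)))
  rw [hbot x hCx, Subgroup.card_bot, one_pow] at hcard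
  exact hNne (Subgroup.card_eq_one.1 hcard)

/-- A prime whose Sylow subgroups of `G` are cyclic does not occur among the orders of supported elements. -/
theorem centralizer_le_of_cyclic (hG : IsMinSimpleOddOrder G) (h13 : BG13 G) (hM : IsCoatom M) {q : ℕ}
    [Fact q.Prime] {S : Sylow q G} (hS : IsCyclic (S : Subgroup G)) {y : G} (hy : y ∈ sigmaCore M)
    (hyq : orderOf y = q) : centralizer ({y} : Set G) ≤ M := by
  by_contra hC
  obtain ⟨L, hL⟩ := exists_supporting hG h13.partition h13.transfer hM hy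
    (fun e => (Fact.out : q.Prime).ne_one (by rw [← hyq, e, orderOf_one])) hC
  refine (hL.tau2 q Fact.out (hyq ▸ dvd_rfl)).2.2.2 fun E hE hEp => ?_
  haveI := hE
  set E' := E.map L.subtype with hE'
  have hE'c : IsMulCommutative E' := PGroup.isMulCommutative_of_forall fun a ha b hb => by
    obtain ⟨a, ha, rfl⟩ := ha
    obtain ⟨b, hb, rfl⟩ := hb
    rw [← map_mul, PGroup.mul_comm_of_isMulCommutative hE ha hb, map_mul]
  have hE'e : IsElementaryAbelian q E' := ⟨hE'c, fun a ha => by
    obtain ⟨a, ha, rfl⟩ := ha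
    rw [← map_pow, hEp a ha, map_one]⟩
  obtain ⟨T, hT⟩ := (PGroup.isPGroup_of_elementaryAbelian hE'e).exists_le_sylow
  obtain ⟨c, hc⟩ := MulAction.exists_smul_eq G S T
  have hTc : IsCyclic (T : Subgroup G) := by
    rw [← hc, Sylow.coe_subgroup_smul]
    exact (Subgroup.equivSMul (MulAut.conj c) (S : Subgroup G)).isCyclic.1 hS
  rw [pow_one, ← Subgroup.card_map_of_injective L.subtype_injective]
  exact card_le_of_isCyclic hTc hE'e hT

theorem main (hG : IsMinSimpleOddOrder G) (h13 : BG13 G) (hM : IsCoatom M) (hn : Group.IsNilpotent (sigmaCore M))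
    (hder : ⁅M, M⁆ = fittingOf M) {g : G} (hg : g ∉ M) {p : ℕ} [Fact p.Prime] (hp : p ∈ sigma M)
    (hX : Nat.card ↥(fittingOf M ⊓ (fittingOf M).map (MulAut.conj g).toMonoidHom) = p)
    (hY : IsCyclic (pPrimeCore p ↥(fittingHallOf M))) :
    IsCyclic (pPrimeCore p ↥M) := by
  have hI := bg15Input_of_bg13 hG h13
  rw [← sigmaCore_eq_fittingHallOf hG hM hn] at hY
  set H := sigmaCore M with hH
  set P := pOf p H with hPdef
  set Y := core p H with hYdef
  set C := sigmaComplCore M with hCdef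
  have hHM : H ≤ M := sigmaCore_le M
  have hPH : P ≤ H := pOf_le H
  have hYH : Y ≤ H := core_le H
  haveI hYc : IsCyclic Y :=
    (Subgroup.equivMapOfInjective (pPrimeCore p H) H.subtype H.subtype_injective).isCyclic.1 hY
  have hFH : fittingOf H = H := le_antisymm (fittingOf_le H) (le_fittingOf le_rfl Subgroup.le_normalizer hn)
  have hF : fittingOf M = H ⊔ C := by rw [fittingOf_eq_sup, hFH]
  have hCH : C ≤ centralizer (H : Set G) := sigmaComplCore_le_centralizer M
  have hsplit := fun (w : G) (hw : w ∈ H ⊔ C) => mem_of_commuting_sup (π := sigma M)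
    (Subgroup.le_centralizer_iff.1 hCH) (isPiGrp_piCoreOf (sigma M) M)
    (fun q hq hd' => not_mem_sigma_of_dvd_sigmaComplCore hq hd') hw
  have hPYc : P ≤ centralizer (Y : Set G) := by
    refine Subgroup.le_centralizer_iff.2 fun y hy => ?_
    exact Semiprime.mem_centralizer_of_nilpotent hn hPH (isPGroup_pOf H) (hYH hy)
      ((coprime_card_core H).coprime_dvd_left (Subgroup.orderOf_dvd_natCard Y hy))
  have hPYH : ∀ D : Subgroup G, P ≤ D → Y ≤ D → H ≤ D := fun D hPD hYD h hh =>
    mem_of_forall_primePart fun r hr _ u hu ⟨k, hk⟩ => by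
      haveI := Fact.mk hr
      have huH : u ∈ fittingOf H := hFH.symm ▸ Subgroup.zpowers_le.2 hh hu
      have hur := mem_pOf huH hk
      rcases eq_or_ne r p with rfl | hne
      · exact hPD hur
      · refine hYD ?_
        obtain ⟨v, hv, rfl⟩ := hur
        refine ⟨v, PCore.le_pPrimeCore (N := pCore r H) ?_ hv, rfl⟩
        obtain ⟨j, hj⟩ := PCore.exists_card_pCore (p := r) (G := H)
        rw [hj]
        exact ((Nat.coprime_primes hr Fact.out).2 hne).pow_left j
  have hYmem : ∀ h ∈ H, (orderOf h).Coprime p → h ∈ Y := fun h hh hco =>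
    mem_of_forall_primePart fun r hr hrd u hu ⟨k, hk⟩ => by
      haveI := Fact.mk hr
      obtain ⟨v, hv, rfl⟩ := mem_pOf (hFH.symm ▸ Subgroup.zpowers_le.2 hh hu : u ∈ fittingOf H) hk
      refine ⟨v, PCore.le_pPrimeCore (N := pCore r H) ?_ hv, rfl⟩
      obtain ⟨j, hj⟩ := PCore.exists_card_pCore (p := r) (G := H)
      rw [hj]
      exact (hco.coprime_dvd_left hrd).pow_left j
  -- the element `t` of order `p` with centralizer outside `M`
  obtain ⟨t₀, ht₀⟩ := exists_prime_orderOf_dvd_card'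
    (G := ↥(fittingOf M ⊓ (fittingOf M).map (MulAut.conj g).toMonoidHom)) p hX.symm.dvd
  rw [← Subgroup.orderOf_coe] at ht₀
  obtain ⟨t, htF', rfl⟩ : ∃ t, t ∈ fittingOf M ⊓ (fittingOf M).map (MulAut.conj g).toMonoidHom ∧ t = (t₀ : G) :=
    ⟨_, t₀.2, rfl⟩
  obtain ⟨htF, s, hs, hst⟩ := htF'
  have hso : orderOf s = p := by rw [← ht₀, ← hst]; exact (MulEquiv.orderOf_eq (MulAut.conj g) s).symm
  have hpσ : ∀ {a : G}, orderOf a = p → ∀ q : ℕ, q.Prime → q ∣ orderOf a → q ∈ sigma M := fun {a} ha q hq hd' =>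
    (Nat.prime_dvd_prime_iff_eq hq Fact.out).1 (ha ▸ hd') ▸ hp
  have htH : (t₀ : G) ∈ H := (hsplit _ (hF ▸ htF)).1 (hpσ ht₀)
  have hsH : s ∈ H := (hsplit _ (hF ▸ hs)).1 (hpσ hso)
  set t := (t₀ : G)
  have ht1 : t ≠ 1 := fun e => (Fact.out : p.Prime).ne_one (by rw [← ht₀, e, orderOf_one])
  have htP : t ∈ P := mem_pOf (hFH.symm ▸ htH) (k := 1) (by rw [pow_one, ← ht₀, pow_orderOf_eq_one])
  have hP1 : P ≠ ⊥ := fun e => ht1 (Subgroup.mem_bot.1 (e ▸ htP))
  have hCt : ¬ centralizer ({t} : Set G) ≤ M := by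
    intro hle
    obtain ⟨m, hm, c, hc, he⟩ := (S1404.result hG M hM p hp (zpowers t)
      (IsPGroup.of_card (n := 1) (by rw [Nat.card_zpowers, ht₀, pow_one]))
      (fun e => ht1 (Subgroup.mem_bot.1 (e ▸ Subgroup.mem_zpowers t)))
      (Subgroup.zpowers_le.2 (hHM htH))).1 g⁻¹ (by
        rw [MonoidHom.map_zpowers, Subgroup.zpowers_le, ← hst]
        simpa [mul_assoc] using hHM hsH)
    rw [Semiprime.centralizer_zpowers] at hc
    exact hg (M.inv_mem_iff.1 (he ▸ M.mul_mem hm (hle hc)))
  obtain ⟨N, hN⟩ := exists_supporting hG h13.partition h13.transfer hM htH ht1 hCt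
  -- elements of prime order of `Y`
  have hCy : ∀ y ∈ Y, ∀ q : ℕ, q.Prime → orderOf y = q →
      centralizer ({y} : Set G) ≤ M := by
    intro y hy q hq hyq
    haveI := Fact.mk hq
    obtain ⟨T⟩ : Nonempty (Sylow q H) := inferInstance
    have hTY : (T : Subgroup H).map H.subtype ≤ Y := by
      rintro _ ⟨a, ha, rfl⟩
      refine hYmem _ a.2 ?_
      obtain ⟨k, hk⟩ := IsPGroup.iff_orderOf.1 T.2 ⟨a, ha⟩
      rw [Subgroup.orderOf_mk] at hk
      rw [Subgroup.subtype_apply, Subgroup.orderOf_coe, hk]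
      refine Nat.Coprime.pow_left k ((Nat.coprime_primes hq Fact.out).2 fun e => ?_)
      exact (Fact.out : p.Prime).ne_one (Nat.eq_one_of_dvd_coprimes (coprime_card_core (p := p) H)
        (by have h := Subgroup.orderOf_dvd_natCard Y hy; rw [hyq, e] at h; exact h) dvd_rfl)
    have hidx : ¬ q ∣ ((T : Subgroup H).map H.subtype).index := by
      rw [Subgroup.index_map_subtype]
      intro h
      rcases hq.dvd_mul.1 h with h | h
      · exact T.not_dvd_index h
      · exact (sigmaCore_isPiHall hG hM).2 q hq (isPiGrp_piCoreOf (sigma M) M q hq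
          (hyq ▸ Subgroup.orderOf_dvd_natCard H (hYH hy))) h
    refine centralizer_le_of_cyclic hG h13 hM (S := (T.2.map H.subtype).toSylow hidx) ?_ (hYH hy) hyq
    rw [IsPGroup.toSylow_coe]
    exact isCyclic_of_injective (Subgroup.inclusion hTY) (Subgroup.inclusion_injective hTY)
  -- the `τ₂`-part of `C_M(P)`
  have hPhall : (Nat.card P).Coprime (P.relIndex H) := by
    obtain ⟨k, hk⟩ := (isPGroup_pOf (r := p) H).exists_card_eq
    rw [hk]
    refine Nat.Coprime.pow_left k ((Fact.out : p.Prime).coprime_iff_not_dvd.2 fun h => ?_)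
    obtain ⟨S⟩ : Nonempty (Sylow p H) := inferInstance
    refine S.not_dvd_index (h.trans (Subgroup.index_dvd_of_le fun a ha => ?_))
    obtain ⟨j, hj⟩ := S.2 ⟨a, ha⟩
    exact mem_pOf (hFH.symm ▸ a.2) (congrArg (fun b => ((b.1 : H) : G)) hj)
  obtain ⟨X, -, hXτ, hXC, hCP⟩ := centralizer_structure hG hI hM hPH hP1 hPhall
  -- `X` centralizes `M_σ`
  have hfix : ∀ x : G, x ∈ M → x ∈ centralizer (P : Set G) → ∀ r : ℕ, r ∈ tau2 M → orderOf x = r →
      x ∈ centralizer (H : Set G) := by
    intro x hxM hxP r hr hxr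
    haveI := Fact.mk hr.1
    have hx1 : x ≠ 1 := fun e => hr.1.ne_one (by rw [← hxr, e, orderOf_one])
    have hxt : x ∈ centralizer ({t} : Set G) :=
      Subgroup.mem_centralizer_singleton_iff.2 (Subgroup.mem_centralizer_iff.1 hxP t htP).symm
    obtain ⟨hCx, -⟩ := TheoremB.unique_of_tau2 hG hM (Subgroup.zpowers_le.2 hxM)
      (fun e => hx1 (Subgroup.mem_bot.1 (e ▸ Subgroup.mem_zpowers x)))
      (fun l hl hld => by
        rw [Nat.card_zpowers, hxr] at hld
        exact (Nat.prime_dvd_prime_iff_eq hl hr.1).1 hld ▸ hr)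
      (fun e => ht1 (Subgroup.mem_bot.1 (e ▸ ⟨htH, (by
        rw [Semiprime.centralizer_zpowers, Subgroup.mem_centralizer_singleton_iff]
        exact Subgroup.mem_centralizer_iff.1 hxP t htP : t ∈ centralizer (zpowers x : Set G))⟩)))
    rw [Semiprime.centralizer_zpowers] at hCx
    refine Subgroup.le_centralizer_iff.1 (hPYH (centralizer (zpowers x : Set G)) ?_ ?_)
      (Subgroup.mem_zpowers x)
    · exact Subgroup.le_centralizer_iff.2 (Subgroup.zpowers_le.2 hxP)
    · refine fun y hy => mem_of_forall_primePart fun q hq _ u hu ⟨k, hk⟩ => ?_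
      haveI := Fact.mk hq
      have huY : u ∈ Y := Subgroup.zpowers_le.2 hy hu
      rcases eq_or_ne u 1 with rfl | hu1
      · exact one_mem _
      obtain ⟨i, -, hi⟩ := (Nat.dvd_prime_pow hq).1 (orderOf_dvd_of_pow_eq_one hk)
      have hqY : q ∣ Nat.card Y := by
        refine dvd_trans ?_ (Subgroup.orderOf_dvd_natCard Y huY)
        rw [hi]
        exact dvd_pow_self q fun e => hu1 (orderOf_eq_one_iff.1 (by rw [hi, e, pow_zero]))
      have hqσ : q ∈ sigma M := isPiGrp_piCoreOf (sigma M) M q hq (hqY.trans (Subgroup.card_dvd_of_le hYH))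
      have hqne : q ≠ r := fun e => hr.2.1 (e ▸ hqσ)
      have hxn : x ∈ normalizer (Y : Set G) := by
        have h1 : M ≤ normalizer (Y : Set G) := (le_normalizer_sigmaCore M).trans
          (Components.normalizer_le_normalizer_map_of_characteristic H (pPrimeCore p H))
        exact h1 hxM
      refine Subgroup.le_centralizer_iff.1 (Coprime.le_centralizer_of_fix_omega (p := q)
        (ne_two_of_odd_of_dvd hG.1 (hqY.trans Y.card_subgroup_dvd_card)) (zpowers u) ⊥ (zpowers x)
        (IsPGroup.of_card (n := i) (by rw [Nat.card_zpowers, hi])) IsPGroup.of_bot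
        (by rw [Nat.card_zpowers, hxr]; exact (Nat.coprime_primes hr.1 hq).2 hqne.symm) bot_le
        (Subgroup.zpowers_le.2 (mem_normalizer_zpowers_of_cyclic hYc huY hxn)) bot_le
        fun v hv hvq => ?_) (Subgroup.mem_zpowers u)
      rcases eq_or_ne v 1 with rfl | hv1
      · exact one_mem _
      have hvY : v ∈ Y := Subgroup.zpowers_le.2 huY hv.1
      have hvo : orderOf v = q := orderOf_eq_prime hvq hv1
      have hvt : v ∈ centralizer ({t} : Set G) :=
        Subgroup.mem_centralizer_singleton_iff.2 (Subgroup.mem_centralizer_iff.1 (hPYc htP) v hvY)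
      have hc := commute_of_prime hG hN ⟨hHM (hYH hvY), hN.centralizer_le hvt⟩
        ⟨hxM, hN.centralizer_le hxt⟩ (hvo ▸ hq) (hxr ▸ hr.1) (by rw [hvo, hxr]; exact hqne)
        (mem_normalizer_zpowers_of_cyclic hYc hvY hxn) (hCy v hvY q hq hvo) hCx
      rw [Semiprime.centralizer_zpowers, Subgroup.mem_centralizer_singleton_iff]
      exact hc.symm.eq
  have hrpow : ∀ (k : ℕ) (x : G) (r : ℕ), r ∈ tau2 M → x ∈ M → x ∈ centralizer (P : Set G) →
      orderOf x = r ^ k → x ∈ centralizer (H : Set G) := by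
    intro k
    induction k with
    | zero => intro x r _ _ _ ho; rw [pow_zero, orderOf_eq_one_iff] at ho; rw [ho]; exact one_mem _
    | succ k ih =>
      intro x r hr hxM hxP ho
      haveI := Fact.mk hr.1
      set x' := x ^ r with hx'
      have hx'o : orderOf x' = r ^ k := by
        rw [hx', orderOf_pow, ho, Nat.gcd_eq_right (dvd_pow_self r k.succ_ne_zero), pow_succ,
          Nat.mul_div_cancel _ hr.1.pos]
      have hx'H := ih x' r hr (M.pow_mem hxM r) ((centralizer (P : Set G)).pow_mem hxP r) hx'o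
      set x₁ := x ^ r ^ k with hx₁
      have hx₁o : orderOf x₁ = r := by
        rw [hx₁, orderOf_pow, ho, Nat.gcd_eq_right (pow_dvd_pow r k.le_succ), pow_succ,
          Nat.mul_div_cancel_left _ (pow_pos hr.1.pos k)]
      have hx₁P : x₁ ∈ centralizer (P : Set G) := (centralizer (P : Set G)).pow_mem hxP _
      have hx₁H := hfix x₁ (M.pow_mem hxM _) hx₁P r hr hx₁o
      obtain ⟨S, hS⟩ := exists_sylow_map_ge (IsPGroup.of_card (n := k + 1) (by rw [Nat.card_zpowers, ho]))
        (Subgroup.zpowers_le.2 hxM)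
      have hSab := sylow_isMulCommutative hG hM hr.2.1 hr.2.2.2 S
      obtain ⟨xM, hxS, rfl⟩ := hS (Subgroup.mem_zpowers x)
      obtain ⟨z, d, hzS, hz, hdS, hzd, hdpow⟩ := exists_split_of_abelian_sylow S
        (PGroup.isMulCommutative_of_forall fun a ha b hb => Subtype.ext
          (PGroup.mul_comm_of_isMulCommutative hSab ⟨a, ha, rfl⟩ ⟨b, hb, rfl⟩)) hxS
      have hF' : ∀ a : M, a ∈ _root_.commutator M ↔ (a : G) ∈ fittingOf M := fun a => by
        rw [← hder]
        exact ⟨fun h => by rw [← Subgroup.map_subtype_commutator]; exact ⟨a, h, rfl⟩, fun h => by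
          rw [← Subgroup.map_subtype_commutator] at h
          obtain ⟨b, hb, e⟩ := h
          rwa [← Subtype.ext e]⟩
      have hzH : (z : G) ∈ centralizer (H : Set G) := by
        refine hCH ((hsplit _ (hF ▸ (hF' z).1 hz)).2 fun l hl hld => ?_)
        rw [Subgroup.orderOf_coe] at hld
        obtain ⟨j, hj⟩ := IsPGroup.iff_orderOf.1 S.2 ⟨z, hzS⟩
        rw [Subgroup.orderOf_mk] at hj
        exact (Nat.prime_dvd_prime_iff_eq hl hr.1).1 (hl.dvd_of_dvd_pow (hj ▸ hld)) ▸ hr.2.1
      have hHF : ∀ a ∈ M, a ∈ centralizer (H : Set G) → a ∈ fittingOf M := fun a ha ha' =>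
        centralizer_sigmaCore_le_fittingOf hG hI hM ⟨ha, ha'⟩
      rcases eq_or_ne d 1 with rfl | hd1
      · rw [hzd, mul_one]; exact hzH
      exfalso
      have hcomm : Commute z d := Subtype.ext (PGroup.mul_comm_of_isMulCommutative hSab ⟨z, hzS, rfl⟩ ⟨d, hdS, rfl⟩)
      have hdr : d ^ r = 1 := hdpow r ((hF' _).2 (by
        have e : ((d ^ r : M) : G) = ((z : G) ^ r)⁻¹ * (xM : G) ^ r := by
          rw [hzd, Subgroup.coe_mul, (show Commute (z : G) d from congrArg Subtype.val hcomm.eq).mul_pow,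
            inv_mul_cancel_left, Subgroup.coe_pow]
        rw [e]
        exact hHF _ (M.mul_mem (M.inv_mem (M.pow_mem z.2 r)) (M.pow_mem hxM r))
          ((centralizer (H : Set G)).mul_mem ((centralizer (H : Set G)).inv_mem
            ((centralizer (H : Set G)).pow_mem hzH r)) hx'H)))
      have hdP : (d : G) ∈ centralizer (P : Set G) := by
        have e : (d : G) = (z : G)⁻¹ * (xM : G) := by rw [hzd, Subgroup.coe_mul, inv_mul_cancel_left]
        rw [e]
        exact (centralizer (P : Set G)).mul_mem ((centralizer (P : Set G)).inv_mem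
          (Subgroup.centralizer_le hPH hzH)) hxP
      obtain ⟨A, hAS, hAe, hAc⟩ := exists_square_le hr.2.2.2 S
      have hAM : A ≤ M := hAS.trans (Subgroup.map_subtype_le _)
      obtain ⟨-, hSyl, -, hCA, -⟩ := S1417.result hG M hM r hr A ⟨hAM, hAe, hAc⟩
      have hmemA := ((hSyl S).2 hAS).1
      have hdA : (d : G) ∈ A := (hmemA _ ⟨d, hdS, rfl⟩).1 (by rw [← map_pow, hdr, map_one])
      have hx₁A : x₁ ∈ A := (hmemA x₁ ((Subgroup.map M.subtype (S : Subgroup M)).pow_mem ⟨xM, hxS, rfl⟩ _)).1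
        (by rw [← hx₁o, pow_orderOf_eq_one])
      have hd' : (d : G) ∉ zpowers x₁ := fun h => hd1 (by
        have := hdpow 1 (by
          rw [pow_one, hF']
          exact Subgroup.zpowers_le.2 (hHF x₁ (M.pow_mem hxM _) hx₁H) h)
        rwa [pow_one] at this)
      set B := zpowers x₁ ⊔ zpowers (d : G)
      have hBA : B ≤ A := sup_le (Subgroup.zpowers_le.2 hx₁A) (Subgroup.zpowers_le.2 hdA)
      have hBc : Nat.card B = r ^ 2 := by
        obtain ⟨j, hj, hjc⟩ := (Nat.dvd_prime_pow hr.1).1 (hAc ▸ Subgroup.card_dvd_of_le hBA)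
        interval_cases j
        · exfalso
          rw [pow_zero, Subgroup.card_eq_one] at hjc
          exact hd1 (Subtype.ext (Subgroup.mem_bot.1 (hjc ▸ Subgroup.mem_sup_right (Subgroup.mem_zpowers _))))
        · exfalso
          refine hd' ?_
          rw [Subgroup.eq_of_le_of_card_ge (le_sup_left : zpowers x₁ ≤ B)
            (by rw [hjc, Nat.card_zpowers, hx₁o, pow_one])]
          exact Subgroup.mem_sup_right (Subgroup.mem_zpowers _)
        · exact hjc
      rw [← Subgroup.eq_of_le_of_card_ge hBA (by rw [hAc, hBc])] at hCA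
      refine ht1 (Subgroup.mem_bot.1 (hCA ▸ ⟨htH, ?_⟩))
      refine (Subgroup.le_centralizer_iff.1 (?_ : B ≤ centralizer (P : Set G))) htP
      exact sup_le (Subgroup.zpowers_le.2 hx₁P) (Subgroup.zpowers_le.2 hdP)
  have hXH : X ≤ centralizer (H : Set G) := fun x hx => mem_of_forall_primePart fun r hr hrd u hu ⟨k, hk⟩ => by
    obtain ⟨i, -, hi⟩ := (Nat.dvd_prime_pow hr).1 (orderOf_dvd_of_pow_eq_one hk)
    have huX : u ∈ X := Subgroup.zpowers_le.2 hx hu
    exact hrpow i u r (hXτ r hr (hrd.trans (Subgroup.orderOf_dvd_natCard X hx))) (hXC huX).1 (hXC huX).2 hi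
  have hCPF : M ⊓ centralizer (P : Set G) ≤ fittingOf M := by
    rw [hCP]
    refine sup_le (inf_le_left.trans (le_fittingOf hHM (le_normalizer_sigmaCore M) hn)) ?_
    exact fun x hx => centralizer_sigmaCore_le_fittingOf hG hI hM ⟨(hXC hx).1, hXH hx⟩
  -- conclusion
  set W := core p M with hW
  suffices hWc : IsCyclic W from
    (Subgroup.equivMapOfInjective (pPrimeCore p M) M.subtype M.subtype_injective).isCyclic.2 hWc
  have hWP : W ≤ M ⊓ centralizer (P : Set G) := by
    refine le_inf (core_le M) (le_centralizer_of_normalize ?_ ((core_le M).trans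
      ((le_normalizer_sigmaCore M).trans (normalizer_le_normalizer_pOf H)))
      ((hPH.trans hHM).trans (le_normalizer_core M)))
    obtain ⟨k, hk⟩ := (isPGroup_pOf (r := p) H).exists_card_eq
    exact Coprime.disjoint_of_coprime_card (hk ▸ (coprime_card_core M).pow_right k)
  obtain ⟨y₀, hy₀⟩ := IsCyclic.exists_generator (α := Y)
  haveI := isCyclic_sigmaComplCore hG hM
  obtain ⟨c₀, hc₀⟩ := IsCyclic.exists_generator (α := C)
  have hyc : Commute (y₀ : G) (c₀ : G) := Subgroup.mem_centralizer_iff.1 (hCH c₀.2) _ (hYH y₀.2)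
  have hcop : (orderOf (y₀ : G)).Coprime (orderOf (c₀ : G)) := Nat.coprime_of_dvd fun l hl h1 h2 =>
    not_mem_sigma_of_dvd_sigmaComplCore hl (h2.trans (Subgroup.orderOf_dvd_natCard C c₀.2))
      (isPiGrp_piCoreOf (sigma M) M l hl (h1.trans (Subgroup.orderOf_dvd_natCard H (hYH y₀.2))))
  have hle : W ≤ zpowers ((y₀ : G) * c₀) := by
    intro w hw
    obtain ⟨h, hh, c, hc, rfl⟩ := (Coprime.mem_sup_iff_of_le_normalizer
      ((Subgroup.le_centralizer_iff.1 hCH).trans (Subgroup.centralizer_le_normalizer _))).1 (hF ▸ hCPF (hWP hw))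
    have hc' : Commute h c := Subgroup.mem_centralizer_iff.1 (hCH hc) h hh
    have hco : (orderOf h).Coprime (orderOf c) := Nat.coprime_of_dvd fun l hl h1 h2 =>
      not_mem_sigma_of_dvd_sigmaComplCore hl (h2.trans (Subgroup.orderOf_dvd_natCard C hc))
        (isPiGrp_piCoreOf (sigma M) M l hl (h1.trans (Subgroup.orderOf_dvd_natCard H hh)))
    have hhY : h ∈ Y := hYmem h hh ((coprime_card_core M).coprime_dvd_left
      ((Dvd.intro _ (hc'.orderOf_mul_eq_mul_orderOf_of_coprime hco).symm).trans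
        (Subgroup.orderOf_dvd_natCard W hw)))
    obtain ⟨i, hi⟩ := hy₀ ⟨h, hhY⟩
    obtain ⟨j, hj⟩ := hc₀ ⟨c, hc⟩
    have e1 : (y₀ : G) ^ i = h := congrArg Subtype.val hi
    have e2 : (c₀ : G) ^ j = c := congrArg Subtype.val hj
    refine Subgroup.mul_mem _ (e1 ▸ Subgroup.zpow_mem _ (mem_zpowers_mul_of_coprime hyc hcop) i)
      (e2 ▸ Subgroup.zpow_mem _ ?_ j)
    rw [hyc.eq]
    exact mem_zpowers_mul_of_coprime hyc.symm hcop.symm
  exact isCyclic_of_injective (Subgroup.inclusion hle) (Subgroup.inclusion_injective hle)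

end Cfsg.Agent.OddOrder.TypeICore
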